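import Cfsg.Agent.Lib.Block.AbelianThree

/-!
The principal block for an abelian Sylow subgroup with an automizer acting freely: orbits of linear
characters, the Gram matrix and its combinatorial core.
-/

open scoped ComplexConjugate IsMulCommutative

namespace Cfsg.Agent.Block

set_option linter.unusedSectionVars false
set_option linter.style.haveILetI false

universe u

/-- An integer vector of squared length two orthogonal to a positive vector. -/
theorem pair_vector {ι : Type*} [DecidableEq ι] (S : Finset ι) (v : ι → ℤ) (d : ι → ℕ)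
    (hd : ∀ x, 0 < d x) (h2 : ∑ x ∈ S, v x ^ 2 = 2) (hdeg : ∑ x ∈ S, (d x : ℤ) * v x = 0) :
    ∃ a b, a ∈ S ∧ b ∈ S ∧ a ≠ b ∧
      ∀ x ∈ S, v x = (if x = a then 1 else 0) - (if x = b then 1 else 0) := by
  classical
  set T := S.filter fun x => v x ≠ 0
  have hpm : ∀ x ∈ T, v x = 1 ∨ v x = -1 := fun x hx => by
    obtain ⟨hxS, hx0⟩ := Finset.mem_filter.1 hx
    have h := Finset.single_le_sum (f := fun x => v x ^ 2) (fun y _ => sq_nonneg (v y)) hxS
    simp only [h2] at h
    have h1 : -2 < v x := by nlinarith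
    have h2' : v x < 2 := by nlinarith
    omega
  have hT2 : ∑ x ∈ T, v x ^ 2 = 2 := by
    rw [← h2]
    exact Finset.sum_subset (Finset.filter_subset _ _) fun x hx hx' => by
      rw [not_not.1 fun h => hx' (Finset.mem_filter.2 ⟨hx, h⟩)]; norm_num
  have hTd : ∑ x ∈ T, (d x : ℤ) * v x = 0 := by
    rw [← hdeg]
    exact Finset.sum_subset (Finset.filter_subset _ _) fun x hx hx' => by
      rw [not_not.1 fun h => hx' (Finset.mem_filter.2 ⟨hx, h⟩), mul_zero]
  rw [Finset.sum_congr rfl (g := fun _ => (1 : ℤ)) fun x hx => by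
    rcases hpm x hx with e | e <;> rw [e] <;> norm_num, Finset.sum_const, nsmul_eq_mul,
    mul_one] at hT2
  obtain ⟨x, y, hxy, hT⟩ := Finset.card_eq_two.1 (show T.card = 2 by exact_mod_cast hT2)
  have hx : x ∈ T := by rw [hT]; simp
  have hy : y ∈ T := by rw [hT]; simp
  rw [hT, Finset.sum_pair hxy] at hTd
  have hdx : (0 : ℤ) < d x := by exact_mod_cast hd x
  have hdy : (0 : ℤ) < d y := by exact_mod_cast hd y
  have key : ∀ a b, a ≠ b → T = {a, b} → v a = 1 → v b = -1 →
      ∀ z ∈ S, v z = (if z = a then 1 else 0) - (if z = b then 1 else 0) := by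
    intro a b hab hTab ha hb z hz
    by_cases h1 : z = a
    · rw [if_pos h1, if_neg (h1 ▸ hab), h1, ha]; norm_num
    by_cases h2 : z = b
    · rw [if_neg h1, if_pos h2, h2, hb]; norm_num
    rw [if_neg h1, if_neg h2, sub_zero]
    by_contra h
    have : z ∈ T := Finset.mem_filter.2 ⟨hz, h⟩
    rw [hTab] at this
    simp [h1, h2] at this
  rcases hpm x hx with ex | ex <;> rcases hpm y hy with ey | ey <;> rw [ex, ey] at hTd
  · omega
  · exact ⟨x, y, (Finset.mem_filter.1 hx).1, (Finset.mem_filter.1 hy).1, hxy,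
      key x y hxy hT ex ey⟩
  · exact ⟨y, x, (Finset.mem_filter.1 hy).1, (Finset.mem_filter.1 hx).1, hxy.symm,
      key y x hxy.symm (hT.trans (Finset.pair_comm x y)) ey ex⟩
  · omega

/-- Vectors of Gram matrix `m + δ` orthogonal to a positive vector differ from a common vector in
one entry each. -/
theorem free_core {Ψ ι : Type*} [DecidableEq ι] (S : Finset ι) (R : Ψ → Ψ → Prop)
    [DecidableRel R] (hrefl : ∀ i, R i i) (A : Ψ → ι → ℤ) (d : ι → ℕ) (hd : ∀ x, 0 < d x) (m : ℤ)
    (hgram : ∀ i j, ∑ x ∈ S, A i x * A j x = (if R i j then 1 else 0) + m)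
    (hdeg : ∀ i, ∑ x ∈ S, (d x : ℤ) * A i x = 0) (hex : ∃ i j, ¬ R i j) :
    ∃ (W : ι → ℤ) (δ c : ℤ) (η : Ψ → ι), (δ = 1 ∨ δ = -1) ∧
      (∀ i, η i ∈ S ∧ W (η i) = c ∧ ∀ x ∈ S, A i x = W x + if x = η i then δ else 0) ∧
      (∀ i j, R i j ↔ η i = η j) ∧ ∑ x ∈ S, W x ^ 2 + 2 * δ * c = m := by
  classical
  have hsymm : ∀ i j, R i j → R j i := fun i j h => by
    by_contra h'
    have e1 := hgram i j
    have e2 := hgram j i
    rw [if_pos h] at e1
    rw [if_neg h', Finset.sum_congr rfl fun x _ => mul_comm (A j x) (A i x), e1] at e2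
    norm_num at e2
  have hsq : ∀ i j, ∑ x ∈ S, (A i x - A j x) ^ 2 = if R i j then 0 else 2 := by
    intro i j
    have hexp : ∀ x ∈ S, (A i x - A j x) ^ 2 =
        A i x * A i x + A j x * A j x - 2 * (A i x * A j x) := fun x _ => by ring
    rw [Finset.sum_congr rfl hexp, Finset.sum_sub_distrib, Finset.sum_add_distrib,
      ← Finset.mul_sum, hgram, hgram, hgram, if_pos (hrefl i), if_pos (hrefl j)]
    split_ifs <;> ring
  have heq : ∀ i j, R i j → ∀ x ∈ S, A i x = A j x := by
    intro i j h x hx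
    have e := hsq i j
    rw [if_pos h] at e
    exact sub_eq_zero.1 (pow_eq_zero_iff two_ne_zero |>.1
      ((Finset.sum_eq_zero_iff_of_nonneg fun x _ => sq_nonneg _).1 e x hx))
  obtain ⟨i₀, j₀, h₀⟩ := hex
  have hpair : ∀ j, ¬ R i₀ j → ∃ a b, a ∈ S ∧ b ∈ S ∧ a ≠ b ∧
      ∀ x ∈ S, A i₀ x - A j x = (if x = a then 1 else 0) - (if x = b then 1 else 0) := by
    intro j hj
    refine pair_vector S _ d hd (by rw [hsq, if_neg hj]) ?_
    simp only [mul_sub, Finset.sum_sub_distrib, hdeg, sub_zero]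
  choose a b haS hbS hab hD using hpair
  -- two differences share their first or their second entry
  have hshare : ∀ j k (hj : ¬ R i₀ j) (hk : ¬ R i₀ k), a j hj = a k hk ∨ b j hj = b k hk := by
    intro j k hj hk
    by_contra hno
    push Not at hno
    have hpos : 0 < ∑ x ∈ S, (A i₀ x - A j x) * (A i₀ x - A k x) := by
      have hexp : ∀ x ∈ S, (A i₀ x - A j x) * (A i₀ x - A k x) =
          A i₀ x * A i₀ x - A i₀ x * A k x - A j x * A i₀ x + A j x * A k x := fun x _ => by ring
      rw [Finset.sum_congr rfl hexp, Finset.sum_add_distrib, Finset.sum_sub_distrib,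
        Finset.sum_sub_distrib, hgram, hgram, hgram, hgram, if_pos (hrefl i₀), if_neg hk,
        if_neg fun h => hj (hsymm j i₀ h)]
      split_ifs <;> omega
    rw [Finset.sum_congr rfl (g := fun x => (if x = a j hj then A i₀ x - A k x else 0) -
      if x = b j hj then A i₀ x - A k x else 0) fun x hx => by
        rw [hD j hj x hx, sub_mul, ite_mul, ite_mul, one_mul, zero_mul],
      Finset.sum_sub_distrib, Finset.sum_ite_eq' S, Finset.sum_ite_eq' S, if_pos (haS j hj),
      if_pos (hbS j hj), hD k hk _ (haS j hj), hD k hk _ (hbS j hj), if_neg hno.1,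
      if_neg hno.2] at hpos
    split_ifs at hpos <;> omega
  -- a common entry gives the conclusion
  have build : ∀ (δ : ℤ) (u : ι) (e : ∀ j, ¬ R i₀ j → ι), (δ = 1 ∨ δ = -1) → u ∈ S →
      (∀ j hj, e j hj ∈ S) → (∀ j hj, ∀ x ∈ S, A j x =
        A i₀ x - (if x = u then δ else 0) + if x = e j hj then δ else 0) →
      ∃ (W : ι → ℤ) (δ c : ℤ) (η : Ψ → ι), (δ = 1 ∨ δ = -1) ∧
        (∀ i, η i ∈ S ∧ W (η i) = c ∧ ∀ x ∈ S, A i x = W x + if x = η i then δ else 0) ∧
        (∀ i j, R i j ↔ η i = η j) ∧ ∑ x ∈ S, W x ^ 2 + 2 * δ * c = m := by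
    intro δ u e hδ huS heS he
    let W : ι → ℤ := fun x => A i₀ x - if x = u then δ else 0
    let η : Ψ → ι := fun i => if h : ¬ R i₀ i then e i h else u
    have hδ0 : δ ≠ 0 := by rcases hδ with h | h <;> omega
    have hηS : ∀ i, η i ∈ S := fun i => by
      by_cases h : ¬ R i₀ i
      · rw [show η i = e i h from dif_pos h]; exact heS _ _
      · rw [show η i = u from dif_neg h]; exact huS
    have hA : ∀ i, ∀ x ∈ S, A i x = W x + if x = η i then δ else 0 := by
      intro i x hx
      by_cases h : R i₀ i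
      · rw [← heq i₀ i h x hx, show η i = u from dif_neg (not_not.2 h)]
        simp [W]
      · rw [he i h x hx, show η i = e i h from dif_pos h]
    have hnorm : ∀ i, ∑ x ∈ S, W x ^ 2 + 2 * δ * W (η i) = m := by
      intro i
      have h := hgram i i
      rw [if_pos (hrefl i), Finset.sum_congr rfl (g := fun x => W x ^ 2 +
        if x = η i then 2 * δ * W x + 1 else 0) fun x hx => by
          rw [hA i x hx]
          split_ifs with hxe
          · rcases hδ with rfl | rfl <;> ring
          · ring, Finset.sum_add_distrib, Finset.sum_ite_eq' S, if_pos (hηS i)] at h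
      linarith
    refine ⟨W, δ, W (η i₀), η, hδ, fun i => ⟨hηS i, ?_, hA i⟩, fun i j => ⟨fun h => ?_, fun h => ?_⟩,
      hnorm i₀⟩
    · exact mul_left_cancel₀ (mul_ne_zero two_ne_zero hδ0) (by linarith [hnorm i, hnorm i₀])
    · by_contra hne
      have := (hA i (η i) (hηS i)).symm.trans ((heq i j h _ (hηS i)).trans (hA j (η i) (hηS i)))
      rw [if_pos rfl, if_neg hne] at this
      omega
    · by_contra hR
      have h2 := hsq i j
      rw [if_neg hR, Finset.sum_eq_zero fun x hx => by rw [hA i x hx, hA j x hx, h]; ring] at h2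
      norm_num at h2
  by_cases hall : ∀ j hj, a j hj = a j₀ h₀
  · refine build 1 (a j₀ h₀) b (.inl rfl) (haS _ _) hbS fun j hj x hx => ?_
    have h := hD j hj x hx
    rw [hall j hj] at h
    linarith
  · push Not at hall
    obtain ⟨k, hk, hne⟩ := hall
    have hkb : b k hk = b j₀ h₀ := (hshare k j₀ hk h₀).resolve_left hne
    refine build (-1) (b j₀ h₀) a (.inr rfl) (hbS _ _) haS fun j hj x hx => ?_
    have hjb : b j hj = b j₀ h₀ := by
      by_contra hb
      have h1 := (hshare j j₀ hj h₀).resolve_right hb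
      have h2 := (hshare j k hj hk).resolve_right (hkb ▸ hb)
      exact hne (h2.symm.trans h1)
    have h := hD j hj x hx
    rw [hjb] at h
    split_ifs at h ⊢ <;> linarith

variable {G : Type u} [Group G] [Finite G] {p : ℕ} {M : Ideal AlgInt} [Fact p.Prime]
  {P : Sylow p G} [IsMulCommutative (P : Subgroup G)]

/-- Transport of a linear character of a subgroup by an element normalizing it. -/
noncomputable def conjLin (P : Subgroup G) (n : Subgroup.normalizer (P : Set G)) (ψ : P →* ℂˣ) :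
    P →* ℂˣ :=
  ψ.comp (sylowConj n.2).toMonoidHom

omit [Finite G] in
theorem conjLin_apply (P : Subgroup G) (n : Subgroup.normalizer (P : Set G)) (ψ : P →* ℂˣ)
    (w : P) : conjLin P n ψ w = ψ (sylowConj n.2 w) := rfl

theorem conjLin_mul (P : Subgroup G) (n k : Subgroup.normalizer (P : Set G)) (ψ : P →* ℂˣ) :
    conjLin P (n * k) ψ = conjLin P k (conjLin P n ψ) :=
  MonoidHom.ext fun w => congrArg ψ (Subtype.ext (by simp [sylowConj_val, mul_assoc]))

theorem conjLin_one (P : Subgroup G) (ψ : P →* ℂˣ) : conjLin P 1 ψ = ψ :=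
  MonoidHom.ext fun w => congrArg ψ (Subtype.ext (by simp [sylowConj_val]))

theorem conjLin_one' (P : Subgroup G) (n : Subgroup.normalizer (P : Set G)) :
    conjLin P n (1 : P →* ℂˣ) = 1 := rfl

theorem conjLin_inv_cancel (P : Subgroup G) (n : Subgroup.normalizer (P : Set G))
    (ψ : P →* ℂˣ) : conjLin P n⁻¹ (conjLin P n ψ) = ψ := by
  rw [← conjLin_mul, mul_inv_cancel, conjLin_one]

theorem conjLin_ne_one (P : Subgroup G) (n : Subgroup.normalizer (P : Set G)) {ψ : P →* ℂˣ}
    (h : ψ ≠ 1) : conjLin P n ψ ≠ 1 := fun h' => h (by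
  rw [← conjLin_inv_cancel P n ψ, h', conjLin_one'])

/-- Two linear characters are conjugate under the normalizer. -/
def NOrbit (P : Subgroup G) (ψ φ : P →* ℂˣ) : Prop :=
  ∃ n : Subgroup.normalizer (P : Set G), ψ = conjLin P n φ

theorem nOrbit_refl (P : Subgroup G) (ψ : P →* ℂˣ) : NOrbit P ψ ψ := ⟨1, (conjLin_one P ψ).symm⟩

theorem nOrbit_iff (P : Subgroup G) (ψ ψ' : P →* ℂˣ) :
    (∃ n : G, n ∈ Subgroup.normalizer (P : Set G) ∧
      ∀ w w' : P, (w' : G) = n * w * n⁻¹ → ψ' w' = ψ w) ↔ NOrbit P ψ' ψ := by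
  constructor
  · rintro ⟨n, hn, h⟩
    refine ⟨(⟨n, hn⟩ : Subgroup.normalizer (P : Set G))⁻¹, MonoidHom.ext fun w => ?_⟩
    rw [conjLin_apply]
    refine h _ w ?_
    simp [sylowConj_val, mul_assoc]
  · rintro ⟨n, rfl⟩
    refine ⟨(n : G)⁻¹, inv_mem n.2, fun w w' h => ?_⟩
    rw [conjLin_apply]
    exact congrArg ψ (Subtype.ext (by simp [sylowConj_val, h, mul_assoc]))

/-- The automizer acts freely. -/
def FreeNormalizer (P : Sylow p G) : Prop :=
  ∀ y : G, y ∈ (P : Subgroup G) → y ≠ 1 →
    Subgroup.normalizer ((P : Subgroup G) : Set G) ⊓ Subgroup.centralizer ({y} : Set G) =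
      Subgroup.centralizer ((P : Subgroup G) : Set G)

theorem FreeNormalizer.conjLin_fix_iff (hF : FreeNormalizer P) {φ : (P : Subgroup G) →* ℂˣ}
    (hφ : φ ≠ 1) (n : Subgroup.normalizer ((P : Subgroup G) : Set G)) :
    conjLin _ n φ = φ ↔ (n : G) ∈ Subgroup.centralizer ((P : Subgroup G) : Set G) := by
  constructor
  · intro h
    by_contra hn
    apply hφ
    let f : ↥(P : Subgroup G) → ↥(P : Subgroup G) := fun w => sylowConj n.2 w * w⁻¹
    have hinj : Function.Injective f := fun w v hwv => by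
      have e : sylowConj n.2 (w * v⁻¹) = w * v⁻¹ := by
        rw [map_mul, map_inv]
        calc sylowConj n.2 w * (sylowConj n.2 v)⁻¹ = f w * w * (f v * v)⁻¹ := by simp [f]
          _ = w * v⁻¹ := by rw [hwv, mul_inv_rev, mul_comm v⁻¹, mul_mul_mul_comm, mul_inv_cancel,
            one_mul]
      by_contra hne
      have h1 : ((w * v⁻¹ : (P : Subgroup G)) : G) ≠ 1 := fun h' =>
        hne (mul_inv_eq_one.1 (Subtype.ext h'))
      have hmem : (n : G) ∈ Subgroup.normalizer ((P : Subgroup G) : Set G) ⊓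
          Subgroup.centralizer ({((w * v⁻¹ : (P : Subgroup G)) : G)} : Set G) :=
        ⟨n.2, Subgroup.mem_centralizer_singleton_iff.2
          (mul_inv_eq_iff_eq_mul.1 (congrArg Subtype.val e))⟩
      rw [hF _ (w * v⁻¹).2 h1] at hmem
      exact hn hmem
    refine MonoidHom.ext fun w => ?_
    obtain ⟨v, rfl⟩ := Finite.surjective_iff_bijective.2 (Finite.injective_iff_bijective.1 hinj) w
    have h' := DFunLike.congr_fun h v
    rw [conjLin_apply] at h'
    simp [f, h']
  · intro hn
    refine MonoidHom.ext fun w => congrArg φ (Subtype.ext ?_)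
    show (n : G) * w * (n : G)⁻¹ = w
    rw [ ← Subgroup.mem_centralizer_iff.1 hn w w.2, mul_inv_cancel_right]

open scoped Classical in
theorem FreeNormalizer.fiber_card (hF : FreeNormalizer P)
    [Fintype (Subgroup.normalizer ((P : Subgroup G) : Set G))]
    {φ : (P : Subgroup G) →* ℂˣ} (hφ : φ ≠ 1) (ψ : (P : Subgroup G) →* ℂˣ) :
    (Finset.univ.filter fun n : Subgroup.normalizer ((P : Subgroup G) : Set G) =>
        conjLin _ n φ = ψ).card =
      if NOrbit (P : Subgroup G) ψ φ then
        Nat.card ↥(Subgroup.centralizer ((P : Subgroup G) : Set G)) else 0 := by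
  classical
  split_ifs with h
  · obtain ⟨k, rfl⟩ := h
    set D := (Subgroup.centralizer ((P : Subgroup G) : Set G)).subgroupOf
      (Subgroup.normalizer ((P : Subgroup G) : Set G))
    rw [← Nat.card_congr (Subgroup.subgroupOfEquivOfLe
      (Subgroup.centralizer_le_normalizer ((P : Subgroup G) : Set G))).toEquiv,
      ← Nat.card_eq_finsetCard]
    refine (Nat.card_congr ((Equiv.mulRight k).subtypeEquiv fun n => ?_)).symm
    simp only [Finset.mem_filter, Finset.mem_univ, true_and, Equiv.coe_mulRight,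
      Subgroup.mem_subgroupOf, conjLin_mul, ← hF.conjLin_fix_iff hφ]
    constructor
    · intro h; rw [h]
    · intro h
      rw [← conjLin_inv_cancel _ k (conjLin _ n φ), h, conjLin_inv_cancel]
  · rw [Finset.card_eq_zero, Finset.filter_eq_empty_iff]
    exact fun n _ hn => h ⟨n, hn.symm⟩

theorem card_normalizer_eq {m : ℕ}
    (hm : (Subgroup.centralizer ((P : Subgroup G) : Set G)).relIndex
      (Subgroup.normalizer ((P : Subgroup G) : Set G)) = m) :
    Nat.card ↥(Subgroup.normalizer ((P : Subgroup G) : Set G)) =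
      m * Nat.card ↥(Subgroup.centralizer ((P : Subgroup G) : Set G)) := by
  rw [← hm, mul_comm, ← Nat.card_congr (Subgroup.subgroupOfEquivOfLe
    (Subgroup.centralizer_le_normalizer ((P : Subgroup G) : Set G))).toEquiv]
  exact (Subgroup.card_mul_index _).symm

open scoped Classical in
theorem FreeNormalizer.card_orbit (hF : FreeNormalizer P) {m : ℕ}
    (hm : (Subgroup.centralizer ((P : Subgroup G) : Set G)).relIndex
      (Subgroup.normalizer ((P : Subgroup G) : Set G)) = m)
    [Fintype ((P : Subgroup G) →* ℂˣ)] {φ : (P : Subgroup G) →* ℂˣ} (hφ : φ ≠ 1) :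
    (Finset.univ.filter fun ψ => NOrbit (P : Subgroup G) ψ φ).card = m := by
  classical
  cases nonempty_fintype (Subgroup.normalizer ((P : Subgroup G) : Set G))
  refine Nat.eq_of_mul_eq_mul_right (Nat.card_pos
    (α := ↥(Subgroup.centralizer ((P : Subgroup G) : Set G)))) ?_
  rw [← card_normalizer_eq hm,
    Nat.card_eq_fintype_card (α := ↥(Subgroup.normalizer ((P : Subgroup G) : Set G))),
    ← Finset.card_univ,
    Finset.card_eq_sum_card_fiberwise (t := Finset.univ)
      (f := fun n => conjLin (P : Subgroup G) n φ) (fun n _ => Finset.mem_univ _),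
    Finset.sum_congr rfl fun ψ _ => hF.fiber_card hφ ψ, ← Finset.sum_filter, Finset.sum_const,
    smul_eq_mul]

theorem linCoef_gram_free (hM : IsPModular p M) (hF : FreeNormalizer P) {m : ℕ}
    (hm : (Subgroup.centralizer ((P : Subgroup G) : Set G)).relIndex
      (Subgroup.normalizer ((P : Subgroup G) : Set G)) = m)
    {ψ φ : (P : Subgroup G) →* ℂˣ} (hψ : ψ ≠ 1) (hφ : φ ≠ 1)
    [Decidable (NOrbit (P : Subgroup G) ψ φ)] :
    ∑ᶠ χ ∈ principalBlock M G, linCoef P χ ψ * conj (linCoef P χ φ) =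
      (if NOrbit (P : Subgroup G) ψ φ then 1 else 0) + (m : ℂ) := by
  classical
  cases nonempty_fintype G
  cases nonempty_fintype (P : Subgroup G)
  cases nonempty_fintype (Subgroup.normalizer ((P : Subgroup G) : Set G))
  set U : Set G := {y | y ∈ (P : Subgroup G) ∧ y ≠ 1}
  have hfus : ∀ u ∈ U, ∀ g : G, g * u * g⁻¹ ∈ ((P : Subgroup G) : Set G) →
      ∃ n ∈ Subgroup.normalizer ((P : Subgroup G) : Set G), n * u * n⁻¹ = g * u * g⁻¹ := by
    intro u hu g hgu
    obtain ⟨n, hn, hn'⟩ := P.conj_eq_normalizer_conj_of_mem u g⁻¹ hu.1 (by simpa using hgu)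
    refine ⟨n⁻¹, inv_mem hn, ?_⟩
    simpa [mul_assoc] using hn'.symm
  set cC : ℂ := (Nat.card ↥(Subgroup.centralizer ((P : Subgroup G) : Set G)) : ℂ) with hcCdef
  have hcC : cC ≠ 0 := Nat.cast_ne_zero.2 Nat.card_pos.ne'
  set q : ℂ := (Nat.card (P : Subgroup G) : ℂ) with hq
  have hq0 : q ≠ 0 := Nat.cast_ne_zero.2 Nat.card_pos.ne'
  have hw : ∀ y ∈ U, ∑ᶠ ξ ∈ principalBlock M (Subgroup.centralizer ({y} : Set G)),
      ((charDegree (ξ : Subgroup.centralizer ({y} : Set G) → ℂ) : ℕ) : ℂ) ^ 2 =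
      q / cC * Nat.card ↥(Subgroup.normalizer ((P : Subgroup G) : Set G) ⊓
        Subgroup.centralizer ({y} : Set G)) := by
    intro y hy
    obtain ⟨K, k, hKn, hK, hidx, hk, -⟩ :=
      abelian_centralizer_complement P hy.1 (hF y hy.1 hy.2).le
    have h := principal_column_complement hM hK hidx
      (y := (1 : Subgroup.centralizer ({y} : Set G))) (by
        rw [orderOf_one]; exact (Fact.out : p.Prime).not_dvd_one)
    have hfac : (Nat.card (Subgroup.centralizer ({y} : Set G))).factorization p = k := by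
      rw [← K.card_mul_index, hidx, Nat.factorization_mul Nat.card_pos.ne'
        (pow_ne_zero _ (Fact.out : p.Prime).ne_zero), Finsupp.add_apply,
        Nat.factorization_eq_zero_of_not_dvd hK, Nat.Prime.factorization_pow Fact.out,
        Finsupp.single_eq_same, zero_add]
    rw [hF y hy.1 hy.2, div_mul_cancel₀ _ hcC, hq, hk, ← hfac, ← h]
    refine finsum_congr fun ξ => finsum_congr fun _ => ?_
    rw [charDeg_spec' ξ, Complex.conj_natCast, sq]
  have hid := principal_inner_identity hM (P : Subgroup G) P.isPGroup'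
    (Subgroup.normalizer ((P : Subgroup G) : Set G)) le_rfl U hfus _ hw
    (η := fun y => ((φ y : ℂˣ) : ℂ) - 1) (lin_sub_one_genChar ψ) (fun y hy => by
      have h1 : y = 1 := by
        by_contra h
        exact hy ⟨y.2, fun h' => h (Subtype.ext h')⟩
      simp [h1])
  simp only [← linCoef_eq] at hid
  rw [hid]
  have hext : ∀ (n : Subgroup.normalizer ((P : Subgroup G) : Set G)) (y : (P : Subgroup G)),
      extendByZero (P : Subgroup G) (fun y => ((φ y : ℂˣ) : ℂ) - 1) ((n : G) * y * (n : G)⁻¹) =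
        ((conjLin _ n φ y : ℂˣ) : ℂ) - 1 := fun n y =>
    (Subtype.val_injective.extend_apply _ (0 : G → ℂ) (sylowConj n.2 y))
  have hpair : ∀ χ : (P : Subgroup G) →* ℂˣ, χ ≠ 1 →
      ∑ y : (P : Subgroup G), (((ψ y : ℂˣ) : ℂ) - 1) * conj (((χ y : ℂˣ) : ℂ) - 1) =
      q * ((if χ = ψ then 1 else 0) + 1) := by
    intro χ hχ
    have e : ∀ y : (P : Subgroup G), (((ψ y : ℂˣ) : ℂ) - 1) * conj (((χ y : ℂˣ) : ℂ) - 1) =
        (((ψ * χ⁻¹) y : ℂˣ) : ℂ) - ((ψ y : ℂˣ) : ℂ) - ((χ⁻¹ y : ℂˣ) : ℂ) + 1 := fun y => by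
      rw [map_sub, map_one, lin_conj, map_inv]
      simp only [MonoidHom.mul_apply, MonoidHom.inv_apply, Units.val_mul]
      ring
    rw [Finset.sum_congr rfl fun y _ => e y, Finset.sum_add_distrib, Finset.sum_sub_distrib,
      Finset.sum_sub_distrib, lin_sum_elements, lin_sum_elements, lin_sum_elements, if_neg hψ,
      if_neg (show ¬ χ⁻¹ = 1 from fun h => hχ (MonoidHom.ext fun x =>
        inv_eq_one.1 (DFunLike.congr_fun h x))), Finset.sum_const, Finset.card_univ, nsmul_eq_mul,
      ← Nat.card_eq_fintype_card, ← hq]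
    have e1 : ψ * χ⁻¹ = 1 ↔ χ = ψ :=
      ⟨fun h => MonoidHom.ext fun x => (mul_inv_eq_one.1 (DFunLike.congr_fun h x)).symm,
        fun h => MonoidHom.ext fun x => by simp [h]⟩
    simp only [e1]
    split_ifs <;> ring
  simp only [hext, map_sum, Finset.mul_sum]
  rw [Finset.sum_comm]
  simp only [← Finset.mul_sum]
  rw [Finset.sum_congr rfl fun n _ => hpair _ (conjLin_ne_one _ n hφ), ← Finset.mul_sum,
    Finset.sum_add_distrib, Finset.sum_boole]
  simp only [Finset.sum_const, nsmul_eq_mul, mul_one, Finset.card_univ, ← Nat.card_eq_fintype_card,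
    card_normalizer_eq hm]
  have hcount := hF.fiber_card hφ ψ
  rw [Finset.filter_congr_decidable] at hcount ⊢
  rw [show _ = _ from hcount]
  push_cast
  rw [← hcCdef]
  split_ifs <;> field_simp <;> ring

end Cfsg.Agent.Block
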