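import Cfsg.Agent.Lib.Block.SecondMain

/-!
Characters of the largest possible `p`-part of degree over a central `p`-subgroup `D`: they vanish
off the elements with `p`-part in `D`, and their block has defect group `D`.
-/

open scoped ComplexConjugate

namespace Cfsg.Agent.Block

set_option linter.unusedSectionVars false
set_option linter.style.haveILetI false

universe u

variable {G : Type u} [Group G] [Finite G] {p : ℕ} {M : Ideal AlgInt}

theorem char_center_mul (χ : IrrCharacter G) {d : G} (hd : d ∈ Subgroup.center G) (g : G) :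
    (χ : G → ℂ) (d * g) = (χ : G → ℂ) d / (χ : G → ℂ) 1 * (χ : G → ℂ) g := by
  obtain ⟨c, -, hc⟩ := Cfsg.Agent.Char.IsIrr.scalar_of_center χ.2 hd
  have h1 := hc 1
  rw [mul_one] at h1
  rw [hc g, h1, mul_div_cancel_right₀ _ (irr_one_ne_zero χ)]

set_option maxHeartbeats 1000000 in
theorem central_defect_value_zero [Fact p.Prime] (hM : IsPModular p M) {D : Subgroup G}
    (hDZ : D ≤ Subgroup.center G) (χ : IrrCharacter G)
    (hdeg : (charDegree (χ : G → ℂ)).factorization p = D.index.factorization p)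
    {g x : G} (hx : IsPPart p g x) (hxD : x ∉ D) : (χ : G → ℂ) g = 0 := by
  classical
  cases nonempty_fintype G
  cases nonempty_fintype D
  cases nonempty_fintype (G ⧸ D)
  have hp : p.Prime := Fact.out
  obtain ⟨v, hxv, hcomm, ⟨j, hj⟩, hv⟩ := hx
  let l : G → ℂ := fun w => if w ∈ D then (χ : G → ℂ) w / (χ : G → ℂ) 1 else 0
  have hlmul : ∀ a b : G, b ∈ D → l (a * b) = l a * l b := by
    intro a b hb
    simp only [l, if_pos hb]
    by_cases ha : a ∈ D
    · rw [if_pos ha, if_pos (mul_mem ha hb), char_center_mul χ (hDZ ha), mul_div_assoc]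
    · rw [if_neg ha, zero_mul, if_neg fun h => ha (by simpa using mul_mem h (inv_mem hb))]
  have hl1 : l 1 = 1 := by simp [l, D.one_mem, div_self (irr_one_ne_zero χ)]
  have hlring : ∀ w, MemLocalRing M (l w) := by
    intro w
    by_cases hw : w ∈ D
    · have hpow : ∀ n : ℕ, l (w ^ n) = l w ^ n := by
        intro n
        induction n with
        | zero => rw [pow_zero, pow_zero, hl1]
        | succ n ih => rw [pow_succ, hlmul _ _ hw, ih, pow_succ]
      refine ring_of_integral hM (isIntegral_of_pow_eq_one (orderOf_pos w) ?_)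
      rw [← hpow, pow_orderOf_eq_one, hl1]
    · simp only [l, if_neg hw]
      exact ring_zero hM
  let mon : G → Matrix (G ⧸ D) (G ⧸ D) ℂ := fun a => Matrix.of fun s t => l (s.out⁻¹ * a * t.out)
  have hmonmem : ∀ (a : G) (s t : G ⧸ D), s.out⁻¹ * a * t.out ∈ D → s = a • t := by
    intro a s t h
    rw [mul_assoc, ← QuotientGroup.eq, QuotientGroup.out_eq'] at h
    rw [h]
    conv_rhs => rw [← QuotientGroup.out_eq' t]
    rfl
  have hsmulmem : ∀ (a : G) (t : G ⧸ D), (a • t).out⁻¹ * a * t.out ∈ D := by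
    intro a t
    rw [mul_assoc, ← QuotientGroup.eq, QuotientGroup.out_eq']
    conv_lhs => rw [← QuotientGroup.out_eq' t]
    rfl
  have hmon1 : mon 1 = 1 := by
    ext s t
    simp only [mon, Matrix.of_apply, mul_one, Matrix.one_apply]
    split_ifs with hst
    · rw [hst, inv_mul_cancel, hl1]
    · simp only [l]
      refine if_neg fun h => hst ?_
      rw [← mul_one s.out⁻¹] at h
      simpa using hmonmem 1 s t h
  have hmonmul : ∀ a b : G, mon (a * b) = mon a * mon b := by
    intro a b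
    ext s r
    simp only [mon, Matrix.mul_apply, Matrix.of_apply]
    rw [Finset.sum_eq_single (b • r)]
    · rw [← hlmul _ _ (hsmulmem b r)]
      congr 1
      group
    · intro t _ ht
      simp only [l]
      rw [if_neg (fun h => ht (hmonmem b t r h)), mul_zero]
    · exact fun h => absurd (Finset.mem_univ _) h
  let Φ : MonoidAlgebra ℂ G →ₐ[ℂ] Matrix (G ⧸ D) (G ⧸ D) ℂ :=
    MonoidAlgebra.lift ℂ (Matrix (G ⧸ D) (G ⧸ D) ℂ) G
      { toFun := mon, map_one' := hmon1, map_mul' := hmonmul }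
  have hΦs : ∀ a, Φ (MonoidAlgebra.single a (1 : ℂ)) = mon a := fun a => by simp [Φ]
  set ε := algOf (MonoidHom.id G) (blockCoeff ({χ} : Set (IrrCharacter G))) with hε
  have hεidem : ε * ε = ε := by rw [hε, ← algOf_convFun, convFun_blockCoeff]
  have hεcen : ∀ a : G, ε * MonoidAlgebra.single a (1 : ℂ) =
      MonoidAlgebra.single a (1 : ℂ) * ε := fun a =>
    algOf_comm_single (MonoidHom.id G) (blockCoeff_classFun _) a
  have hentry : ∀ (a : G) (s t : G ⧸ D), Φ (MonoidAlgebra.single a (1 : ℂ) * ε) s t =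
      (((charDegree (χ : G → ℂ) * Nat.card D : ℕ) : ℂ) / (Nat.card G : ℕ)) *
        (χ : G → ℂ) (t.out * s.out⁻¹ * a) := by
    intro a s t
    have h1 : Φ (MonoidAlgebra.single a (1 : ℂ) * ε) s t =
        ∑ w : G, blockCoeff ({χ} : Set (IrrCharacter G)) w * l (s.out⁻¹ * (a * w) * t.out) := by
      simp only [hε, algOf, Finset.mul_sum, MonoidAlgebra.single_mul_single, one_mul, map_sum,
        Matrix.sum_apply, MonoidHom.id_apply]
      refine Finset.sum_congr rfl fun w _ => ?_
      simp [Φ, mon]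
    rw [h1]
    have h2 : ∑ w : G, blockCoeff ({χ} : Set (IrrCharacter G)) w * l (s.out⁻¹ * (a * w) * t.out) =
        ∑ w ∈ Finset.univ.filter (· ∈ D),
          blockCoeff ({χ} : Set (IrrCharacter G)) (a⁻¹ * s.out * w * t.out⁻¹) * l w := by
      rw [Finset.sum_filter]
      refine Fintype.sum_bijective (fun w => s.out⁻¹ * (a * w) * t.out)
        (((Group.mulRight_bijective t.out).comp (Group.mulLeft_bijective s.out⁻¹)).comp
          (Group.mulLeft_bijective a)) _ _ fun w => ?_
      simp only [l]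
      by_cases hw : s.out⁻¹ * (a * w) * t.out ∈ D
      · rw [if_pos hw, if_pos hw]
        congr 2
        group
      · rw [if_neg hw, if_neg hw, mul_zero]
    rw [h2]
    have h3 : ∀ w ∈ Finset.univ.filter (fun w => w ∈ D),
        blockCoeff ({χ} : Set (IrrCharacter G)) (a⁻¹ * s.out * w * t.out⁻¹) * l w =
          (Nat.card G : ℂ)⁻¹ * (χ : G → ℂ) 1 * (χ : G → ℂ) (t.out * s.out⁻¹ * a) := by
      intro w hw
      have hwD := (Finset.mem_filter.1 hw).2
      rw [blockCoeff, finsum_mem_singleton, ← irr_apply_inv,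
        show (a⁻¹ * s.out * w * t.out⁻¹)⁻¹ = t.out * (w⁻¹ * (s.out⁻¹ * a)) by group,
        ← mul_assoc t.out w⁻¹, Subgroup.mem_center_iff.1 (hDZ (inv_mem hwD)) t.out, mul_assoc w⁻¹,
        char_center_mul χ (hDZ (inv_mem hwD)),
        show t.out * (s.out⁻¹ * a) = t.out * s.out⁻¹ * a by group]
      have hl : (χ : G → ℂ) w⁻¹ / (χ : G → ℂ) 1 * l w = 1 := by
        have := hlmul w⁻¹ w hwD
        rw [inv_mul_cancel, hl1] at this
        simp only [l, if_pos (inv_mem hwD)] at this
        simp only [l]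
        exact this.symm
      linear_combination (Nat.card G : ℂ)⁻¹ * (χ : G → ℂ) 1 *
        (χ : G → ℂ) (t.out * s.out⁻¹ * a) * hl
    rw [Finset.sum_congr rfl h3, Finset.sum_const, nsmul_eq_mul, charDeg_spec' χ,
      show ((Finset.univ.filter (fun w => w ∈ D)).card : ℂ) = (Nat.card D : ℂ) by
        rw [Nat.card_eq_fintype_card, Fintype.card_subtype]]
    push_cast
    ring
  have hcardv : (charDegree (χ : G → ℂ) * Nat.card D).factorization p =
      (Nat.card G).factorization p := by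
    rw [Nat.factorization_mul (charDeg_pos χ).ne' Nat.card_pos.ne', Finsupp.add_apply, hdeg,
      ← Subgroup.card_mul_index D, Nat.factorization_mul Nat.card_pos.ne'
        Subgroup.index_ne_zero_of_finite, Finsupp.add_apply, add_comm]
  have hpos : charDegree (χ : G → ℂ) * Nat.card D ≠ 0 :=
    (mul_pos (charDeg_pos χ) Nat.card_pos).ne'
  have hratio := natDiv_notMem hM Nat.card_pos.ne' hpos hcardv.symm
  have hLring : MatRing M (Φ ε) := fun s t => by
    have h := hentry 1 s t
    rw [show MonoidAlgebra.single (1 : G) (1 : ℂ) * ε = ε by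
      rw [← MonoidAlgebra.one_def, one_mul]] at h
    rw [h]
    exact ring_mul hM (ring_natDiv hM Nat.card_pos.ne' hpos hcardv.ge) (irr_ring hM χ _)
  -- one orbit of the p-th powers in each orbit on the cosets
  let conjSetoid : Setoid (G ⧸ D) :=
    ⟨fun s t => ∃ a : ℤ, x ^ a • s = t, ⟨fun s => ⟨0, by simp⟩, fun {s t} h => by
      obtain ⟨a, rfl⟩ := h
      exact ⟨-a, by simp [← mul_smul]⟩, fun {s t r} h h' => by
      obtain ⟨a, rfl⟩ := h
      obtain ⟨a', rfl⟩ := h'
      exact ⟨a' + a, by rw [zpow_add, mul_smul]⟩⟩⟩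
  let rep : G ⧸ D → G ⧸ D := fun t => (Quotient.mk conjSetoid t).out
  have hrep : ∀ t, ∃ a : ℤ, x ^ a • rep t = t := fun t =>
    Quotient.exact (s := conjSetoid) (Quotient.out_eq (Quotient.mk conjSetoid t))
  have hrep' : ∀ (t : G ⧸ D) (a : ℤ), rep (x ^ a • t) = rep t := fun t a => by
    show (Quotient.mk conjSetoid _).out = (Quotient.mk conjSetoid t).out
    rw [Quotient.sound (s := conjSetoid) (a := t) (b := x ^ a • t) ⟨a, rfl⟩]
  have hstab : ∀ (t : G ⧸ D) (n : ℤ), x ^ n • t = t → (p : ℤ) ∣ n := by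
    intro t n hn
    by_contra hpn
    refine hxD ?_
    have hxn : x ^ n ∈ D := by
      have hh : t.out⁻¹ * x ^ n * t.out ∈ D := by
        have := hsmulmem (x ^ n) t
        rwa [hn] at this
      have hc := Subgroup.mem_center_iff.1 (hDZ hh) t.out
      have : x ^ n = t.out⁻¹ * x ^ n * t.out := by
        apply mul_right_cancel (b := t.out)
        rw [← hc]
        group
      rwa [this]
    have hco : Int.gcd n ((p ^ j : ℕ) : ℤ) = 1 := by
      rw [Int.gcd, Int.natAbs_natCast]
      exact Nat.Coprime.pow_right _ ((hp.coprime_iff_not_dvd).2 fun hd =>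
        hpn (Int.natCast_dvd.2 hd)).symm
    have hbez := Int.gcd_eq_gcd_ab n ((p ^ j : ℕ) : ℤ)
    rw [hco] at hbez
    have hxeq : x = (x ^ n) ^ Int.gcdA n ((p ^ j : ℕ) : ℤ) := by
      conv_lhs => rw [← zpow_one x, show (1 : ℤ) = n * Int.gcdA n ((p ^ j : ℕ) : ℤ) +
        ((p ^ j : ℕ) : ℤ) * Int.gcdB n ((p ^ j : ℕ) : ℤ) by exact_mod_cast hbez]
      rw [zpow_add, zpow_mul, zpow_mul x ((p ^ j : ℕ) : ℤ), zpow_natCast, ← hj,
        pow_orderOf_eq_one, one_zpow, mul_one]
    rw [hxeq]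
    exact D.zpow_mem hxn _
  let f₀ : G ⧸ D → ℂ := fun t => if ∃ i : ℤ, x ^ ((p : ℤ) * i) • rep t = t then 1 else 0
  have hf₀p : ∀ t, f₀ (x ^ (p : ℤ) • t) = f₀ t := by
    intro t
    simp only [f₀, hrep']
    refine if_congr ⟨fun ⟨i, hi⟩ => ⟨i - 1, ?_⟩, fun ⟨i, hi⟩ => ⟨i + 1, ?_⟩⟩ rfl rfl
    · rw [mul_sub, mul_one, sub_eq_add_neg, add_comm, zpow_add, mul_smul, hi, ← mul_smul,
        ← zpow_add]
      simp
    · rw [mul_add, mul_one, add_comm, zpow_add, mul_smul, hi]
  have hconj : ∀ (a : G) (f : G ⧸ D → ℂ), mon a * Matrix.diagonal f * mon a⁻¹ =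
      Matrix.diagonal fun s => f (a⁻¹ • s) := by
    intro a f
    ext s t
    rw [Matrix.mul_apply, Finset.sum_eq_single (a⁻¹ • s)]
    · rw [Matrix.mul_diagonal, Matrix.diagonal_apply]
      have h := congrFun (congrFun (hmonmul a a⁻¹) s) t
      rw [mul_inv_cancel, hmon1, Matrix.mul_apply, Finset.sum_eq_single (a⁻¹ • s)] at h
      · rw [mul_right_comm, ← h, Matrix.one_apply]
        split_ifs with hst
        · rw [one_mul]
        · rw [zero_mul]
      · intro r _ hr
        simp only [mon, Matrix.of_apply, l]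
        rw [if_neg (fun hh => hr (by rw [hmonmem a s r hh, inv_smul_smul])), zero_mul]
      · exact fun hh => absurd (Finset.mem_univ _) hh
    · intro r _ hr
      simp only [Matrix.mul_diagonal, mon, Matrix.of_apply, l]
      rw [if_neg (fun hh => hr (by rw [hmonmem a s r hh, inv_smul_smul])), zero_mul, zero_mul]
    · exact fun hh => absurd (Finset.mem_univ _) hh
  set m := orderOf v with hm
  have hm0 : (m : ℂ) ≠ 0 := Nat.cast_ne_zero.2 (orderOf_pos v).ne'
  let f₁ : G ⧸ D → ℂ := fun s => (m : ℂ)⁻¹ * ∑ i ∈ Finset.range m, f₀ ((v ^ i)⁻¹ • s)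
  have hf₁p : ∀ s, f₁ ((x ^ p)⁻¹ • s) = f₁ s := by
    intro s
    simp only [f₁]
    congr 1
    refine Finset.sum_congr rfl fun i _ => ?_
    rw [← hf₀p, ← mul_smul, ← mul_smul]
    congr 2
    rw [zpow_natCast, (((hcomm.pow_pow p i).inv_right).eq), mul_inv_cancel_right]
  have hf₁v : ∀ s, f₁ (v⁻¹ • s) = f₁ s := by
    intro s
    simp only [f₁]
    congr 1
    obtain ⟨n, hn⟩ : ∃ n, m = n + 1 := ⟨m - 1, by have := orderOf_pos v; omega⟩
    have hterm : ∀ i : ℕ, f₀ ((v ^ i)⁻¹ • v⁻¹ • s) = f₀ ((v ^ (i + 1))⁻¹ • s) := fun i => by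
      rw [← mul_smul, pow_succ', mul_inv_rev]
    rw [Finset.sum_congr rfl fun i _ => hterm i, hn,
      Finset.sum_range_succ (fun i => f₀ ((v ^ (i + 1))⁻¹ • s)),
      Finset.sum_range_succ' (fun i => f₀ ((v ^ i)⁻¹ • s)) n, ← hn, hm, pow_orderOf_eq_one,
      pow_zero]
  have hf₀sum : ∀ s, ∑ i ∈ Finset.range p, f₀ ((x ^ i)⁻¹ • s) = 1 := by
    intro s
    obtain ⟨a, ha⟩ := hrep s
    have hp0 : (p : ℤ) ≠ 0 := Int.natCast_ne_zero.2 hp.ne_zero
    have hiff : ∀ i : ℕ,
        (∃ k : ℤ, x ^ ((p : ℤ) * k) • rep ((x ^ i)⁻¹ • s) = (x ^ i)⁻¹ • s) ↔ (p : ℤ) ∣ a - i := by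
      intro i
      rw [← zpow_natCast, ← zpow_neg, hrep']
      refine ⟨fun ⟨k, hk⟩ => ?_, fun ⟨k, hk⟩ => ⟨k, ?_⟩⟩
      · have h1 : x ^ (-((p : ℤ) * k) + (-(i : ℤ) + a)) • rep s = rep s := by
          rw [zpow_add, mul_smul, zpow_add, mul_smul, ha, ← hk, ← mul_smul, ← zpow_add,
            neg_add_cancel, zpow_zero, one_smul]
        have h2 := dvd_add (hstab _ _ h1) (dvd_mul_right (p : ℤ) k)
        rwa [show -((p : ℤ) * k) + (-(i : ℤ) + a) + (p : ℤ) * k = a - i by ring] at h2
      · rw [← hk, sub_eq_neg_add, zpow_add, mul_smul, ha]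
    simp only [f₀]
    rw [Finset.sum_eq_single ((a % (p : ℤ)).toNat)]
    · rw [if_pos]
      rw [hiff, Int.toNat_of_nonneg (Int.emod_nonneg a hp0), Int.emod_def]
      exact ⟨a / p, by ring⟩
    · intro i hi hne
      refine if_neg fun hT => hne ?_
      have h5 : (i : ℤ) % (p : ℤ) = a % (p : ℤ) :=
        (Int.emod_eq_emod_iff_emod_sub_eq_zero.2 (Int.emod_eq_zero_of_dvd ((hiff i).1 hT))).symm
      rw [Int.emod_eq_of_lt (Int.natCast_nonneg i)
        (Int.ofNat_lt.2 (Finset.mem_range.1 hi))] at h5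
      rw [← h5]
      simp
    · intro hn
      refine absurd (Finset.mem_range.2 ?_) hn
      have h6 := Int.emod_lt_of_pos a (show (0 : ℤ) < p by exact_mod_cast hp.pos)
      omega
  have hf₁sum : ∀ s, ∑ i ∈ Finset.range p, f₁ ((x ^ i)⁻¹ • s) = 1 := by
    intro s
    simp only [f₁, ← Finset.mul_sum]
    rw [Finset.sum_comm]
    have hk : ∀ k : ℕ, ∑ i ∈ Finset.range p, f₀ ((v ^ k)⁻¹ • (x ^ i)⁻¹ • s) = 1 := fun k => by
      rw [← hf₀sum ((v ^ k)⁻¹ • s)]
      refine Finset.sum_congr rfl fun i _ => ?_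
      rw [← mul_smul, ← mul_smul, ((hcomm.pow_pow i k).symm.inv_inv).eq]
    rw [Finset.sum_congr rfl fun k _ => hk k, Finset.sum_const, Finset.card_range, nsmul_one,
      inv_mul_cancel₀ hm0]
  have hcomm1 : ∀ a : G, (∀ s, f₁ (a⁻¹ • s) = f₁ s) →
      mon a * Matrix.diagonal f₁ = Matrix.diagonal f₁ * mon a := by
    intro a ha
    have h : mon a * Matrix.diagonal f₁ * mon a⁻¹ = Matrix.diagonal f₁ := by
      rw [hconj]; exact congrArg Matrix.diagonal (funext ha)
    calc mon a * Matrix.diagonal f₁ = mon a * Matrix.diagonal f₁ * (mon a⁻¹ * mon a) := by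
          rw [← hmonmul, inv_mul_cancel, hmon1, mul_one]
      _ = _ := by rw [← mul_assoc, h]
  have hLcomm : ∀ a : G, Commute (mon a) (Φ ε) := fun a => by
    show mon a * Φ ε = Φ ε * mon a
    rw [← hΦs, ← map_mul, ← map_mul, hεcen]
  have hpow : ∀ (a : G) (n : ℕ), mon a ^ n = mon (a ^ n) := fun a n => by
    induction n with
    | zero => rw [pow_zero, pow_zero, hmon1]
    | succ n ih => rw [pow_succ, ih, ← hmonmul, pow_succ]
  have hmonring : ∀ a, MatRing M (mon a) := fun a s t => hlring _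
  have hdiag : MatRing M (Matrix.diagonal f₁) := fun s t => by
    rw [Matrix.diagonal_apply]
    split_ifs
    · exact ring_mul hM (ring_inv_natCast hM hv) (ring_sum hM fun i _ => by
        simp only [f₀]
        split_ifs
        · exact ring_one hM
        · exact ring_zero hM)
    · exact ring_zero hM
  have hLL : Φ ε * Φ ε = Φ ε := by rw [← map_mul, hεidem]
  have htr := trace_eq_zero_of_relTrace hM (S := mon x) (T := mon x⁻¹)
    (E := Φ ε * Matrix.diagonal f₁ * Φ ε) (O := mon v) (P := Φ ε)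
    (hmonring x) (hmonring x⁻¹) ((hLring.mul hM hdiag).mul hM hLring) hLring
    (by rw [← hmonmul, mul_inv_cancel, hmon1]) (by rw [← hmonmul, inv_mul_cancel, hmon1])
    (by
      rw [hpow]
      exact ((((hLcomm _).mul_right (show Commute (mon (x ^ p)) _ from hcomm1 _ hf₁p)).mul_right
        (hLcomm _)).eq).symm)
    (by rw [← hmonmul, ← hmonmul, hcomm.eq])
    (((hLcomm v).mul_right (show Commute (mon v) _ from hcomm1 v hf₁v)).mul_right (hLcomm v)).eq
    hLL
    (by
      have h : ∀ i ∈ Finset.range p,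
          mon x ^ i * (Φ ε * Matrix.diagonal f₁ * Φ ε) * mon x⁻¹ ^ i =
            Φ ε * Matrix.diagonal (fun s => f₁ ((x ^ i)⁻¹ • s)) * Φ ε := by
        intro i _
        rw [hpow, hpow, inv_pow, ← hconj (x ^ i) f₁]
        simp only [mul_assoc, ← (hLcomm (x ^ i)⁻¹).eq]
        rw [← mul_assoc (mon (x ^ i)) (Φ ε), (hLcomm (x ^ i)).eq]
        simp only [mul_assoc]
      rw [Finset.sum_congr rfl h, ← Finset.sum_mul, ← Finset.mul_sum]
      have h2 : ∑ i ∈ Finset.range p, Matrix.diagonal (fun s => f₁ ((x ^ i)⁻¹ • s)) =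
          (1 : Matrix (G ⧸ D) (G ⧸ D) ℂ) := by
        ext s t
        rw [Matrix.sum_apply]
        by_cases hst : s = t
        · subst hst
          simp only [Matrix.diagonal_apply_eq, Matrix.one_apply_eq]
          exact hf₁sum s
        · simp [Matrix.one_apply_ne hst, Matrix.diagonal_apply_ne _ hst]
      rw [h2, mul_one, hLL])
  rw [← hmonmul, hxv, ← hΦs, ← map_mul, Matrix.trace] at htr
  simp only [Matrix.diag_apply, hentry] at htr
  have h : ∀ s : G ⧸ D, (χ : G → ℂ) (s.out * s.out⁻¹ * g) = (χ : G → ℂ) g := fun s => by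
    rw [mul_inv_cancel, one_mul]
  simp only [h, Finset.sum_const, nsmul_eq_mul, mul_eq_zero] at htr
  rcases htr with h | h | h
  · exact absurd h (Nat.cast_ne_zero.mpr Finset.univ_nonempty.card_pos.ne')
  · exact absurd h (fun h => hratio (h ▸ ideal_zero hM))
  · exact h

theorem central_defect_isDefectGroup [Fact p.Prime] (hM : IsPModular p M) {D : Subgroup G}
    (hD : IsPGroup p D) (hDZ : D ≤ Subgroup.center G) (χ : IrrCharacter G)
    (hdeg : (charDegree (χ : G → ℂ)).factorization p = D.index.factorization p) :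
    IsDefectGroup p M (blockOf M (χ : G → ℂ)) D := by
  classical
  cases nonempty_fintype G
  cases nonempty_fintype D
  have hp : p.Prime := Fact.out
  set B := blockOf M (χ : G → ℂ)
  have hB : IsPBlock M B := isPBlock_blockOf χ
  have hχB : χ ∈ B := mem_blockOf_self hM χ
  obtain ⟨e, he⟩ := IsPGroup.iff_card.1 hD
  have hDord : ∀ d : D, ∃ k, orderOf (d : G) = p ^ k := fun d => by
    obtain ⟨k, hk⟩ := hD d
    obtain ⟨i, -, hi⟩ := (Nat.dvd_prime_pow hp).1 (orderOf_dvd_of_pow_eq_one hk)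
    exact ⟨i, by rw [Subgroup.orderOf_coe]; exact hi⟩
  have hcomm : ∀ (d : D) (y : G), Commute (d : G) y := fun d y =>
    (Subgroup.mem_center_iff.1 (hDZ d.2) y).symm
  have habs : ∀ (d : D) (y : G), (χ : G → ℂ) ((d : G) * y) * conj ((χ : G → ℂ) ((d : G) * y)) =
      (χ : G → ℂ) y * conj ((χ : G → ℂ) y) := by
    intro d y
    obtain ⟨c, hc1, hc⟩ := Cfsg.Agent.Char.IsIrr.scalar_of_center χ.2 (hDZ d.2)
    rw [hc, map_mul, mul_mul_mul_comm, Complex.mul_conj, Complex.normSq_eq_norm_sq, hc1]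
    simp
  set R := Finset.univ.filter (fun y : G => ¬ p ∣ orderOf y)
  have hsum : ∑ w : G, (χ : G → ℂ) w * conj ((χ : G → ℂ) w) =
      (Nat.card D : ℂ) * ∑ y ∈ R, (χ : G → ℂ) y * conj ((χ : G → ℂ) y) := by
    have h1 : ∑ dy ∈ (Finset.univ : Finset D) ×ˢ R,
        (χ : G → ℂ) ((dy.1 : G) * dy.2) * conj ((χ : G → ℂ) ((dy.1 : G) * dy.2)) =
        ∑ w : G, (χ : G → ℂ) w * conj ((χ : G → ℂ) w) := by
      refine Finset.sum_of_injOn (fun dy : D × G => (dy.1 : G) * dy.2) ?_
        (fun _ _ => Finset.mem_univ _) ?_ (fun _ _ => rfl)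
      · intro a ha b hb hab
        simp only [Finset.coe_product, Set.mem_prod, Finset.mem_coe, R, Finset.mem_filter,
          Finset.mem_univ, true_and] at ha hb
        simp only at hab
        have ha' : IsPPart p ((a.1 : G) * a.2) (a.1 : G) :=
          ⟨a.2, rfl, hcomm _ _, hDord _, ha⟩
        have hb' : IsPPart p ((a.1 : G) * a.2) (b.1 : G) :=
          ⟨b.2, hab.symm, hcomm _ _, hDord _, hb⟩
        have h1 : a.1 = b.1 := Subtype.ext (pPart_unique ha' hb')
        refine Prod.ext h1 ?_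
        rw [h1] at hab
        exact mul_left_cancel hab
      · intro w _ hw
        obtain ⟨u', v', huv, hc', hk', hv', -, -⟩ := exists_pPart_zpowers (p := p) w
        rw [central_defect_value_zero hM hDZ χ hdeg ⟨v', huv, hc', hk', hv'⟩ ?_, zero_mul]
        intro hu
        refine hw ⟨(⟨u', hu⟩, v'), ?_, huv⟩
        simp [R, hv']
    rw [← h1, Finset.sum_product]
    simp only [habs, Finset.sum_const, Finset.card_univ, ← Nat.card_eq_fintype_card, nsmul_eq_mul]
  have hG : (Nat.card G : ℂ) ≠ 0 := Nat.cast_ne_zero.mpr Nat.card_pos.ne'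
  have hpair : regPair p χ χ =
      ((Nat.card G : ℕ) : ℂ) / ((Nat.card D * charDegree (χ : G → ℂ) : ℕ) : ℂ) := by
    have h2 := Cfsg.Agent.Char.classInner_self_irr χ.2
    rw [classInner, inv_mul_eq_iff_eq_mul₀ hG, mul_one, hsum] at h2
    rw [regPair, regSum_eq_sum, charDeg_spec' χ, ← h2]
    have hd : ((charDegree (χ : G → ℂ) : ℕ) : ℂ) ≠ 0 := Nat.cast_ne_zero.mpr (charDeg_pos χ).ne'
    have hD0 : ((Nat.card D : ℕ) : ℂ) ≠ 0 := Nat.cast_ne_zero.mpr Nat.card_pos.ne'
    push_cast
    field_simp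
    rfl
  have hv : (Nat.card D * charDegree (χ : G → ℂ)).factorization p =
      (Nat.card G).factorization p := by
    rw [Nat.factorization_mul Nat.card_pos.ne' (charDeg_pos χ).ne', Finsupp.add_apply, hdeg,
      ← Subgroup.card_mul_index D, Nat.factorization_mul Nat.card_pos.ne'
        Subgroup.index_ne_zero_of_finite, Finsupp.add_apply]
  have h0 : blockHeight p B (χ : G → ℂ) = 0 := by
    by_contra hne
    exact natDiv_notMem hM (mul_pos Nat.card_pos (charDeg_pos χ)).ne' Nat.card_pos.ne' hv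
      (hpair ▸ regPair_ideal hM hB hχB hχB hne)
  rw [blockHeight_zero_iff hM hB hχB] at h0
  rw [Nat.factorization_mul Nat.card_pos.ne' (charDeg_pos χ).ne', Finsupp.add_apply, he,
    Nat.Prime.factorization_pow hp, Finsupp.single_eq_same] at hv
  obtain ⟨E, hE⟩ := exists_isDefectGroup hM hB
  haveI : D.Normal := ⟨fun d hd g => by
    rw [Subgroup.mem_center_iff.1 (hDZ hd) g, mul_inv_cancel_right]; exact hd⟩
  rwa [Subgroup.eq_of_le_of_card_ge (normal_le_defectGroup hM hB hE hD) (by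
    rw [card_defectGroup hM hB hE, he]
    exact Nat.pow_le_pow_right hp.pos (by omega))]

end Cfsg.Agent.Block
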