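import Cfsg.Agent.Lib.Block.HeightLocal
import Cfsg.Agent.Lib.Block.CentralDefect

/-!
Characters of defect zero from separated classes of defect zero.
-/

open scoped ComplexConjugate

namespace Cfsg.Agent.Block

set_option linter.unusedSectionVars false
set_option linter.style.haveILetI false

universe u

variable {G : Type u} [Group G] [Finite G] {p : ℕ} {M : Ideal AlgInt}

/-- In a nontrivial `p`-group the number of solutions of `u ^ p = 1` is divisible by `p`. -/
theorem dvd_card_pow_eq_one [Fact p.Prime] {D : Type u} [Group D] [Finite D]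
    (hD : IsPGroup p D) [Nontrivial D] : p ∣ Nat.card {u : D // u ^ p = 1} := by
  classical
  haveI := hD.center_nontrivial
  obtain ⟨k, hk, hcard⟩ := (hD.to_subgroup (Subgroup.center D)).nontrivial_iff_card.1 inferInstance
  obtain ⟨z, hz⟩ := exists_prime_orderOf_dvd_card' (G := Subgroup.center D) p
    (hcard ▸ dvd_pow_self p hk.ne')
  set Z := Subgroup.zpowers (z : D)
  have hzo : orderOf (z : D) = p := by rw [Subgroup.orderOf_coe]; exact hz
  set T := {u : D | u ^ p = 1}
  have hsat : (QuotientGroup.mk ⁻¹' ((QuotientGroup.mk : D → D ⧸ Z) '' T)) = T := by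
    refine Set.Subset.antisymm ?_ (Set.subset_preimage_image _ _)
    rintro u ⟨t, ht, htu⟩
    obtain ⟨i, hi⟩ := Subgroup.mem_zpowers_iff.1 (QuotientGroup.eq.1 htu)
    have hu : u = t * (z : D) ^ i := by rw [hi, mul_inv_cancel_left]
    have hc : Commute t ((z : D) ^ i) :=
      Commute.zpow_right (Subgroup.mem_center_iff.1 z.2 t) i
    have hzp : (z : D) ^ p = 1 := by rw [← hzo]; exact pow_orderOf_eq_one _
    show u ^ p = 1
    rw [hu, hc.mul_pow, show t ^ p = 1 from ht, one_mul, ← zpow_natCast, ← zpow_mul, mul_comm,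
      zpow_mul, zpow_natCast, hzp, one_zpow]
  have hcardT : Nat.card T = Nat.card Z * Nat.card ((QuotientGroup.mk : D → D ⧸ Z) '' T) := by
    rw [← Nat.card_prod]
    exact (Nat.card_congr (Equiv.setCongr hsat.symm)).trans
      (Nat.card_congr (QuotientGroup.preimageMkEquivSubgroupProdSet Z _))
  rw [show Nat.card {u : D // u ^ p = 1} = Nat.card T from rfl, hcardT, Nat.card_zpowers, hzo]
  exact dvd_mul_right _ _

/-- The indicator of the elements killed by `p`. -/
noncomputable def pTorsInd (p : ℕ) (g : G) : ℂ := by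
  classical exact if g ^ p = 1 then 1 else 0

theorem pTorsInd_classFun : IsClassFunction G (pTorsInd (G := G) p) := fun g h => by
  classical
  simp only [pTorsInd]
  refine if_congr ?_ rfl rfl
  rw [conj_pow, conj_eq_one_iff]

theorem defectZero_vanish [Fact p.Prime] (hM : IsPModular p M) (χ : IrrCharacter G)
    (hfull : (charDegree (χ : G → ℂ)).factorization p = (Nat.card G).factorization p)
    {g : G} (hg : p ∣ orderOf g) : (χ : G → ℂ) g = 0 := by
  obtain ⟨u, v, huv, hc, hk, hv, -, -⟩ := exists_pPart_zpowers (p := p) g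
  refine central_defect_value_zero hM (D := ⊥) bot_le χ (by rw [Subgroup.index_bot, hfull])
    ⟨v, huv, hc, hk, hv⟩ fun hu => hv ?_
  rw [Subgroup.mem_bot.1 hu, one_mul] at huv
  rwa [huv]

theorem pTors_omega_one [Fact p.Prime] [Fintype G] (hM : IsPModular p M) (χ : IrrCharacter G)
    (hfull : (charDegree (χ : G → ℂ)).factorization p = (Nat.card G).factorization p) :
    omegaFun χ (pTorsInd p) = 1 := by
  classical
  rw [omegaFun, Finset.sum_eq_single (1 : G)]
  · simp [pTorsInd, div_self (irr_one_ne_zero χ)]
  · intro g _ hg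
    simp only [pTorsInd]
    split_ifs with h
    · rw [defectZero_vanish hM χ hfull
        (by rw [orderOf_eq_prime h hg]), mul_zero]
    · rw [zero_mul]
  · exact fun h => absurd (Finset.mem_univ _) h

theorem pTors_omega_ideal [Fact p.Prime] [Fintype G] (hM : IsPModular p M) (χ : IrrCharacter G)
    (hne : (charDegree (χ : G → ℂ)).factorization p ≠ (Nat.card G).factorization p) :
    MemLocalIdeal M (omegaFun χ (pTorsInd p)) := by
  classical
  have hp : p.Prime := Fact.out
  set B := blockOf M (χ : G → ℂ)
  have hB : IsPBlock M B := isPBlock_blockOf χ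
  have hχB : χ ∈ B := mem_blockOf_self hM χ
  obtain ⟨D, hD⟩ := exists_isDefectGroup hM hB
  have hle : (charDegree (χ : G → ℂ)).factorization p ≤ (Nat.card G).factorization p :=
    (Nat.factorization_le_iff_dvd (charDeg_pos χ).ne' Nat.card_pos.ne').2 (charDeg_dvd χ) p
  have hbot : D ≠ ⊥ := by
    intro hbot
    have h0 : blockDefect p B = 0 := by
      have := card_defectGroup hM hB hD
      rw [hbot, Subgroup.card_bot] at this
      exact ((Nat.pow_eq_one.1 this.symm).resolve_left hp.one_lt.ne')
    have := le_defect_add hM hB hχB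
    omega
  set N := Subgroup.normalizer (D : Set G)
  cases nonempty_fintype N
  obtain ⟨b, ⟨hb, hbD, hind⟩, -⟩ := exists_unique_inducing hM hB hD
  haveI : (D.subgroupOf N).Normal := normal_subgroupOf_normalizer D
  obtain ⟨θ, hθb, hθker⟩ := exists_member_ker hM hb (D.subgroupOf N)
    (IsDefectGroup.isPGroup hbD)
  set f : IrrCharacter G → ℂ := fun ξ => omegaFun ξ (pTorsInd p) with hfdef
  have hf : CenInt M f := fun g => by
    rw [hfdef, coeffFun_omegaFun pTorsInd_classFun]
    simp only [pTorsInd]
    split_ifs
    · exact ring_one hM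
    · exact ring_zero hM
  have hc := induced_congr hM hind hf hθb hχB
  rw [resCen_eq_omegaFun, hfdef, coeffFun_omegaFun pTorsInd_classFun] at hc
  have hval : ∀ h : N, pTorsInd p (h : G) * (θ : N → ℂ) h =
      (if h ^ p = 1 ∧ h ∈ D.subgroupOf N then (θ : N → ℂ) 1 else 0) := by
    intro h
    simp only [pTorsInd, ← Subgroup.coe_pow, OneMemClass.coe_eq_one]
    by_cases ho : h ^ p = 1
    · rw [if_pos ho, one_mul]
      by_cases hm : h ∈ D.subgroupOf N
      · rw [if_pos ⟨ho, hm⟩, hθker h hm]
      · rw [if_neg (fun hh => hm hh.2)]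
        have hord : orderOf h = p :=
          orderOf_eq_prime ho fun h1 => hm (h1 ▸ (D.subgroupOf N).one_mem)
        refine value_eq_zero_of_pPart_notMem hM θ
          ⟨1, mul_one _, Commute.one_right _, ⟨1, by rw [hord, pow_one]⟩, by
            rw [orderOf_one]; exact hp.not_dvd_one⟩ fun E hE hhE => hm ?_
        rw [← pblock_eq_blockOf hM hb hθb] at hE
        obtain ⟨x, hx⟩ := defectGroup_conj hM hb hbD hE
        rw [← hx, Subgroup.mem_map] at hhE
        obtain ⟨u, hu, huh⟩ := hhE
        rw [← huh]
        exact Subgroup.Normal.conj_mem inferInstance u hu x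
    · rw [if_neg ho, zero_mul, if_neg (fun hh => ho hh.1)]
  have hom : omegaFun θ (fun h : N => pTorsInd p (h : G)) =
      (Nat.card {u : D // u ^ p = 1} : ℂ) := by
    rw [omegaFun, Finset.sum_congr rfl fun h _ => hval h, Finset.sum_ite, Finset.sum_const_zero,
      add_zero, Finset.sum_const, nsmul_eq_mul, mul_div_assoc, div_self (irr_one_ne_zero θ),
      mul_one]
    congr 1
    rw [← Fintype.card_subtype, ← Nat.card_eq_fintype_card]
    refine Nat.card_congr
      { toFun := fun h => ⟨⟨(h.1 : G), h.2.2⟩, by
          apply Subtype.ext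
          simpa using congrArg Subtype.val h.2.1⟩
        invFun := fun u => ⟨⟨(u.1 : G), Subgroup.le_normalizer u.1.2⟩, by
          refine ⟨?_, u.1.2⟩
          apply Subtype.ext
          simpa using congrArg Subtype.val u.2⟩
        left_inv := fun h => rfl
        right_inv := fun u => rfl }
  rw [hom] at hc
  haveI : Nontrivial D := Subgroup.nontrivial_iff_ne_bot D |>.2 hbot
  have hn := dvd_card_pow_eq_one (IsDefectGroup.isPGroup hD)
  have := ideal_sub hM ((ideal_natCast_iff hM _).2 hn) hc
  simpa using this

/-- The Gram matrix of separated classes of defect zero on the characters of defect zero. -/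
theorem separated_gram [Fact p.Prime] [Fintype G] (hM : IsPModular p M) {ι : Type*} (x : ι → G)
    (hinj : ∀ i j, IsConj (x i) (x j) → i = j)
    (hsep : ∀ i j g h, IsConj (x i) g → IsConj (x j) h → (g * h⁻¹) ^ p = 1 → g = h)
    [DecidableEq ι] [DecidablePred fun χ : IrrCharacter G =>
      (charDegree (χ : G → ℂ)).factorization p = (Nat.card G).factorization p] (i j : ι) :
    MemLocalIdeal M ((if i = j then (Nat.card (Subgroup.centralizer ({x j} : Set G)) : ℂ) else 0) -
      ∑ χ ∈ Finset.univ.filter (fun χ : IrrCharacter G =>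
        (charDegree (χ : G → ℂ)).factorization p = (Nat.card G).factorization p),
          (χ : G → ℂ) (x i) * conj ((χ : G → ℂ) (x j))) := by
  classical
  have htot : ∑ χ : IrrCharacter G,
      omegaFun χ (pTorsInd p) * ((χ : G → ℂ) (x i) * conj ((χ : G → ℂ) (x j))) =
      if i = j then (Nat.card (Subgroup.centralizer ({x j} : Set G)) : ℂ) else 0 := by
    have hterm : ∀ χ : IrrCharacter G,
        omegaFun χ (pTorsInd p) * ((χ : G → ℂ) (x i) * conj ((χ : G → ℂ) (x j))) =
        (Nat.card G : ℂ)⁻¹ * ∑ u : G, pTorsInd p u *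
          ∑ w : G, (χ : G → ℂ) (u * (w * x i * w⁻¹)) * conj ((χ : G → ℂ) (x j)) := by
      intro χ
      rw [omegaFun, Finset.mul_sum, Finset.sum_div, Finset.sum_mul]
      refine Finset.sum_congr rfl fun u _ => ?_
      rw [← Finset.sum_mul, sum_mul_conj]
      have := irr_one_ne_zero χ
      field_simp [Nat.card_pos.ne']
    rw [Finset.sum_congr rfl fun χ _ => hterm χ, ← Finset.mul_sum, Finset.sum_comm]
    have hu : ∀ u : G, ∑ χ : IrrCharacter G, pTorsInd p u *
        ∑ w : G, (χ : G → ℂ) (u * (w * x i * w⁻¹)) * conj ((χ : G → ℂ) (x j)) =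
        if u = 1 then (Nat.card G : ℂ) *
          (if i = j then (Nat.card (Subgroup.centralizer ({x j} : Set G)) : ℂ) else 0) else 0 := by
      intro u
      rw [← Finset.mul_sum, Finset.sum_comm]
      simp only [pTorsInd]
      by_cases hu : u = 1
      · subst hu
        rw [if_pos (one_pow p), one_mul, if_pos rfl, Finset.sum_congr rfl
          (g := fun _ => if i = j then (Nat.card (Subgroup.centralizer ({x j} : Set G)) : ℂ) else 0),
          Finset.sum_const, Finset.card_univ, nsmul_eq_mul, ← Nat.card_eq_fintype_card]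
        intro w _
        rw [Cfsg.Agent.Char.sum_irr_mul_conj, one_mul]
        have hc : IsConj (x i) (w * x i * w⁻¹) := isConj_iff.2 ⟨w, rfl⟩
        by_cases hij : i = j
        · rw [if_pos hij, if_pos (hij ▸ hc.symm)]
        · rw [if_neg hij, if_neg fun h => hij (hinj i j (hc.trans h))]
      · rw [if_neg hu]
        split_ifs with hp1
        · rw [one_mul, Finset.sum_eq_zero]
          intro w _
          rw [Cfsg.Agent.Char.sum_irr_mul_conj, if_neg]
          intro hc
          refine hu ?_
          have := hsep j i _ (w * x i * w⁻¹) hc.symm (isConj_iff.2 ⟨w, rfl⟩)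
            (by rwa [mul_inv_cancel_right])
          exact mul_eq_right.1 this
        · rw [zero_mul]
    rw [Finset.sum_congr rfl fun u _ => hu u, Finset.sum_ite_eq' Finset.univ (1 : G),
      if_pos (Finset.mem_univ _), inv_mul_cancel_left₀ (Nat.cast_ne_zero.2 Nat.card_pos.ne')]
  rw [← htot, ← Finset.sum_filter_add_sum_filter_not Finset.univ (fun χ : IrrCharacter G =>
    (charDegree (χ : G → ℂ)).factorization p = (Nat.card G).factorization p),
    Finset.sum_congr rfl (g := fun χ : IrrCharacter G =>
      (χ : G → ℂ) (x i) * conj ((χ : G → ℂ) (x j))) fun χ hχ => by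
      rw [pTors_omega_one hM χ (Finset.mem_filter.1 hχ).2, one_mul]]
  rw [add_sub_cancel_left]
  refine ideal_sum hM fun χ hχ => ?_
  refine ideal_mul_right hM (pTors_omega_ideal hM χ (Finset.mem_filter.1 hχ).2)
    (ring_mul hM (irr_ring hM χ _) ?_)
  rw [← irr_apply_inv]
  exact irr_ring hM χ _

theorem card_le_defectZero_of_separated [Fact p.Prime] {ι : Type*} [Finite ι] (x : ι → G)
    (hC : ∀ i, ¬ p ∣ Nat.card (Subgroup.centralizer ({x i} : Set G)))
    (hinj : ∀ i j, IsConj (x i) (x j) → i = j)
    (hsep : ∀ i j g h, IsConj (x i) g → IsConj (x j) h → (g * h⁻¹) ^ p = 1 → g = h) :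
    Nat.card ι ≤ Nat.card {χ : IrrCharacter G //
      (charDegree (χ : G → ℂ)).factorization p = (Nat.card G).factorization p} := by
  classical
  obtain ⟨M, hM⟩ := Cfsg.Agent.Char.exists_isPModular p (Fact.out : p.Prime)
  cases nonempty_fintype G
  cases nonempty_fintype ι
  letI : Field (ResField hM) := resInst hM
  let Z := {χ : IrrCharacter G //
      (charDegree (χ : G → ℂ)).factorization p = (Nat.card G).factorization p}
  let A : Matrix ι Z (ResField hM) := Matrix.of fun i χ => red hM ((χ.1 : G → ℂ) (x i))
  let A' : Matrix Z ι (ResField hM) := Matrix.of fun χ j => red hM (conj ((χ.1 : G → ℂ) (x j)))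
  have hconj : ∀ (χ : IrrCharacter G) j, MemLocalRing M (conj ((χ : G → ℂ) (x j))) := fun χ j => by
    rw [← irr_apply_inv]; exact irr_ring hM χ _
  have hprod : A * A' = Matrix.diagonal fun j =>
      red hM (Nat.card (Subgroup.centralizer ({x j} : Set G)) : ℂ) := by
    ext i j
    rw [Matrix.mul_apply, Matrix.diagonal_apply]
    have h := separated_gram hM x hinj hsep i j
    have hrsum : MemLocalRing M (∑ χ : Z, (χ.1 : G → ℂ) (x i) * conj ((χ.1 : G → ℂ) (x j))) :=
      ring_sum hM fun χ _ => ring_mul hM (irr_ring hM χ.1 _) (hconj χ.1 j)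
    rw [Finset.sum_subtype (p := fun χ : IrrCharacter G =>
      (charDegree (χ : G → ℂ)).factorization p = (Nat.card G).factorization p) _
      (fun χ => by simp)] at h
    calc ∑ χ : Z, A i χ * A' χ j
        = red hM (∑ χ : Z, (χ.1 : G → ℂ) (x i) * conj ((χ.1 : G → ℂ) (x j))) := by
          rw [red_sum hM fun χ _ => ring_mul hM (irr_ring hM χ.1 _) (hconj χ.1 j)]
          exact Finset.sum_congr rfl fun χ _ =>
            (red_mul hM (irr_ring hM χ.1 _) (hconj χ.1 j)).symm
      _ = red hM (if i = j then (Nat.card (Subgroup.centralizer ({x j} : Set G)) : ℂ) else 0) := by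
          symm
          rw [red_eq_red hM _ hrsum]
          · exact h
          · split_ifs
            · exact ring_natCast hM _
            · exact ring_zero hM
      _ = _ := by
          split_ifs with hij
          · subst hij; rfl
          · exact red_zero hM
  have hrank : (A * A').rank = Fintype.card ι := by
    refine Matrix.rank_of_isUnit _ ?_
    rw [hprod, Matrix.isUnit_diagonal, Pi.isUnit_iff]
    intro j
    rw [isUnit_iff_ne_zero, Ne, red_eq_zero hM (ring_natCast hM _), ideal_natCast_iff hM]
    exact hC j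
  have h1 := Matrix.rank_mul_le_left A A'
  have h2 := Matrix.rank_le_card_width A
  rw [Nat.card_eq_fintype_card, Nat.card_eq_fintype_card]
  show Fintype.card ι ≤ Fintype.card Z
  omega

/-- Two elements of order three whose quotient squares to one normalise a four group. -/
theorem exists_twoGroup_of_order_three {g h : G} (hg : g ^ 3 = 1) (hh : h ^ 3 = 1)
    (hu2 : (g * h⁻¹) ^ 2 = 1) (hne : g ≠ h) :
    ∃ Q : Subgroup G, IsPGroup 2 Q ∧ g ∈ Subgroup.normalizer (Q : Set G) ∧ Q ≠ ⊥ := by
  set a := g * h⁻¹ with ha
  set b := g * a * g⁻¹ with hb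
  set c := g * b * g⁻¹ with hc
  have haa : a * a = 1 := by rw [← pow_two]; exact hu2
  have hbb : b * b = 1 := by rw [hb]; calc _ = g * (a * a) * g⁻¹ := by group
                                        _ = 1 := by rw [haa]; group
  have hcc : c * c = 1 := by rw [hc]; calc _ = g * (b * b) * g⁻¹ := by group
                                        _ = 1 := by rw [hbb]; group
  have hh' : h = a * g := by
    rw [← inv_eq_of_mul_eq_one_right haa, ha]; group
  have habc : a * b * c = 1 := by
    have : a * b * c = (a * g) ^ 3 * (g ^ 3)⁻¹ := by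
      simp only [hc, hb, pow_succ, pow_zero, one_mul]; group
    rw [this, ← hh', hh, hg]; group
  have hab : c = a * b := by
    rw [← inv_eq_of_mul_eq_one_right hcc]
    exact inv_eq_of_mul_eq_one_left habc
  have hcomm : a * b = b * a := by
    have h1 : (a * b) * (a * b) = 1 := hab ▸ hcc
    calc a * b = (a * b)⁻¹ := (inv_eq_of_mul_eq_one_left h1).symm
      _ = b⁻¹ * a⁻¹ := mul_inv_rev a b
      _ = b * a := by rw [inv_eq_of_mul_eq_one_right haa, inv_eq_of_mul_eq_one_right hbb]
  refine ⟨Subgroup.closure {a, b}, ?_, ?_, ?_⟩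
  · intro x
    refine ⟨1, ?_⟩
    haveI : IsMulCommutative (Subgroup.closure ({a, b} : Set G)) :=
      Subgroup.isMulCommutative_closure (by
        rintro _ (rfl | rfl) _ (rfl | rfl) <;> first | rfl | exact hcomm | exact hcomm.symm)
    apply Subtype.ext
    rw [pow_one, Subgroup.coe_pow, OneMemClass.coe_one]
    obtain ⟨x, hx⟩ := x
    induction hx using Subgroup.closure_induction with
    | mem y hy =>
      rcases hy with rfl | rfl
      · exact hu2
      · rw [pow_two]; exact hbb
    | one => simp
    | mul y z hy hz ihy ihz =>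
      have hc' : Commute y z :=
        congrArg Subtype.val (IsMulCommutative.is_comm.comm
          (⟨y, hy⟩ : Subgroup.closure ({a, b} : Set G)) ⟨z, hz⟩)
      rw [hc'.mul_pow, ihy, ihz, one_mul]
    | inv y hy ihy => rw [inv_pow, ihy, inv_one]
  · have hle : (Subgroup.closure {a, b}).map (MulAut.conj g).toMonoidHom ≤
        Subgroup.closure ({a, b} : Set G) := by
      rw [Subgroup.map_le_iff_le_comap, Subgroup.closure_le]
      rintro _ (rfl | rfl)
      · exact Subgroup.subset_closure (.inr rfl)
      · show g * b * g⁻¹ ∈ Subgroup.closure ({a, b} : Set G)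
        rw [← hc, hab]
        exact Subgroup.mul_mem _ (Subgroup.subset_closure (.inl rfl))
          (Subgroup.subset_closure (.inr rfl))
    have heq := Subgroup.eq_of_le_of_card_ge hle (by
      rw [Nat.card_congr ((Subgroup.closure ({a, b} : Set G)).equivMapOfInjective
        (MulAut.conj g).toMonoidHom (MulAut.conj g).injective).toEquiv])
    rw [Subgroup.mem_normalizer_iff]
    intro w
    conv_rhs => rw [← heq]
    exact ⟨fun hw => Subgroup.mem_map_of_mem (MulAut.conj g).toMonoidHom hw, fun hw => by
      obtain ⟨v, hv, hvw⟩ := Subgroup.mem_map.1 hw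
      exact (MulAut.conj g).injective hvw ▸ hv⟩
  · intro hbot
    have : a ∈ Subgroup.closure ({a, b} : Set G) := Subgroup.subset_closure (.inl rfl)
    rw [hbot, Subgroup.mem_bot, ha, mul_inv_eq_one] at this
    exact hne this

end Cfsg.Agent.Block
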