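import Cfsg.Agent.Lib.Block.Principal
import Cfsg.Agent.Lib.Block.Separated

/-!
The principal `2`-block for a Klein four Sylow `2`-subgroup with one class of involutions.
-/

open scoped ComplexConjugate

namespace Cfsg.Agent.Block

set_option linter.unusedSectionVars false
set_option linter.style.haveILetI false

universe u

variable {G : Type u} [Group G] [Finite G] {M : Ideal AlgInt}

theorem char_involution_int (χ : IrrCharacter G) {z : G} (hz : z * z = 1) :
    ∃ n : ℤ, (χ : G → ℂ) z = n := by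
  classical
  obtain ⟨d, ρ, hρ⟩ := irr_isChar χ
  obtain ⟨b, c, -, hc, hk⟩ := Cfsg.Agent.Char.exists_rep_eigenbasis ρ z
  have h1 := hk 1
  simp only [pow_one] at h1
  have h2 : ∀ i, c i = 1 ∨ c i = -1 := fun i => by
    obtain ⟨j, hj⟩ := orderOf_dvd_of_pow_eq_one (x := z) (n := 2) (by rw [pow_two, hz])
    have : c i ^ 2 = 1 := by rw [hj, pow_mul, hc i, one_pow]
    rwa [sq_eq_one_iff] at this
  refine ⟨∑ i, (if c i = 1 then (1 : ℤ) else -1), ?_⟩
  rw [← hρ, h1]
  push_cast
  refine Finset.sum_congr rfl fun i _ => ?_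
  rcases h2 i with h | h <;> rw [h] <;> norm_num

/-- With a Klein four Sylow subgroup the centralizer of an involution has a normal complement. -/
theorem klein_centralizer_complement (P : Sylow 2 G) (hP : IsKleinFour (P : Subgroup G)) {z : G}
    (hzP : z ∈ (P : Subgroup G)) (hz : z ≠ 1) :
    ∃ K : Subgroup (Subgroup.centralizer ({z} : Set G)), K.Normal ∧
      ¬ 2 ∣ Nat.card K ∧ K.index = 2 ^ 2 := by
  classical
  haveI : Fact (Nat.Prime 2) := ⟨Nat.prime_two⟩
  haveI := hP
  have hcard : Nat.card (P : Subgroup G) = 4 := IsKleinFour.card_four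
  have habel : ∀ a ∈ (P : Subgroup G), ∀ b ∈ (P : Subgroup G), a * b = b * a := fun a ha b hb =>
    congrArg Subtype.val (mul_comm_of_exponent_two (IsKleinFour.exponent_two (G := (P : Subgroup G)))
      ⟨a, ha⟩ ⟨b, hb⟩)
  have hle : (P : Subgroup G) ≤ Subgroup.centralizer ({z} : Set G) := fun w hw =>
    Subgroup.mem_centralizer_singleton_iff.2 (habel w hw z hzP)
  let Q : Sylow 2 (Subgroup.centralizer ({z} : Set G)) := P.subtype hle
  have hQ : ∀ w, w ∈ (Q : Subgroup (Subgroup.centralizer ({z} : Set G))) ↔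
      (w : G) ∈ (P : Subgroup G) := fun w => by
    simp [Q, Sylow.coe_subtype, Subgroup.mem_subgroupOf]
  have hN : Subgroup.normalizer ((Q : Subgroup (Subgroup.centralizer ({z} : Set G))) : Set (Subgroup.centralizer ({z} : Set G))) ≤
      Subgroup.centralizer ((Q : Subgroup (Subgroup.centralizer ({z} : Set G))) : Set (Subgroup.centralizer ({z} : Set G))) := by
    intro n hn
    -- split `n` into its two parts
    obtain ⟨u, v, huv, -, ⟨k, hk⟩, hv, hu', hv'⟩ := exists_pPart_zpowers (p := 2) n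
    have huN := Subgroup.zpowers_le.2 hn hu'
    have hvN := Subgroup.zpowers_le.2 hn hv'
    have huQ : u ∈ (Q : Subgroup (Subgroup.centralizer ({z} : Set G))) := by
      have hle' : Subgroup.zpowers u ≤
          Subgroup.normalizer ((Q : Subgroup (Subgroup.centralizer ({z} : Set G))) : Set (Subgroup.centralizer ({z} : Set G))) :=
        Subgroup.zpowers_le.2 huN
      have hpg : IsPGroup 2 (Subgroup.zpowers u ⊔
          (Q : Subgroup (Subgroup.centralizer ({z} : Set G))) : Subgroup _) :=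
        (IsPGroup.of_card (n := k) (by rw [Nat.card_zpowers, hk])).to_sup_of_normal_right'
          Q.isPGroup' hle'
      rw [← Q.is_maximal' hpg le_sup_right]
      exact Subgroup.mem_sup_left (Subgroup.mem_zpowers u)
    have hvC : v ∈ Subgroup.centralizer
        ((Q : Subgroup (Subgroup.centralizer ({z} : Set G))) : Set (Subgroup.centralizer ({z} : Set G))) := by
      rw [Subgroup.mem_centralizer_iff]
      intro w hw
      have hconj : ∀ s, s ∈ (Q : Subgroup (Subgroup.centralizer ({z} : Set G))) →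
          v * s * v⁻¹ ∈ (Q : Subgroup (Subgroup.centralizer ({z} : Set G))) := fun s hs =>
        (Subgroup.mem_normalizer_iff.1 hvN s).1 hs
      set zC : Subgroup.centralizer ({z} : Set G) := ⟨z, centralizer_self_mem z⟩
      have hvz : v * zC = zC * v :=
        Subtype.ext (Subgroup.mem_centralizer_singleton_iff.1 v.2)
      have hcen : ∀ s ∈ (Q : Subgroup (Subgroup.centralizer ({z} : Set G))),
          v * s * v⁻¹ = s ∨ v * s * v⁻¹ = zC * s := by
        intro s hs
        by_cases h1 : (s : G) = 1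
        · left
          rw [show s = 1 from Subtype.ext h1]; group
        by_cases h2 : (s : G) = z
        · left
          rw [show s = zC from Subtype.ext h2, hvz, mul_inv_cancel_right]
        let t : (P : Subgroup G) := ⟨_, (hQ s).1 hs⟩
        let t' : (P : Subgroup G) := ⟨_, (hQ _).1 (hconj s hs)⟩
        let zz : (P : Subgroup G) := ⟨z, hzP⟩
        have hne1 : t' ≠ 1 := fun h => h1 (by
          have h' : v * s * v⁻¹ = 1 := Subtype.ext (congrArg (fun w : (P : Subgroup G) => (w : G)) h :)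
          exact congrArg Subtype.val (conj_eq_one_iff.1 h'))
        have hnez : t' ≠ zz := fun h => h2 (by
          have h' : v * s * v⁻¹ = zC := Subtype.ext (congrArg (fun w : (P : Subgroup G) => (w : G)) h :)
          have : s = zC := by
            calc s = v⁻¹ * (v * s * v⁻¹) * v := by group
              _ = v⁻¹ * zC * v := by rw [h']
              _ = zC := by rw [mul_assoc, ← hvz, inv_mul_cancel_left]
          exact congrArg Subtype.val this)
        by_cases h3 : t' = t
        · exact .inl (Subtype.ext (congrArg (fun w : (P : Subgroup G) => (w : G)) h3 :))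
        · right
          refine Subtype.ext ?_
          have htne : t ≠ 1 := fun h => h1 (congrArg Subtype.val h)
          have htz : t ≠ zz := fun h => h2 (congrArg Subtype.val h)
          have hzne : zz ≠ 1 := fun h => hz (congrArg Subtype.val h)
          have := IsKleinFour.eq_mul_of_ne_all hzne htne (Ne.symm htz) hne1 hnez h3
          exact (congrArg (fun w : (P : Subgroup G) => (w : G)) this :)
      have hsq : ∀ s ∈ (Q : Subgroup (Subgroup.centralizer ({z} : Set G))),
          Commute (v ^ 2) s := by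
        intro s hs
        show v ^ 2 * s = s * v ^ 2
        refine mul_inv_eq_iff_eq_mul.1 ?_
        have e : v ^ 2 * s * (v ^ 2)⁻¹ = v * (v * s * v⁻¹) * v⁻¹ := by rw [pow_two]; group
        rw [e]
        rcases hcen s hs with h | h
        · rw [h, h]
        · rw [h]
          calc v * (zC * s) * v⁻¹ = (v * zC) * s * v⁻¹ := by group
            _ = zC * (v * s * v⁻¹) := by rw [hvz]; group
            _ = zC * (zC * s) := by rw [h]
            _ = s := by
              rw [← mul_assoc]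
              have : zC * zC = 1 := Subtype.ext (congrArg (fun w : (P : Subgroup G) => (w : G))
                (IsKleinFour.mul_self (⟨z, hzP⟩ : (P : Subgroup G))) :)
              rw [this, one_mul]
      have hmem : v ∈ Subgroup.zpowers (v ^ 2) :=
        Cfsg.Agent.Transfer.mem_of_pow_mem (n := 2) (Subgroup.mem_zpowers _)
          ((Nat.prime_two.coprime_iff_not_dvd.2 hv).symm)
      obtain ⟨i, hi⟩ := Subgroup.mem_zpowers_iff.1 hmem
      rw [← hi]
      exact ((hsq w hw).zpow_left i).eq.symm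
    rw [← huv]
    refine Subgroup.mul_mem _ (Subgroup.mem_centralizer_iff.2 fun w hw => Subtype.ext ?_) hvC
    exact habel _ ((hQ w).1 hw) _ ((hQ u).1 huQ)
  have hcomp := MonoidHom.ker_transferSylow_isComplement' Q hN
  refine ⟨(MonoidHom.transferSylow Q hN).ker, inferInstance,
    MonoidHom.not_dvd_card_ker_transferSylow Q hN, ?_⟩
  rw [hcomp.symm.index_eq_card, show Nat.card (Q : Subgroup (Subgroup.centralizer ({z} : Set G))) = 4 by
    rw [show (Q : Subgroup (Subgroup.centralizer ({z} : Set G))) = (P : Subgroup G).subgroupOf _ from rfl,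
      Nat.card_congr (Subgroup.subgroupOfEquivOfLe hle).toEquiv, hcard]]
  norm_num

/-- Brauer: the principal block for a Klein four Sylow subgroup with fused involutions. -/
theorem klein_principal (hM : IsPModular 2 M) (P : Sylow 2 G)
    (hP : IsKleinFour (P : Subgroup G))
    (hone : ∀ s t : G, orderOf s = 2 → orderOf t = 2 → IsConj s t) :
    ∃ ζ₂ ζ₃ ζ₄ : IrrCharacter G, ∃ ε : ℤ, (ε = 1 ∨ ε = -1) ∧
      (ζ₂ : G → ℂ) ≠ (fun _ => 1) ∧ (ζ₃ : G → ℂ) ≠ (fun _ => 1) ∧
      ζ₂ ≠ ζ₃ ∧ ζ₂ ≠ ζ₄ ∧ ζ₃ ≠ ζ₄ ∧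
      principalBlock M G = {χ : IrrCharacter G | (χ : G → ℂ) = (fun _ => 1) ∨ χ = ζ₂ ∨ χ = ζ₃ ∨ χ = ζ₄} ∧
      (∀ z : G, orderOf z = 2 → (ζ₂ : G → ℂ) z = 1 ∧ (ζ₃ : G → ℂ) z = (ε : ℂ) ∧ (ζ₄ : G → ℂ) z = -1) ∧
      (4 : ℤ) ∣ (charDegree (ζ₂ : G → ℂ) : ℤ) - 1 ∧ (4 : ℤ) ∣ (charDegree (ζ₃ : G → ℂ) : ℤ) - ε ∧
      (4 : ℤ) ∣ (charDegree (ζ₄ : G → ℂ) : ℤ) + 1 ∧
      ∀ y : G, Odd (orderOf y) →
        1 + (ζ₂ : G → ℂ) y + (ε : ℂ) * (ζ₃ : G → ℂ) y - (ζ₄ : G → ℂ) y = 0 := by
  classical
  haveI : Fact (Nat.Prime 2) := ⟨Nat.prime_two⟩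
  haveI := hP
  cases nonempty_fintype G
  cases nonempty_fintype (P : Subgroup G)
  have hcard : Nat.card (P : Subgroup G) = 4 := IsKleinFour.card_four
  have hinv : ∀ w : (P : Subgroup G), w ≠ 1 → orderOf (w : G) = 2 := fun w hw => by
    rw [Subgroup.orderOf_coe]
    exact orderOf_eq_prime (by rw [pow_two]; exact IsKleinFour.mul_self w) hw
  haveI : Nontrivial (P : Subgroup G) := Finite.one_lt_card_iff_nontrivial.1 (by omega)
  obtain ⟨z₀, hz₀⟩ := exists_ne (1 : (P : Subgroup G))
  set z : G := (z₀ : G) with hzdef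
  have hz2 : orderOf z = 2 := hinv z₀ hz₀
  have hzz : z * z = 1 := congrArg Subtype.val (IsKleinFour.mul_self z₀)
  have hz1 : z ≠ 1 := fun h => hz₀ (Subtype.ext h)
  obtain ⟨n, hn⟩ : ∃ n : IrrCharacter G → ℤ, ∀ χ : IrrCharacter G, (χ : G → ℂ) z = n χ :=
    ⟨fun χ => (char_involution_int χ hzz).choose, fun χ => (char_involution_int χ hzz).choose_spec⟩
  have hreal : ∀ χ : IrrCharacter G, conj ((χ : G → ℂ) z) = (χ : G → ℂ) z := fun χ => by
    rw [hn, map_intCast]
  have hGf : 1 ≤ (Nat.card G).factorization 2 :=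
    (Nat.prime_two.dvd_iff_one_le_factorization Nat.card_pos.ne').1
      (hz2 ▸ orderOf_dvd_natCard z)
  set S := Finset.univ.filter (fun χ : IrrCharacter G => χ ∈ principalBlock M G) with hS
  have hone' : trivialIrr G ∈ S :=
    Finset.mem_filter.2 ⟨Finset.mem_univ _, trivial_mem_principalBlock hM⟩
  have hn1 : n (trivialIrr G) = 1 := by
    have h := hn (trivialIrr G)
    rw [show ((trivialIrr G : IrrCharacter G) : G → ℂ) z = 1 from rfl] at h
    exact_mod_cast h.symm
  have hsq : ∑ χ ∈ S, n χ ^ 2 = 4 := by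
    obtain ⟨K, hKn, hK, hidx⟩ := klein_centralizer_complement P hP z₀.2 hz1
    have h1 := principal_column hM ⟨1, by rw [hz2, pow_one]⟩
      (y := (1 : Subgroup.centralizer ({z} : Set G))) (by simp)
    have h2 := principal_column_complement hM hK hidx
      (y := (1 : Subgroup.centralizer ({z} : Set G))) (by simp)
    rw [h2] at h1
    have hC : (Nat.card (Subgroup.centralizer ({z} : Set G))).factorization 2 = 2 := by
      rw [← K.card_mul_index, hidx, Nat.factorization_mul Nat.card_pos.ne' (by norm_num),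
        Finsupp.add_apply, Nat.factorization_eq_zero_of_not_dvd hK,
        Nat.Prime.factorization_pow Nat.prime_two, Finsupp.single_eq_same, zero_add]
    rw [hC, finsum_mem_block] at h1
    simp only [OneMemClass.coe_one, mul_one, hreal] at h1
    have h3 : ((∑ χ ∈ S, n χ ^ 2 : ℤ) : ℂ) = ((4 : ℤ) : ℂ) := by
      push_cast
      rw [Finset.sum_congr rfl fun χ _ => by rw [← hn χ, sq], h1]
      norm_num
    exact_mod_cast h3
  have hne0 : ∀ χ ∈ S, n χ ≠ 0 := by
    intro χ hχ h0
    have hvan : ∀ g : G, orderOf g = 2 → (χ : G → ℂ) g = 0 := fun g hg => by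
      rw [← Cfsg.Agent.Char.IsClass.eq_of_isConj (irr_classFun χ) (hone z g hz2 hg), hn, h0]
      simp
    have hfull := degree_full_of_vanish χ hvan
    have h1 := pTors_omega_one hM χ hfull
    have h2 := pTors_omega_ideal (p := 2) hM (trivialIrr G) (by
      rw [show ((trivialIrr G : IrrCharacter G) : G → ℂ) = fun _ => (1 : ℂ) from rfl, charDeg_trivial,
        Nat.factorization_one, Finsupp.zero_apply]
      omega)
    have hcen : CenInt M (fun ξ : IrrCharacter G => omegaFun ξ (pTorsInd 2)) := fun g => by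
      rw [coeffFun_omegaFun pTorsInd_classFun]
      simp only [pTorsInd]
      split_ifs
      · exact ring_one hM
      · exact ring_zero hM
    have h3 := hcen.congr_block hM (pblock_sameBlock hM isPBlock_principalBlock
      (trivial_mem_principalBlock hM) (Finset.mem_filter.1 hχ).2)
    exact ideal_one hM (h1 ▸ (ideal_congr hM h3).1 h2)
  set T := S.erase (trivialIrr G)
  have hT : ∑ χ ∈ T, n χ ^ 2 = 3 := by
    have := Finset.add_sum_erase S (fun χ => n χ ^ 2) hone'
    rw [hsq] at this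
    simp only [hn1] at this
    linarith
  have hpm : ∀ χ ∈ T, n χ = 1 ∨ n χ = -1 := by
    intro χ hχ
    have h0 := hne0 χ (Finset.mem_of_mem_erase hχ)
    have hle : n χ ^ 2 ≤ 3 :=
      hT ▸ Finset.single_le_sum (f := fun χ => n χ ^ 2) (fun i _ => sq_nonneg (n i)) hχ
    have h1 : -2 < n χ := by nlinarith
    have h2 : n χ < 2 := by nlinarith
    omega
  have hTc : T.card = 3 := by
    have : ∑ χ ∈ T, n χ ^ 2 = ∑ _χ ∈ T, (1 : ℤ) := Finset.sum_congr rfl fun χ hχ => by
      rcases hpm χ hχ with h | h <;> simp [h]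
    rw [hT, Finset.sum_const, nsmul_eq_mul, mul_one] at this
    exact_mod_cast this.symm
  have hcong : ∀ χ : IrrCharacter G, (4 : ℤ) ∣ (charDegree (χ : G → ℂ) : ℤ) - n χ := by
    intro χ
    obtain ⟨m, hm⟩ := Cfsg.Agent.Char.IsChar.classInner_nat
      (Cfsg.Agent.Char.IsChar.res (irr_isChar χ) (P : Subgroup G))
      (Cfsg.Agent.Char.IsChar.one (G := (P : Subgroup G)))
    rw [classInner, hcard] at hm
    simp only [map_one, mul_one] at hm
    rw [← Finset.add_sum_erase _ _ (Finset.mem_univ (1 : (P : Subgroup G))),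
      Finset.sum_congr rfl (g := fun _ => (n χ : ℂ)) fun w hw => by
        rw [← hn χ]
        exact (Cfsg.Agent.Char.IsClass.eq_of_isConj (irr_classFun χ)
          (hone z (w : G) hz2 (hinv w (Finset.ne_of_mem_erase hw)))).symm,
      Finset.sum_const, Finset.card_erase_of_mem (Finset.mem_univ _), Finset.card_univ,
      ← Nat.card_eq_fintype_card, hcard, OneMemClass.coe_one, charDeg_spec' χ] at hm
    have hC : ((charDegree (χ : G → ℂ) : ℤ) : ℂ) + ((3 * n χ : ℤ) : ℂ) = ((4 * m : ℤ) : ℂ) := by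
      push_cast
      simp only [nsmul_eq_mul] at hm
      push_cast at hm
      linear_combination 4 * hm
    have hZ : (charDegree (χ : G → ℂ) : ℤ) + 3 * n χ = 4 * m := by exact_mod_cast hC
    exact ⟨m - n χ, by linarith⟩
  have horth : ∀ y : G, Odd (orderOf y) →
      1 + ∑ χ ∈ T, (n χ : ℂ) * (χ : G → ℂ) y = 0 := by
    intro y hy
    have h := section_orth (g := y) (h := z) (x := 1) (z := z) hM
      ⟨y, one_mul _, Commute.one_left _, ⟨0, by simp⟩, fun h => by
        have := (Nat.not_even_iff_odd.2 hy) (even_iff_two_dvd.2 h); exact this⟩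
      (show IsPPart 2 z z from ⟨1, mul_one _, Commute.one_right _, ⟨1, by rw [hz2, pow_one]⟩,
        by simp⟩)
      (fun h => hz1 (isConj_one_right.1 h)) (isPBlock_principalBlock (G := G))
    simp only [irr_apply_inv, hreal] at h
    rw [finsum_mem_block, ← Finset.add_sum_erase S _ hone'] at h
    rw [← h]
    congr 1
    · simp [trivialIrr]
    · exact Finset.sum_congr rfl fun χ _ => by rw [hn χ, mul_comm]
  have hdeg0 := horth 1 (by simp)
  obtain ⟨ζ₄, h4, h4n⟩ : ∃ χ ∈ T, n χ = -1 := by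
    by_contra hno
    have hall : ∀ χ ∈ T, n χ = 1 := fun χ hχ =>
      (hpm χ hχ).resolve_right fun h => hno ⟨χ, hχ, h⟩
    have he : ∑ χ ∈ T, (n χ : ℂ) * (χ : G → ℂ) 1 =
        ∑ χ ∈ T, ((charDegree (χ : G → ℂ) : ℕ) : ℂ) :=
      Finset.sum_congr rfl fun χ hχ => by rw [hall χ hχ, charDeg_spec' χ]; simp
    rw [he] at hdeg0
    have : ((1 + ∑ χ ∈ T, charDegree (χ : G → ℂ) : ℕ) : ℂ) = 0 := by push_cast; exact hdeg0
    have := Nat.cast_eq_zero.1 this
    omega
  obtain ⟨ζ₂, h2, h2n⟩ : ∃ χ ∈ T, n χ = 1 := by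
    by_contra hno
    have hall : ∀ χ ∈ T, n χ = -1 := fun χ hχ =>
      (hpm χ hχ).resolve_left fun h => hno ⟨χ, hχ, h⟩
    have he : ∑ χ ∈ T, (n χ : ℂ) * (χ : G → ℂ) 1 =
        ∑ χ ∈ T, -((charDegree (χ : G → ℂ) : ℕ) : ℂ) :=
      Finset.sum_congr rfl fun χ hχ => by rw [hall χ hχ, charDeg_spec' χ]; simp
    rw [he, Finset.sum_neg_distrib] at hdeg0
    have h' : ((∑ χ ∈ T, charDegree (χ : G → ℂ) : ℕ) : ℂ) = ((1 : ℕ) : ℂ) := by
      push_cast; linear_combination -hdeg0
    have h'' := Nat.cast_inj.1 h'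
    have : ∑ _χ ∈ T, 1 ≤ ∑ χ ∈ T, charDegree (χ : G → ℂ) :=
      Finset.sum_le_sum fun χ _ => charDeg_pos χ
    rw [Finset.sum_const, hTc, h''] at this
    norm_num at this
  have h24 : ζ₂ ≠ ζ₄ := fun h => by rw [h, h4n] at h2n; norm_num at h2n
  obtain ⟨ζ₃, hζ₃⟩ := Finset.card_eq_one.1 (show ((T.erase ζ₂).erase ζ₄).card = 1 by
    rw [Finset.card_erase_of_mem (Finset.mem_erase.2 ⟨h24.symm, h4⟩),
      Finset.card_erase_of_mem h2, hTc])
  have h3 : ζ₃ ≠ ζ₄ ∧ ζ₃ ≠ ζ₂ ∧ ζ₃ ∈ T := by
    have := hζ₃.symm.subset (Finset.mem_singleton_self ζ₃)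
    simpa [Finset.mem_erase] using this
  have hTeq : ∀ χ ∈ T, χ = ζ₂ ∨ χ = ζ₃ ∨ χ = ζ₄ := by
    intro χ hχ
    by_cases ha : χ = ζ₂
    · exact .inl ha
    by_cases hb : χ = ζ₄
    · exact .inr (.inr hb)
    have : χ ∈ ({ζ₃} : Finset _) := hζ₃ ▸ Finset.mem_erase.2 ⟨hb, Finset.mem_erase.2 ⟨ha, hχ⟩⟩
    exact .inr (.inl (Finset.mem_singleton.1 this))
  have hnt : ∀ χ ∈ T, (χ : G → ℂ) ≠ fun _ => 1 := fun χ hχ h =>
    Finset.ne_of_mem_erase hχ (Subtype.ext h)
  refine ⟨ζ₂, ζ₃, ζ₄, n ζ₃, hpm ζ₃ h3.2.2, hnt _ h2, hnt _ h3.2.2, h3.2.1.symm, h24, h3.1,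
    ?_, fun w hw => ?_, ?_, hcong ζ₃, ?_, fun y hy => ?_⟩
  · ext χ
    simp only [Set.mem_setOf_eq]
    constructor
    · intro hχ
      by_cases hc : χ = trivialIrr G
      · exact .inl (by rw [hc]; rfl)
      · exact .inr (hTeq χ (Finset.mem_erase.2 ⟨hc, by simp [hS, hχ]⟩))
    · have hmem : ∀ χ ∈ T, χ ∈ principalBlock M G := fun χ hχ =>
        (Finset.mem_filter.1 (Finset.mem_of_mem_erase hχ)).2
      rintro (h | rfl | rfl | rfl)
      · rw [show χ = trivialIrr G from Subtype.ext h]; exact trivial_mem_principalBlock hM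
      · exact hmem _ h2
      · exact hmem _ h3.2.2
      · exact hmem _ h4
  · have hc := fun χ : IrrCharacter G =>
      Cfsg.Agent.Char.IsClass.eq_of_isConj (irr_classFun χ) (hone w z hw hz2)
    refine ⟨?_, ?_, ?_⟩ <;> rw [hc, hn]
    · simp [h2n]
    · simp [h4n]
  · simpa [h2n] using hcong ζ₂
  · simpa [h4n] using hcong ζ₄
  · have hsplit : ∀ f : IrrCharacter G → ℂ, ∑ χ ∈ T, f χ = f ζ₂ + f ζ₄ + f ζ₃ := fun f => by
      rw [← Finset.add_sum_erase T f h2,
        ← Finset.add_sum_erase (T.erase ζ₂) f (Finset.mem_erase.2 ⟨h24.symm, h4⟩), hζ₃,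
        Finset.sum_singleton, add_assoc]
    have h := horth y hy
    rw [hsplit, h2n, h4n] at h
    push_cast at h
    linear_combination h

end Cfsg.Agent.Block
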