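import Cfsg.Agent.Lib.Block.FirstMain

/-!
Transport of blocks along isomorphisms, blocks of a normal subgroup with the same induced block,
and roots of a block in `P C(P)`.
-/

open scoped ComplexConjugate

namespace Cfsg.Agent.Block

set_option linter.unusedSectionVars false
set_option linter.style.haveILetI false

universe u

variable {G : Type u} [Group G] [Finite G] {p : ℕ} {M : Ideal AlgInt}

section Pull

variable {H K : Type u} [Group H] [Finite H] [Group K] [Finite K]

/-- An irreducible character pulled back along an isomorphism. -/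
def irrPull (e : H ≃* K) (θ : IrrCharacter K) : IrrCharacter H :=
  ⟨fun x => (θ : K → ℂ) (e x), Cfsg.Agent.Char.IsIrr.comp_mulEquiv e θ.2⟩

@[simp] theorem irrPull_apply (e : H ≃* K) (θ : IrrCharacter K) (x : H) :
    (irrPull e θ : H → ℂ) x = (θ : K → ℂ) (e x) := rfl

theorem irrPull_symm_self (e : H ≃* K) (θ : IrrCharacter H) :
    irrPull e (irrPull e.symm θ) = θ :=
  Subtype.ext (funext fun x => by simp)

theorem irrPull_self_symm (e : H ≃* K) (θ : IrrCharacter K) :
    irrPull e.symm (irrPull e θ) = θ :=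
  Subtype.ext (funext fun x => by simp)

theorem index_centralizer_map (e : H ≃* K) (x : H) :
    (Subgroup.centralizer ({e x} : Set K)).index = (Subgroup.centralizer ({x} : Set H)).index := by
  have : Subgroup.centralizer ({x} : Set H) =
      (Subgroup.centralizer ({e x} : Set K)).comap e.toMonoidHom := by
    ext t
    rw [Subgroup.mem_comap, Subgroup.mem_centralizer_singleton_iff,
      Subgroup.mem_centralizer_singleton_iff]
    simp only [MulEquiv.coe_toMonoidHom, ← map_mul, e.injective.eq_iff]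
  rw [this, Subgroup.index_comap_of_surjective _ e.surjective]

theorem centralChar_irrPull (e : H ≃* K) (θ : IrrCharacter K) (x : H) :
    centralChar (irrPull e θ : H → ℂ) x = centralChar (θ : K → ℂ) (e x) := by
  simp only [centralChar, irrPull_apply, index_centralizer_map, map_one]

theorem sameBlock_irrPull_iff (e : H ≃* K) (θ η : IrrCharacter K) :
    SameBlock M (irrPull e θ : H → ℂ) (irrPull e η : H → ℂ) ↔
      SameBlock M (θ : K → ℂ) (η : K → ℂ) := by
  constructor
  · intro h x
    have h' := h (e.symm x)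
    simp only [centralChar_irrPull, MulEquiv.apply_symm_apply] at h'
    exact h'
  · intro h x
    simp only [centralChar_irrPull]
    exact h (e x)

theorem omegaFun_irrPull [Fintype H] [Fintype K] (e : H ≃* K) (θ : IrrCharacter K) (a : K → ℂ) :
    omegaFun (irrPull e θ) (fun x => a (e x)) = omegaFun θ a := by
  simp only [omegaFun, irrPull_apply, map_one]
  congr 1
  exact Fintype.sum_equiv e.toEquiv _ _ fun x => rfl

theorem pullBlock_eq (hM : IsPModular p M) (e : H ≃* K) {b : Set (IrrCharacter H)}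
    (hb : IsPBlock M b) {θ₀ : IrrCharacter H} (hθ₀ : θ₀ ∈ b) :
    {ξ : IrrCharacter K | irrPull e ξ ∈ b} = blockOf M (irrPull e.symm θ₀ : K → ℂ) := by
  ext ξ
  rw [Set.mem_setOf_eq, mem_blockOf]
  constructor
  · intro h
    refine (sameBlock_irrPull_iff e _ _).1 ?_
    rw [irrPull_symm_self]
    exact pblock_sameBlock hM hb hθ₀ h
  · intro h
    refine pblock_mem_of_sameBlock hM hb hθ₀ ?_
    have := (sameBlock_irrPull_iff (M := M) e _ _).2 h
    rwa [irrPull_symm_self] at this

end Pull

/-- Blocks of a normal subgroup with the same induced block are conjugate. -/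
theorem exists_conj_of_induced_normal (hM : IsPModular p M) {L : Subgroup G} [L.Normal]
    {b b' : Set (IrrCharacter L)} {B : Set (IrrCharacter G)} (h : IsInducedBlock M L b B)
    (h' : IsInducedBlock M L b' B) :
    ∃ n : G, ∀ θ ∈ b, irrPull (MulAut.conjNormal (H := L) n) θ ∈ b' := by
  classical
  cases nonempty_fintype G
  cases nonempty_fintype L
  obtain ⟨θ₀, hθ₀⟩ := pblock_nonempty hM h'.1
  let pull : G → IrrCharacter L → IrrCharacter L := fun n => irrPull (MulAut.conjNormal (H := L) n)
  have pull_pull : ∀ (n m : G) (ξ : IrrCharacter L), pull n (pull m ξ) = pull (m * n) ξ :=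
    fun n m ξ => Subtype.ext (funext fun x => by
      simp only [pull, irrPull_apply, map_mul, MulAut.mul_apply])
  set e : IrrCharacter L → ℂ :=
    1 - ∏ n : G, (1 - blockInd {ξ : IrrCharacter L | pull n ξ ∈ b'}) with he
  have hI : CenInt M e := (cenInt_one hM).sub hM (CenInt.prod hM fun n _ =>
    (cenInt_one hM).sub hM (cenInt_blockInd hM
      ⟨_, pullBlock_eq hM (MulAut.conjNormal (H := L) n) h'.1 hθ₀⟩))
  have he1 : ∀ ξ, e ξ = if ∃ n, pull n ξ ∈ b' then 1 else 0 := by
    intro ξ
    simp only [he, Pi.sub_apply, Pi.one_apply, Finset.prod_apply]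
    split_ifs with hx
    · obtain ⟨n, hn⟩ := hx
      rw [Finset.prod_eq_zero (Finset.mem_univ n), sub_zero]
      rw [blockInd_of_mem (show ξ ∈ {ξ : IrrCharacter L | pull n ξ ∈ b'} from hn), sub_self]
    · rw [Finset.prod_eq_one, sub_self]
      intro n _
      rw [blockInd_of_notMem (show ξ ∉ {ξ : IrrCharacter L | pull n ξ ∈ b'} from
        fun hn => hx ⟨n, hn⟩), sub_zero]
  have hinv : ∀ (m : G) ξ, e (pull m ξ) = e ξ := fun m ξ => by
    rw [he1, he1]
    refine if_congr ⟨?_, ?_⟩ rfl rfl
    · rintro ⟨n, hn⟩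
      exact ⟨m * n, by rwa [← pull_pull]⟩
    · rintro ⟨n, hn⟩
      refine ⟨m⁻¹ * n, ?_⟩
      rwa [pull_pull, mul_inv_cancel_left]
  have hcoef : ∀ (m : G) (x : L), coeffFun e (MulAut.conjNormal (H := L) m x) = coeffFun e x := by
    intro m x
    rw [coeffFun_eq_sum, coeffFun_eq_sum]
    congr 1
    refine Fintype.sum_equiv
      { toFun := pull m, invFun := pull m⁻¹,
        left_inv := fun ξ => by
          rw [pull_pull, mul_inv_cancel]
          exact Subtype.ext (funext fun t => by simp [pull]),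
        right_inv := fun ξ => by
          rw [pull_pull, inv_mul_cancel]
          exact Subtype.ext (funext fun t => by simp [pull]) } _ _ fun ξ => ?_
    simp only [Equiv.coe_fn_mk]
    rw [hinv m ξ]
    simp only [pull, irrPull_apply, map_one, map_inv]
  set a : G → ℂ := fun g => if hg : g ∈ L then coeffFun e ⟨g, hg⟩ else 0 with ha
  have hcls : IsClassFunction G a := fun g t => by
    simp only [ha]
    by_cases hg : g ∈ L
    · rw [dif_pos hg, dif_pos (Subgroup.Normal.conj_mem inferInstance g hg t)]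
      exact hcoef t ⟨g, hg⟩
    · have hg' : ¬ t * g * t⁻¹ ∈ L := fun hh => hg (by
        simpa [mul_assoc] using Subgroup.Normal.conj_mem (inferInstance : L.Normal) _ hh t⁻¹)
      rw [dif_neg hg, dif_neg hg']
  have hf : CenInt M (fun χ : IrrCharacter G => omegaFun χ a) := fun g => by
    rw [coeffFun_omegaFun hcls]
    simp only [ha]
    split_ifs
    · exact hI _
    · exact ring_zero hM
  have hres : ∀ ξ : IrrCharacter L, resCen L (fun χ : IrrCharacter G => omegaFun χ a) ξ = e ξ := by
    intro ξ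
    rw [resCen_eq_omegaFun, coeffFun_omegaFun hcls]
    conv_rhs => rw [← omegaFun_coeffFun e ξ]
    congr 1
    funext x
    simp only [ha]
    rw [dif_pos x.2]
  obtain ⟨χ, hχ⟩ := pblock_nonempty hM h.2.1
  obtain ⟨ξ, hξ⟩ := pblock_nonempty hM h.1
  have h1 := induced_congr hM h hf hξ hχ
  have h2 := induced_congr hM h' hf hθ₀ hχ
  rw [hres] at h1 h2
  have h3 := ideal_sub hM h2 h1
  rw [sub_sub_sub_cancel_right, he1 θ₀, if_pos ⟨1, (show pull 1 θ₀ = θ₀ from
    Subtype.ext (funext fun t => by simp [pull])).symm ▸ hθ₀⟩, he1 ξ] at h3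
  by_cases hx : ∃ n, pull n ξ ∈ b'
  · obtain ⟨n, hn⟩ := hx
    exact ⟨n, fun θ hθ => pblock_mem_of_sameBlock hM h'.1 hn
      ((sameBlock_irrPull_iff _ _ _).2 (pblock_sameBlock hM h.1 hξ hθ))⟩
  · rw [if_neg hx, sub_zero] at h3
    exact absurd h3 (ideal_one hM)

theorem sup_centralizer_le_normalizer (P : Subgroup G) :
    P ⊔ Subgroup.centralizer (P : Set G) ≤ Subgroup.normalizer (P : Set G) :=
  sup_le Subgroup.le_normalizer fun c hc => Subgroup.mem_normalizer_iff.2 fun w => by
    constructor
    · intro hw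
      rw [← Subgroup.mem_centralizer_iff.1 hc w hw, mul_inv_cancel_right]
      exact hw
    · intro hw
      have h1 := Subgroup.mem_centralizer_iff.1 hc _ hw
      have : c * w * c⁻¹ = w := by
        calc c * w * c⁻¹ = c⁻¹ * (c * (c * w * c⁻¹)) := by group
          _ = c⁻¹ * ((c * w * c⁻¹) * c) := by rw [h1]
          _ = w := by group
      rwa [this] at hw

theorem normal_sup_centralizer_subgroupOf (P : Subgroup G) :
    ((P ⊔ Subgroup.centralizer (P : Set G)).subgroupOf (Subgroup.normalizer (P : Set G))).Normal := by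
  refine ⟨fun x hx n => ?_⟩
  rw [Subgroup.mem_subgroupOf] at hx ⊢
  have hn := n.2
  have hP : P.map (MulAut.conj (n : G)).toMonoidHom ≤ P := fun y hy => by
    obtain ⟨w, hw, rfl⟩ := Subgroup.mem_map.1 hy
    exact (Subgroup.mem_normalizer_iff.1 hn w).1 hw
  have hC : (Subgroup.centralizer (P : Set G)).map (MulAut.conj (n : G)).toMonoidHom ≤
      Subgroup.centralizer (P : Set G) := fun y hy => by
    obtain ⟨w, hw, rfl⟩ := Subgroup.mem_map.1 hy
    exact centralizer_conj_mem hn hw
  have := Subgroup.mem_map_of_mem (MulAut.conj (n : G)).toMonoidHom hx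
  rw [Subgroup.map_sup] at this
  exact sup_le_sup hP hC this

/-- A block of a subgroup between `P C(P)` and `N(P)` and its block of `N(P)` induce alike. -/
theorem induced_through_normalizer (hM : IsPModular p M) {P L : Subgroup G} (hP : IsPGroup p P)
    (hPL : P ≤ L) (hCL : Subgroup.centralizer (P : Set G) ≤ L)
    (hLN : L ≤ Subgroup.normalizer (P : Set G)) {b : Set (IrrCharacter L)}
    {B : Set (IrrCharacter G)} (hind : IsInducedBlock M L b B)
    {ξ₀ : IrrCharacter L} (hξ₀ : ξ₀ ∈ b) :
    ∃ bN : Set (IrrCharacter (Subgroup.normalizer (P : Set G))),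
      IsInducedBlock M (L.subgroupOf (Subgroup.normalizer (P : Set G)))
        (blockOf M (irrPull (Subgroup.subgroupOfEquivOfLe hLN) ξ₀ :
          L.subgroupOf (Subgroup.normalizer (P : Set G)) → ℂ)) bN ∧
      IsInducedBlock M (Subgroup.normalizer (P : Set G)) bN B := by
  classical
  have hPN : P ≤ Subgroup.normalizer (P : Set G) := Subgroup.le_normalizer
  have hCN : Subgroup.centralizer (P : Set G) ≤ Subgroup.normalizer (P : Set G) :=
    hCL.trans hLN
  haveI := normal_subgroupOf_normalizer P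
  cases nonempty_fintype L
  cases nonempty_fintype (L.subgroupOf (Subgroup.normalizer (P : Set G)))
  obtain ⟨bN, hbN⟩ := inducedBlockDefined_brauer hM
    (P := P.subgroupOf (Subgroup.normalizer (P : Set G)))
    (H := L.subgroupOf (Subgroup.normalizer (P : Set G)))
    (hP.of_equiv (Subgroup.subgroupOfEquivOfLe hPN).symm)
    (fun x hx => hPL hx) (fun c hc => hCL (mem_centralizer_of_subgroupOf hPN hc))
    (by rw [Subgroup.normalizer_eq_top (H := P.subgroupOf (Subgroup.normalizer (P : Set G)))]; exact le_top)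
    (isPBlock_blockOf (irrPull (Subgroup.subgroupOfEquivOfLe hLN) ξ₀))
  refine ⟨bN, hbN, (induced_iff_brauer hM hP hPN le_rfl hbN.2.1 hind.2.1).2
    fun θ hθ χ hχ g => ?_⟩
  rw [← brCen_centralChar]
  set f : IrrCharacter G → ℂ := fun χ : IrrCharacter G => centralChar (χ : G → ℂ) g
  have hf : CenInt M f := cenInt_centralChar hM g
  have h1 := induced_congr hM hbN (CenInt.brCen (P := P) hM le_rfl hf)
    (mem_blockOf_self hM _) hθ
  have heq : resCen (L.subgroupOf (Subgroup.normalizer (P : Set G)))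
      (brCen P (Subgroup.normalizer (P : Set G)) f)
      (irrPull (Subgroup.subgroupOfEquivOfLe hLN) ξ₀) = brCen P L f ξ₀ := by
    rw [resCen_eq_omegaFun, coeffFun_brCen le_rfl, brCen_eq_omegaFun,
      ← omegaFun_irrPull (Subgroup.subgroupOfEquivOfLe hLN) ξ₀ (brFun P L f)]
    rfl
  rw [heq] at h1
  have h2 := (induced_iff_brauer hM hP hPL hLN hind.1 hind.2.1).1 hind ξ₀ hξ₀ χ hχ g
  rw [← brCen_centralChar] at h2
  have := ideal_sub hM h2 h1
  rwa [sub_sub_sub_cancel_left] at this

/-- Brauer: the roots of a block in `P C(P)`, `P` a defect group. -/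
theorem roots_in_centralizer [Fact p.Prime] (hM : IsPModular p M) {B : Set (IrrCharacter G)}
    (hB : IsPBlock M B) {P : Subgroup G} (hP : IsDefectGroup p M B P) :
    (∃ b : Set (IrrCharacter ↥(P ⊔ Subgroup.centralizer (P : Set G))),
      IsDefectGroup p M b (P.subgroupOf (P ⊔ Subgroup.centralizer (P : Set G))) ∧
        IsInducedBlock M (P ⊔ Subgroup.centralizer (P : Set G)) b B) ∧
    ∀ b b' : Set (IrrCharacter ↥(P ⊔ Subgroup.centralizer (P : Set G))),
      IsInducedBlock M (P ⊔ Subgroup.centralizer (P : Set G)) b B →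
      IsInducedBlock M (P ⊔ Subgroup.centralizer (P : Set G)) b' B →
      ∃ n ∈ Subgroup.normalizer (P : Set G), ∀ θ ∈ b, ∃ θ' ∈ b',
        ∀ x : ↥(P ⊔ Subgroup.centralizer (P : Set G)),
          ∀ hx : n * (x : G) * n⁻¹ ∈ P ⊔ Subgroup.centralizer (P : Set G),
            (θ' : ↥(P ⊔ Subgroup.centralizer (P : Set G)) → ℂ) x =
              (θ : ↥(P ⊔ Subgroup.centralizer (P : Set G)) → ℂ) ⟨n * (x : G) * n⁻¹, hx⟩ := by
  have hPp : IsPGroup p P := IsDefectGroup.isPGroup hP
  have hPL : P ≤ P ⊔ Subgroup.centralizer (P : Set G) := le_sup_left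
  have hLN := sup_centralizer_le_normalizer P
  constructor
  · obtain ⟨b, hb⟩ := (exists_inducing_iff hM hPp hPL le_sup_right hLN hB).2
      (defectGroup_not_brZero hM hB hP)
    obtain ⟨E, hE⟩ := exists_isDefectGroup hM hb.1
    obtain ⟨D, hD, hED⟩ := exists_defectGroup_ge_map hM hb hE
    haveI : (P.subgroupOf (P ⊔ Subgroup.centralizer (P : Set G))).Normal := by
      refine ⟨fun x hx n => ?_⟩
      rw [Subgroup.mem_subgroupOf] at hx ⊢
      exact (Subgroup.mem_normalizer_iff.1 (hLN n.2) _).1 hx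
    have hle := normal_le_defectGroup hM hb.1 hE
      (P := P.subgroupOf (P ⊔ Subgroup.centralizer (P : Set G)))
      (hPp.of_equiv (Subgroup.subgroupOfEquivOfLe hPL).symm)
    refine ⟨b, ?_, hb⟩
    rw [Subgroup.eq_of_le_of_card_ge hle]
    · exact hE
    · rw [Nat.card_congr (Subgroup.subgroupOfEquivOfLe hPL).toEquiv,
        ← defectGroup_card_eq hM hB hD hP,
        Nat.card_congr (E.equivMapOfInjective _
          (P ⊔ Subgroup.centralizer (P : Set G)).subtype_injective).toEquiv]
      exact Subgroup.card_le_of_le hED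
  intro b b' hb hb'
  obtain ⟨ξ, hξ⟩ := pblock_nonempty hM hb.1
  obtain ⟨ξ', hξ'⟩ := pblock_nonempty hM hb'.1
  obtain ⟨bN, h1, h2⟩ := induced_through_normalizer hM hPp hPL le_sup_right hLN hb hξ
  obtain ⟨bN', h1', h2'⟩ := induced_through_normalizer hM hPp hPL le_sup_right hLN hb' hξ'
  obtain ⟨c, -, hc⟩ := exists_unique_inducing hM hB hP
  have e1 := hc bN ⟨h2.1, defectGroup_of_inducing hM hP h2, h2⟩
  have e2 := hc bN' ⟨h2'.1, defectGroup_of_inducing hM hP h2', h2'⟩
  rw [e1] at h1
  rw [e2] at h1'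
  haveI := normal_sup_centralizer_subgroupOf P
  obtain ⟨n, hn⟩ := exists_conj_of_induced_normal hM h1 h1'
  refine ⟨(n : G), n.2, fun θ hθ => ?_⟩
  set ε := Subgroup.subgroupOfEquivOfLe hLN with hε
  have hmem := hn (irrPull ε θ)
    ((mem_blockOf).2 ((sameBlock_irrPull_iff ε _ _).2 (pblock_sameBlock hM hb.1 hξ hθ)))
  refine ⟨irrPull ε.symm (irrPull (MulAut.conjNormal n) (irrPull ε θ)), ?_, fun x hx => ?_⟩
  · refine pblock_mem_of_sameBlock hM hb'.1 hξ' ((sameBlock_irrPull_iff ε _ _).1 ?_)
    rw [irrPull_symm_self]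
    exact mem_blockOf.1 hmem
  · simp only [irrPull_apply]
    exact congrArg (θ : ↥(P ⊔ Subgroup.centralizer (P : Set G)) → ℂ) (Subtype.ext (by simp [hε]))

end Cfsg.Agent.Block
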