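import Mathlib

/-!
Integer vectors with Gram matrix `3 + δ`, and four weighted points with three vanishing moments.
-/

namespace Cfsg.Agent.Block

theorem four_point {u₂ u₃ u₄ x₂ x₃ x₄ : ℚ} (h0 : 1 + u₂ + u₃ + u₄ = 0)
    (h1 : 1 + u₂ * x₂ + u₃ * x₃ + u₄ * x₄ = 0)
    (h2 : 1 + u₂ * x₂ ^ 2 + u₃ * x₃ ^ 2 + u₄ * x₄ ^ 2 = 0)
    (hx₂ : x₂ ≠ 1) (hx₃ : x₃ ≠ 1) (hx₄ : x₄ ≠ 1) : IsSquare (u₂ * u₃ * u₄) := by
  have hD : x₂ - x₃ ≠ 0 := fun h => by
    have hx : x₂ = x₃ := sub_eq_zero.1 h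
    subst hx
    have e : (1 - x₂) * (1 - x₄) = 0 := by linear_combination h2 - (x₂ + x₄) * h1 + x₂ * x₄ * h0
    rcases mul_eq_zero.1 e with e | e
    · exact hx₂ (by linarith)
    · exact hx₄ (by linarith)
  have hE : x₂ - x₄ ≠ 0 := fun h => by
    have hx : x₂ = x₄ := sub_eq_zero.1 h
    subst hx
    have e : (1 - x₂) * (1 - x₃) = 0 := by linear_combination h2 - (x₂ + x₃) * h1 + x₂ * x₃ * h0
    rcases mul_eq_zero.1 e with e | e
    · exact hx₂ (by linarith)
    · exact hx₃ (by linarith)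
  have hF : x₃ - x₄ ≠ 0 := fun h => by
    have hx : x₃ = x₄ := sub_eq_zero.1 h
    subst hx
    have e : (1 - x₂) * (1 - x₃) = 0 := by linear_combination h2 - (x₂ + x₃) * h1 + x₂ * x₃ * h0
    rcases mul_eq_zero.1 e with e | e
    · exact hx₂ (by linarith)
    · exact hx₃ (by linarith)
  have e₂ : u₂ * ((x₂ - x₃) * (x₂ - x₄)) = -((1 - x₃) * (1 - x₄)) := by
    linear_combination h2 - (x₃ + x₄) * h1 + x₃ * x₄ * h0
  have e₃ : u₃ * ((x₂ - x₃) * (x₃ - x₄)) = (1 - x₂) * (1 - x₄) := by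
    linear_combination -h2 + (x₂ + x₄) * h1 - x₂ * x₄ * h0
  have e₄ : u₄ * ((x₂ - x₄) * (x₃ - x₄)) = -((1 - x₂) * (1 - x₃)) := by
    linear_combination h2 - (x₂ + x₃) * h1 + x₂ * x₃ * h0
  refine ⟨(1 - x₂) * (1 - x₃) * (1 - x₄) / ((x₂ - x₃) * (x₂ - x₄) * (x₃ - x₄)), ?_⟩
  rw [div_mul_div_comm, eq_div_iff (by
    exact mul_ne_zero (mul_ne_zero (mul_ne_zero hD hE) hF) (mul_ne_zero (mul_ne_zero hD hE) hF))]
  calc u₂ * u₃ * u₄ * ((x₂ - x₃) * (x₂ - x₄) * (x₃ - x₄) * ((x₂ - x₃) * (x₂ - x₄) * (x₃ - x₄))) =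
      u₂ * ((x₂ - x₃) * (x₂ - x₄)) * (u₃ * ((x₂ - x₃) * (x₃ - x₄))) *
        (u₄ * ((x₂ - x₄) * (x₃ - x₄))) := by ring
    _ = _ := by rw [e₂, e₃, e₄]; ring

theorem four_sign {w₂ w₃ w₄ : ℤ} {d₂ d₃ d₄ : ℕ} {x₂ x₃ x₄ : ℚ} (hw₂ : w₂ = 1 ∨ w₂ = -1)
    (hw₃ : w₃ = 1 ∨ w₃ = -1) (hw₄ : w₄ = 1 ∨ w₄ = -1) (hd₂ : 0 < d₂) (hd₃ : 0 < d₃) (hd₄ : 0 < d₄)
    (h0 : 1 + (w₂ : ℚ) * d₂ + w₃ * d₃ + w₄ * d₄ = 0)
    (h1 : 1 + (w₂ : ℚ) * d₂ * x₂ + w₃ * d₃ * x₃ + w₄ * d₄ * x₄ = 0)
    (h2 : 1 + (w₂ : ℚ) * d₂ * x₂ ^ 2 + w₃ * d₃ * x₃ ^ 2 + w₄ * d₄ * x₄ ^ 2 = 0)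
    (hx₂ : x₂ ≠ 1) (hx₃ : x₃ ≠ 1) (hx₄ : x₄ ≠ 1) :
    (if w₂ = -1 then 1 else 0) + (if w₃ = -1 then 1 else 0) + (if w₄ = -1 then 1 else 0) = 2 ∧
      IsSquare (d₂ * d₃ * d₄) := by
  have hsq := four_point h0 h1 h2 hx₂ hx₃ hx₄
  have hpos : (0 : ℚ) < d₂ * d₃ * d₄ := by positivity
  have hd₂' : (0 : ℚ) < d₂ := by exact_mod_cast hd₂
  have hd₃' : (0 : ℚ) < d₃ := by exact_mod_cast hd₃
  have hd₄' : (0 : ℚ) < d₄ := by exact_mod_cast hd₄
  have hnn := hsq.nonneg
  have hprod : (w₂ * w₃ * w₄ : ℤ) = 1 := by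
    rcases hw₂ with rfl | rfl <;> rcases hw₃ with rfl | rfl <;> rcases hw₄ with rfl | rfl <;>
      first
        | (norm_num; done)
        | (exfalso; push_cast at hnn; nlinarith)
  refine ⟨?_, ?_⟩
  · rcases hw₂ with rfl | rfl <;> rcases hw₃ with rfl | rfl <;> rcases hw₄ with rfl | rfl <;>
      first
        | (norm_num; done)
        | (exfalso; norm_num at hprod; done)
        | (exfalso; push_cast at h0; nlinarith)
  · rw [← Rat.isSquare_natCast_iff]
    push_cast
    have hp' : ((w₂ : ℚ) * w₃ * w₄) = 1 := by exact_mod_cast hprod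
    rw [show (d₂ : ℚ) * d₃ * d₄ = (w₂ : ℚ) * d₂ * (w₃ * d₃) * (w₄ * d₄) by
      linear_combination -((d₂ : ℚ) * d₃ * d₄) * hp']
    exact hsq

theorem sum_unit_products {ι : Type*} (U : Finset ι) (f : ι → ℤ)
    (hf : ∀ x ∈ U, f x = 1 ∨ f x = -1) (hU : U.card ≤ 4) (hs : ∑ x ∈ U, f x = 3) :
    U.card = 3 ∧ ∀ x ∈ U, f x = 1 := by
  classical
  have e : ∀ x ∈ U, f x = 1 - 2 * (if f x = -1 then 1 else 0) := fun x hx => by
    rcases hf x hx with h | h <;> rw [h] <;> simp
  rw [Finset.sum_congr rfl e, Finset.sum_sub_distrib, Finset.sum_const, nsmul_eq_mul, mul_one,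
    ← Finset.mul_sum, Finset.sum_boole] at hs
  have hz : (U.filter fun x => f x = -1).card = 0 := by push_cast at hs; omega
  refine ⟨by rw [hz] at hs; push_cast at hs; omega, fun x hx => (hf x hx).resolve_right fun h => ?_⟩
  rw [Finset.card_eq_zero] at hz
  exact Finset.notMem_empty x (hz ▸ Finset.mem_filter.2 ⟨hx, h⟩)

/-- Vectors of Gram matrix `3 + δ` with a common entry and orthogonal to a positive vector share
three entries and have one entry of their own. -/
theorem three_core {Ψ ι : Type*} [DecidableEq ι] (S : Finset ι) {o : ι} (ho : o ∈ S)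
    (R : Ψ → Ψ → Prop) [DecidableRel R] (hrefl : ∀ i, R i i) (A : Ψ → ι → ℤ) (d : ι → ℕ)
    (hd : ∀ x, 0 < d x) (hdo : d o = 1) (hA : ∀ i, A i o = -1)
    (hgram : ∀ i j, ∑ x ∈ S, A i x * A j x = (if R i j then 1 else 0) + 3)
    (hdeg : ∀ i, ∑ x ∈ S, (d x : ℤ) * A i x = 0) (hex : ∃ i j, ¬ R i j)
    (hfour : ∀ i j k, ¬ R i j → ¬ R i k → ¬ R j k → ∃ l, ¬ R i l ∧ ¬ R j l ∧ ¬ R k l)
    (hne : ∀ x ∈ S, ∃ i, A i x ≠ 0) :
    ∃ (a b : ι) (sa sb δ : ℤ) (η : Ψ → ι), a ∈ S ∧ b ∈ S ∧ a ≠ o ∧ b ≠ o ∧ a ≠ b ∧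
      (δ = 1 ∨ δ = -1) ∧ (sa = 1 ∨ sa = -1) ∧ (sb = 1 ∨ sb = -1) ∧
      (∀ i, η i ∈ S ∧ η i ≠ o ∧ η i ≠ a ∧ η i ≠ b ∧ A i a = sa ∧ A i b = sb ∧ A i (η i) = δ ∧
        ∀ x ∈ S, x ≠ o → x ≠ a → x ≠ b → x ≠ η i → A i x = 0) ∧
      (∀ i j, R i j ↔ η i = η j) ∧ (∀ x ∈ S, x = o ∨ x = a ∨ x = b ∨ ∃ i, x = η i) ∧
      (∀ i j, d (η i) = d (η j)) := by
  classical
  have hsymm : ∀ i j, R i j → R j i := fun i j h => by
    by_contra h'
    have e1 := hgram i j
    have e2 := hgram j i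
    rw [if_pos h] at e1
    rw [if_neg h', Finset.sum_congr rfl fun x _ => mul_comm (A j x) (A i x), e1] at e2
    norm_num at e2
  have heq : ∀ i j, R i j → ∀ x ∈ S, A i x = A j x := by
    intro i j h x hx
    have e : ∑ x ∈ S, (A i x - A j x) ^ 2 = 0 := by
      have hexp : ∀ x ∈ S, (A i x - A j x) ^ 2 =
          A i x * A i x + A j x * A j x - 2 * (A i x * A j x) := fun x _ => by ring
      rw [Finset.sum_congr rfl hexp, Finset.sum_sub_distrib, Finset.sum_add_distrib,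
        ← Finset.mul_sum, hgram, hgram, hgram, if_pos (hrefl i), if_pos (hrefl j), if_pos h]
      norm_num
    have := (Finset.sum_eq_zero_iff_of_nonneg fun x _ => sq_nonneg _).1 e x hx
    exact sub_eq_zero.1 (pow_eq_zero_iff two_ne_zero |>.1 this)
  -- entries and supports
  have hnorm : ∀ i, ∑ x ∈ S, A i x ^ 2 = 4 := fun i => by
    rw [Finset.sum_congr rfl fun x _ => sq (A i x), hgram, if_pos (hrefl i)]; norm_num
  have hunit : ∀ i, ∀ x ∈ S, A i x = 0 ∨ A i x = 1 ∨ A i x = -1 := by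
    intro i x hx
    rcases eq_or_ne x o with rfl | hxo
    · exact .inr (.inr (hA i))
    have h := hnorm i
    rw [← Finset.add_sum_erase S _ ho, hA i] at h
    have hle : A i x ^ 2 ≤ 3 := by
      have := Finset.single_le_sum (f := fun x => A i x ^ 2) (fun y _ => sq_nonneg (A i y))
        (Finset.mem_erase.2 ⟨hxo, hx⟩)
      linarith
    have h1 : -2 < A i x := by nlinarith
    have h2 : A i x < 2 := by nlinarith
    omega
  set supp : Ψ → Finset ι := fun i => S.filter fun x => A i x ≠ 0 with hsupp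
  have hmem : ∀ i x, x ∈ supp i ↔ x ∈ S ∧ A i x ≠ 0 := fun i x => Finset.mem_filter
  have hsub : ∀ i, supp i ⊆ S := fun i => Finset.filter_subset _ _
  have hpm : ∀ i, ∀ x ∈ supp i, A i x = 1 ∨ A i x = -1 := fun i x hx =>
    (hunit i x ((hmem i x).1 hx).1).resolve_left ((hmem i x).1 hx).2
  have hcard : ∀ i, (supp i).card = 4 := fun i => by
    have h : ∑ x ∈ supp i, A i x ^ 2 = 4 := by
      rw [← hnorm i]
      refine Finset.sum_subset (hsub i) fun x hx hx' => ?_
      rw [not_not.1 fun h => hx' ((hmem i x).2 ⟨hx, h⟩)]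
      norm_num
    rw [Finset.sum_congr rfl (g := fun _ => (1 : ℤ)) fun x hx => by
      rcases hpm i x hx with e | e <;> rw [e] <;> norm_num, Finset.sum_const, nsmul_eq_mul,
      mul_one] at h
    exact_mod_cast h
  have hoS : ∀ i, o ∈ supp i := fun i => (hmem i o).2 ⟨ho, by rw [hA]; norm_num⟩
  have hinter : ∀ i j, ¬ R i j →
      (supp i ∩ supp j).card = 3 ∧ ∀ x ∈ supp i ∩ supp j, A i x = A j x := by
    intro i j h
    have hs : ∑ x ∈ supp i ∩ supp j, A i x * A j x = 3 := by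
      have e := hgram i j
      rw [if_neg h, zero_add] at e
      rw [← e]
      refine Finset.sum_subset (fun x hx => hsub i (Finset.mem_inter.1 hx).1) fun x hx hx' => ?_
      by_contra hne'
      exact hx' (Finset.mem_inter.2 ⟨(hmem i x).2 ⟨hx, left_ne_zero_of_mul hne'⟩,
        (hmem j x).2 ⟨hx, right_ne_zero_of_mul hne'⟩⟩)
    obtain ⟨hc, hv⟩ := sum_unit_products _ _ (fun x hx => by
      rcases hpm i x (Finset.mem_inter.1 hx).1 with e | e <;>
        rcases hpm j x (Finset.mem_inter.1 hx).2 with e' | e' <;> rw [e, e'] <;> norm_num)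
      ((Finset.card_le_card Finset.inter_subset_left).trans (hcard i).le) hs
    refine ⟨hc, fun x hx => ?_⟩
    have := hv x hx
    rcases hpm i x (Finset.mem_inter.1 hx).1 with e | e <;>
      rcases hpm j x (Finset.mem_inter.1 hx).2 with e' | e' <;> rw [e, e'] at this ⊢ <;>
      norm_num at this
  have hdeg' : ∀ i, ∑ x ∈ supp i, (d x : ℤ) * A i x = 0 := fun i => by
    rw [← hdeg i]
    refine Finset.sum_subset (hsub i) fun x hx hx' => ?_
    rw [not_not.1 fun h => hx' ((hmem i x).2 ⟨hx, h⟩), mul_zero]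
  -- the core
  obtain ⟨i, j, hij⟩ := hex
  set U := supp i ∩ supp j with hU
  have hUc : U.card = 3 := (hinter i j hij).1
  have hoU : o ∈ U := Finset.mem_inter.2 ⟨hoS i, hoS j⟩
  set Z := supp i ∪ supp j with hZ
  have hZc : Z.card = 5 := by
    have := Finset.card_union_add_card_inter (supp i) (supp j)
    rw [← hU, ← hZ, hUc, hcard, hcard] at this
    omega
  have hmiss : ∀ k, ¬ R i k → ¬ R j k → ∀ c ∈ U, c ∉ supp k → supp k = Z.erase c := by
    intro k hik hjk c hc hck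
    have hside : ∀ m, ¬ R m k → c ∈ supp m → (supp m).erase c ⊆ supp k := by
      intro m hmk hcm
      have hs : supp m ∩ supp k ⊆ (supp m).erase c := fun x hx =>
        Finset.mem_erase.2 ⟨fun h => hck (h ▸ (Finset.mem_inter.1 hx).2),
          (Finset.mem_inter.1 hx).1⟩
      have := Finset.eq_of_subset_of_card_le hs (by
        rw [(hinter m k hmk).1, Finset.card_erase_of_mem hcm, hcard])
      rw [← this]
      exact Finset.inter_subset_right
    refine (Finset.eq_of_subset_of_card_le (fun x hx => ?_) ?_).symm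
    · obtain ⟨hxc, hx⟩ := Finset.mem_erase.1 hx
      rcases Finset.mem_union.1 hx with h | h
      · exact hside i hik (Finset.mem_inter.1 hc).1 (Finset.mem_erase.2 ⟨hxc, h⟩)
      · exact hside j hjk (Finset.mem_inter.1 hc).2 (Finset.mem_erase.2 ⟨hxc, h⟩)
    · rw [hcard, Finset.card_erase_of_mem (Finset.mem_union_left _ (Finset.mem_inter.1 hc).1), hZc]
  have hcore : ∀ k, U ⊆ supp k := by
    intro k c hc
    by_contra hck
    have hcS : c ∈ S := hsub i (Finset.mem_inter.1 hc).1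
    have hik : ¬ R i k := fun h => hck ((hmem k c).2
      ⟨hcS, heq i k h c hcS ▸ ((hmem i c).1 (Finset.mem_inter.1 hc).1).2⟩)
    have hjk : ¬ R j k := fun h => hck ((hmem k c).2
      ⟨hcS, heq j k h c hcS ▸ ((hmem j c).1 (Finset.mem_inter.1 hc).2).2⟩)
    have hk := hmiss k hik hjk c hc hck
    obtain ⟨l, hil, hjl, hkl⟩ := hfour i j k hij hik hjk
    by_cases hUl : U ⊆ supp l
    · have hsub2 : supp k ∩ supp l ⊆ U.erase c := by
        intro x hx
        obtain ⟨hxk, hxl⟩ := Finset.mem_inter.1 hx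
        rw [hk] at hxk
        obtain ⟨hxc, hxZ⟩ := Finset.mem_erase.1 hxk
        refine Finset.mem_erase.2 ⟨hxc, ?_⟩
        have hout : ∀ m, ¬ R m l → U ⊆ supp m → x ∈ supp m → x ∈ U := by
          intro m hml hUm hxm
          by_contra hxU
          have hs : insert x U ⊆ supp m ∩ supp l :=
            Finset.insert_subset (Finset.mem_inter.2 ⟨hxm, hxl⟩)
              (Finset.subset_inter hUm hUl)
          have := Finset.card_le_card hs
          rw [Finset.card_insert_of_notMem hxU, hUc, (hinter m l hml).1] at this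
          omega
        rcases Finset.mem_union.1 hxZ with h | h
        · exact hout i hil Finset.inter_subset_left h
        · exact hout j hjl Finset.inter_subset_right h
      have := Finset.card_le_card hsub2
      rw [(hinter k l hkl).1, Finset.card_erase_of_mem hc, hUc] at this
      omega
    obtain ⟨c', hc', hc'l⟩ := Finset.not_subset.1 hUl
    have hl := hmiss l hil hjl c' hc' hc'l
    have hcc : c' ≠ c := by
      rintro rfl
      have := (hinter k l hkl).1
      rw [hk, hl, Finset.inter_self, Finset.card_erase_of_mem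
        (Finset.mem_union_left _ (Finset.mem_inter.1 hc').1), hZc] at this
      omega
    obtain ⟨xi, hxi⟩ := Finset.card_eq_one.1 (show (supp i \ supp j).card = 1 by
      rw [Finset.card_sdiff, Finset.inter_comm, ← hU, hUc, hcard])
    obtain ⟨xj, hxj⟩ := Finset.card_eq_one.1 (show (supp j \ supp i).card = 1 by
      rw [Finset.card_sdiff, ← hU, hUc, hcard])
    have hxim : xi ∈ supp i ∧ xi ∉ supp j :=
      Finset.mem_sdiff.1 (hxi ▸ Finset.mem_singleton_self xi)
    have hxjm : xj ∈ supp j ∧ xj ∉ supp i :=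
      Finset.mem_sdiff.1 (hxj ▸ Finset.mem_singleton_self xj)
    have hi' : supp i = Z.erase xj := by
      refine Finset.eq_of_subset_of_card_le (fun x hx =>
        Finset.mem_erase.2 ⟨fun h => hxjm.2 (h ▸ hx), Finset.mem_union_left _ hx⟩) ?_
      rw [Finset.card_erase_of_mem (Finset.mem_union_right _ hxjm.1), hZc, hcard]
    have hj' : supp j = Z.erase xi := by
      refine Finset.eq_of_subset_of_card_le (fun x hx =>
        Finset.mem_erase.2 ⟨fun h => hxim.2 (h ▸ hx), Finset.mem_union_right _ hx⟩) ?_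
      rw [Finset.card_erase_of_mem (Finset.mem_union_left _ hxim.1), hZc, hcard]
    set σ : ι → ℤ := fun x => (d x : ℤ) * if x ∈ supp i then A i x else A j x with hσ
    have hagree : ∀ m, (∀ x ∈ supp i ∩ supp m, A i x = A m x) →
        (∀ x ∈ supp j ∩ supp m, A j x = A m x) → supp m ⊆ Z →
        ∑ x ∈ supp m, σ x = 0 := by
      intro m hmi hmj hmZ
      rw [← hdeg' m]
      refine Finset.sum_congr rfl fun x hx => ?_
      simp only [hσ]
      split_ifs with h
      · rw [hmi x (Finset.mem_inter.2 ⟨h, hx⟩)]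
      · rw [hmj x (Finset.mem_inter.2 ⟨(Finset.mem_union.1 (hmZ hx)).resolve_left h, hx⟩)]
    have hsi := hagree i (fun _ _ => rfl)
      (fun x hx => ((hinter i j hij).2 x (Finset.inter_comm (supp j) (supp i) ▸ hx)).symm)
      Finset.subset_union_left
    have hsj := hagree j (hinter i j hij).2 (fun _ _ => rfl) Finset.subset_union_right
    have hsk := hagree k (hinter i k hik).2 (hinter j k hjk).2 (hk ▸ Finset.erase_subset _ _)
    have hsl := hagree l (hinter i l hil).2 (hinter j l hjl).2 (hl ▸ Finset.erase_subset _ _)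
    rw [hi'] at hsi
    rw [hj'] at hsj
    rw [hk] at hsk
    rw [hl] at hsl
    have hT : ∀ y ∈ Z, ∑ x ∈ Z.erase y, σ x = 0 → σ y = ∑ x ∈ Z, σ x := fun y hy h => by
      rw [← Finset.add_sum_erase Z σ hy, h, add_zero]
    have hcZ : ∀ y ∈ U, y ∈ Z := fun y hy => Finset.mem_union_left _ (Finset.mem_inter.1 hy).1
    have t1 := hT xj (Finset.mem_union_right _ hxjm.1) hsi
    have t2 := hT xi (Finset.mem_union_left _ hxim.1) hsj
    have t3 := hT c (hcZ c hc) hsk
    have t4 := hT c' (hcZ c' hc') hsl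
    have hco : c ≠ o := fun h => hck (h ▸ hoS k)
    have hco' : c' ≠ o := fun h => hc'l (h ▸ hoS l)
    have hiU : xi ∉ U := fun h => hxim.2 (Finset.mem_inter.1 h).2
    have hjU : xj ∉ U := fun h => hxjm.2 (Finset.mem_inter.1 h).1
    have hxixj : xi ≠ xj := fun h => hxjm.2 (h ▸ hxim.1)
    have hall : ({o, c, c', xi, xj} : Finset ι) = Z := by
      refine Finset.eq_of_subset_of_card_le ?_ ?_
      · simp only [Finset.insert_subset_iff, Finset.singleton_subset_iff]
        exact ⟨hcZ o hoU, hcZ c hc, hcZ c' hc', Finset.mem_union_left _ hxim.1,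
          Finset.mem_union_right _ hxjm.1⟩
      · have hoi : o ≠ xi := fun h => hiU (h ▸ hoU)
        have hoj : o ≠ xj := fun h => hjU (h ▸ hoU)
        have hci : c ≠ xi := fun h => hiU (h ▸ hc)
        have hcj : c ≠ xj := fun h => hjU (h ▸ hc)
        have hc'i : c' ≠ xi := fun h => hiU (h ▸ hc')
        have hc'j : c' ≠ xj := fun h => hjU (h ▸ hc')
        simp [hZc, hco.symm, hco'.symm, hcc.symm, hoi, hoj, hci, hcj, hc'i, hc'j, hxixj]
    have hsumZ : ∑ x ∈ Z, σ x = σ o + σ c + σ c' + σ xi + σ xj := by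
      conv_lhs => rw [← hall]
      have hoi : o ≠ xi := fun h => hiU (h ▸ hoU)
      have hoj : o ≠ xj := fun h => hjU (h ▸ hoU)
      have hci : c ≠ xi := fun h => hiU (h ▸ hc)
      have hcj : c ≠ xj := fun h => hjU (h ▸ hc)
      have hc'i : c' ≠ xi := fun h => hiU (h ▸ hc')
      have hc'j : c' ≠ xj := fun h => hjU (h ▸ hc')
      rw [Finset.sum_insert (by simp [hco.symm, hco'.symm, hoi, hoj]),
        Finset.sum_insert (by simp [hcc.symm, hci, hcj]),
        Finset.sum_insert (by simp [hc'i, hc'j]), Finset.sum_insert (by simp [hxixj]),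
        Finset.sum_singleton]
      ring
    have ho1 : σ o = -1 := by simp [hσ, hoS i, hA, hdo]
    omega
  -- the remaining entry of each vector
  have hex1 : ∀ k, ∃ x, supp k \ U = {x} := fun k => Finset.card_eq_one.1 (by
    rw [Finset.card_sdiff, Finset.inter_eq_left.2 (hcore k), hUc, hcard])
  choose η hη using hex1
  have hηm : ∀ k, η k ∈ supp k ∧ η k ∉ U := fun k =>
    Finset.mem_sdiff.1 (hη k ▸ Finset.mem_singleton_self (η k))
  have hsame : ∀ k, ∀ x ∈ U, A k x = A i x := by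
    intro k x hx
    by_cases hik : R i k
    · exact (heq i k hik x (hsub i (Finset.mem_inter.1 hx).1)).symm
    · exact ((hinter i k hik).2 x (Finset.mem_inter.2 ⟨(Finset.mem_inter.1 hx).1, hcore k hx⟩)).symm
  have hdecomp : ∀ k, supp k = insert (η k) U := fun k => by
    rw [Finset.insert_eq, ← hη k, Finset.sdiff_union_of_subset (hcore k)]
  have hconst : ∀ k, (d (η k) : ℤ) * A k (η k) = -∑ x ∈ U, (d x : ℤ) * A i x := by
    intro k
    have h := hdeg' k
    rw [hdecomp k, Finset.sum_insert (hηm k).2,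
      Finset.sum_congr rfl fun x hx => by rw [hsame k x hx]] at h
    linarith
  have hsd : ∀ k, A k (η k) = A i (η i) ∧ d (η k) = d (η i) := by
    intro k
    have h := (hconst k).trans (hconst i).symm
    have h1 : (0 : ℤ) < d (η k) := by exact_mod_cast hd _
    have h2 : (0 : ℤ) < d (η i) := by exact_mod_cast hd _
    rcases hpm k _ (hηm k).1 with e | e <;> rcases hpm i _ (hηm i).1 with e' | e' <;>
      rw [e, e'] at h ⊢ <;> constructor <;> omega
  obtain ⟨a, b, hab, hab'⟩ := Finset.card_eq_two.1 (show (U.erase o).card = 2 by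
    rw [Finset.card_erase_of_mem hoU, hUc])
  have haU : a ∈ U.erase o := by rw [hab']; simp
  have hbU : b ∈ U.erase o := by rw [hab']; simp
  obtain ⟨hao, haU⟩ := Finset.mem_erase.1 haU
  obtain ⟨hbo, hbU⟩ := Finset.mem_erase.1 hbU
  refine ⟨a, b, A i a, A i b, A i (η i), η, hsub i (Finset.mem_inter.1 haU).1,
    hsub i (Finset.mem_inter.1 hbU).1, hao, hbo, hab, hpm i _ (hηm i).1,
    hpm i a (Finset.mem_inter.1 haU).1, hpm i b (Finset.mem_inter.1 hbU).1,
    fun k => ⟨hsub k (hηm k).1, fun h => (hηm k).2 (h ▸ hoU), fun h => (hηm k).2 (h ▸ haU),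
      fun h => (hηm k).2 (h ▸ hbU), hsame k a haU, hsame k b hbU, (hsd k).1, ?_⟩,
    fun k l => ⟨fun h => ?_, fun h => ?_⟩, fun x hx => ?_,
    fun k l => (hsd k).2.trans (hsd l).2.symm⟩
  · intro x hx hxo hxa hxb hxη
    by_contra h
    have : x ∈ supp k := (hmem k x).2 ⟨hx, h⟩
    rw [hdecomp k, Finset.mem_insert] at this
    have hxU := this.resolve_left hxη
    have : x ∈ U.erase o := Finset.mem_erase.2 ⟨hxo, hxU⟩
    rw [hab'] at this
    simp [hxa, hxb] at this
  · have hs : supp k = supp l := by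
      ext x
      rw [hmem, hmem]
      exact and_congr_right fun hx => by rw [heq k l h x hx]
    exact Finset.singleton_injective (by rw [← hη k, ← hη l, hs])
  · by_contra hkl
    have := (hinter k l hkl).1
    rw [hdecomp k, hdecomp l, h, Finset.inter_self, ← hdecomp l, hcard] at this
    omega
  · obtain ⟨k, hk⟩ := hne x hx
    rcases eq_or_ne x o with h | hxo
    · exact .inl h
    have : x ∈ supp k := (hmem k x).2 ⟨hx, hk⟩
    rw [hdecomp k, Finset.mem_insert] at this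
    rcases this with h | h
    · exact .inr (.inr (.inr ⟨k, h⟩))
    · have : x ∈ U.erase o := Finset.mem_erase.2 ⟨hxo, h⟩
      rw [hab', Finset.mem_insert, Finset.mem_singleton] at this
      rcases this with h | h
      · exact .inr (.inl h)
      · exact .inr (.inr (.inl h))

end Cfsg.Agent.Block
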