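import Cfsg.Agent.Lib.Block.SuzukiIdentity
import Cfsg.Agent.Lib.Block.KleinFour
import Cfsg.Agent.Lib.Block.Roots
import Cfsg.Agent.Lib.Block.Separated
import Cfsg.Agent.Lib.Block.ThreeCore

/-!
The principal block for an abelian Sylow subgroup with automizer of order three acting freely.
-/

open scoped ComplexConjugate IsMulCommutative

namespace Cfsg.Agent.Block

set_option linter.unusedSectionVars false
set_option linter.style.haveILetI false

universe u

variable {G : Type u} [Group G] [Finite G] {p : ℕ} {M : Ideal AlgInt}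

theorem lin_conj {H : Type u} [Group H] [Finite H] (ψ : H →* ℂˣ) (x : H) :
    conj ((ψ x : ℂˣ) : ℂ) = ((ψ x⁻¹ : ℂˣ) : ℂ) :=
  (irr_apply_inv (⟨fun x => ((ψ x : ℂˣ) : ℂ), Cfsg.Agent.Char.isIrr_linear ψ⟩ : IrrCharacter H)
    x).symm

theorem lin_sum_elements {H : Type u} [Group H] [Fintype H] (ψ : H →* ℂˣ) [Decidable (ψ = 1)] :
    ∑ x : H, ((ψ x : ℂˣ) : ℂ) = if ψ = 1 then (Nat.card H : ℂ) else 0 := by
  split_ifs with h
  · simp [h, Nat.card_eq_fintype_card]
  · obtain ⟨a, ha⟩ : ∃ a, ψ a ≠ 1 := by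
      by_contra hh
      push Not at hh
      exact h (MonoidHom.ext hh)
    have e : ((ψ a : ℂˣ) : ℂ) * ∑ x : H, ((ψ x : ℂˣ) : ℂ) = ∑ x : H, ((ψ x : ℂˣ) : ℂ) := by
      rw [Finset.mul_sum]
      exact Fintype.sum_equiv (Equiv.mulLeft a) _ _ fun x => by simp
    by_contra h0
    exact ha (Units.ext (by simpa using (mul_eq_right₀ h0).1 e))

theorem lin_finite {H : Type u} [CommGroup H] [Finite H] : Finite (H →* ℂˣ) :=
  Nat.finite_of_card_ne_zero
    (CommGroup.card_monoidHom_of_hasEnoughRootsOfUnity H ℂ ▸ Nat.card_pos.ne')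

theorem lin_sum_hom {H : Type u} [CommGroup H] [Finite H] [Fintype (H →* ℂˣ)] (x : H)
    [Decidable (x = 1)] :
    ∑ ψ : H →* ℂˣ, ((ψ x : ℂˣ) : ℂ) = if x = 1 then (Nat.card H : ℂ) else 0 := by
  split_ifs with h
  · simp [h, ← CommGroup.card_monoidHom_of_hasEnoughRootsOfUnity H ℂ, Nat.card_eq_fintype_card]
  · obtain ⟨φ, hφ⟩ := CommGroup.exists_apply_ne_one_of_hasEnoughRootsOfUnity H ℂ h
    have e : ((φ x : ℂˣ) : ℂ) * ∑ ψ : H →* ℂˣ, ((ψ x : ℂˣ) : ℂ) =
        ∑ ψ : H →* ℂˣ, ((ψ x : ℂˣ) : ℂ) := by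
      rw [Finset.mul_sum]
      exact Fintype.sum_equiv (Equiv.mulLeft φ) _ _ fun ψ => by simp
    by_contra h0
    exact hφ (Units.ext (by simpa using (mul_eq_right₀ h0).1 e))

theorem lin_expand {H : Type u} [CommGroup H] [Fintype H] [Fintype (H →* ℂˣ)] (f : H → ℂ)
    (y : H) :
    f y = ∑ ψ : H →* ℂˣ,
      ((Nat.card H : ℂ)⁻¹ * ∑ x : H, f x * ((ψ x⁻¹ : ℂˣ) : ℂ)) * ((ψ y : ℂˣ) : ℂ) := by
  classical
  simp only [Finset.mul_sum, Finset.sum_mul]
  rw [Finset.sum_comm]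
  have hh : ∀ x : H, ∑ ψ : H →* ℂˣ,
      (Nat.card H : ℂ)⁻¹ * (f x * ((ψ x⁻¹ : ℂˣ) : ℂ)) * ((ψ y : ℂˣ) : ℂ) =
      (Nat.card H : ℂ)⁻¹ * f x * if x⁻¹ * y = 1 then (Nat.card H : ℂ) else 0 := fun x => by
    rw [← lin_sum_hom, Finset.mul_sum]
    refine Finset.sum_congr rfl fun ψ _ => ?_
    rw [map_mul, Units.val_mul]
    ring
  rw [Finset.sum_congr rfl fun x _ => hh x, Finset.sum_eq_single y
    (fun x _ hx => by rw [if_neg fun h => hx (inv_mul_eq_one.1 h), mul_zero])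
    (fun h => absurd (Finset.mem_univ y) h), if_pos (inv_mul_cancel y)]
  field_simp [Nat.card_pos.ne']

/-- Values of the principal block are constant along a section with `p`-nilpotent centralizer. -/
theorem principal_section_const [Fact p.Prime] (hM : IsPModular p M) {z : G}
    (hz : ∃ k : ℕ, orderOf z = p ^ k) {K : Subgroup (Subgroup.centralizer ({z} : Set G))}
    [K.Normal] (hK : ¬ p ∣ Nat.card K) {v : Subgroup.centralizer ({z} : Set G)}
    (hv : ¬ p ∣ orderOf v) (hvK : v ∈ K) {χ : IrrCharacter G} (hχ : χ ∈ principalBlock M G) :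
    (χ : G → ℂ) (z * (v : G)) = (χ : G → ℂ) z := by
  classical
  cases nonempty_fintype G
  cases nonempty_fintype (Subgroup.centralizer ({z} : Set G))
  obtain ⟨k, hk⟩ := hz
  have hP : IsPGroup p (Subgroup.zpowers z) :=
    IsPGroup.of_card (n := k) (by rw [Nat.card_zpowers, hk])
  have h1 := value_eq_sum_inducing hM ⟨k, hk⟩ isPBlock_principalBlock hv χ
  have h2 := value_eq_sum_inducing hM ⟨k, hk⟩ (isPBlock_principalBlock (G := G))
    (y := (1 : Subgroup.centralizer ({z} : Set G))) (by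
      rw [orderOf_one]; exact (Fact.out : p.Prime).not_dvd_one) χ
  rw [if_pos hχ] at h1 h2
  rw [OneMemClass.coe_one, mul_one] at h2
  rw [← h1, ← h2]
  refine Finset.sum_congr rfl fun ξ hξ => ?_
  have hdef : InducedBlockDefined M (Subgroup.centralizer ({z} : Set G))
      (blockOf M (ξ : Subgroup.centralizer ({z} : Set G) → ℂ)) := by
    refine inducedBlockDefined_brauer hM hP (Subgroup.zpowers_le.2 (centralizer_self_mem z)) ?_ ?_
      (isPBlock_blockOf ξ)
    · exact Subgroup.centralizer_le (Set.singleton_subset_iff.2 (Subgroup.mem_zpowers z))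
    · intro c hc
      have hcz : Commute c z := Subgroup.mem_centralizer_singleton_iff.1 hc
      rw [Subgroup.mem_normalizer_iff]
      intro w
      constructor
      · intro hw
        obtain ⟨i, rfl⟩ := Subgroup.mem_zpowers_iff.1 hw
        rw [(hcz.zpow_right i).eq, mul_inv_cancel_right]
        exact hw
      · intro hw
        obtain ⟨i, hi⟩ := Subgroup.mem_zpowers_iff.1 hw
        have : w = z ^ i := by
          calc w = c⁻¹ * (c * w * c⁻¹) * c := by group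
            _ = c⁻¹ * z ^ i * c := by rw [hi]
            _ = z ^ i := by rw [mul_assoc, ← (hcz.zpow_right i).eq, inv_mul_cancel_left]
        exact this ▸ Subgroup.zpow_mem _ (Subgroup.mem_zpowers z) i
  have hξ' : ξ ∈ principalBlock M (Subgroup.centralizer ({z} : Set G)) := by
    have h := (principal_third_main hM hdef).1 (Finset.mem_filter.1 hξ).2
    exact h ▸ mem_blockOf_self hM ξ
  rw [principal_ker_of_coprime hM hK hξ' hvK]

/-- Burnside: the centralizer of a free element has a normal `p`-complement. -/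
theorem abelian_centralizer_complement [Fact p.Prime] (P : Sylow p G)
    [IsMulCommutative (P : Subgroup G)] {y : G} (hy : y ∈ (P : Subgroup G))
    (hN : Subgroup.normalizer ((P : Subgroup G) : Set G) ⊓ Subgroup.centralizer ({y} : Set G) ≤
      Subgroup.centralizer ((P : Subgroup G) : Set G)) :
    ∃ (K : Subgroup (Subgroup.centralizer ({y} : Set G))) (k : ℕ), K.Normal ∧
      ¬ p ∣ Nat.card K ∧ K.index = p ^ k ∧ Nat.card (P : Subgroup G) = p ^ k ∧
      (∀ c : Subgroup.centralizer ({y} : Set G), ∃ s : Subgroup.centralizer ({y} : Set G),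
        (s : G) ∈ (P : Subgroup G) ∧ c⁻¹ * s ∈ K) := by
  classical
  have hle : (P : Subgroup G) ≤ Subgroup.centralizer ({y} : Set G) := fun w hw =>
    Subgroup.mem_centralizer_singleton_iff.2
      (congrArg Subtype.val (mul_comm (⟨w, hw⟩ : (P : Subgroup G)) ⟨y, hy⟩))
  let Q : Sylow p (Subgroup.centralizer ({y} : Set G)) := P.subtype hle
  have hQ : ∀ w, w ∈ (Q : Subgroup (Subgroup.centralizer ({y} : Set G))) ↔
      (w : G) ∈ (P : Subgroup G) := fun w => by
    simp [Q, Sylow.coe_subtype, Subgroup.mem_subgroupOf]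
  have hN' : Subgroup.normalizer
        ((Q : Subgroup (Subgroup.centralizer ({y} : Set G))) : Set (Subgroup.centralizer ({y} : Set G))) ≤
      Subgroup.centralizer
        ((Q : Subgroup (Subgroup.centralizer ({y} : Set G))) : Set (Subgroup.centralizer ({y} : Set G))) := by
    intro n hn
    have hnP : (n : G) ∈ Subgroup.normalizer ((P : Subgroup G) : Set G) := by
      refine Subgroup.mem_normalizer_iff.2 fun w => ⟨fun hw => ?_, fun hw => ?_⟩
      · exact (hQ _).1 ((Subgroup.mem_normalizer_iff.1 hn ⟨w, hle hw⟩).1 ((hQ _).2 hw))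
      · have hwC : w ∈ Subgroup.centralizer ({y} : Set G) := by
          have := Subgroup.mul_mem _ (Subgroup.mul_mem _ (Subgroup.inv_mem _ n.2) (hle hw)) n.2
          simpa [mul_assoc] using this
        exact (hQ ⟨w, hwC⟩).1 ((Subgroup.mem_normalizer_iff.1 hn ⟨w, hwC⟩).2 ((hQ _).2 hw))
    exact Subgroup.mem_centralizer_iff.2 fun w hw =>
      Subtype.ext (Subgroup.mem_centralizer_iff.1 (hN ⟨hnP, n.2⟩) _ ((hQ w).1 hw))
  have hcomp := MonoidHom.ker_transferSylow_isComplement' Q hN'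
  obtain ⟨k, hk⟩ := IsPGroup.iff_card.1 P.isPGroup'
  refine ⟨(MonoidHom.transferSylow Q hN').ker, k, inferInstance,
    MonoidHom.not_dvd_card_ker_transferSylow Q hN', ?_, hk, fun c => ?_⟩
  · rw [hcomp.symm.index_eq_card,
      show (Q : Subgroup (Subgroup.centralizer ({y} : Set G))) = (P : Subgroup G).subgroupOf _
        from rfl, Nat.card_congr (Subgroup.subgroupOfEquivOfLe hle).toEquiv, hk]
  · obtain ⟨⟨a, b⟩, hab, -⟩ := hcomp.existsUnique c⁻¹
    refine ⟨(b : Subgroup.centralizer ({y} : Set G))⁻¹, (hQ _).1 (inv_mem b.2), ?_⟩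
    simp only at hab
    rw [← hab, mul_inv_cancel_right]
    exact a.2

/-- Conjugation on a Sylow subgroup by an element normalizing it. -/
def sylowConj {P : Subgroup G} {g : G} (hg : g ∈ Subgroup.normalizer (P : Set G)) : P ≃* P where
  toFun w := ⟨g * w * g⁻¹, (Subgroup.mem_normalizer_iff.1 hg w).1 w.2⟩
  invFun w := ⟨g⁻¹ * w * g, (Subgroup.mem_normalizer_iff.1 hg _).2 (by simp [mul_assoc])⟩
  left_inv w := Subtype.ext (by simp [mul_assoc])
  right_inv w := Subtype.ext (by simp [mul_assoc])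
  map_mul' w v := Subtype.ext (by simp [mul_assoc])

theorem sylowConj_val {P : Subgroup G} {g : G} (hg : g ∈ Subgroup.normalizer (P : Set G))
    (w : P) : (sylowConj hg w : G) = g * w * g⁻¹ := rfl

/-- An automizer of order three acting freely. -/
structure FreeThree (P : Sylow p G) where
  /-- The element inducing the automorphism. -/
  gen : G
  gen_mem : gen ∈ Subgroup.normalizer ((P : Subgroup G) : Set G)
  cube : ∀ w : (P : Subgroup G),
    sylowConj gen_mem (sylowConj gen_mem (sylowConj gen_mem w)) = w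
  free : ∀ w : (P : Subgroup G), sylowConj gen_mem w = w → w = 1
  norm_conj : ∀ n ∈ Subgroup.normalizer ((P : Subgroup G) : Set G),
    (∀ w : (P : Subgroup G), n * w * n⁻¹ = w) ∨
      (∀ w : (P : Subgroup G), n * w * n⁻¹ = sylowConj gen_mem w) ∨
      ∀ w : (P : Subgroup G), n * w * n⁻¹ = sylowConj gen_mem (sylowConj gen_mem w)

theorem exists_freeThree (P : Sylow p G)
    (hCN : (Subgroup.centralizer ((P : Subgroup G) : Set G)).relIndex
      (Subgroup.normalizer ((P : Subgroup G) : Set G)) = 3)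
    (hcyc : ∃ g : G, g ∈ Subgroup.normalizer ((P : Subgroup G) : Set G) ∧
      Subgroup.centralizer ((P : Subgroup G) : Set G) ⊔ Subgroup.zpowers g =
        Subgroup.normalizer ((P : Subgroup G) : Set G))
    (hfrob : ∀ y : G, y ∈ (P : Subgroup G) → y ≠ 1 → Subgroup.centralizer ({y} : Set G) ⊓
      Subgroup.normalizer ((P : Subgroup G) : Set G) =
      Subgroup.centralizer ((P : Subgroup G) : Set G)) :
    Nonempty (FreeThree P) := by
  obtain ⟨g, hg, hgen⟩ := hcyc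
  have hCle : Subgroup.centralizer ((P : Subgroup G) : Set G) ≤
      Subgroup.normalizer ((P : Subgroup G) : Set G) := Subgroup.centralizer_le_normalizer _
  haveI hCn : ((Subgroup.centralizer ((P : Subgroup G) : Set G)).subgroupOf
      (Subgroup.normalizer ((P : Subgroup G) : Set G))).Normal :=
    ⟨fun x hx n => centralizer_conj_mem n.2 hx⟩
  have hg3 : g ^ 3 ∈ Subgroup.centralizer ((P : Subgroup G) : Set G) := by
    have h := Subgroup.pow_index_mem ((Subgroup.centralizer ((P : Subgroup G) : Set G)).subgroupOf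
      (Subgroup.normalizer ((P : Subgroup G) : Set G))) ⟨g, hg⟩
    rw [show ((Subgroup.centralizer ((P : Subgroup G) : Set G)).subgroupOf
      (Subgroup.normalizer ((P : Subgroup G) : Set G))).index = 3 from hCN] at h
    exact h
  have hfix : ∀ c ∈ Subgroup.centralizer ((P : Subgroup G) : Set G), ∀ w ∈ (P : Subgroup G),
      c * w * c⁻¹ = w := fun c hc w hw => by
    rw [← Subgroup.mem_centralizer_iff.1 hc w hw, mul_inv_cancel_right]
  refine ⟨⟨g, hg, fun w => Subtype.ext ?_, fun w hw => ?_, fun n hn => ?_⟩⟩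
  · simp only [sylowConj_val]
    have := hfix _ hg3 w w.2
    simpa [pow_succ, mul_assoc] using this
  · by_contra h1
    have hmem : g ∈ Subgroup.centralizer ({(w : G)} : Set G) ⊓
        Subgroup.normalizer ((P : Subgroup G) : Set G) :=
      ⟨Subgroup.mem_centralizer_singleton_iff.2
        (mul_inv_eq_iff_eq_mul.1 (congrArg Subtype.val hw)), hg⟩
    rw [hfrob w w.2 fun h => h1 (Subtype.ext h)] at hmem
    rw [sup_eq_left.2 (Subgroup.zpowers_le.2 hmem)] at hgen
    rw [← hgen, Subgroup.relIndex_self] at hCN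
    norm_num at hCN
  · have hgN : Subgroup.zpowers g ≤ Subgroup.normalizer
        ((Subgroup.centralizer ((P : Subgroup G) : Set G)) : Set G) := Subgroup.zpowers_le.2
      (Subgroup.mem_normalizer_iff.2 fun x => ⟨centralizer_conj_mem hg, fun hx => by
        simpa [mul_assoc] using centralizer_conj_mem (inv_mem hg) hx⟩)
    rw [← hgen, ← SetLike.mem_coe, Subgroup.coe_mul_of_right_le_normalizer_left _ _ hgN] at hn
    obtain ⟨c, hc, h, hh, rfl⟩ := Set.mem_mul.1 hn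
    obtain ⟨j, rfl⟩ := Subgroup.mem_zpowers_iff.1 hh
    -- reduce the exponent modulo three
    have hsplit : g ^ j = g ^ (j % 3) * (g ^ 3) ^ (j / 3) := by
      rw [← zpow_natCast g 3, ← zpow_mul, ← zpow_add]
      congr 1
      omega
    have key : ∀ w : (P : Subgroup G), c * g ^ j * (w : G) * (c * g ^ j)⁻¹ = g ^ (j % 3) * (w : G) * (g ^ (j % 3))⁻¹ := by
      intro w
      have e1 : (g ^ 3) ^ (j / 3) * (w : G) * ((g ^ 3) ^ (j / 3))⁻¹ = w :=
        hfix _ (Subgroup.zpow_mem _ hg3 _) w w.2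
      have e2 : g ^ (j % 3) * (w : G) * (g ^ (j % 3))⁻¹ ∈ (P : Subgroup G) :=
        (Subgroup.mem_normalizer_iff.1 (Subgroup.zpow_mem _ hg _) _).1 w.2
      calc c * g ^ j * (w : G) * (c * g ^ j)⁻¹ =
          c * (g ^ (j % 3) * ((g ^ 3) ^ (j / 3) * (w : G) * ((g ^ 3) ^ (j / 3))⁻¹) *
            (g ^ (j % 3))⁻¹) * c⁻¹ := by rw [hsplit]; group
        _ = c * (g ^ (j % 3) * (w : G) * (g ^ (j % 3))⁻¹) * c⁻¹ := by rw [e1]
        _ = _ := hfix c hc _ e2
    rcases (show j % 3 = 0 ∨ j % 3 = 1 ∨ j % 3 = 2 by omega) with h | h | h <;> rw [h] at key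
    · left; intro w; rw [key]; simp
    · right; left; intro w; rw [key]; simp [sylowConj_val]
    · right; right; intro w
      rw [key, show (2 : ℤ) = ((2 : ℕ) : ℤ) from rfl, zpow_natCast]
      simp [sylowConj_val, pow_two, mul_assoc]

variable [Fact p.Prime] {P : Sylow p G} [IsMulCommutative (P : Subgroup G)]

namespace FreeThree

variable (F : FreeThree P)

/-- The automorphism. -/
abbrev σ : (P : Subgroup G) ≃* (P : Subgroup G) := sylowConj F.gen_mem

theorem σ_free2 {w : (P : Subgroup G)} (h : F.σ (F.σ w) = w) : w = 1 :=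
  F.free w (by
    have := F.cube w
    rwa [h] at this)

theorem conj_iff {y x : (P : Subgroup G)} :
    IsConj (y : G) (x : G) ↔ x = y ∨ x = F.σ y ∨ x = F.σ (F.σ y) := by
  constructor
  · intro h
    obtain ⟨g, hg⟩ := isConj_iff.1 h
    obtain ⟨n, hn, hn'⟩ := P.conj_eq_normalizer_conj_of_mem (y : G) g⁻¹ y.2
      (by simpa [hg] using x.2)
    have hx : n⁻¹ * (y : G) * n⁻¹⁻¹ = (x : G) := by
      rw [← hg]
      simpa [mul_assoc] using hn'.symm
    rcases F.norm_conj n⁻¹ (inv_mem hn) with h' | h' | h' <;> have h' := h' y <;> rw [hx] at h'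
    · exact .inl (Subtype.ext h')
    · exact .inr (.inl (Subtype.ext h'))
    · exact .inr (.inr (Subtype.ext h'))
  · rintro (rfl | rfl | rfl)
    · exact IsConj.refl _
    · exact isConj_iff.2 ⟨F.gen, rfl⟩
    · refine isConj_iff.2 ⟨F.gen * F.gen, ?_⟩
      simp [sylowConj_val, mul_assoc]

theorem norm_inf_centralizer (F : FreeThree P) {y : G} (hy : y ∈ (P : Subgroup G)) (hy1 : y ≠ 1) :
    Subgroup.normalizer ((P : Subgroup G) : Set G) ⊓ Subgroup.centralizer ({y} : Set G) =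
      Subgroup.centralizer ((P : Subgroup G) : Set G) := by
  refine le_antisymm (fun n hn => ?_) (le_inf (Subgroup.centralizer_le_normalizer _)
    (Subgroup.centralizer_le (Set.singleton_subset_iff.2 hy)))
  have hfixy : n * y * n⁻¹ = y := by
    rw [Subgroup.mem_centralizer_singleton_iff.1 hn.2, mul_inv_cancel_right]
  have hy' : (⟨y, hy⟩ : (P : Subgroup G)) ≠ 1 := fun h => hy1 (congrArg Subtype.val h)
  refine Subgroup.mem_centralizer_iff.2 fun w hw => ?_
  rcases F.norm_conj n hn.1 with h | h | h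
  · exact (mul_inv_eq_iff_eq_mul.1 (h ⟨w, hw⟩)).symm
  · exact absurd (F.free _ (Subtype.ext ((h ⟨y, hy⟩).symm.trans hfixy))) hy'
  · exact absurd (F.σ_free2 (Subtype.ext ((h ⟨y, hy⟩).symm.trans hfixy))) hy'

/-- The action on linear characters. -/
noncomputable abbrev τ (F : FreeThree P) (ψ : (P : Subgroup G) →* ℂˣ) :
    (P : Subgroup G) →* ℂˣ :=
  ψ.comp F.σ.toMonoidHom

theorem τ_cube (F : FreeThree P) (ψ : (P : Subgroup G) →* ℂˣ) : F.τ (F.τ (F.τ ψ)) = ψ :=
  MonoidHom.ext fun w => congrArg ψ (F.cube w)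

theorem τ_free (F : FreeThree P) {ψ : (P : Subgroup G) →* ℂˣ} (h : F.τ ψ = ψ) : ψ = 1 := by
  let f : ↥(P : Subgroup G) → ↥(P : Subgroup G) := fun w => F.σ w * w⁻¹
  have hinj : Function.Injective f := fun w v hwv => by
    have e : F.σ (w * v⁻¹) = w * v⁻¹ := by
      rw [map_mul, map_inv]
      calc F.σ w * (F.σ v)⁻¹ = f w * w * (f v * v)⁻¹ := by simp [f]
        _ = w * v⁻¹ := by rw [hwv, mul_inv_rev, mul_comm v⁻¹, mul_mul_mul_comm, mul_inv_cancel, one_mul]
    exact mul_inv_eq_one.1 (F.free _ e)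
  refine MonoidHom.ext fun w => ?_
  obtain ⟨v, rfl⟩ := Finite.surjective_iff_bijective.2
    (Finite.injective_iff_bijective.1 hinj) w
  have := DFunLike.congr_fun h v
  simp only [MonoidHom.coe_comp, MulEquiv.coe_toMonoidHom, Function.comp_apply] at this
  simp [f, this]

theorem τ_free2 (F : FreeThree P) {ψ : (P : Subgroup G) →* ℂˣ} (h : F.τ (F.τ ψ) = ψ) : ψ = 1 :=
  F.τ_free (by
    have := F.τ_cube ψ
    rwa [h] at this)

theorem τ_ne_one (F : FreeThree P) {ψ : (P : Subgroup G) →* ℂˣ} (h : ψ ≠ 1) : F.τ ψ ≠ 1 :=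
  fun h' => h (by rw [← F.τ_cube ψ, h']; rfl)

/-- Two linear characters are in one orbit. -/
def Orbit (F : FreeThree P) (ψ φ : (P : Subgroup G) →* ℂˣ) : Prop :=
  ψ = φ ∨ ψ = F.τ φ ∨ ψ = F.τ (F.τ φ)

theorem orbit_sum (F : FreeThree P) {φ : (P : Subgroup G) →* ℂˣ} (hφ : φ ≠ 1)
    (ψ : (P : Subgroup G) →* ℂˣ) [Decidable (ψ = φ)] [Decidable (ψ = F.τ φ)]
    [Decidable (ψ = F.τ (F.τ φ))] [Decidable (F.Orbit ψ φ)] :
    (if ψ = φ then (1 : ℂ) else 0) + (if ψ = F.τ φ then 1 else 0) +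
      (if ψ = F.τ (F.τ φ) then 1 else 0) = if F.Orbit ψ φ then 1 else 0 := by
  by_cases h1 : ψ = φ
  · have h2 : ψ ≠ F.τ φ := fun h => hφ (F.τ_free (h.symm.trans h1))
    have h3 : ψ ≠ F.τ (F.τ φ) := fun h => hφ (F.τ_free2 (h.symm.trans h1))
    rw [if_pos h1, if_neg h2, if_neg h3, if_pos (.inl h1), add_zero, add_zero]
  by_cases h2 : ψ = F.τ φ
  · have h3 : ψ ≠ F.τ (F.τ φ) := fun h => F.τ_ne_one hφ (F.τ_free (h.symm.trans h2))
    rw [if_neg h1, if_pos h2, if_neg h3, if_pos (.inr (.inl h2)), zero_add, add_zero]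
  by_cases h3 : ψ = F.τ (F.τ φ)
  · rw [if_neg h1, if_neg h2, if_pos h3, if_pos (.inr (.inr h3)), zero_add, zero_add]
  · rw [if_neg h1, if_neg h2, if_neg h3, if_neg fun h => h.elim h1 (fun h => h.elim h2 h3)]
    norm_num

end FreeThree

/-- The multiplicity of `ψ` minus that of the trivial character. -/
noncomputable def linCoef (P : Sylow p G) (χ : IrrCharacter G) (ψ : (P : Subgroup G) →* ℂˣ) : ℂ :=
  (Nat.card (P : Subgroup G) : ℂ)⁻¹ *
    ∑ᶠ y : (P : Subgroup G), (χ : G → ℂ) y * (((ψ y⁻¹ : ℂˣ) : ℂ) - 1)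

theorem linCoef_eq [Fintype (P : Subgroup G)] (χ : IrrCharacter G)
    (ψ : (P : Subgroup G) →* ℂˣ) : linCoef P χ ψ = (Nat.card (P : Subgroup G) : ℂ)⁻¹ *
      ∑ y : (P : Subgroup G), (χ : G → ℂ) y * (((ψ y⁻¹ : ℂˣ) : ℂ) - 1) := by
  rw [linCoef, finsum_eq_sum_of_fintype]

theorem lin_sub_one_genChar (ψ : (P : Subgroup G) →* ℂˣ) :
    IsGeneralizedCharacter (P : Subgroup G) (fun y => ((ψ y : ℂˣ) : ℂ) - 1) :=
  ⟨fun y => ((ψ y : ℂˣ) : ℂ), fun _ => 1,
    Cfsg.Agent.Char.IsIrr.isCharacter (Cfsg.Agent.Char.isIrr_linear ψ), Cfsg.Agent.Char.IsChar.one,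
    rfl⟩

theorem linCoef_int (χ : IrrCharacter G) (ψ : (P : Subgroup G) →* ℂˣ) :
    ∃ n : ℤ, linCoef P χ ψ = n := by
  cases nonempty_fintype (P : Subgroup G)
  obtain ⟨n, hn⟩ := Cfsg.Agent.Char.IsGenChar.classInner_int
    (Cfsg.Agent.Char.IsGenChar.of_isCharacter
      (Cfsg.Agent.Char.IsChar.res (irr_isChar χ) (P : Subgroup G))) (lin_sub_one_genChar ψ)
  refine ⟨n, ?_⟩
  rw [← hn, linCoef_eq, classInner]
  simp only [map_sub, map_one, lin_conj]

theorem linCoef_trivial {ψ : (P : Subgroup G) →* ℂˣ} (hψ : ψ ≠ 1) :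
    linCoef P (trivialIrr G) ψ = -1 := by
  classical
  cases nonempty_fintype (P : Subgroup G)
  rw [linCoef_eq]
  simp only [show ∀ g : G, (trivialIrr G : G → ℂ) g = 1 from fun _ => rfl, one_mul,
    Finset.sum_sub_distrib, Finset.sum_const, nsmul_eq_mul, mul_one, Finset.card_univ]
  rw [Fintype.sum_equiv (Equiv.inv (P : Subgroup G)) (fun y => ((ψ y⁻¹ : ℂˣ) : ℂ))
    (fun y => ((ψ y : ℂˣ) : ℂ)) fun y => rfl, lin_sum_elements, if_neg hψ,
    ← Nat.card_eq_fintype_card]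
  field_simp [Nat.card_pos.ne']
  ring

theorem linCoef_one (χ : IrrCharacter G) : linCoef P χ 1 = 0 := by
  cases nonempty_fintype (P : Subgroup G)
  simp [linCoef_eq]

theorem value_eq_linCoef [Fintype ((P : Subgroup G) →* ℂˣ)] (χ : IrrCharacter G)
    {y : (P : Subgroup G)} (hy : y ≠ 1) :
    (χ : G → ℂ) y = ∑ ψ : (P : Subgroup G) →* ℂˣ, linCoef P χ ψ * ((ψ y : ℂˣ) : ℂ) := by
  classical
  cases nonempty_fintype (P : Subgroup G)
  rw [lin_expand (fun y : (P : Subgroup G) => (χ : G → ℂ) y) y]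
  have h : ∀ ψ : (P : Subgroup G) →* ℂˣ, linCoef P χ ψ * ((ψ y : ℂˣ) : ℂ) =
      ((Nat.card (P : Subgroup G) : ℂ)⁻¹ * ∑ x : (P : Subgroup G),
        (χ : G → ℂ) x * ((ψ x⁻¹ : ℂˣ) : ℂ)) * ((ψ y : ℂˣ) : ℂ) -
      ((Nat.card (P : Subgroup G) : ℂ)⁻¹ * ∑ x : (P : Subgroup G), (χ : G → ℂ) x) *
        ((ψ y : ℂˣ) : ℂ) := fun ψ => by
    rw [linCoef_eq, ← sub_mul, ← mul_sub, ← Finset.sum_sub_distrib]
    simp only [mul_sub, mul_one]
  rw [Finset.sum_congr rfl fun ψ _ => h ψ, Finset.sum_sub_distrib, ← Finset.mul_sum,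
    lin_sum_hom, if_neg hy, mul_zero, sub_zero]

theorem linCoef_orth (hM : IsPModular p M) (ψ : (P : Subgroup G) →* ℂˣ) (f : IrrCharacter G → ℂ)
    (hf : ∀ y : (P : Subgroup G), ψ y ≠ 1 →
      ∑ᶠ χ ∈ principalBlock M G, f χ * (χ : G → ℂ) y = 0) :
    ∑ᶠ χ ∈ principalBlock M G, linCoef P χ ψ * f χ = 0 := by
  classical
  cases nonempty_fintype G
  cases nonempty_fintype (P : Subgroup G)
  rw [finsum_mem_block]
  simp only [linCoef_eq, Finset.mul_sum, Finset.sum_mul]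
  rw [Finset.sum_comm, Finset.sum_eq_zero]
  intro y _
  by_cases hy : ψ y = 1
  · exact Finset.sum_eq_zero fun χ _ => by simp [map_inv, hy]
  · rw [Finset.sum_congr rfl (g := fun χ => ((Nat.card (P : Subgroup G) : ℂ)⁻¹ *
      (((ψ y⁻¹ : ℂˣ) : ℂ) - 1)) * (f χ * (χ : G → ℂ) (y : G))) fun χ _ => by ring,
      ← Finset.mul_sum, ← finsum_mem_block, hf y hy, mul_zero]

theorem linCoef_deg (hM : IsPModular p M) (ψ : (P : Subgroup G) →* ℂˣ) :
    ∑ᶠ χ ∈ principalBlock M G, linCoef P χ ψ * (χ : G → ℂ) 1 = 0 := by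
  refine linCoef_orth hM ψ _ fun y hy => ?_
  rw [← principal_pElem_orth hM (pPow_of_mem P.isPGroup' y.2) ⟨0, by rw [orderOf_one, pow_zero]⟩
    (fun h => hy (by rw [Subtype.ext (isConj_one_right.1 h.symm) (a2 := (1 : (P : Subgroup G))),
      map_one]))]
  refine finsum_congr fun χ => finsum_congr fun _ => ?_
  rw [charDeg_spec' χ, Complex.conj_natCast, mul_comm]

theorem linCoef_gram (hM : IsPModular p M) (F : FreeThree P)
    {ψ φ : (P : Subgroup G) →* ℂˣ} (hψ : ψ ≠ 1) (hφ : φ ≠ 1) [Decidable (F.Orbit ψ φ)] :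
    ∑ᶠ χ ∈ principalBlock M G, linCoef P χ ψ * conj (linCoef P χ φ) =
      (if F.Orbit ψ φ then 1 else 0) + 3 := by
  classical
  cases nonempty_fintype G
  cases nonempty_fintype (P : Subgroup G)
  cases nonempty_fintype (Subgroup.normalizer ((P : Subgroup G) : Set G))
  set U : Set G := {y | y ∈ (P : Subgroup G) ∧ y ≠ 1}
  have hfus : ∀ u ∈ U, ∀ g : G, g * u * g⁻¹ ∈ ((P : Subgroup G) : Set G) →
      ∃ n ∈ Subgroup.normalizer ((P : Subgroup G) : Set G), n * u * n⁻¹ = g * u * g⁻¹ := by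
    intro u hu g hgu
    rcases (F.conj_iff (y := ⟨u, hu.1⟩) (x := ⟨g * u * g⁻¹, hgu⟩)).1 (isConj_iff.2 ⟨g, rfl⟩)
      with h | h | h <;> have h' := congrArg Subtype.val h
    · exact ⟨1, one_mem _, by simpa using h'.symm⟩
    · exact ⟨F.gen, F.gen_mem, h'.symm⟩
    · exact ⟨F.gen * F.gen, mul_mem F.gen_mem F.gen_mem, by
        simpa [sylowConj_val, mul_assoc] using h'.symm⟩
  set cC : ℂ := (Nat.card ↥(Subgroup.centralizer ((P : Subgroup G) : Set G)) : ℂ)
  have hcC : cC ≠ 0 := Nat.cast_ne_zero.2 Nat.card_pos.ne'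
  set q : ℂ := (Nat.card (P : Subgroup G) : ℂ) with hq
  have hq0 : q ≠ 0 := Nat.cast_ne_zero.2 Nat.card_pos.ne'
  have hw : ∀ y ∈ U, ∑ᶠ ξ ∈ principalBlock M (Subgroup.centralizer ({y} : Set G)),
      ((charDegree (ξ : Subgroup.centralizer ({y} : Set G) → ℂ) : ℕ) : ℂ) ^ 2 =
      q / cC * Nat.card ↥(Subgroup.normalizer ((P : Subgroup G) : Set G) ⊓
        Subgroup.centralizer ({y} : Set G)) := by
    intro y hy
    obtain ⟨K, k, hKn, hK, hidx, hk, -⟩ :=
      abelian_centralizer_complement P hy.1 (F.norm_inf_centralizer hy.1 hy.2).le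
    have h := principal_column_complement hM hK hidx
      (y := (1 : Subgroup.centralizer ({y} : Set G))) (by
        rw [orderOf_one]; exact (Fact.out : p.Prime).not_dvd_one)
    have hfac : (Nat.card (Subgroup.centralizer ({y} : Set G))).factorization p = k := by
      rw [← K.card_mul_index, hidx, Nat.factorization_mul Nat.card_pos.ne'
        (pow_ne_zero _ (Fact.out : p.Prime).ne_zero), Finsupp.add_apply,
        Nat.factorization_eq_zero_of_not_dvd hK, Nat.Prime.factorization_pow Fact.out,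
        Finsupp.single_eq_same, zero_add]
    rw [F.norm_inf_centralizer hy.1 hy.2, div_mul_cancel₀ _ hcC, hq, hk, ← hfac, ← h]
    refine finsum_congr fun ξ => finsum_congr fun _ => ?_
    rw [charDeg_spec' ξ, Complex.conj_natCast, sq]
  have hid := principal_inner_identity hM (P : Subgroup G) P.isPGroup'
    (Subgroup.normalizer ((P : Subgroup G) : Set G)) le_rfl U hfus _ hw
    (η := fun y => ((φ y : ℂˣ) : ℂ) - 1) (lin_sub_one_genChar ψ) (fun y hy => by
      have h1 : y = 1 := by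
        by_contra h
        exact hy ⟨y.2, fun h' => h (Subtype.ext h')⟩
      simp [h1])
  simp only [← linCoef_eq] at hid
  rw [hid]
  have hext : ∀ x : (P : Subgroup G), extendByZero (P : Subgroup G)
      (fun y => ((φ y : ℂˣ) : ℂ) - 1) (x : G) = ((φ x : ℂˣ) : ℂ) - 1 :=
    fun x => Subtype.val_injective.extend_apply _ (0 : G → ℂ) x
  have horb : ∀ y : (P : Subgroup G), y ≠ 1 →
      ∑ n : Subgroup.normalizer ((P : Subgroup G) : Set G), extendByZero (P : Subgroup G)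
        (fun y => ((φ y : ℂˣ) : ℂ) - 1) ((n : G) * y * (n : G)⁻¹) =
      cC * ((((φ y : ℂˣ) : ℂ) - 1) + (((F.τ φ y : ℂˣ) : ℂ) - 1) +
        (((F.τ (F.τ φ) y : ℂˣ) : ℂ) - 1)) := by
    intro y hy
    have hyU : (y : G) ∈ U := ⟨y.2, fun h => hy (Subtype.ext h)⟩
    rw [sum_conj_orbit (P : Subgroup G) _ le_rfl y (fun g hg => hfus y hyU g hg),
      F.norm_inf_centralizer hyU.1 hyU.2]
    congr 1
    rw [show Finset.univ.filter (fun x : (P : Subgroup G) => IsConj (y : G) (x : G)) =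
      {y, F.σ y, F.σ (F.σ y)} by
        ext x
        simp only [Finset.mem_filter, Finset.mem_univ, true_and, Finset.mem_insert,
          Finset.mem_singleton, F.conj_iff]]
    have h1 : y ≠ F.σ y := fun h => hy (F.free y h.symm)
    have h2 : y ≠ F.σ (F.σ y) := fun h => hy (F.σ_free2 h.symm)
    have h3 : F.σ y ≠ F.σ (F.σ y) := fun h => h1 (F.σ.injective h)
    rw [Finset.sum_insert (by simp [h1, h2]), Finset.sum_insert (by simp [h3]),
      Finset.sum_singleton, hext, hext, hext]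
    simp only [FreeThree.τ, MonoidHom.coe_comp, MulEquiv.coe_toMonoidHom, Function.comp_apply]
    ring
  have hpair : ∀ χ : (P : Subgroup G) →* ℂˣ, χ ≠ 1 →
      ∑ y : (P : Subgroup G), (((ψ y : ℂˣ) : ℂ) - 1) * conj (((χ y : ℂˣ) : ℂ) - 1) =
      q * ((if ψ = χ then 1 else 0) + 1) := by
    intro χ hχ
    have e : ∀ y : (P : Subgroup G), (((ψ y : ℂˣ) : ℂ) - 1) * conj (((χ y : ℂˣ) : ℂ) - 1) =
        (((ψ * χ⁻¹) y : ℂˣ) : ℂ) - ((ψ y : ℂˣ) : ℂ) - ((χ⁻¹ y : ℂˣ) : ℂ) + 1 := fun y => by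
      rw [map_sub, map_one, lin_conj, map_inv]
      simp only [MonoidHom.mul_apply, MonoidHom.inv_apply, Units.val_mul]
      ring
    rw [Finset.sum_congr rfl fun y _ => e y, Finset.sum_add_distrib, Finset.sum_sub_distrib,
      Finset.sum_sub_distrib, lin_sum_elements, lin_sum_elements, lin_sum_elements, if_neg hψ,
      if_neg (show ¬ χ⁻¹ = 1 from fun h => hχ (MonoidHom.ext fun x => inv_eq_one.1 (DFunLike.congr_fun h x))), Finset.sum_const, Finset.card_univ, nsmul_eq_mul,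
      ← Nat.card_eq_fintype_card, ← hq]
    have e1 : ψ * χ⁻¹ = 1 ↔ ψ = χ :=
      ⟨fun h => MonoidHom.ext fun x => mul_inv_eq_one.1 (DFunLike.congr_fun h x),
        fun h => MonoidHom.ext fun x => by simp [h]⟩
    simp only [e1]
    split_ifs <;> ring
  have hterm : ∀ y : (P : Subgroup G), (((ψ y : ℂˣ) : ℂ) - 1) *
      conj (∑ n : Subgroup.normalizer ((P : Subgroup G) : Set G), extendByZero (P : Subgroup G)
        (fun y => ((φ y : ℂˣ) : ℂ) - 1) ((n : G) * y * (n : G)⁻¹)) =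
      cC * ((((ψ y : ℂˣ) : ℂ) - 1) * conj (((φ y : ℂˣ) : ℂ) - 1) +
        (((ψ y : ℂˣ) : ℂ) - 1) * conj (((F.τ φ y : ℂˣ) : ℂ) - 1) +
        (((ψ y : ℂˣ) : ℂ) - 1) * conj (((F.τ (F.τ φ) y : ℂˣ) : ℂ) - 1)) := by
    intro y
    rcases eq_or_ne y 1 with h | h
    · subst h; simp
    · rw [horb y h, map_mul, map_add, map_add, Complex.conj_natCast]
      ring
  rw [Finset.sum_congr rfl fun y _ => hterm y, ← Finset.mul_sum, Finset.sum_add_distrib,
    Finset.sum_add_distrib, hpair φ hφ, hpair _ (F.τ_ne_one hφ),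
    hpair _ (F.τ_ne_one (F.τ_ne_one hφ)), ← F.orbit_sum hφ ψ]
  field_simp
  ring

theorem exists_linCoef_ne_zero (hM : IsPModular p M) (hP1 : Nat.card (P : Subgroup G) ≠ 1)
    {χ : IrrCharacter G} (hχ : χ ∈ principalBlock M G) :
    ∃ ψ : (P : Subgroup G) →* ℂˣ, ψ ≠ 1 ∧ linCoef P χ ψ ≠ 0 := by
  classical
  cases nonempty_fintype G
  haveI := lin_finite (H := (P : Subgroup G))
  cases nonempty_fintype ((P : Subgroup G) →* ℂˣ)
  by_contra hall
  push Not at hall
  have hz : ∀ ψ : (P : Subgroup G) →* ℂˣ, linCoef P χ ψ = 0 := fun ψ => by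
    rcases eq_or_ne ψ 1 with h | h
    · rw [h, linCoef_one]
    · exact hall ψ h
  have hvan : ∀ g : G, orderOf g = p → (χ : G → ℂ) g = 0 := fun g hg => by
    obtain ⟨Q, hQ⟩ := (IsPGroup.of_card (p := p) (n := 1) (by
      rw [Nat.card_zpowers, hg, pow_one]) : IsPGroup p (Subgroup.zpowers g)).exists_le_sylow
    obtain ⟨c, hc⟩ := MulAction.exists_smul_eq G Q P
    have hmem : c * g * c⁻¹ ∈ (P : Subgroup G) := by
      rw [← hc]
      exact ⟨g, hQ (Subgroup.mem_zpowers g), rfl⟩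
    rw [← irr_classFun χ g c]
    have hne : (⟨c * g * c⁻¹, hmem⟩ : (P : Subgroup G)) ≠ 1 := fun h => by
      have h' : g = 1 := conj_eq_one_iff.1 (congrArg Subtype.val h)
      rw [h', orderOf_one] at hg
      exact (Fact.out : p.Prime).ne_one hg.symm
    rw [show c * g * c⁻¹ = ((⟨c * g * c⁻¹, hmem⟩ : (P : Subgroup G)) : G) from rfl,
      value_eq_linCoef χ hne]
    simp [hz]
  have hfull := degree_full_of_vanish χ hvan
  have hGf : 1 ≤ (Nat.card G).factorization p := by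
    refine ((Fact.out : p.Prime).dvd_iff_one_le_factorization Nat.card_pos.ne').1 ?_
    obtain ⟨k, hk⟩ := IsPGroup.iff_card.1 P.isPGroup'
    have hk0 : k ≠ 0 := fun h => hP1 (by rw [hk, h, pow_zero])
    exact (dvd_pow_self p hk0).trans (hk ▸ Subgroup.card_subgroup_dvd_card _)
  have h1 := pTors_omega_one hM χ hfull
  have h2 := pTors_omega_ideal (p := p) hM (trivialIrr G) (by
    rw [show ((trivialIrr G : IrrCharacter G) : G → ℂ) = fun _ => (1 : ℂ) from rfl, charDeg_trivial,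
      Nat.factorization_one, Finsupp.zero_apply]
    omega)
  have hcen : CenInt M (fun ξ : IrrCharacter G => omegaFun ξ (pTorsInd p)) := fun g => by
    rw [coeffFun_omegaFun pTorsInd_classFun]
    simp only [pTorsInd]
    split_ifs
    · exact ring_one hM
    · exact ring_zero hM
  have h3 := hcen.congr_block hM (pblock_sameBlock hM isPBlock_principalBlock
    (trivial_mem_principalBlock hM) hχ)
  exact ideal_one hM (h1 ▸ (ideal_congr hM h3).1 h2)

namespace FreeThree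

theorem orbit_refl (F : FreeThree P) (ψ : (P : Subgroup G) →* ℂˣ) : F.Orbit ψ ψ := .inl rfl

theorem orbit_symm (F : FreeThree P) {ψ φ : (P : Subgroup G) →* ℂˣ} (h : F.Orbit ψ φ) :
    F.Orbit φ ψ := by
  rcases h with rfl | rfl | rfl
  · exact .inl rfl
  · exact .inr (.inr (F.τ_cube φ).symm)
  · exact .inr (.inl (F.τ_cube φ).symm)

theorem orbit_ne_one (F : FreeThree P) {ψ φ : (P : Subgroup G) →* ℂˣ} (h : F.Orbit ψ φ)
    (hφ : φ ≠ 1) : ψ ≠ 1 := by
  rcases h with rfl | rfl | rfl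
  · exact hφ
  · exact F.τ_ne_one hφ
  · exact F.τ_ne_one (F.τ_ne_one hφ)

/-- The orbit of a linear character. -/
noncomputable def orbitFinset (F : FreeThree P) (φ : (P : Subgroup G) →* ℂˣ) :
    Finset ((P : Subgroup G) →* ℂˣ) := by
  classical exact {φ, F.τ φ, F.τ (F.τ φ)}

theorem mem_orbitFinset (F : FreeThree P) {ψ φ : (P : Subgroup G) →* ℂˣ} :
    ψ ∈ F.orbitFinset φ ↔ F.Orbit ψ φ := by
  classical
  simp [orbitFinset, Orbit]

theorem card_orbitFinset (F : FreeThree P) {φ : (P : Subgroup G) →* ℂˣ} (hφ : φ ≠ 1) :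
    (F.orbitFinset φ).card = 3 := by
  classical
  rw [orbitFinset]
  exact Finset.card_eq_three.2 ⟨_, _, _, fun h => hφ (F.τ_free h.symm),
    fun h => hφ (F.τ_free2 h.symm), fun h => F.τ_ne_one hφ (F.τ_free h.symm), rfl⟩

theorem exists_fourth (F : FreeThree P) (hbig : 3 + 1 < Nat.card (P : Subgroup G)) :
    (∃ i j : {ψ : (P : Subgroup G) →* ℂˣ // ψ ≠ 1}, ¬ F.Orbit i.1 j.1) ∧
      ∀ i j k : {ψ : (P : Subgroup G) →* ℂˣ // ψ ≠ 1}, ¬ F.Orbit i.1 j.1 → ¬ F.Orbit i.1 k.1 →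
        ¬ F.Orbit j.1 k.1 →
          ∃ l : {ψ : (P : Subgroup G) →* ℂˣ // ψ ≠ 1},
            ¬ F.Orbit i.1 l.1 ∧ ¬ F.Orbit j.1 l.1 ∧ ¬ F.Orbit k.1 l.1 := by
  classical
  haveI := lin_finite (H := (P : Subgroup G))
  cases nonempty_fintype ((P : Subgroup G) →* ℂˣ)
  set S := Finset.univ.erase (1 : (P : Subgroup G) →* ℂˣ)
  have hS : S.card = Nat.card (P : Subgroup G) - 1 := by
    rw [Finset.card_erase_of_mem (Finset.mem_univ _), Finset.card_univ,
      ← Nat.card_eq_fintype_card, CommGroup.card_monoidHom_of_hasEnoughRootsOfUnity]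
  have hsub : ∀ i : {ψ : (P : Subgroup G) →* ℂˣ // ψ ≠ 1}, F.orbitFinset i.1 ⊆ S :=
    fun i ψ hψ => Finset.mem_erase.2 ⟨F.orbit_ne_one (F.mem_orbitFinset.1 hψ) i.2,
      Finset.mem_univ _⟩
  constructor
  · obtain ⟨ψ, hψ⟩ : S.Nonempty := Finset.card_pos.1 (by omega)
    let i : {ψ : (P : Subgroup G) →* ℂˣ // ψ ≠ 1} := ⟨ψ, (Finset.mem_erase.1 hψ).1⟩
    obtain ⟨φ, hφ, hφ'⟩ := Finset.exists_mem_notMem_of_card_lt_card (s := F.orbitFinset i.1)
      (t := S) (by rw [F.card_orbitFinset i.2]; omega)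
    exact ⟨⟨φ, (Finset.mem_erase.1 hφ).1⟩, i, fun h => hφ' (F.mem_orbitFinset.2 h)⟩
  · intro i j k hij hik hjk
    by_contra hno
    push Not at hno
    have hdis : ∀ a b : {ψ : (P : Subgroup G) →* ℂˣ // ψ ≠ 1}, ¬ F.Orbit a.1 b.1 →
        Disjoint (F.orbitFinset a.1) (F.orbitFinset b.1) := by
      intro a b hab
      rw [Finset.disjoint_left]
      intro x hxa hxb
      rw [F.mem_orbitFinset] at hxa hxb
      apply hab
      have ha := F.orbit_symm hxa
      rcases ha with ha | ha | ha <;> rcases hxb with hb | hb | hb <;> rw [ha, hb] <;>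
        simp [Orbit, F.τ_cube]
    have hall : S = F.orbitFinset i.1 ∪ F.orbitFinset j.1 ∪ F.orbitFinset k.1 := by
      refine Finset.Subset.antisymm (fun ψ hψ => ?_)
        (Finset.union_subset (Finset.union_subset (hsub i) (hsub j)) (hsub k))
      have h := hno ⟨ψ, (Finset.mem_erase.1 hψ).1⟩
      simp only [Finset.mem_union, F.mem_orbitFinset]
      by_cases h1 : F.Orbit i.1 ψ
      · exact .inl (.inl (F.orbit_symm h1))
      by_cases h2 : F.Orbit j.1 ψ
      · exact .inl (.inr (F.orbit_symm h2))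
      exact .inr (F.orbit_symm (h h1 h2))
    rw [hall, Finset.card_union_of_disjoint (Finset.disjoint_union_left.2 ⟨hdis i k hik, hdis j k hjk⟩),
      Finset.card_union_of_disjoint (hdis i j hij), F.card_orbitFinset i.2, F.card_orbitFinset j.2,
      F.card_orbitFinset k.2] at hS
    have h10 : Nat.card (P : Subgroup G) = 10 := by omega
    obtain ⟨n, hn⟩ := IsPGroup.iff_card.1 P.isPGroup'
    rw [h10] at hn
    have h2 : 2 ∣ p ^ n := hn ▸ (by norm_num)
    have h5 : 5 ∣ p ^ n := hn ▸ (by norm_num)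
    have e2 := (Nat.prime_dvd_prime_iff_eq Nat.prime_two Fact.out).1 (Nat.prime_two.dvd_of_dvd_pow h2)
    have e5 := (Nat.prime_dvd_prime_iff_eq (by norm_num : Nat.Prime 5) Fact.out).1
      ((by norm_num : Nat.Prime 5).dvd_of_dvd_pow h5)
    omega

end FreeThree

/-- The principal block: three characters constant off the identity and one for each orbit. -/
theorem three_block (hM : IsPModular p M) (F : FreeThree P)
    (hbig : 3 + 1 < Nat.card (P : Subgroup G)) :
    ∃ (a b : IrrCharacter G) (va vb δ : ℤ) (η : ((P : Subgroup G) →* ℂˣ) → IrrCharacter G),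
      (va = 1 ∨ va = -1) ∧ (vb = 1 ∨ vb = -1) ∧ (δ = 1 ∨ δ = -1) ∧
      a ∈ principalBlock M G ∧ b ∈ principalBlock M G ∧ a ≠ trivialIrr G ∧ b ≠ trivialIrr G ∧
      a ≠ b ∧
      (∀ ψ, ψ ≠ 1 → η ψ ∈ principalBlock M G ∧ η ψ ≠ trivialIrr G ∧ η ψ ≠ a ∧ η ψ ≠ b) ∧
      (∀ χ ∈ principalBlock M G, χ = trivialIrr G ∨ χ = a ∨ χ = b ∨ ∃ ψ, ψ ≠ 1 ∧ χ = η ψ) ∧
      (∀ ψ φ, ψ ≠ 1 → φ ≠ 1 → (F.Orbit ψ φ ↔ η ψ = η φ)) ∧
      (∀ y : (P : Subgroup G), y ≠ 1 →
        (a : G → ℂ) y = va ∧ (b : G → ℂ) y = vb ∧ ∀ ψ, ψ ≠ 1 → (η ψ : G → ℂ) y =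
          (δ : ℂ) * (((ψ y : ℂˣ) : ℂ) + ((F.τ ψ y : ℂˣ) : ℂ) + ((F.τ (F.τ ψ) y : ℂˣ) : ℂ))) ∧
      (∀ ψ φ, ψ ≠ 1 → φ ≠ 1 →
        charDegree (η ψ : G → ℂ) = charDegree (η φ : G → ℂ)) ∧
      (∀ ψ, ψ ≠ 1 → ∀ f : IrrCharacter G → ℂ,
        ∑ᶠ χ ∈ principalBlock M G, linCoef P χ ψ * f χ =
          -f (trivialIrr G) - (va : ℂ) * f a - (vb : ℂ) * f b + (δ : ℂ) * f (η ψ)) := by
  classical
  cases nonempty_fintype G
  haveI := lin_finite (H := (P : Subgroup G))
  cases nonempty_fintype ((P : Subgroup G) →* ℂˣ)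
  choose A hA using fun (ψ : (P : Subgroup G) →* ℂˣ) (χ : IrrCharacter G) =>
    linCoef_int (P := P) χ ψ
  set S := Finset.univ.filter (fun χ : IrrCharacter G => χ ∈ principalBlock M G) with hS
  have hoS : trivialIrr G ∈ S :=
    Finset.mem_filter.2 ⟨Finset.mem_univ _, trivial_mem_principalBlock hM⟩
  obtain ⟨hex, hfour⟩ := F.exists_fourth hbig
  have hP1 : Nat.card (P : Subgroup G) ≠ 1 := by omega
  obtain ⟨a, b, sa, sb, δ, η₀, haS, hbS, hao, hbo, hab, hδ, hsa, hsb, hη, hR, hall, hdd⟩ :=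
    three_core (Ψ := {ψ : (P : Subgroup G) →* ℂˣ // ψ ≠ 1}) S hoS
      (fun i j => F.Orbit i.1 j.1) (fun i => F.orbit_refl i.1) (fun i χ => A i.1 χ)
      (fun χ => charDegree (χ : G → ℂ)) (fun χ => charDeg_pos χ)
      (by
        have : ((trivialIrr G : IrrCharacter G) : G → ℂ) = fun _ => (1 : ℂ) := rfl
        rw [this, charDeg_trivial])
      (fun i => by
        have h := hA i.1 (trivialIrr G)
        rw [linCoef_trivial i.2] at h
        exact_mod_cast h.symm)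
      (fun i j => by
        have h := linCoef_gram hM F i.2 j.2
        simp only [hA, map_intCast, finsum_mem_block] at h
        split_ifs at h ⊢ <;> (push_cast at h ⊢; exact_mod_cast h))
      (fun i => by
        have h := linCoef_deg (P := P) hM i.1
        simp only [hA, charDeg_spec', finsum_mem_block] at h
        rw [Finset.sum_congr rfl fun (χ : IrrCharacter G) _ =>
          mul_comm ((charDegree (χ : G → ℂ) : ℕ) : ℤ) (A i.1 χ)]
        exact_mod_cast h)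
      hex hfour
      (fun χ hχ => by
        obtain ⟨ψ, hψ, h⟩ := exists_linCoef_ne_zero hM hP1 (Finset.mem_filter.1 hχ).2
        exact ⟨⟨ψ, hψ⟩, fun h' => h (by rw [hA, show A ψ χ = 0 from h', Int.cast_zero])⟩)
  obtain ⟨ψ₀, hψ₀⟩ : ∃ ψ : (P : Subgroup G) →* ℂˣ, ψ ≠ 1 := ⟨hex.choose.1, hex.choose.2⟩
  let η : ((P : Subgroup G) →* ℂˣ) → IrrCharacter G := fun ψ =>
    if h : ψ ≠ 1 then η₀ ⟨ψ, h⟩ else a
  have hηe : ∀ ψ (h : ψ ≠ 1), η ψ = η₀ ⟨ψ, h⟩ := fun ψ h => dif_pos h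
  have hmem : ∀ χ, χ ∈ S ↔ χ ∈ principalBlock M G := fun χ => by simp [hS]
  refine ⟨a, b, -sa, -sb, δ, η, ?_, ?_, hδ, (hmem a).1 haS, (hmem b).1 hbS, hao, hbo, hab,
    fun ψ hψ => ?_, fun χ hχ => ?_, fun ψ φ hψ hφ => ?_, fun y hy => ?_, fun ψ φ hψ hφ => ?_,
    fun ψ hψ f => ?_⟩
  · omega
  · omega
  · rw [hηe ψ hψ]
    obtain ⟨h1, h2, h3, h4, -⟩ := hη ⟨ψ, hψ⟩
    exact ⟨(hmem _).1 h1, h2, h3, h4⟩
  · rcases hall χ ((hmem χ).2 hχ) with h | h | h | ⟨i, hi⟩
    · exact .inl h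
    · exact .inr (.inl h)
    · exact .inr (.inr (.inl h))
    · exact .inr (.inr (.inr ⟨i.1, i.2, by rw [hηe _ i.2]; exact hi⟩))
  · rw [hηe ψ hψ, hηe φ hφ]
    exact hR ⟨ψ, hψ⟩ ⟨φ, hφ⟩
  · have hval : ∀ χ : IrrCharacter G, (χ : G → ℂ) y =
        ∑ ψ ∈ Finset.univ.erase (1 : (P : Subgroup G) →* ℂˣ), (A ψ χ : ℂ) * ((ψ y : ℂˣ) : ℂ) := by
      intro χ
      rw [value_eq_linCoef χ hy, ← Finset.add_sum_erase _ _ (Finset.mem_univ (1 : (P : Subgroup G) →* ℂˣ)),
        linCoef_one, zero_mul, zero_add]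
      simp only [hA]
    have hsum1 : ∑ ψ ∈ Finset.univ.erase (1 : (P : Subgroup G) →* ℂˣ), ((ψ y : ℂˣ) : ℂ) = -1 := by
      have h := lin_sum_hom (H := (P : Subgroup G)) y
      rw [if_neg hy, ← Finset.add_sum_erase _ _ (Finset.mem_univ (1 : (P : Subgroup G) →* ℂˣ))] at h
      simp only [MonoidHom.one_apply, Units.val_one] at h
      linear_combination h
    refine ⟨?_, ?_, fun ψ hψ => ?_⟩
    · rw [hval, Finset.sum_congr rfl fun ψ hψ => by
        rw [(hη ⟨ψ, Finset.ne_of_mem_erase hψ⟩).2.2.2.2.1], ← Finset.mul_sum, hsum1]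
      push_cast
      ring
    · rw [hval, Finset.sum_congr rfl fun ψ hψ => by
        rw [(hη ⟨ψ, Finset.ne_of_mem_erase hψ⟩).2.2.2.2.2.1], ← Finset.mul_sum, hsum1]
      push_cast
      ring
    · rw [hval, hηe ψ hψ]
      have hterm : ∀ φ ∈ Finset.univ.erase (1 : (P : Subgroup G) →* ℂˣ),
          (A φ (η₀ ⟨ψ, hψ⟩) : ℂ) * ((φ y : ℂˣ) : ℂ) =
            if φ ∈ F.orbitFinset ψ then (δ : ℂ) * ((φ y : ℂˣ) : ℂ) else 0 := by
        intro φ hφ
        obtain ⟨-, -, -, -, -, -, e, hz⟩ := hη ⟨φ, Finset.ne_of_mem_erase hφ⟩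
        obtain ⟨h1, h2, h3, h4, -⟩ := hη ⟨ψ, hψ⟩
        by_cases h : F.Orbit φ ψ
        · rw [if_pos (F.mem_orbitFinset.2 h),
            ← (hR ⟨φ, Finset.ne_of_mem_erase hφ⟩ ⟨ψ, hψ⟩).1 h, e]
        · rw [if_neg fun h' => h (F.mem_orbitFinset.1 h'), hz _ h1 h2 h3 h4 fun h' =>
            h ((hR ⟨φ, Finset.ne_of_mem_erase hφ⟩ ⟨ψ, hψ⟩).2 h'.symm)]
          simp
      rw [Finset.sum_congr rfl hterm, ← Finset.sum_filter, ← Finset.mul_sum]
      congr 1
      rw [show (Finset.univ.erase (1 : (P : Subgroup G) →* ℂˣ)).filter (· ∈ F.orbitFinset ψ) =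
        F.orbitFinset ψ from Finset.ext fun φ => by
          simp only [Finset.mem_filter, Finset.mem_erase, Finset.mem_univ, and_true,
            and_iff_right_iff_imp]
          exact fun h => F.orbit_ne_one (F.mem_orbitFinset.1 h) hψ]
      have h1 : ψ ≠ F.τ ψ := fun h => hψ (F.τ_free h.symm)
      have h2 : ψ ≠ F.τ (F.τ ψ) := fun h => hψ (F.τ_free2 h.symm)
      have h3 : F.τ ψ ≠ F.τ (F.τ ψ) := fun h => F.τ_ne_one hψ (F.τ_free h.symm)
      rw [show F.orbitFinset ψ = ({ψ, F.τ ψ, F.τ (F.τ ψ)} : Finset _) by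
        ext φ; simp [F.mem_orbitFinset, FreeThree.Orbit], Finset.sum_insert (by simp [h1, h2]),
        Finset.sum_insert (by simp [h3]), Finset.sum_singleton]
      ring
  · rw [hηe ψ hψ, hηe φ hφ]
    exact hdd ⟨ψ, hψ⟩ ⟨φ, hφ⟩
  · obtain ⟨h1, h2, h3, h4, e1, e2, e3, hz⟩ := hη ⟨ψ, hψ⟩
    rw [hηe ψ hψ]
    simp only [finsum_mem_block, hA]
    rw [← Finset.sum_subset (s₁ := {trivialIrr G, a, b, η₀ ⟨ψ, hψ⟩})
      (s₂ := Finset.univ.filter (fun χ : IrrCharacter G => χ ∈ principalBlock M G))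
      (by
        simp only [Finset.insert_subset_iff, Finset.singleton_subset_iff]
        exact ⟨hoS, haS, hbS, h1⟩)
      (fun χ hχ hχ' => by
        simp only [Finset.mem_insert, Finset.mem_singleton, not_or] at hχ'
        rw [hz χ hχ hχ'.1 hχ'.2.1 hχ'.2.2.1 hχ'.2.2.2]
        simp)]
    rw [Finset.sum_insert (by simp [hao.symm, hbo.symm, h2.symm]),
      Finset.sum_insert (by simp [hab, h3.symm]), Finset.sum_insert (by simp [h4.symm]),
      Finset.sum_singleton, e1, e2, e3]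
    have h := hA ψ (trivialIrr G)
    rw [linCoef_trivial hψ] at h
    rw [← h]
    push_cast
    ring

end Cfsg.Agent.Block
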