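import Cfsg.Agent.Lib.Block.AbelianThree

/-!
An involution and the principal block for an abelian Sylow subgroup with free automizer of order
three.
-/

open scoped ComplexConjugate IsMulCommutative

namespace Cfsg.Agent.Block

set_option linter.unusedSectionVars false
set_option linter.style.haveILetI false

universe u

variable {G : Type u} [Group G] [Finite G] {p : ℕ} {M : Ideal AlgInt}

/-- The product formula for an involution when no product of two conjugates has `p`-part in the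
class of `y`. -/
theorem block_involution_product' [Fact p.Prime] (hM : IsPModular p M)
    {B : Set (IrrCharacter G)} (hB : IsPBlock M B) {t y : G}
    (hy : ∃ k : ℕ, orderOf y = p ^ k)
    (hpair : ∀ g u z : G, IsPPart p u z → IsConj y z → ¬ IsConj (t * (g * t * g⁻¹)) u⁻¹) :
    ∑ᶠ χ ∈ B, (χ : G → ℂ) t ^ 2 / (χ : G → ℂ) 1 * (χ : G → ℂ) y = 0 := by
  classical
  cases nonempty_fintype G
  set ϑ : G → ℂ := ∑ χ : IrrCharacter G,
    ((χ : G → ℂ) t ^ 2 / (χ : G → ℂ) 1) • (χ : G → ℂ) with hϑ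
  have hvan : ∀ u z : G, IsPPart p u z → IsConj y z → ϑ u = 0 := by
    intro u z hu hyz
    have hexp : ϑ u = (Nat.card G : ℂ)⁻¹ * ∑ g : G, ∑ χ : IrrCharacter G,
        (χ : G → ℂ) (t * (g * t * g⁻¹)) * conj ((χ : G → ℂ) u⁻¹) := by
      rw [hϑ, Cfsg.Agent.Char.sum_irr_apply, Finset.sum_comm, Finset.mul_sum]
      refine Finset.sum_congr rfl fun χ _ => ?_
      rw [← Finset.sum_mul, sum_mul_conj, irr_apply_inv, Complex.conj_conj]
      field_simp [Nat.card_pos.ne']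
    rw [hexp, Finset.sum_eq_zero, mul_zero]
    intro g _
    rw [Cfsg.Agent.Char.sum_irr_mul_conj, if_neg (hpair g u z hu hyz)]
  have h := blockPart_eq_zero_of_vanish hM hvan hB (isPPart_self_of_pPow hy) (IsConj.refl y)
  rw [blockPart, finsum_mem_block] at h
  rw [finsum_mem_block, ← h]
  refine Finset.sum_congr rfl fun χ _ => ?_
  congr 1
  have hcoef := Cfsg.Agent.Char.classInner_sum_irr
    (fun φ : IrrCharacter G => (φ : G → ℂ) t ^ 2 / (φ : G → ℂ) 1) χ
  rw [← hcoef, hϑ]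
  simp only [classInner]
  congr!

theorem pair_inverts [Fact p.Prime] {t g u z : G} (ht : t * t = 1) (hu : IsPPart p u z)
    (hc : IsConj (t * (g * t * g⁻¹)) u⁻¹) :
    ∃ h : G, (h * t * h⁻¹) * u * (h * t * h⁻¹)⁻¹ = u⁻¹ ∧
      (h * t * h⁻¹) * z * (h * t * h⁻¹)⁻¹ = z⁻¹ ∧
      IsConj t ((h * t * h⁻¹) * u⁻¹) := by
  obtain ⟨h, hh⟩ := isConj_iff.1 hc
  refine ⟨h, ?_⟩
  set T := h * t * h⁻¹ with hT
  set T' := h * (g * t * g⁻¹) * h⁻¹ with hT'
  have hTT : T * T = 1 := by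
    calc T * T = h * (t * t) * h⁻¹ := by rw [hT]; group
      _ = 1 := by rw [ht]; group
  have hTT' : T' * T' = 1 := by
    calc T' * T' = h * g * (t * t) * (h * g)⁻¹ := by rw [hT']; group
      _ = 1 := by rw [ht]; group
  have hprod : T * T' = u⁻¹ := by rw [← hh, hT, hT']; group
  have hu' : T * u * T⁻¹ = u⁻¹ := by
    have : u = T' * T := by
      rw [← inv_inv u, ← hprod, mul_inv_rev, inv_eq_of_mul_eq_one_right hTT,
        inv_eq_of_mul_eq_one_right hTT']
    calc T * u * T⁻¹ = T * (T' * T) * T⁻¹ := by rw [this]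
      _ = T * T' := by group
      _ = u⁻¹ := hprod
  obtain ⟨v, hzv, hcomm, ⟨k, hk⟩, hv⟩ := hu
  have h1 : IsPPart p u⁻¹ z⁻¹ := ⟨v⁻¹, by rw [← hzv, mul_inv_rev, hcomm.inv_inv.eq],
    hcomm.inv_inv, ⟨k, by rw [orderOf_inv, hk]⟩, by rwa [orderOf_inv]⟩
  have h2 : IsPPart p u⁻¹ (T * z * T⁻¹) := ⟨T * v * T⁻¹,
    by rw [← hu', ← hzv]; group, hcomm.map (MulAut.conj T).toMonoidHom,
    ⟨k, by rw [show T * z * T⁻¹ = MulAut.conj T z from rfl, MulEquiv.orderOf_eq, hk]⟩,
    by rwa [show T * v * T⁻¹ = MulAut.conj T v from rfl, MulEquiv.orderOf_eq]⟩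
  refine ⟨hu', pPart_unique h2 h1, isConj_iff.2 ⟨h * g, ?_⟩⟩
  rw [← hprod, ← mul_assoc, hTT, one_mul, hT']
  group

variable [Fact p.Prime] {P : Sylow p G} [IsMulCommutative (P : Subgroup G)]

namespace FreeThree

theorem sq_eq_one_of_inverted (F : FreeThree P) {y : (P : Subgroup G)}
    (h : IsConj (y : G) (y : G)⁻¹) : y ^ 2 = 1 := by
  rcases (F.conj_iff (x := y⁻¹)).1 h with e | e | e
  · rw [sq]; nth_rewrite 1 [← e]; exact inv_mul_cancel y
  · have h2 : F.σ (F.σ y) = y := by rw [← e, map_inv, ← e, inv_inv]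
    rw [F.σ_free2 h2, one_pow]
  · have h2 : F.σ (F.σ (F.σ (F.σ y))) = y := by rw [← e, map_inv, map_inv, ← e, inv_inv]
    rw [F.cube] at h2
    rw [F.free y h2, one_pow]

theorem orbit_prod (F : FreeThree P) (y : (P : Subgroup G)) : y * F.σ y * F.σ (F.σ y) = 1 := by
  refine F.free _ ?_
  rw [map_mul, map_mul, F.cube, mul_comm (F.σ y * F.σ (F.σ y)) y, ← mul_assoc]

/-- A proper subgroup containing the involution classes and their products. -/
theorem exists_safe (hM : IsPModular p M) (F : FreeThree P)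
    (hbig : 3 + 1 < Nat.card (P : Subgroup G)) {t : G} (ht : orderOf t = 2) :
    ∃ W : Subgroup (P : Subgroup G), W ≠ ⊤ ∧ ∀ y : (P : Subgroup G), y ∉ W →
      ¬ IsConj (y : G) t ∧
      ∑ᶠ χ ∈ principalBlock M G, (χ : G → ℂ) t ^ 2 / (χ : G → ℂ) 1 * (χ : G → ℂ) y = 0 := by
  classical
  have ht2 : t * t = 1 := by rw [← pow_two, ← ht]; exact pow_orderOf_eq_one t
  by_cases hE : ∃ y : (P : Subgroup G), y ^ 2 ≠ 1
  · refine ⟨(powMonoidHom (α := (P : Subgroup G)) 2).ker, fun htop => ?_, fun y hy => ⟨fun hc => ?_, ?_⟩⟩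
    · obtain ⟨y, hy⟩ := hE
      exact hy (MonoidHom.mem_ker.1 (htop ▸ Subgroup.mem_top y))
    · refine hy (MonoidHom.mem_ker.2 (F.sq_eq_one_of_inverted ?_))
      obtain ⟨c, hc'⟩ := isConj_iff.1 hc.symm
      have e : (y : G)⁻¹ = y := by
        rw [← hc']
        refine inv_eq_of_mul_eq_one_right ?_
        calc c * t * c⁻¹ * (c * t * c⁻¹) = c * (t * t) * c⁻¹ := by group
          _ = 1 := by rw [ht2]; group
      rw [e]
    · refine block_involution_product' hM isPBlock_principalBlock (pPow_of_mem P.isPGroup' y.2) ?_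
      intro g u z hu hyz hc
      obtain ⟨h, -, hz, -⟩ := pair_inverts ht2 hu hc
      refine hy (MonoidHom.mem_ker.2 (F.sq_eq_one_of_inverted ?_))
      have hzz : IsConj z z⁻¹ := isConj_iff.2 ⟨h * t * h⁻¹, hz⟩
      refine hyz.trans (hzz.trans ?_)
      obtain ⟨c, hc'⟩ := isConj_iff.1 hyz.symm
      exact isConj_iff.2 ⟨c, by rw [← hc']; group⟩
  · push Not at hE
    have hp2 : p = 2 := by
      obtain ⟨k, hk⟩ := IsPGroup.iff_card.1 P.isPGroup'
      have hk0 : k ≠ 0 := fun h => by rw [h, pow_zero] at hk; omega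
      obtain ⟨y, hy⟩ := exists_prime_orderOf_dvd_card' (G := (P : Subgroup G)) p
        (hk ▸ dvd_pow_self p hk0)
      have h2 : p ∣ 2 := hy ▸ orderOf_dvd_of_pow_eq_one (hE y)
      exact (Nat.prime_dvd_prime_iff_eq Fact.out Nat.prime_two).1 h2
    subst hp2
    obtain ⟨Q, hQ⟩ := (IsPGroup.of_card (p := 2) (n := 1) (by
      rw [Nat.card_zpowers, ht, pow_one]) : IsPGroup 2 (Subgroup.zpowers t)).exists_le_sylow
    obtain ⟨c₀, hc₀⟩ := MulAction.exists_smul_eq G Q P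
    have hmem : c₀ * t * c₀⁻¹ ∈ (P : Subgroup G) := by
      rw [← hc₀]
      exact ⟨t, hQ (Subgroup.mem_zpowers t), rfl⟩
    set a : (P : Subgroup G) := ⟨c₀ * t * c₀⁻¹, hmem⟩
    have hat : IsConj t (a : G) := isConj_iff.2 ⟨c₀, rfl⟩
    let f : Subgroup.zpowers a × Subgroup.zpowers (F.σ a) →* (P : Subgroup G) :=
      (Subgroup.zpowers a).subtype.coprod (Subgroup.zpowers (F.σ a)).subtype
    have hsq : ∀ x : (P : Subgroup G), x⁻¹ = x := fun x =>
      inv_eq_of_mul_eq_one_right (by rw [← pow_two]; exact hE x)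
    have hWa : a ∈ f.range := ⟨(⟨a, Subgroup.mem_zpowers a⟩, 1), by simp [f]⟩
    have hWb : F.σ a ∈ f.range := ⟨(1, ⟨F.σ a, Subgroup.mem_zpowers _⟩), by simp [f]⟩
    have hWc : F.σ (F.σ a) ∈ f.range := by
      rw [show F.σ (F.σ a) = (a * F.σ a)⁻¹ from eq_inv_of_mul_eq_one_right (F.orbit_prod a)]
      exact inv_mem (mul_mem hWa hWb)
    have horbit : ∀ x : (P : Subgroup G), IsConj t (x : G) → x ∈ f.range := fun x hx => by
      rcases F.conj_iff.1 (hat.symm.trans hx) with e | e | e <;> rw [e] <;> assumption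
    refine ⟨f.range, fun htop => ?_, fun y hy => ⟨fun hc => hy (horbit y hc.symm), ?_⟩⟩
    · have h1 : Nat.card f.range ≤ Nat.card (Subgroup.zpowers a × Subgroup.zpowers (F.σ a)) :=
        Nat.card_le_card_of_surjective f.rangeRestrict f.rangeRestrict_surjective
      rw [htop, Subgroup.card_top, Nat.card_prod, Nat.card_zpowers, Nat.card_zpowers] at h1
      have ha2 : orderOf a ≤ 2 := orderOf_le_of_pow_eq_one two_pos (hE a)
      have hb2 : orderOf (F.σ a) ≤ 2 := orderOf_le_of_pow_eq_one two_pos (hE _)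
      have := Nat.mul_le_mul ha2 hb2
      omega
    refine block_involution_product' hM isPBlock_principalBlock (pPow_of_mem P.isPGroup' y.2) ?_
    intro g u z hu hyz hc
    have hy1 : (y : G) ≠ 1 := fun h => hy (by
      rw [show y = 1 from Subtype.ext h]; exact one_mem _)
    obtain ⟨h, hTu, hTz, hT'⟩ := pair_inverts ht2 hu hc
    obtain ⟨c, hcz⟩ := isConj_iff.1 hyz.symm
    -- move the pair into the centralizer of `y`
    set T := c * (h * t * h⁻¹) * c⁻¹ with hT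
    have hTy : T * (y : G) * T⁻¹ = y := by
      have e : (y : G)⁻¹ = y := congrArg Subtype.val (hsq y)
      calc T * (y : G) * T⁻¹ = c * ((h * t * h⁻¹) * z * (h * t * h⁻¹)⁻¹) * c⁻¹ := by
            rw [hT, ← hcz]; group
        _ = (c * z * c⁻¹)⁻¹ := by rw [hTz]; group
        _ = y := by rw [hcz, e]
    obtain ⟨v, hzv, hcomm, ⟨k, hk⟩, hv⟩ := hu
    have hTC : T ∈ Subgroup.centralizer ({(y : G)} : Set G) :=
      Subgroup.mem_centralizer_singleton_iff.2 (mul_inv_eq_iff_eq_mul.1 hTy)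
    have hvC : c * v * c⁻¹ ∈ Subgroup.centralizer ({(y : G)} : Set G) :=
      Subgroup.mem_centralizer_singleton_iff.2 (by
        rw [← hcz]
        calc c * v * c⁻¹ * (c * z * c⁻¹) = c * (v * z) * c⁻¹ := by group
          _ = c * (z * v) * c⁻¹ := by rw [hcomm.eq]
          _ = c * z * c⁻¹ * (c * v * c⁻¹) := by group)
    obtain ⟨K, k', hKn, hK, hidx, -, hrep⟩ :=
      abelian_centralizer_complement P y.2 (F.norm_inf_centralizer y.2 hy1).le
    haveI := hKn
    let q := QuotientGroup.mk' K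
    have hqP : ∀ r, ∃ s : Subgroup.centralizer ({(y : G)} : Set G),
        (s : G) ∈ (P : Subgroup G) ∧ q r = q s := fun r => by
      obtain ⟨s, hs, hs'⟩ := hrep r
      exact ⟨s, hs, (QuotientGroup.eq (s := K)).2 hs'⟩
    have hqc : ∀ r₁ r₂, q r₁ * q r₂ = q r₂ * q r₁ := fun r₁ r₂ => by
      obtain ⟨s₁, hs₁, e₁⟩ := hqP r₁
      obtain ⟨s₂, hs₂, e₂⟩ := hqP r₂
      rw [e₁, e₂, ← map_mul, ← map_mul]
      exact congrArg q (Subtype.ext
        (congrArg Subtype.val (mul_comm (⟨_, hs₁⟩ : (P : Subgroup G)) ⟨_, hs₂⟩) :))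
    have hPK : ∀ x : Subgroup.centralizer ({(y : G)} : Set G),
        (x : G) ∈ (P : Subgroup G) → x ∈ K → x = 1 := by
      intro x hx hxK
      obtain ⟨i, hi⟩ := pPow_of_mem P.isPGroup' hx
      rw [← orderOf_eq_one_iff]
      have hdvd := orderOf_dvd_natCard (⟨x, hxK⟩ : K)
      rw [Subgroup.orderOf_mk] at hdvd
      exact Nat.eq_one_of_dvd_coprimes (Nat.Coprime.pow_left i
        ((Fact.out : Nat.Prime 2).coprime_iff_not_dvd.2 hK)) (by rw [← Subgroup.orderOf_coe, hi]) hdvd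
    -- each involution of the centralizer in the class of `t` maps into the orbit
    have hinv : ∀ r : Subgroup.centralizer ({(y : G)} : Set G), IsConj t (r : G) →
        ∃ s : Subgroup.centralizer ({(y : G)} : Set G),
          (∃ x ∈ f.range, (x : G) = (s : G)) ∧ q r = q s := by
      intro r hr
      have hr2 : orderOf r = 2 := by
        obtain ⟨d, hd⟩ := isConj_iff.1 hr
        rw [← Subgroup.orderOf_coe, ← hd, show d * t * d⁻¹ = MulAut.conj d t from rfl,
          MulEquiv.orderOf_eq, ht]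
      let Q₀ : Sylow 2 (Subgroup.centralizer ({(y : G)} : Set G)) := P.subtype (fun w hw =>
        Subgroup.mem_centralizer_singleton_iff.2
          (congrArg Subtype.val (mul_comm (⟨w, hw⟩ : (P : Subgroup G)) y)))
      obtain ⟨R, hR⟩ := (IsPGroup.of_card (p := 2) (n := 1) (by
        rw [Nat.card_zpowers, hr2, pow_one]) : IsPGroup 2 (Subgroup.zpowers r)).exists_le_sylow
      obtain ⟨d, hd⟩ := MulAction.exists_smul_eq (Subgroup.centralizer ({(y : G)} : Set G)) R Q₀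
      have hs : d * r * d⁻¹ ∈ (Q₀ : Subgroup (Subgroup.centralizer ({(y : G)} : Set G))) := by
        rw [← hd]
        exact ⟨r, hR (Subgroup.mem_zpowers r), rfl⟩
      have hsP : ((d * r * d⁻¹ : Subgroup.centralizer ({(y : G)} : Set G)) : G) ∈
          (P : Subgroup G) := by
        simpa [Q₀, Sylow.coe_subtype, Subgroup.mem_subgroupOf] using hs
      refine ⟨d * r * d⁻¹, ⟨⟨_, hsP⟩, horbit _ (hr.trans (isConj_iff.2 ⟨(d : G), rfl⟩)), rfl⟩, ?_⟩
      rw [map_mul, map_mul, hqc d r, mul_assoc, ← map_mul, mul_inv_cancel, map_one, mul_one]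
    have huC : c * u⁻¹ * c⁻¹ ∈ Subgroup.centralizer ({(y : G)} : Set G) := by
      have : c * u⁻¹ * c⁻¹ = (c * v * c⁻¹)⁻¹ * (y : G)⁻¹ := by rw [← hcz, ← hzv]; group
      rw [this]
      exact mul_mem (inv_mem hvC) (inv_mem (centralizer_self_mem _))
    set rT : Subgroup.centralizer ({(y : G)} : Set G) := ⟨T, hTC⟩
    set ru : Subgroup.centralizer ({(y : G)} : Set G) := ⟨c * u⁻¹ * c⁻¹, huC⟩
    obtain ⟨s₁, ⟨x₁, hx₁, e₁⟩, hq₁⟩ := hinv rT
      (isConj_iff.2 ⟨c * h, by show _ = T; rw [hT]; group⟩)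
    obtain ⟨s₂, ⟨x₂, hx₂, e₂⟩, hq₂⟩ := hinv (rT * ru) (by
      refine hT'.trans (isConj_iff.2 ⟨c, ?_⟩)
      show _ = T * (c * u⁻¹ * c⁻¹)
      rw [hT]; group)
    set ry : Subgroup.centralizer ({(y : G)} : Set G) := ⟨y, centralizer_self_mem _⟩
    have hrv : q ru = q ry⁻¹ := by
      set rv : Subgroup.centralizer ({(y : G)} : Set G) := ⟨c * v * c⁻¹, hvC⟩
      have hrvK : rv ∈ K := regular_mem_of_index_pPow hidx (by
        rw [← Subgroup.orderOf_coe]
        show ¬ 2 ∣ orderOf (c * v * c⁻¹)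
        rw [show c * v * c⁻¹ = MulAut.conj c v from rfl, MulEquiv.orderOf_eq]
        exact hv)
      have : ru = rv⁻¹ * ry⁻¹ := Subtype.ext (by
        show c * u⁻¹ * c⁻¹ = (c * v * c⁻¹)⁻¹ * (y : G)⁻¹
        rw [← hcz, ← hzv]; group)
      rw [this, map_mul, map_inv, show q rv = 1 from (QuotientGroup.eq_one_iff rv).2 hrvK, inv_one,
        one_mul]
    rw [map_mul, hq₁, hrv] at hq₂
    have hK' : (s₂⁻¹ * (s₁ * ry⁻¹)) ∈ K := by
      refine (QuotientGroup.eq_one_iff (N := K) _).1 ?_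
      show q _ = 1
      rw [map_mul, map_mul, map_inv, hq₂, inv_mul_cancel]
    have h1 := hPK _ (by
      simp only [Subgroup.coe_mul, Subgroup.coe_inv, ← e₁, ← e₂]
      exact mul_mem (inv_mem x₂.2) (mul_mem x₁.2 (inv_mem y.2))) hK'
    apply hy
    have h2 := congrArg Subtype.val h1
    simp only [Subgroup.coe_mul, Subgroup.coe_inv, ← e₁, ← e₂, OneMemClass.coe_one, ry] at h2
    have h3 : y = x₁ * x₂⁻¹ := by
      have h2' : x₂⁻¹ * (x₁ * y⁻¹) = 1 := Subtype.ext h2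
      rw [inv_mul_eq_one, eq_mul_inv_iff_mul_eq] at h2'
      rw [← h2', mul_comm x₂ y, mul_inv_cancel_right]
    rw [h3]
    exact mul_mem hx₁ (inv_mem hx₂)

/-- The orbit map has fibres of size three. -/
theorem card_image_orbits (F : FreeThree P) {X : Type*} [Fintype ((P : Subgroup G) →* ℂˣ)]
    (f : ((P : Subgroup G) →* ℂˣ) → X)
    (hf : ∀ ψ φ, ψ ≠ 1 → φ ≠ 1 → (F.Orbit ψ φ ↔ f ψ = f φ)) :
    Nat.card {x : X // ∃ ψ, ψ ≠ 1 ∧ f ψ = x} * 3 = Nat.card (P : Subgroup G) - 1 := by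
  classical
  set S := Finset.univ.erase (1 : (P : Subgroup G) →* ℂˣ)
  have hS : S.card = Nat.card (P : Subgroup G) - 1 := by
    rw [Finset.card_erase_of_mem (Finset.mem_univ _), Finset.card_univ,
      ← Nat.card_eq_fintype_card, CommGroup.card_monoidHom_of_hasEnoughRootsOfUnity]
  have h1 : Nat.card {x : X // ∃ ψ, ψ ≠ 1 ∧ f ψ = x} = (S.image f).card := by
    rw [← Nat.card_eq_finsetCard]
    exact Nat.card_congr (Equiv.subtypeEquivRight fun x => by simp [S])
  rw [h1, ← hS, Finset.card_eq_sum_card_image f S, Finset.sum_congr rfl (g := fun _ => 3),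
    Finset.sum_const, smul_eq_mul]
  intro x hx
  obtain ⟨ψ, hψ, rfl⟩ := Finset.mem_image.1 hx
  have hψ1 := Finset.ne_of_mem_erase hψ
  rw [← F.card_orbitFinset hψ1]
  congr 1
  ext φ
  simp only [Finset.mem_filter, S, Finset.mem_erase, Finset.mem_univ, and_true, F.mem_orbitFinset]
  constructor
  · rintro ⟨hφ, h⟩
    exact (hf φ ψ hφ hψ1).2 h
  · intro h
    exact ⟨F.orbit_ne_one h hψ1, (hf φ ψ (F.orbit_ne_one h hψ1) hψ1).1 h⟩

end FreeThree

/-- Signs and degrees when an involution generates `G` normally. -/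
theorem three_involution (hM : IsPModular p M) (F : FreeThree P)
    (hbig : 3 + 1 < Nat.card (P : Subgroup G)) {t : G} (ht : orderOf t = 2)
    (htop : ∀ K : Subgroup G, K.Normal → t ∈ K → K = ⊤) {a b : IrrCharacter G} {va vb δ : ℤ}
    {η : ((P : Subgroup G) →* ℂˣ) → IrrCharacter G}
    (hva : va = 1 ∨ va = -1) (hvb : vb = 1 ∨ vb = -1) (hδ : δ = 1 ∨ δ = -1)
    (hao : a ≠ trivialIrr G) (hbo : b ≠ trivialIrr G)
    (hηo : ∀ ψ, ψ ≠ 1 → η ψ ≠ trivialIrr G)
    (hdeg : ∀ ψ φ, ψ ≠ 1 → φ ≠ 1 → charDegree (η ψ : G → ℂ) = charDegree (η φ : G → ℂ))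
    (hmom : ∀ ψ, ψ ≠ 1 → ∀ f : IrrCharacter G → ℂ,
      ∑ᶠ χ ∈ principalBlock M G, linCoef P χ ψ * f χ =
        -f (trivialIrr G) - (va : ℂ) * f a - (vb : ℂ) * f b + (δ : ℂ) * f (η ψ)) :
    ((if va = -1 then 1 else 0) + (if vb = -1 then 1 else 0) + (if δ = 1 then 1 else 0) = 2) ∧
      ∀ ψ, ψ ≠ 1 → IsSquare (charDegree (η ψ : G → ℂ) *
        (charDegree (a : G → ℂ) * charDegree (b : G → ℂ))) := by
  classical
  have ht2 : t * t = 1 := by rw [← pow_two, ← ht]; exact pow_orderOf_eq_one t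
  obtain ⟨W, hW, hsafe⟩ := F.exists_safe hM hbig ht
  obtain ⟨w, hw⟩ : ∃ w, w ∉ W := by
    by_contra h
    push Not at h
    exact hW (eq_top_iff.2 fun x _ => h x)
  haveI : W.Normal := Subgroup.normal_of_isMulCommutative W
  obtain ⟨φ, hφ⟩ := CommGroup.exists_apply_ne_one_of_hasEnoughRootsOfUnity
    ((P : Subgroup G) ⧸ W) ℂ (a := (w : (P : Subgroup G) ⧸ W))
    (fun h => hw ((QuotientGroup.eq_one_iff w).1 h))
  set l : (P : Subgroup G) →* ℂˣ := φ.comp (QuotientGroup.mk' W) with hl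
  have hl1 : l ≠ 1 := fun h => hφ (DFunLike.congr_fun h w)
  have hlW : ∀ y, l y ≠ 1 → y ∉ W := fun y hy hyW => hy (by
    show φ (y : (P : Subgroup G) ⧸ W) = 1
    rw [(QuotientGroup.eq_one_iff y).2 hyW, map_one])
  choose n hn using fun χ : IrrCharacter G => char_involution_int χ ht2
  have hreal : ∀ χ : IrrCharacter G, conj ((χ : G → ℂ) t) = (χ : G → ℂ) t := fun χ => by
    rw [hn, map_intCast]
  have e0 := linCoef_deg (P := P) hM l
  have htinv : t⁻¹ = t := inv_eq_of_mul_eq_one_right ht2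
  have e1 : ∑ᶠ χ ∈ principalBlock M G, linCoef P χ l * (χ : G → ℂ) t = 0 := by
    refine linCoef_orth hM l _ fun y hy => ?_
    obtain ⟨z, v, hzv, hcomm, hz, hv, hz', -⟩ := exists_pPart_zpowers (p := p) t
    have hzt : z = 1 ∨ z = t := by
      obtain ⟨i, rfl⟩ := Subgroup.mem_zpowers_iff.1 hz'
      rw [← zpow_mod_orderOf, ht]
      rcases Int.emod_two_eq_zero_or_one i with h | h
      · left; push_cast; rw [h, zpow_zero]
      · right; push_cast; rw [h, zpow_one]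
    have hne : ¬ IsConj (y : G) z := by
      rcases hzt with rfl | rfl
      · intro h
        exact hy (by rw [show y = 1 from Subtype.ext (isConj_one_right.1 h.symm), map_one])
      · exact (hsafe y (hlW y hy)).1
    rw [← section_orth hM (isPPart_self_of_pPow (pPow_of_mem P.isPGroup' y.2))
      (show IsPPart p t z from ⟨v, hzv, hcomm, hz, hv⟩) hne isPBlock_principalBlock]
    exact finsum_congr fun χ => finsum_congr fun _ => by rw [htinv, mul_comm]
  have e2 : ∑ᶠ χ ∈ principalBlock M G,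
      linCoef P χ l * ((χ : G → ℂ) t ^ 2 / (χ : G → ℂ) 1) = 0 :=
    linCoef_orth hM l _ fun y hy => (hsafe y (hlW y hy)).2
  rw [hmom l hl1] at e0 e1 e2
  set d : IrrCharacter G → ℕ := fun χ => charDegree (χ : G → ℂ) with hd
  have hdpos : ∀ χ, (0 : ℚ) < d χ := fun χ => by exact_mod_cast charDeg_pos χ
  have hx : ∀ χ : IrrCharacter G, χ ≠ trivialIrr G → (n χ : ℚ) / d χ ≠ 1 := by
    intro χ hχ h
    rw [div_eq_one_iff_eq (hdpos χ).ne'] at h
    have hnd : n χ = (d χ : ℤ) := by exact_mod_cast h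
    have hker : (χ : G → ℂ) t = (χ : G → ℂ) 1 := by
      rw [hn, charDeg_spec' χ, hnd]; simp [hd]
    have htop' := htop _ (Cfsg.Agent.Char.charKer_normal (irr_isChar χ))
      ((Cfsg.Agent.Char.mem_charKer _).2 hker)
    cases nonempty_fintype G
    exact hχ (Subtype.ext (Cfsg.Agent.Char.irr_const_eq_one χ.2 fun g =>
      (Cfsg.Agent.Char.mem_charKer _).1 (htop' ▸ Subgroup.mem_top g)))
  have hone : ∀ g, ((trivialIrr G : IrrCharacter G) : G → ℂ) g = 1 := fun _ => rfl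
  have q0 : 1 + (va : ℚ) * d a + (vb : ℚ) * d b + ((-δ : ℤ) : ℚ) * d (η l) = 0 := by
    have hz : 1 + va * (d a : ℤ) + vb * (d b : ℤ) + (-δ) * (d (η l) : ℤ) = 0 := by
      have hc : ((1 + va * (d a : ℤ) + vb * (d b : ℤ) + (-δ) * (d (η l) : ℤ) : ℤ) : ℂ) = 0 := by
        simp only [hone, charDeg_spec' a, charDeg_spec' b, charDeg_spec' (η l)] at e0
        push_cast [hd]
        linear_combination -e0
      exact_mod_cast hc
    exact_mod_cast hz
  have q1 : 1 + (va : ℚ) * d a * ((n a : ℚ) / d a) + (vb : ℚ) * d b * ((n b : ℚ) / d b) +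
      ((-δ : ℤ) : ℚ) * d (η l) * ((n (η l) : ℚ) / d (η l)) = 0 := by
    have hz : 1 + va * n a + vb * n b + (-δ) * n (η l) = 0 := by
      have hc : ((1 + va * n a + vb * n b + (-δ) * n (η l) : ℤ) : ℂ) = 0 := by
        simp only [hone, hn a, hn b, hn (η l)] at e1
        push_cast
        linear_combination -e1
      exact_mod_cast hc
    simp only [mul_assoc, mul_div_cancel₀ _ (hdpos _).ne']
    exact_mod_cast hz
  have q2 : 1 + (va : ℚ) * d a * ((n a : ℚ) / d a) ^ 2 + (vb : ℚ) * d b * ((n b : ℚ) / d b) ^ 2 +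
      ((-δ : ℤ) : ℚ) * d (η l) * ((n (η l) : ℚ) / d (η l)) ^ 2 = 0 := by
    apply (Rat.cast_injective (α := ℂ))
    simp only [hone, hn a, hn b, hn (η l), charDeg_spec' a, charDeg_spec' b,
      charDeg_spec' (η l)] at e2
    have ha : ((d a : ℕ) : ℂ) ≠ 0 := Nat.cast_ne_zero.2 (charDeg_pos a).ne'
    have hb : ((d b : ℕ) : ℂ) ≠ 0 := Nat.cast_ne_zero.2 (charDeg_pos b).ne'
    have he : ((d (η l) : ℕ) : ℂ) ≠ 0 := Nat.cast_ne_zero.2 (charDeg_pos (η l)).ne'
    have e : ∀ (N D : ℂ), D ≠ 0 → D * (N / D) ^ 2 = N ^ 2 / D := fun N D hD => by field_simp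
    push_cast
    rw [mul_assoc (va : ℂ), mul_assoc (vb : ℂ), mul_assoc (-(δ : ℂ)), e _ _ ha, e _ _ hb, e _ _ he]
    simp only [hd] at e2 ⊢
    linear_combination -e2
  obtain ⟨hsign, hsq⟩ := four_sign (w₂ := va) (w₃ := vb) (w₄ := -δ) hva hvb (by omega)
    (charDeg_pos a) (charDeg_pos b) (charDeg_pos (η l)) q0 q1 q2 (hx a hao) (hx b hbo)
    (hx _ (hηo l hl1))
  refine ⟨?_, fun ψ hψ => ?_⟩
  · rw [← hsign]
    simp only [neg_inj]
  · rw [hdeg ψ l hψ hl1, mul_comm]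
    exact hsq

end Cfsg.Agent.Block
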