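import Cfsg.Agent.Lib.Block.ClassProduct
import Cfsg.Agent.Lib.Char.Kernel
import Cfsg.Agent.Lib.Char.CliffordCorr
import Cfsg.Agent.Lib.Grp.Zassenhaus.Basics

/-!
Groups whose irreducible characters are multiplicative on elements of coprime prime power orders.
-/

set_option autoImplicit false
set_option linter.unusedSectionVars false

open scoped commutatorElement

namespace Cfsg.Agent.Block.PrimeMul

open Cfsg Cfsg.Agent.Char

universe u

variable {G : Type u} [Group G] [Finite G]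

/-- Every irreducible character is multiplicative on non-identity elements of prime power orders for
two different primes. -/
def Multiplicative (G : Type u) [Group G] : Prop :=
  ∀ (x y : G) (χ : IrrCharacter G), x ≠ 1 → y ≠ 1 →
    (∃ p q a b : ℕ, p.Prime ∧ q.Prime ∧ p ≠ q ∧ orderOf x = p ^ a ∧ orderOf y = q ^ b) →
    (χ : G → ℂ) (x * y) = (χ : G → ℂ) x * (χ : G → ℂ) y

theorem exists_prime_pow (g : G) (hg : g ≠ 1) :
    ∃ q k : ℕ, q.Prime ∧ orderOf (g ^ k) = q := by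
  obtain ⟨q, hq, hd⟩ := Nat.exists_prime_and_dvd (mt orderOf_eq_one_iff.1 hg)
  exact ⟨q, orderOf g / q, hq, orderOf_pow_orderOf_div (orderOf_pos g).ne' hd⟩

/-- The class of a product is a coset of the derived subgroup. -/
theorem coset (h : Multiplicative G) {x y : G} (hx : x ≠ 1) (hy : y ≠ 1) {p q a b : ℕ} (hp : p.Prime)
    (hq : q.Prime) (hpq : p ≠ q) (hxo : orderOf x = p ^ a) (hyo : orderOf y = q ^ b) (z : G) :
    IsConj (x * y) z ↔ (x * y)⁻¹ * z ∈ commutator G :=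
  (ClassProduct.multiplicative_consequences x y fun u v χ =>
    h _ _ χ (fun e => hx (conj_eq_one_iff.1 e)) (fun e => hy (conj_eq_one_iff.1 e))
      ⟨p, q, a, b, hp, hq, hpq, (MulEquiv.orderOf_eq (MulAut.conj u) x).trans hxo,
        (MulEquiv.orderOf_eq (MulAut.conj v) y).trans hyo⟩).2.2 z

theorem commutator_isPGroup (h : Multiplicative G) {p : ℕ} [hp : Fact p.Prime]
    (hpd : p ∣ Nat.card (commutator G)) : IsPGroup p (commutator G) := by
  obtain ⟨y, hy⟩ := exists_prime_orderOf_dvd_card' p hpd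
  rintro ⟨x, hx⟩
  by_contra hno
  push Not at hno
  -- a power of `x` has order a prime different from `p`
  set w := x ^ p ^ (orderOf x).factorization p with hw
  have hw1 : w ≠ 1 := fun e => hno _ (Subtype.ext e)
  obtain ⟨q, k, hq, hqk⟩ := exists_prime_pow w hw1
  have hqp : q ≠ p := by
    rintro rfl
    have h1 : q ∣ orderOf w := hqk ▸ orderOf_pow_dvd k
    have h2 : w ^ (orderOf x / q ^ (orderOf x).factorization q) = 1 := by
      rw [hw, ← pow_mul, Nat.ordProj_mul_ordCompl_eq_self, pow_orderOf_eq_one]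
    exact Nat.not_dvd_ordCompl hp.out (orderOf_pos x).ne' (h1.trans (orderOf_dvd_of_pow_eq_one h2))
  have hu1 : w ^ k ≠ 1 := fun e => hq.ne_one (by rw [← hqk, e, orderOf_one])
  have hy1 : (y : G) ≠ 1 := fun e => hp.out.ne_one (by rw [← hy, ← Subgroup.orderOf_coe, e, orderOf_one])
  have hc := (coset h hu1 hy1 hq hp.out hqp (a := 1) (b := 1) (by rw [hqk, pow_one])
    (by rw [Subgroup.orderOf_coe, hy, pow_one]) 1).2 (by
      rw [mul_one]
      exact inv_mem (mul_mem (pow_mem (pow_mem hx _) _) y.2))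
  have e : w ^ k * (y : G) = 1 := isConj_one_left.1 hc
  have e2 : orderOf (w ^ k) = orderOf (y : G) := by rw [eq_inv_of_mul_eq_one_left e, orderOf_inv]
  rw [hqk, Subgroup.orderOf_coe, hy] at e2
  exact hqp e2

theorem fpf_on_commutator (h : Multiplicative G) {p : ℕ} [hp : Fact p.Prime]
    (hG' : IsPGroup p (commutator G)) {a : G} (ha : a ≠ 1) (hao : (orderOf a).Coprime p) {d : G}
    (hd : d ∈ commutator G) (hcomm : a * d = d * a) : d = 1 := by
  by_contra hd1
  obtain ⟨q, k, hq, hqk⟩ := exists_prime_pow a ha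
  have hqp : q ≠ p := by
    rintro rfl
    exact hp.out.ne_one (Nat.eq_one_of_dvd_coprimes hao (hqk ▸ orderOf_pow_dvd k) dvd_rfl)
  obtain ⟨i, hi⟩ := IsPGroup.iff_orderOf.1 hG' ⟨d, hd⟩
  rw [← Subgroup.orderOf_coe] at hi
  have hb1 : a ^ k ≠ 1 := fun e => hq.ne_one (by rw [← hqk, e, orderOf_one])
  have hc : Commute d (a ^ k) := (Commute.pow_left (show Commute a d from hcomm) k).symm
  have hconj := (coset h hd1 hb1 hp.out hq (Ne.symm hqp) hi (b := 1) (by rw [hqk, pow_one]) (a ^ k)).2 (by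
    rw [show (d * a ^ k)⁻¹ * a ^ k = d⁻¹ by rw [hc.eq, mul_inv_rev, inv_mul_cancel_right]]
    exact inv_mem hd)
  obtain ⟨g, hg⟩ := isConj_iff.1 hconj
  have h1 : orderOf (d * a ^ k) = orderOf (a ^ k) := by
    conv_rhs => rw [← hg]
    exact (MulEquiv.orderOf_eq (MulAut.conj g) (d * a ^ k)).symm
  rw [hc.orderOf_mul_eq_mul_orderOf_of_coprime (by
    rw [hi, hqk]; exact ((Nat.coprime_primes hp.out hq).2 (Ne.symm hqp)).pow_left i)] at h1
  have h2 : orderOf d = 1 := (mul_eq_right₀ (orderOf_pos _).ne').1 h1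
  exact hd1 (orderOf_eq_one_iff.1 h2)

/-- An abelian group acting fixed-point-freely is cyclic. -/
theorem isCyclic_of_fpf (A K : Subgroup G) [K.Normal] (hK : K ≠ ⊥) (hA : A ≠ ⊥)
    (hcomm : ∀ a ∈ A, ∀ b ∈ A, a * b = b * a)
    (hfpf : ∀ a ∈ A, a ≠ 1 → ∀ d ∈ K, a * d = d * a → d = 1) : IsCyclic A := by
  haveI : Nontrivial K := (Subgroup.nontrivial_iff_ne_bot K).2 hK
  haveI : Nontrivial A := (Subgroup.nontrivial_iff_ne_bot A).2 hA
  have hH := Grp.Zas.hasFpf_of_fpf_aut ((MulAut.conjNormal : G →* MulAut K).comp A.subtype)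
    fun a ha k hk => by
      refine Subtype.ext (hfpf a a.2 (fun e => ha (Subtype.ext e)) k k.2 ?_)
      have h1 := congrArg Subtype.val hk
      rw [MonoidHom.comp_apply, MulAut.conjNormal_apply] at h1
      calc (a : G) * k = (a : G) * k * (a : G)⁻¹ * a := by group
        _ = k * a := by rw [Subgroup.coe_subtype] at h1; rw [h1]
  letI : CommGroup A := { (inferInstance : Group A) with
    mul_comm := fun a b => Subtype.ext (hcomm a a.2 b b.2) }
  haveI : IsZGroup A := ⟨fun q hq P => by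
    haveI : Fact q.Prime := ⟨hq⟩
    rcases hH.sylow_cases P with h | ⟨-, n, ⟨e⟩⟩
    · exact h
    · rcases Nat.eq_zero_or_pos n with rfl | hn
      · have hc : IsCyclic (QuaternionGroup (2 ^ 0)) := QuaternionGroup.quaternionGroup_one_isCyclic
        exact isCyclic_of_surjective e.symm.toMonoidHom e.symm.surjective
      exfalso
      have he : (QuaternionGroup.a 1 : QuaternionGroup (2 ^ n)) * QuaternionGroup.xa 0 =
          QuaternionGroup.xa 0 * QuaternionGroup.a 1 := e.symm.injective (by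
        rw [map_mul, map_mul]; exact mul_comm _ _)
      rw [QuaternionGroup.a_mul_xa, QuaternionGroup.xa_mul_a] at he
      injection he with he'
      have h2 : ((2 : ℕ) : ZMod (2 * 2 ^ n)) = 0 := by
        push_cast
        linear_combination -he'
      rw [ZMod.natCast_eq_zero_iff] at h2
      have h3 := Nat.le_of_dvd (by norm_num) h2
      have h4 : 2 ^ 1 ≤ 2 ^ n := Nat.pow_le_pow_right (by norm_num) hn
      omega⟩
  exact IsCyclic.of_exponent_eq_card (IsZGroup.exponent_eq_card A)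

/-- The structure of a group with multiplicative characters. -/
def Struct (G : Type u) [Group G] : Prop :=
  ∃ (p : ℕ) (_ : Fact p.Prime) (P : Sylow p G) (A : Subgroup G),
    (P : Subgroup G).Normal ∧ IsCyclic A ∧ A ≠ ⊥ ∧ (Nat.card A).Coprime p ∧
    A ⊔ (P : Subgroup G) = ⊤ ∧
    IsMulCommutative ↥((P : Subgroup G) ⊓ Subgroup.centralizer (A : Set G)) ∧
    (⁅A, (P : Subgroup G)⁆).Normal ∧
    ((P : Subgroup G) ⊓ Subgroup.centralizer (A : Set G)) ⊔ ⁅A, (P : Subgroup G)⁆ = (P : Subgroup G) ∧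
    ((P : Subgroup G) ⊓ Subgroup.centralizer (A : Set G)) ⊓ ⁅A, (P : Subgroup G)⁆ = ⊥ ∧
    ∀ a ∈ A, a ≠ 1 → ∀ d ∈ ⁅A, (P : Subgroup G)⁆, a * d = d * a → d = 1

theorem commutator_mem (x y : G) : x * y * x⁻¹ * y⁻¹ ∈ commutator G := by
  rw [commutator_eq_closure]
  exact Subgroup.subset_closure ⟨x, y, rfl⟩

theorem struct_of_multiplicative (h : Multiplicative G) (hp' : ¬ ∃ p : ℕ, p.Prime ∧ IsPGroup p G)
    (hab : ¬ IsMulCommutative G) : Struct G := by
  classical
  have hG'1 : commutator G ≠ ⊥ := fun e => hab ⟨⟨fun a b => by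
    have h1 := commutator_mem a b
    rw [e, Subgroup.mem_bot, mul_inv_eq_one, mul_inv_eq_iff_eq_mul] at h1
    exact h1⟩⟩
  obtain ⟨p, hp, hpd⟩ := Nat.exists_prime_and_dvd (mt (Subgroup.eq_bot_of_card_eq _) hG'1)
  haveI : Fact p.Prime := ⟨hp⟩
  have hG' := commutator_isPGroup h hpd
  obtain ⟨P, hP⟩ := hG'.exists_le_sylow
  have hPn : (P : Subgroup G).Normal := ⟨fun x hx g => by
    rw [show g * x * g⁻¹ = (g * x * g⁻¹ * x⁻¹) * x by group]
    exact mul_mem (hP (commutator_mem g x)) hx⟩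
  haveI := hPn
  have hcop : Nat.Coprime (Nat.card (P : Subgroup G)) (P : Subgroup G).index :=
    P.card_coprime_index
  obtain ⟨A, hA⟩ := Subgroup.exists_right_complement'_of_coprime hcop
  have hAtop : A ⊔ (P : Subgroup G) = ⊤ := by rw [sup_comm]; exact hA.sup_eq_top
  have hAcard : (Nat.card A).Coprime p := by
    rw [← hA.symm.index_eq_card]
    exact ((hp.coprime_iff_not_dvd).2 P.not_dvd_index).symm
  have hA1 : A ≠ ⊥ := fun e => hp' ⟨p, hp, by
    rw [e, bot_sup_eq] at hAtop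
    exact (hAtop ▸ P.isPGroup' : IsPGroup p (⊤ : Subgroup G)).of_equiv Subgroup.topEquiv⟩
  have hord : ∀ a ∈ A, (orderOf a).Coprime p := fun a ha =>
    Nat.Coprime.coprime_dvd_left (A.orderOf_dvd_natCard ha) hAcard
  have hfpf : ∀ a ∈ A, a ≠ 1 → ∀ d ∈ commutator G, a * d = d * a → d = 1 :=
    fun a ha ha1 d hd e => fpf_on_commutator h hG' ha1 (hord a ha) hd e
  have hAcomm : ∀ a ∈ A, ∀ b ∈ A, a * b = b * a := by
    intro a ha b hb
    have h1 : a * b * a⁻¹ * b⁻¹ ∈ (P : Subgroup G) ⊓ A :=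
      Subgroup.mem_inf.2 ⟨hP (commutator_mem a b), mul_mem (mul_mem (mul_mem ha hb) (inv_mem ha)) (inv_mem hb)⟩
    rw [hA.disjoint.eq_bot, Subgroup.mem_bot, mul_inv_eq_one, mul_inv_eq_iff_eq_mul] at h1
    exact h1
  -- every element of the derived subgroup is a commutator with a fixed element of `A`
  have hcom : ∀ a ∈ A, a ≠ 1 → ∀ d ∈ commutator G, ∃ e ∈ commutator G, d = a * e * a⁻¹ * e⁻¹ := by
    intro a ha ha1 d hd
    let F : commutator G → commutator G := fun e =>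
      ⟨a * e * a⁻¹ * (e : G)⁻¹, commutator_mem a e⟩
    have hF : Function.Injective F := by
      intro x y hxy
      have h1 : a * x * a⁻¹ * (x : G)⁻¹ = a * y * a⁻¹ * (y : G)⁻¹ := congrArg Subtype.val hxy
      refine Subtype.ext (inv_mul_eq_one.1 (hfpf a ha ha1 _ (mul_mem (inv_mem y.2) x.2) ?_)).symm
      calc a * ((y : G)⁻¹ * x) = a * (y : G)⁻¹ * a⁻¹ * (a * x * a⁻¹ * (x : G)⁻¹) * x * a := by group
        _ = a * (y : G)⁻¹ * a⁻¹ * (a * y * a⁻¹ * (y : G)⁻¹) * x * a := by rw [h1]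
        _ = _ := by group
    obtain ⟨e, he⟩ := Finite.surjective_of_injective hF ⟨d, hd⟩
    exact ⟨e, e.2, (congrArg Subtype.val he).symm⟩
  obtain ⟨a₀, ha₀, ha₀1⟩ := (Subgroup.bot_or_exists_ne_one A).resolve_left hA1
  have hD : ⁅A, (P : Subgroup G)⁆ = commutator G := by
    refine le_antisymm ?_ fun d hd => ?_
    · rw [Subgroup.commutator_le]
      exact fun x _ y _ => commutator_mem x y
    · obtain ⟨e, he, rfl⟩ := hcom a₀ ha₀ ha₀1 d hd
      exact Subgroup.commutator_mem_commutator ha₀ (hP he)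
  have hCinf : ((P : Subgroup G) ⊓ Subgroup.centralizer (A : Set G)) ⊓ commutator G = ⊥ := by
    rw [eq_bot_iff]
    rintro d ⟨⟨-, hd1⟩, hd2⟩
    exact Subgroup.mem_bot.2 (hfpf a₀ ha₀ ha₀1 d hd2 (Subgroup.mem_centralizer_iff.1 hd1 a₀ ha₀))
  refine ⟨p, ‹_›, P, A, hPn, ?_, hA1, hAcard, hAtop, ?_, ?_, ?_, ?_, ?_⟩
  · exact isCyclic_of_fpf A (commutator G) hG'1 hA1 hAcomm hfpf
  · refine ⟨⟨fun x y => Subtype.ext ?_⟩⟩
    have h1 : (x : G) * y * (x : G)⁻¹ * (y : G)⁻¹ ∈
        ((P : Subgroup G) ⊓ Subgroup.centralizer (A : Set G)) ⊓ commutator G :=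
      Subgroup.mem_inf.2 ⟨mul_mem (mul_mem (mul_mem x.2 y.2) (inv_mem x.2)) (inv_mem y.2), commutator_mem _ _⟩
    rw [hCinf, Subgroup.mem_bot, mul_inv_eq_one, mul_inv_eq_iff_eq_mul] at h1
    exact h1
  · rw [hD]; infer_instance
  · refine le_antisymm (sup_le inf_le_left (hD ▸ hP)) fun x hx => ?_
    obtain ⟨d, hd, hde⟩ := hcom a₀ ha₀ ha₀1 _ (commutator_mem a₀ x)
    set z := d⁻¹ * x with hz
    have hza : a₀ * z = z * a₀ := by
      calc a₀ * z = (a₀ * d⁻¹ * a₀⁻¹) * (a₀ * x * a₀⁻¹ * x⁻¹) * x * a₀ := by rw [hz]; group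
        _ = (a₀ * d⁻¹ * a₀⁻¹) * (a₀ * d * a₀⁻¹ * d⁻¹) * x * a₀ := by rw [hde]
        _ = _ := by rw [hz]; group
    have hzA : z ∈ Subgroup.centralizer (A : Set G) := by
      rw [Subgroup.mem_centralizer_iff]
      intro b hb
      have h1 : b * z * b⁻¹ * z⁻¹ = 1 := by
        refine hfpf a₀ ha₀ ha₀1 _ (commutator_mem b z) ?_
        have h2 : Commute a₀ b := hAcomm a₀ ha₀ b hb
        have h3 : Commute a₀ z := hza
        exact (((h2.mul_right h3).mul_right h2.inv_right).mul_right h3.inv_right).eq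
      exact mul_inv_eq_iff_eq_mul.1 (mul_inv_eq_one.1 h1)
    rw [show x = d * z by rw [hz]; group]
    exact mul_mem (Subgroup.mem_sup_right (hD.symm ▸ hd))
      (Subgroup.mem_sup_left (Subgroup.mem_inf.2 ⟨mul_mem (inv_mem (hP hd)) hx, hzA⟩))
  · rw [hD]; exact hCinf
  · rw [hD]; exact hfpf

/-- A character that is not linear vanishes outside the Sylow subgroup. -/
theorem vanish_of_struct {p : ℕ} [hp : Fact p.Prime] (P : Sylow p G) (A : Subgroup G)
    [hPn : (P : Subgroup G).Normal] (hAab : ∀ a ∈ A, ∀ b ∈ A, a * b = b * a)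
    (hAcard : (Nat.card A).Coprime p) (hAtop : A ⊔ (P : Subgroup G) = ⊤)
    (hC : IsMulCommutative ↥((P : Subgroup G) ⊓ Subgroup.centralizer (A : Set G)))
    (D : Subgroup G) [D.Normal]
    (hCD : ((P : Subgroup G) ⊓ Subgroup.centralizer (A : Set G)) ⊔ D = (P : Subgroup G))
    (hfpf : ∀ a ∈ A, a ≠ 1 → ∀ d ∈ D, a * d = d * a → d = 1)
    (χ : IrrCharacter G) (hχ : (χ : G → ℂ) 1 ≠ 1) {g : G} (hg : g ∉ P) : (χ : G → ℂ) g = 0 := by
  classical
  letI : Fintype G := Fintype.ofFinite G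
  letI : Fintype D := Fintype.ofFinite _
  have hDP : D ≤ (P : Subgroup G) := le_sup_right.trans hCD.le
  have hdec : ∀ x : G, ∃ a ∈ A, ∃ c, c ∈ (P : Subgroup G) ⊓ Subgroup.centralizer (A : Set G) ∧
      ∃ d ∈ D, x = a * c * d := by
    intro x
    obtain ⟨a, ha, w, hw, rfl⟩ := Subgroup.mem_sup_of_normal_right.1 (hAtop ▸ Subgroup.mem_top x)
    rw [← hCD, Subgroup.mem_sup_of_normal_right] at hw
    obtain ⟨c, hc, d, hd, rfl⟩ := hw
    exact ⟨a, ha, c, hc, d, hd, by rw [mul_assoc]⟩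
  have hcomm : ∀ x y : G ⧸ D, x * y = y * x := by
    intro x y
    obtain ⟨x, rfl⟩ := QuotientGroup.mk_surjective x
    obtain ⟨y, rfl⟩ := QuotientGroup.mk_surjective y
    obtain ⟨a, ha, c, hc, d, hd, rfl⟩ := hdec x
    obtain ⟨b, hb, e, he, f, hf, rfl⟩ := hdec y
    simp only [QuotientGroup.mk_mul, (QuotientGroup.eq_one_iff _).2 hd, (QuotientGroup.eq_one_iff _).2 hf,
      mul_one]
    simp only [← QuotientGroup.mk_mul]
    congr 1
    have h1 : Commute a e := (Subgroup.mem_centralizer_iff.1 he.2 a ha)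
    have h2 : Commute b c := (Subgroup.mem_centralizer_iff.1 hc.2 b hb)
    have h3 : Commute a b := hAab a ha b hb
    have h4 : Commute c e := congrArg Subtype.val (hC.1.1 (⟨c, hc⟩ : ↥((P : Subgroup G) ⊓ _)) ⟨e, he⟩)
    exact ((h3.mul_right h1).mul_left (h2.symm.mul_right h4)).eq
  -- a non-principal constituent on `D`
  obtain ⟨k, hk, hk1⟩ : ∃ k ∈ D, (χ : G → ℂ) k ≠ (χ : G → ℂ) 1 := by
    by_contra hno
    push Not at hno
    obtain ⟨ψ, hψ, he⟩ := IsIrr.exists_factor_quotient χ.2 D hno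
    refine hχ ?_
    rw [← he 1]
    exact IsIrr.one_of_comm hcomm hψ
  obtain ⟨θ, hθ, hθk⟩ := exists_nonprincipal_constituent
    (IsChar.res (IsIrr.isCharacter χ.2) D) (g := (⟨k, hk⟩ : D)) hk1
  have hθ1 : (θ : D → ℂ) ≠ fun _ => 1 := fun e => hθk (by rw [e])
  set T := inertia D (θ : D → ℂ) with hT
  have hDT : D ≤ T := le_inertia D (IsIrr.classFun θ.2)
  haveI hTn : T.Normal := ⟨fun x hx y => by
    have h1 := hcomm (y : G ⧸ D) (x : G ⧸ D)
    rw [← QuotientGroup.mk_mul, ← QuotientGroup.mk_mul, QuotientGroup.eq] at h1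
    have h2 : x⁻¹ * (y * x * y⁻¹) ∈ T := hDT (by
      have h3 := (inferInstance : D.Normal).conj_mem _ (inv_mem h1) y
      rw [show y * ((y * x)⁻¹ * (x * y))⁻¹ * y⁻¹ = y * y⁻¹ * x⁻¹ * (y * x * y⁻¹) by group,
        mul_inv_cancel, one_mul] at h3
      exact h3)
    simpa using T.mul_mem hx h2⟩
  have hTP : T ≤ (P : Subgroup G) := by
    intro x hx
    obtain ⟨a, ha, c, hc, d, hd, rfl⟩ := hdec x
    have hac : a * c ∈ T := (T.mul_mem_cancel_right (hDT hd)).1 hx
    suffices ha1 : a = 1 by rw [ha1, one_mul]; exact mul_mem hc.1 (hDP hd)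
    by_contra ha1
    obtain ⟨i, hi⟩ := IsPGroup.iff_orderOf.1 P.isPGroup' ⟨c, hc.1⟩
    rw [← Subgroup.orderOf_coe] at hi
    have hco : (orderOf a).Coprime p := Nat.Coprime.coprime_dvd_left (A.orderOf_dvd_natCard ha) hAcard
    have hb : a ^ p ^ i ∈ T := by
      have h1 := pow_mem hac (p ^ i)
      rwa [(show Commute a c from Subgroup.mem_centralizer_iff.1 hc.2 a ha).mul_pow,
        ← hi, pow_orderOf_eq_one, mul_one, hi] at h1
    have hb1 : a ^ p ^ i ≠ 1 := fun e => ha1 (orderOf_eq_one_iff.1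
      (Nat.eq_one_of_dvd_coprimes (hco.pow_right i) dvd_rfl (orderOf_dvd_of_pow_eq_one e)))
    refine hθ1 (eq_one_of_conjN_fixed D (g := a ^ p ^ i) ?_ θ.2 hb)
    intro m hm n hn hmn
    obtain ⟨j, hj⟩ := IsPGroup.iff_card.1 (P.isPGroup'.to_le hDP)
    obtain ⟨x, hx', c', hc', hcc, hxc⟩ := exists_conj_centralizer_coset D (a ^ p ^ i)
      (by rw [Subgroup.normalizer_eq_top_iff.2 inferInstance]; trivial) (by
        rw [hj]
        exact ((Nat.Coprime.coprime_dvd_left (orderOf_pow_dvd _) hco).pow_right j)) m hm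
    have hA' : a ^ p ^ i ∈ A := pow_mem ha _
    have hc1 : c' = 1 := hfpf _ hA' hb1 c' hc' hcc.symm
    rw [hc1, one_mul] at hxc
    have h2 : x * n * x⁻¹ = 1 := hfpf _ hA' hb1 _ ((inferInstance : D.Normal).conj_mem n hn x) (by
      rw [← hxc]
      calc x * (m * a ^ p ^ i) * x⁻¹ * (x * n * x⁻¹) = x * (m * a ^ p ^ i * n) * x⁻¹ := by group
        _ = x * (n * (m * a ^ p ^ i)) * x⁻¹ := by rw [hmn]
        _ = _ := by group)
    exact conj_eq_one_iff.1 h2
  letI : Fintype T := Fintype.ofFinite _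
  obtain ⟨ψ, hψ, hind, -⟩ := Corr.exists_correspondent D θ.2 hT hDT χ.2 hθ
  rw [← hind]
  refine indFun_eq_zero_of_not_conj T ψ fun x hx => absurd ?_ hg
  have h1 := hTn.conj_mem _ hx x
  rw [show x * (x⁻¹ * g * x) * x⁻¹ = g by group] at h1
  exact hTP h1

theorem multiplicative_iff :
    Multiplicative G ↔ ((∃ p : ℕ, p.Prime ∧ IsPGroup p G) ∨ IsMulCommutative G ∨ Struct G) := by
  classical
  constructor
  · intro h
    by_cases h1 : ∃ p : ℕ, p.Prime ∧ IsPGroup p G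
    · exact Or.inl h1
    by_cases h2 : IsMulCommutative G
    · exact Or.inr (Or.inl h2)
    exact Or.inr (Or.inr (struct_of_multiplicative h h1 h2))
  rintro hh x y χ hx hy ⟨r, q, a, b, hr, hq, hrq, hxo, hyo⟩
  have hlin : (χ : G → ℂ) 1 = 1 → (χ : G → ℂ) (x * y) = (χ : G → ℂ) x * (χ : G → ℂ) y := fun h1 => by
    obtain ⟨l, hl⟩ := linearHom_of_isCharacter (IsIrr.isCharacter χ.2) h1
    simp [hl, map_mul]
  rcases hh with ⟨p, hp, hG⟩ | hcomm | ⟨p, hp, P, A, hPn, hAc, hA1, hAcard, hAtop, hC, hDn, hCD, -, hfpf⟩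
  · exfalso
    haveI : Fact p.Prime := ⟨hp⟩
    have key : ∀ (z : G) (s e : ℕ), z ≠ 1 → s.Prime → orderOf z = s ^ e → s = p := by
      intro z s e hz hs he
      obtain ⟨i, hi⟩ := IsPGroup.iff_orderOf.1 hG z
      have he0 : e ≠ 0 := by rintro rfl; exact hz (orderOf_eq_one_iff.1 (by rw [he, pow_zero]))
      exact (Nat.prime_dvd_prime_iff_eq hs hp).1 (hs.dvd_of_dvd_pow (hi ▸ he ▸ dvd_pow_self s he0))
    exact hrq ((key x r a hx hr hxo).trans (key y q b hy hq hyo).symm)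
  · exact hlin (IsIrr.one_of_comm (fun u v => hcomm.1.1 u v) χ.2)
  by_cases h1 : (χ : G → ℂ) 1 = 1
  · exact hlin h1
  haveI := hp
  haveI := hPn
  haveI := hDn
  have hzero : ∀ g : G, g ∉ P → (χ : G → ℂ) g = 0 := fun g hg =>
    vanish_of_struct P A (fun a ha b hb => congrArg Subtype.val
      ((IsCyclic.commGroup (α := A)).mul_comm ⟨a, ha⟩ ⟨b, hb⟩)) hAcard hAtop hC _ hCD hfpf χ h1 hg
  have hmem : ∀ (z : G) (s e : ℕ), z ≠ 1 → s.Prime → orderOf z = s ^ e → z ∈ P → s = p := by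
    intro z s e hz hs he hzP
    obtain ⟨i, hi⟩ := IsPGroup.iff_orderOf.1 P.isPGroup' ⟨z, hzP⟩
    rw [← Subgroup.orderOf_coe] at hi
    have he0 : e ≠ 0 := by rintro rfl; exact hz (orderOf_eq_one_iff.1 (by rw [he, pow_zero]))
    exact (Nat.prime_dvd_prime_iff_eq hs hp.out).1 (hs.dvd_of_dvd_pow (hi ▸ he ▸ dvd_pow_self s he0))
  by_cases hxP : x ∈ P
  · have hyP : y ∉ P := fun h => hrq ((hmem x r a hx hr hxo hxP).trans (hmem y q b hy hq hyo h).symm)
    rw [hzero y hyP, mul_zero, hzero (x * y) fun h => hyP (by simpa using mul_mem (inv_mem hxP) h)]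
  · rw [hzero x hxP, zero_mul]
    refine hzero (x * y) fun h => hxP ?_
    -- in the quotient by `P` the images have coprime orders and are mutually inverse
    have h2 : ((x : G) : G ⧸ (P : Subgroup G)) = ((y : G) : G ⧸ (P : Subgroup G))⁻¹ := by
      rw [eq_inv_iff_mul_eq_one, ← QuotientGroup.mk_mul]
      exact (QuotientGroup.eq_one_iff _).2 h
    have d1 : orderOf ((x : G) : G ⧸ (P : Subgroup G)) ∣ r ^ a :=
      hxo ▸ orderOf_map_dvd (QuotientGroup.mk' (P : Subgroup G)) x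
    have d2 : orderOf ((x : G) : G ⧸ (P : Subgroup G)) ∣ q ^ b := by
      rw [h2, orderOf_inv]
      exact hyo ▸ orderOf_map_dvd (QuotientGroup.mk' (P : Subgroup G)) y
    exact (QuotientGroup.eq_one_iff x).1 (orderOf_eq_one_iff.1
      (Nat.eq_one_of_dvd_coprimes (Nat.coprime_pow_primes a b hr hq hrq) d1 d2))

end Cfsg.Agent.Block.PrimeMul
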