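import Mathlib
import Cfsg.Prelude.Def_Blocks
import Cfsg.Agent.Lib.Char.Complete
import Cfsg.Agent.Lib.Char.Integral
import Cfsg.Agent.Lib.Char.Induce

/-!
Class multiplication: averaged products of conjugates, and the counting argument which
produces irreducible characters of large p-part of degree.
-/

open scoped ComplexConjugate
open Module

namespace Cfsg.Agent.Block

universe u

variable {G : Type u} [Group G] [Finite G]

theorem charDeg_spec {χ : G → ℂ} (h : IsCharacter G χ) : χ 1 = (charDegree χ : ℂ) :=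
  Cfsg.Agent.Char.IsChar.degree_spec h

theorem charDeg_spec' (χ : IrrCharacter G) : (χ : G → ℂ) 1 = (charDegree (χ : G → ℂ) : ℂ) :=
  charDeg_spec (Cfsg.Agent.Char.IsIrr.isCharacter χ.2)

theorem charDeg_pos (χ : IrrCharacter G) : 0 < charDegree (χ : G → ℂ) := by
  by_contra h
  have h0 : charDegree (χ : G → ℂ) = 0 := by omega
  apply Cfsg.Agent.Char.IsIrr.one_ne_zero χ.2
  rw [charDeg_spec' χ, h0, Nat.cast_zero]

theorem charDeg_dvd (χ : IrrCharacter G) : charDegree (χ : G → ℂ) ∣ Nat.card G :=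
  Cfsg.Agent.Char.IsIrr.degree_dvd_card χ.2 (charDeg_spec' χ)

theorem charDeg_trivial : charDegree (fun _ : G => (1 : ℂ)) = 1 := by simp [charDegree]

theorem sum_mul_conj [Fintype G] (χ : IrrCharacter G) (x y : G) :
    ∑ g : G, (χ : G → ℂ) (x * (g * y * g⁻¹)) =
      (Nat.card G : ℂ) * (χ : G → ℂ) x * (χ : G → ℂ) y / (χ : G → ℂ) 1 := by
  obtain ⟨χ, n, ρ, hρ, rfl⟩ := χ
  have hcomm : ∀ h, (∑ g : G, ρ (g * y * g⁻¹)) ∘ₗ ρ h = ρ h ∘ₗ (∑ g : G, ρ (g * y * g⁻¹)) := by
    intro h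
    show (∑ g : G, ρ (g * y * g⁻¹)) * ρ h = ρ h * ∑ g : G, ρ (g * y * g⁻¹)
    rw [Finset.sum_mul, Finset.mul_sum]
    refine (Fintype.sum_equiv (Equiv.mulLeft h) _ _ fun g => ?_).symm
    rw [← map_mul, ← map_mul]
    congr 1
    simp [mul_assoc]
  obtain ⟨c, hc⟩ := Cfsg.Agent.Char.schur_scalar ρ _ hcomm
  have hn : (finrank ℂ (Fin n → ℂ) : ℂ) ≠ 0 :=
    Nat.cast_ne_zero.mpr (Cfsg.Agent.Char.finrank_pos_of_irreducible ρ).ne'
  have hval : c = (Nat.card G : ℂ) * ρ.character y / (finrank ℂ (Fin n → ℂ) : ℂ) := by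
    have htr := congrArg (LinearMap.trace ℂ (Fin n → ℂ)) hc
    rw [map_sum, map_smul, LinearMap.trace_id, smul_eq_mul] at htr
    have h1 : ∀ g ∈ (Finset.univ : Finset G),
        LinearMap.trace ℂ (Fin n → ℂ) (ρ (g * y * g⁻¹)) = ρ.character y :=
      fun g _ => ρ.char_conj y g
    rw [Finset.sum_congr rfl h1, Finset.sum_const, nsmul_eq_mul, Finset.card_univ,
      ← Nat.card_eq_fintype_card] at htr
    rw [eq_div_iff hn, htr]
  show ∑ g : G, ρ.character (x * (g * y * g⁻¹)) =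
    (Nat.card G : ℂ) * ρ.character x * ρ.character y / ρ.character 1
  have h2 : ∀ g ∈ (Finset.univ : Finset G), ρ.character (x * (g * y * g⁻¹)) =
      LinearMap.trace ℂ (Fin n → ℂ) (ρ x * ρ (g * y * g⁻¹)) := by
    intro g _
    show LinearMap.trace ℂ (Fin n → ℂ) (ρ _) = _
    rw [map_mul]
  rw [Finset.sum_congr rfl h2, ← map_sum, ← Finset.mul_sum, hc, ← Module.End.one_eq_id, mul_smul_comm,
    mul_one, map_smul, smul_eq_mul, Representation.char_one, hval]
  show _ * ρ.character x = _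
  ring

theorem sum_classFun_mul_conj [Fintype G] {f : G → ℂ} (hf : IsClassFunction G f) (x y : G) :
    (Nat.card G : ℂ)⁻¹ * ∑ g : G, f (x * (g * y * g⁻¹)) =
      ∑ χ : IrrCharacter G, classInner f χ * (χ : G → ℂ) x * (χ : G → ℂ) y / (χ : G → ℂ) 1 := by
  have hG : (Nat.card G : ℂ) ≠ 0 := Nat.cast_ne_zero.mpr Nat.card_pos.ne'
  have hexp := Cfsg.Agent.Char.classFunction_expansion hf
  have h : ∀ z : G, f z = ∑ χ : IrrCharacter G, classInner f χ * (χ : G → ℂ) z := by
    intro z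
    simpa using congrFun hexp z
  simp only [h (x * _)]
  rw [Finset.sum_comm, Finset.mul_sum]
  refine Finset.sum_congr rfl (fun χ _ => ?_)
  rw [← Finset.mul_sum, sum_mul_conj]
  field_simp

/-- If no product of `x` with a conjugate of `y` is a nontrivial element of a conjugate of `P`,
where `y` is conjugate to `x⁻¹` and `P` has order `p ^ c`, then some irreducible character has
degree divisible by `p ^ (c - a)`, `p ^ a` being the p-part of the centraliser of `x`. -/
theorem exists_char_pow_dvd (p : ℕ) [Fact p.Prime] (P : Subgroup G) (c : ℕ)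
    (hP : Nat.card P = p ^ c) (x y : G) (hy : IsConj x⁻¹ y)
    (hnone : ∀ g h : G, h⁻¹ * (x * (g * y * g⁻¹)) * h ∈ P → x * (g * y * g⁻¹) = 1)
    (a : ℕ) (ha : (Nat.card ↥(Subgroup.centralizer ({x} : Set G))).factorization p = a) :
    ∃ χ : IrrCharacter G, p ^ (c - a) ∣ charDegree (χ : G → ℂ) := by
  classical
  cases nonempty_fintype G
  have hp : p.Prime := Fact.out
  have hone : IsIrrCharacter G (fun _ => (1 : ℂ)) := Cfsg.Agent.Char.isIrr_one
  rcases Nat.eq_zero_or_pos (c - a) with h0 | h0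
  · exact ⟨⟨_, hone⟩, by rw [h0, pow_zero]; exact one_dvd _⟩
  by_contra hno
  push Not at hno
  set e := c - a - 1
  set N := Nat.card G
  set M := p ^ e * (N / p ^ N.factorization p) with hM
  have hdvd : ∀ χ : IrrCharacter G, charDegree (χ : G → ℂ) ∣ M := by
    intro χ
    have hd := charDeg_pos χ
    have hv : (charDegree (χ : G → ℂ)).factorization p ≤ e := by
      by_contra h
      refine hno χ ((hp.pow_dvd_iff_le_factorization hd.ne').2 ?_)
      omega
    rw [← Nat.ordProj_mul_ordCompl_eq_self (charDegree (χ : G → ℂ)) p]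
    exact mul_dvd_mul (pow_dvd_pow p hv) (Nat.ordCompl_dvd_ordCompl_of_dvd (charDeg_dvd χ) p)
  let _ := Fintype.ofFinite P
  let f : G → ℂ := indFun P (fun _ => (1 : ℂ))
  have hf : IsClassFunction G f := Cfsg.Agent.Char.indFun_classFun P _
  have hfP : IsCharacter G f := Cfsg.Agent.Char.isCharacter_indFun P Cfsg.Agent.Char.IsChar.one
  have hL := sum_classFun_mul_conj hf x y
  have hint : IsIntegral ℤ ((M : ℂ) *
      ∑ χ : IrrCharacter G, classInner f χ * (χ : G → ℂ) x * (χ : G → ℂ) y / (χ : G → ℂ) 1) := by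
    rw [Finset.mul_sum]
    refine IsIntegral.sum _ fun χ _ => ?_
    obtain ⟨m, hm⟩ := Cfsg.Agent.Char.IsChar.classInner_nat hfP (Cfsg.Agent.Char.IsIrr.isCharacter χ.2)
    obtain ⟨k, hk⟩ := hdvd χ
    have hd : (charDegree (χ : G → ℂ) : ℂ) ≠ 0 := Nat.cast_ne_zero.mpr (charDeg_pos χ).ne'
    have he : (M : ℂ) * (classInner f χ * (χ : G → ℂ) x * (χ : G → ℂ) y / (χ : G → ℂ) 1) =
        ((k : ℤ) : ℂ) * ((m : ℤ) : ℂ) * ((χ : G → ℂ) x * (χ : G → ℂ) y) := by
      rw [hm, hk, charDeg_spec' χ]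
      push_cast
      field_simp
    rw [he]
    refine (isIntegral_algebraMap.mul isIntegral_algebraMap).mul ?_
    exact (Cfsg.Agent.Char.IsChar.isIntegral (Cfsg.Agent.Char.IsIrr.isCharacter χ.2) x).mul
      (Cfsg.Agent.Char.IsChar.isIntegral (Cfsg.Agent.Char.IsIrr.isCharacter χ.2) y)
  have hval : ∀ g : G, f (x * (g * y * g⁻¹)) =
      if x * (g * y * g⁻¹) = 1 then f 1 else 0 := by
    intro g
    split_ifs with h
    · rw [h]
    · refine Cfsg.Agent.Char.indFun_eq_zero_of_not_conj P _ ?_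
      intro h' hh'
      exact absurd (hnone g h' hh') h
  obtain ⟨g₀, hg₀⟩ := isConj_iff.1 hy
  have hcount : (Finset.univ.filter (fun g : G => x * (g * y * g⁻¹) = 1)).card =
      Nat.card ↥(Subgroup.centralizer ({x} : Set G)) := by
    rw [← Fintype.card_subtype, ← Nat.card_eq_fintype_card]
    refine Nat.card_congr (Equiv.subtypeEquiv (Equiv.mulRight g₀) fun g => ?_)
    simp only [Equiv.coe_mulRight, Subgroup.mem_centralizer_singleton_iff]
    subst hg₀
    rw [show g * (g₀ * x⁻¹ * g₀⁻¹) * g⁻¹ = (g * g₀) * x⁻¹ * (g * g₀)⁻¹ by group]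
    constructor
    · intro h
      have := eq_inv_of_mul_eq_one_right h
      rw [← conj_inv, inv_inj] at this
      calc g * g₀ * x = (g * g₀) * x * (g * g₀)⁻¹ * (g * g₀) := by group
        _ = x * (g * g₀) := by rw [this]
    · intro h
      rw [← mul_assoc, ← mul_assoc, ← h]
      group
  have hP0 : (Nat.card P : ℂ) ≠ 0 := Nat.cast_ne_zero.mpr Nat.card_pos.ne'
  have hf1 : f 1 = (Nat.card G : ℂ) / (Nat.card P : ℂ) := by
    simp only [f, Cfsg.Agent.Char.indFun_one_eq]
    rw [mul_one, eq_div_iff hP0]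
    exact_mod_cast P.index_mul_card
  have hRHS : (Nat.card G : ℂ)⁻¹ * ∑ g : G, f (x * (g * y * g⁻¹)) =
      (Nat.card ↥(Subgroup.centralizer ({x} : Set G)) : ℂ) / (Nat.card P : ℂ) := by
    have hG : (Nat.card G : ℂ) ≠ 0 := Nat.cast_ne_zero.mpr Nat.card_pos.ne'
    rw [Finset.sum_congr rfl (fun g _ => hval g), ← Finset.sum_filter, Finset.sum_const, hcount,
      nsmul_eq_mul, hf1]
    field_simp
  rw [← hL, hRHS, ← mul_div_assoc, ← Nat.cast_mul] at hint
  have hdiv := Cfsg.Agent.Char.nat_dvd_of_isIntegral_div Nat.card_pos.ne' hint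
  have hC0 : Nat.card ↥(Subgroup.centralizer ({x} : Set G)) ≠ 0 := Nat.card_pos.ne'
  have hN' : N / p ^ N.factorization p ≠ 0 := (Nat.ordCompl_pos p Nat.card_pos.ne').ne'
  rw [hP, hp.pow_dvd_iff_le_factorization
    (mul_ne_zero (mul_ne_zero (pow_ne_zero _ hp.ne_zero) hN') hC0)] at hdiv
  rw [Nat.factorization_mul (mul_ne_zero (pow_ne_zero _ hp.ne_zero) hN') hC0,
    Nat.factorization_mul (pow_ne_zero _ hp.ne_zero) hN'] at hdiv
  have hz : (N / p ^ N.factorization p).factorization p = 0 :=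
    Nat.factorization_eq_zero_of_not_dvd (Nat.not_dvd_ordCompl hp Nat.card_pos.ne')
  simp only [Finsupp.coe_add, Pi.add_apply, hp.factorization_pow, Finsupp.single_eq_same,
    hz, ha] at hdiv
  omega

/-- Defect-zero criterion: `x` has p'-centraliser and no product of `x` with a conjugate of `x⁻¹`
is a nontrivial p-element. -/
theorem exists_defect_zero (p : ℕ) [Fact p.Prime] (x y : G) (hy : IsConj x⁻¹ y)
    (hC : ¬ p ∣ Nat.card ↥(Subgroup.centralizer ({x} : Set G)))
    (hnone : ∀ g : G, (∃ k : ℕ, orderOf (x * (g * y * g⁻¹)) = p ^ k) → x * (g * y * g⁻¹) = 1) :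
    ∃ χ : IrrCharacter G,
      (charDegree (χ : G → ℂ)).factorization p = (Nat.card G).factorization p := by
  have hp : p.Prime := Fact.out
  obtain ⟨P⟩ : Nonempty (Sylow p G) := inferInstance
  obtain ⟨χ, hχ⟩ := exists_char_pow_dvd p (P : Subgroup G) _ P.card_eq_multiplicity x y hy
    (fun g h hgh => hnone g (by
      obtain ⟨k, hk⟩ := P.isPGroup'.exists_orderOf_eq_pow ⟨_, hgh⟩
      refine ⟨k, ?_⟩
      have heq : orderOf (h⁻¹ * (x * (g * y * g⁻¹)) * h) = orderOf (x * (g * y * g⁻¹)) := by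
        have := orderOf_injective (MulAut.conj h⁻¹).toMonoidHom (MulAut.conj h⁻¹).injective
          (x * (g * y * g⁻¹))
        simpa using this
      rw [← heq, ← hk]
      exact Subgroup.orderOf_coe (⟨_, hgh⟩ : (P : Subgroup G))))
    0 (Nat.factorization_eq_zero_of_not_dvd hC)
  refine ⟨χ, le_antisymm ?_ ?_⟩
  · exact (Nat.factorization_le_iff_dvd (charDeg_pos χ).ne' Nat.card_pos.ne').2 (charDeg_dvd χ) p
  · exact (hp.pow_dvd_iff_le_factorization (charDeg_pos χ).ne').1 (by simpa using hχ)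

end Cfsg.Agent.Block
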