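import Cfsg.Agent.Lib.Block.CoveringBasic
import Cfsg.Agent.Lib.Block.AbelianThree
import Cfsg.Agent.Lib.Grp.PSolvable

/-!
Elementary facts on blocks: normal `p'`-subgroups, kernels, a single block, counting by defect.
-/

open scoped ComplexConjugate

namespace Cfsg.Agent.Block

set_option linter.unusedSectionVars false
set_option linter.style.haveILetI false

universe u

variable {G : Type u} [Group G] [Finite G] {p : ℕ} {M : Ideal AlgInt}

theorem cenInt_pPrime_group {N : Type u} [Group N] [Finite N] (hM : IsPModular p M)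
    (hN : ¬ p ∣ Nat.card N) (T : Set (IrrCharacter N)) : CenInt M (blockInd T) := fun n => by
  classical
  cases nonempty_fintype (IrrCharacter N)
  rw [coeffFun_eq_sum]
  refine ring_mul hM (ring_inv_natCast hM hN) (ring_sum hM fun ξ _ => ?_)
  have h : MemLocalRing M (blockInd T ξ) := by
    by_cases h : ξ ∈ T
    · rw [blockInd_of_mem h]; exact ring_one hM
    · rw [blockInd_of_notMem h]; exact ring_zero hM
  refine ring_mul hM (ring_mul hM h ?_) ?_
  · exact irr_ring hM ξ 1
  · exact irr_ring hM ξ _

theorem constituent_of_sameBlock [Fintype G] (hM : IsPModular p M) (N : Subgroup G) [N.Normal]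
    [Fintype N] (hN : ¬ p ∣ Nat.card N) {χ ψ : IrrCharacter G}
    (h : SameBlock M (χ : G → ℂ) (ψ : G → ℂ)) {θ : IrrCharacter N}
    (hθ : classInner (fun n : N => (χ : G → ℂ) n) (θ : N → ℂ) ≠ 0) :
    classInner (fun n : N => (ψ : G → ℂ) n) (θ : N → ℂ) ≠ 0 := by
  classical
  set T := conjUnion N ({θ} : Set (IrrCharacter N))
  have hst := conjStable_conjUnion N ({θ} : Set (IrrCharacter N))
  have hci := cenInt_pPrime_group hM hN T
  have h1 : covInd N T χ = 1 :=
    (covInd_eq_one_iff N hst χ).2 ⟨θ, subset_conjUnion N _ rfl, hθ⟩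
  rw [covInd_congr' N hM hci hst h] at h1
  obtain ⟨η, hη, hηψ⟩ := (covInd_eq_one_iff N hst ψ).1 h1
  obtain ⟨g, hg⟩ := hη
  rw [Set.mem_singleton_iff] at hg
  rw [← hg]
  exact constituent_of_conj N g hηψ

theorem ker_of_sameBlock [Fintype G] (hM : IsPModular p M) (N : Subgroup G) [N.Normal]
    (hN : ¬ p ∣ Nat.card N) {χ ψ : IrrCharacter G} (h : SameBlock M (χ : G → ℂ) (ψ : G → ℂ))
    (hker : ∀ n ∈ N, (χ : G → ℂ) n = (χ : G → ℂ) 1) {n : G} (hn : n ∈ N) :
    (ψ : G → ℂ) n = (ψ : G → ℂ) 1 := by
  obtain ⟨χ', hχ', hfac⟩ := Cfsg.Agent.Char.IsIrr.exists_factor_quotient χ.2 N hker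
  obtain ⟨ψ', hψ', -⟩ := pPrime_block_of_quotient N hM hN ⟨χ', hχ'⟩ ψ (by
    have e : (χ' : G ⧸ N → ℂ) ∘ QuotientGroup.mk = (χ : G → ℂ) := funext fun g => hfac g
    rw [e]
    exact h)
  rw [hψ']
  simp [(QuotientGroup.eq_one_iff n).2 hn]

theorem pPrime_of_pElements {K : Subgroup G} [Fact p.Prime]
    (h : ∀ z ∈ K, orderOf z ≠ p) : ¬ p ∣ Nat.card K := fun hd => by
  obtain ⟨z, hz⟩ := exists_prime_orderOf_dvd_card' (G := K) p hd
  exact h z z.2 (by rw [Subgroup.orderOf_coe, hz])

theorem blockKer_pPrime [Fact p.Prime] (hM : IsPModular p M) {B : Set (IrrCharacter G)}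
    (hB : IsPBlock M B) {z : G} (hz : orderOf z = p) (hker : z ∈ blockKer B) : False := by
  classical
  cases nonempty_fintype G
  obtain ⟨χ, hχ⟩ := pblock_nonempty hM hB
  have h := weak_orth hM hB (x := 1) (y := z) (by simpa using (pmod_prime hM).not_dvd_one)
    (by rw [hz])
  rw [finsum_mem_block, Finset.sum_congr rfl (g := fun ξ : IrrCharacter G =>
    (((charDegree (ξ : G → ℂ) * charDegree (ξ : G → ℂ) : ℕ)) : ℂ)) fun ξ hξ => by
      rw [hker ξ (Finset.mem_filter.1 hξ).2, charDeg_spec' ξ, Complex.conj_natCast, Nat.cast_mul],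
    ← Nat.cast_sum, Nat.cast_eq_zero, Finset.sum_eq_zero_iff] at h
  have := h χ (Finset.mem_filter.2 ⟨Finset.mem_univ _, hχ⟩)
  exact absurd this (Nat.mul_ne_zero (charDeg_pos χ).ne' (charDeg_pos χ).ne')

/-- If no regular class but the trivial one is central modulo the prime there is one block. -/
theorem single_block_of_centralizer [Fact p.Prime] (hM : IsPModular p M) (Q : Subgroup G)
    [Q.Normal] (hQ : IsPGroup p Q) (hC : Subgroup.centralizer (Q : Set G) ≤ Q)
    (χ ψ : IrrCharacter G) : SameBlock M (χ : G → ℂ) (ψ : G → ℂ) := by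
  classical
  cases nonempty_fintype G
  cases nonempty_fintype (ConjClasses G)
  set B := blockOf M (χ : G → ℂ)
  have hB : IsPBlock M B := isPBlock_blockOf χ
  set a := blockCoeff B (ConjClasses.mk (1 : G)).out
  have key : ∀ ξ : IrrCharacter G, MemLocalIdeal M (blockInd B ξ - a) := by
    intro ξ
    rw [eq_sum_centralChar (blockInd B) ξ, ← Finset.add_sum_erase _ _
      (Finset.mem_univ (ConjClasses.mk (1 : G)))]
    have h1 : centralChar (ξ : G → ℂ) (ConjClasses.mk (1 : G)).out = 1 := by
      have hc : IsConj (1 : G) (ConjClasses.mk (1 : G)).out :=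
        (ConjClasses.mk_eq_mk_iff_isConj.1 (Quotient.out_eq (ConjClasses.mk (1 : G)))).symm
      rw [isConj_one_right.1 hc, centralChar_one]
    simp only [← blockCoeff_eq]
    rw [h1, mul_one, add_sub_cancel_left]
    refine ideal_sum hM fun C hC' => ?_
    by_cases hp : p ∣ orderOf C.out
    · rw [blockCoeff_singular hM hB hp, zero_mul]; exact ideal_zero hM
    · refine ideal_mul_left hM (blockCoeff_ring hM hB _) (centralChar_ideal_of_normal hM hQ ?_ ξ)
      intro hmem
      obtain ⟨i, hi⟩ := pPow_of_mem hQ (hC hmem)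
      have hi0 : i = 0 := by
        by_contra h
        exact hp (hi ▸ dvd_pow_self p h)
      rw [hi0, pow_zero, orderOf_eq_one_iff] at hi
      refine Finset.ne_of_mem_erase hC' ?_
      rw [← hi]
      exact (Quotient.out_eq C).symm
  have h : MemLocalIdeal M (blockInd B χ - blockInd B ψ) := by
    convert ideal_sub hM (key χ) (key ψ) using 1
    ring
  by_contra hne
  rw [blockInd_of_mem (mem_blockOf_self hM χ), blockInd_of_notMem (show ψ ∉ B from hne),
    sub_zero] at h
  exact ideal_one hM h

theorem principal_pPow_degree [Fact p.Prime] (hM : IsPModular p M) [IsSimpleGroup G]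
    (hna : ∃ a b : G, a * b ≠ b * a) (χ : IrrCharacter G) (hχ : χ ∈ principalBlock M G) (k : ℕ)
    (hdeg : (χ : G → ℂ) 1 = (p : ℂ) ^ k) : (χ : G → ℂ) = fun _ => 1 := by
  classical
  cases nonempty_fintype G
  by_contra hne
  have hcen : Subgroup.center G = ⊥ := by
    refine ((Subgroup.normal_of_characteristic (Subgroup.center G)).eq_bot_or_eq_top).resolve_right
      fun h => ?_
    obtain ⟨a, b, hab⟩ := hna
    exact hab (Subgroup.mem_center_iff.1 (h ▸ Subgroup.mem_top b) a)
  by_cases hpG : p ∣ Nat.card G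
  swap
  · refine hne (Cfsg.Agent.Char.irr_const_eq_one χ.2 fun g => ?_)
    exact principal_ker_of_coprime hM (K := ⊤) (by rwa [Subgroup.card_top]) hχ (Subgroup.mem_top g)
  have hP : Nontrivial (default : Sylow p G) := by
    obtain ⟨n, hn⟩ := IsPGroup.iff_card.1 (default : Sylow p G).isPGroup'
    refine Finite.one_lt_card_iff_nontrivial.1 ?_
    rw [Sylow.card_eq_multiplicity]
    exact Nat.one_lt_pow ((Fact.out : p.Prime).dvd_iff_one_le_factorization Nat.card_pos.ne' |>.1
      hpG |> Nat.one_le_iff_ne_zero.1) (Fact.out : p.Prime).one_lt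
  obtain ⟨z, hz, hz1⟩ : ∃ z ∈ Subgroup.center (default : Sylow p G), z ≠ 1 := by
    haveI := IsPGroup.center_nontrivial (default : Sylow p G).isPGroup'
    obtain ⟨z, hz⟩ := exists_ne (1 : Subgroup.center (default : Sylow p G))
    exact ⟨z, z.2, fun h => hz (Subtype.ext h)⟩
  have hidx : ¬ p ∣ (Subgroup.centralizer ({(z : G)} : Set G)).index := by
    intro hd
    have hle : ((default : Sylow p G) : Subgroup G) ≤ Subgroup.centralizer ({(z : G)} : Set G) :=
      fun w hw => Subgroup.mem_centralizer_singleton_iff.2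
        (congrArg Subtype.val (Subgroup.mem_center_iff.1 hz ⟨w, hw⟩))
    exact (default : Sylow p G).not_dvd_index (hd.trans (Subgroup.index_dvd_of_le hle))
  set n := (Subgroup.centralizer ({(z : G)} : Set G)).index
  have hcong : ¬ MemLocalIdeal M (centralChar (χ : G → ℂ) z) := by
    intro h
    have h1 := (ideal_congr hM (pblock_sameBlock hM isPBlock_principalBlock
      (trivial_mem_principalBlock hM) hχ (z : G))).2 h
    rw [centralChar] at h1
    simp only [show ∀ g, ((trivialIrr G : IrrCharacter G) : G → ℂ) g = 1 from fun _ => rfl,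
      mul_one, div_one] at h1
    exact hidx ((ideal_natCast_iff hM _).1 h1)
  obtain ⟨m, ρ, hρ, hρχ⟩ := χ.2
  have hfin : Module.finrank ℂ (Fin m → ℂ) = p ^ k := by
    have h := hdeg
    rw [← hρχ, Representation.char_one] at h
    exact_mod_cast h
  rcases Cfsg.Agent.Char.character_eq_zero_or_norm_eq ρ (z : G) (hfin ▸
      (((Fact.out : p.Prime).coprime_iff_not_dvd.2 hidx).pow_left k)) with h0 | h0
  · exact hcong (by
      rw [centralChar, ← hρχ, h0, mul_zero, zero_div]
      exact ideal_zero hM)
  · obtain ⟨ω, hω⟩ := (Cfsg.Agent.Char.norm_character_eq_iff ρ (z : G)).mp h0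
    rcases ((inferInstance : (MonoidHom.ker ρ).Normal)).eq_bot_or_eq_top with hk | hk
    · have hzc : (z : G) ∈ Subgroup.center G := by
        refine Subgroup.mem_center_iff.mpr fun x => ?_
        refine (MonoidHom.ker_eq_bot_iff ρ).mp hk ?_
        rw [map_mul, map_mul, hω, ← Module.End.one_eq_id, mul_smul_comm, smul_mul_assoc, one_mul,
          mul_one]
      rw [hcen, Subgroup.mem_bot] at hzc
      exact hz1 (Subtype.ext hzc)
    · refine hne (Cfsg.Agent.Char.irr_const_eq_one χ.2 fun x => ?_)
      rw [← hρχ]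
      have hx : ρ x = 1 := MonoidHom.mem_ker.mp (hk ▸ Subgroup.mem_top x)
      simp [Representation.character, hx]

/-- Blocks of large defect are counted by regular classes of large defect. -/
theorem card_blocks_le_classes [Fact p.Prime] (hM : IsPModular p M) (d : ℕ) :
    Nat.card {B : Set (IrrCharacter G) // IsPBlock M B ∧ d ≤ blockDefect p B} ≤
      Nat.card {C : ConjClasses G // ∃ g : G, ConjClasses.mk g = C ∧ IsPRegular p g ∧
        d ≤ (Nat.card (Subgroup.centralizer ({g} : Set G))).factorization p} := by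
  classical
  cases nonempty_fintype G
  cases nonempty_fintype (ConjClasses G)
  letI : Field (ResField hM) := resInst hM
  set 𝔅 := {B : Set (IrrCharacter G) // IsPBlock M B ∧ d ≤ blockDefect p B}
  set 𝔎 := {C : ConjClasses G // ∃ g : G, ConjClasses.mk g = C ∧ IsPRegular p g ∧
        d ≤ (Nat.card (Subgroup.centralizer ({g} : Set G))).factorization p}
  haveI : Finite 𝔅 := Subtype.finite
  cases nonempty_fintype 𝔅
  cases nonempty_fintype 𝔎
  choose χ hχ using fun B : 𝔅 => pblock_nonempty hM B.2.1
  -- values of the central characters, and coefficients of the idempotents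
  let W : Matrix 𝔅 𝔎 (ResField hM) := fun B C => red hM (centralChar (χ B : G → ℂ) C.1.out)
  let E : Matrix 𝔎 𝔅 (ResField hM) := fun C B => red hM (blockCoeff B.1 C.1.out)
  have hWE : W * E = 1 := by
    ext B B'
    rw [Matrix.mul_apply]
    have hrest : ∀ C : ConjClasses G, (¬ ∃ g : G, ConjClasses.mk g = C ∧ IsPRegular p g ∧
        d ≤ (Nat.card (Subgroup.centralizer ({g} : Set G))).factorization p) →
        MemLocalIdeal M (centralChar (χ B : G → ℂ) C.out * blockCoeff B'.1 C.out) := by
      intro C hC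
      by_cases hp : p ∣ orderOf C.out
      · rw [blockCoeff_singular hM B'.2.1 hp, mul_zero]; exact ideal_zero hM
      refine ideal_mul_right hM ?_ (blockCoeff_ring hM B'.2.1 _)
      by_contra h
      refine hC ⟨C.out, Quotient.out_eq C, hp, ?_⟩
      obtain ⟨D, hD⟩ := exists_isDefectGroup hM B.2.1
      let Q : Sylow p (Subgroup.centralizer ({C.out} : Set G)) := Classical.arbitrary _
      obtain ⟨x, hx⟩ := exists_conj_le_centralizer_of_omega hM B.2.1 hD (hχ B) h Q
      have h1 : Nat.card D ∣ p ^ (Nat.card (Subgroup.centralizer ({C.out} : Set G))).factorization p := by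
        rw [← Subgroup.card_map_of_injective (f := (MulAut.conj x).toMonoidHom)
          (MulAut.conj x).injective, ← card_csyl Q]
        exact Subgroup.card_dvd_of_le hx
      rw [card_defectGroup hM B.2.1 hD] at h1
      exact B.2.2.trans ((Nat.pow_dvd_pow_iff_le_right (Fact.out : p.Prime).one_lt).1 h1)
    have hsum : ∑ C : ConjClasses G, centralChar (χ B : G → ℂ) C.out * blockCoeff B'.1 C.out =
        blockInd B'.1 (χ B) := by
      rw [eq_sum_centralChar (blockInd B'.1) (χ B)]
      exact Finset.sum_congr rfl fun C _ => by rw [blockCoeff_eq, mul_comm]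
    have hring : ∀ C : ConjClasses G,
        MemLocalRing M (centralChar (χ B : G → ℂ) C.out * blockCoeff B'.1 C.out) := fun C =>
      ring_mul hM (centralChar_ring hM _ _) (blockCoeff_ring hM B'.2.1 _)
    have hred := congrArg (red hM) hsum
    rw [red_sum hM fun C _ => hring C] at hred
    rw [Finset.sum_congr rfl (g := fun C : 𝔎 =>
      red hM (centralChar (χ B : G → ℂ) C.1.out * blockCoeff B'.1 C.1.out)) fun C _ =>
        (red_mul hM (centralChar_ring hM _ _) (blockCoeff_ring hM B'.2.1 _)).symm,
      ← Finset.sum_subtype (Finset.univ.filter (fun C : ConjClasses G => ∃ g : G,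
        ConjClasses.mk g = C ∧ IsPRegular p g ∧
          d ≤ (Nat.card (Subgroup.centralizer ({g} : Set G))).factorization p))
        (fun C => by simp)
        (fun C => red hM (centralChar (χ B : G → ℂ) C.out * blockCoeff B'.1 C.out)),
      Finset.sum_filter_of_ne fun C _ hne => ?_, hred]
    · rcases eq_or_ne B B' with rfl | hBB
      · rw [blockInd_of_mem (hχ B), red_one, Matrix.one_apply_eq]
      · rw [blockInd_of_notMem, red_zero, Matrix.one_apply_ne hBB]
        intro hmem
        exact hBB (Subtype.ext ((pblock_eq_blockOf hM B.2.1 (hχ B)).trans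
          (pblock_eq_blockOf hM B'.2.1 hmem).symm))
    · by_contra hC
      exact hne ((red_eq_zero hM (hring C)).2 (hrest C hC))
  have hrank : (W * E).rank ≤ Fintype.card 𝔎 :=
    (Matrix.rank_mul_le_left W E).trans (Matrix.rank_le_card_width W)
  rw [hWE, Matrix.rank_one] at hrank
  rwa [Nat.card_eq_fintype_card, Nat.card_eq_fintype_card]

end Cfsg.Agent.Block
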