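import Cfsg.Agent.Lib.Block.RelTrace

/-!
The complex group algebra: elements given by functions on a group mapping in, and the matrices of
left multiplication.
-/

namespace Cfsg.Agent.Block

set_option linter.unusedSectionVars false

universe u v

variable {G : Type u} [Group G] {p : ℕ} {M : Ideal AlgInt}

/-- The group algebra element with the given coefficients on a group mapping in. -/
noncomputable def algOf {K : Type v} [Group K] [Fintype K] (φ : K →* G) (a : K → ℂ) :
    MonoidAlgebra ℂ G :=
  ∑ k : K, MonoidAlgebra.single (φ k) (a k)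

theorem algOf_convFun {K : Type v} [Group K] [Fintype K] (φ : K →* G) (a b : K → ℂ) :
    algOf φ (convFun a b) = algOf φ a * algOf φ b := by
  simp only [algOf, Finset.sum_mul, Finset.mul_sum, MonoidAlgebra.single_mul_single]
  conv_lhs => enter [2, g]; rw [convFun, ← MonoidAlgebra.singleAddHom_apply, map_sum]
  rw [Finset.sum_comm]
  conv_rhs => rw [Finset.sum_comm]
  refine Finset.sum_congr rfl fun h _ => ?_
  refine Fintype.sum_equiv (Equiv.mulLeft h⁻¹) _ _ fun z => ?_
  simp [← map_mul]

theorem algOf_comm_single {K : Type v} [Group K] [Fintype K] (φ : K →* G) {a : K → ℂ}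
    (ha : IsClassFunction K a) (t : K) :
    algOf φ a * MonoidAlgebra.single (φ t) (1 : ℂ) =
      MonoidAlgebra.single (φ t) (1 : ℂ) * algOf φ a := by
  simp only [algOf, Finset.sum_mul, Finset.mul_sum, MonoidAlgebra.single_mul_single, one_mul,
    mul_one, ← map_mul]
  refine Fintype.sum_equiv (MulAut.conj t⁻¹).toEquiv _ _ fun k => ?_
  simp only [MulEquiv.toEquiv_eq_coe, MulEquiv.coe_toEquiv, MulAut.conj_apply]
  rw [ha k t⁻¹]
  congr 2
  group

theorem algOf_coeff_id [Fintype G] (a : G → ℂ) (x : G) :
    (algOf (MonoidHom.id G) a).coeff x = a x := by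
  classical
  simp [algOf, MonoidAlgebra.coeff_sum, Finsupp.single_apply]

theorem algOf_coeff_subtype [DecidableEq G] (H : Subgroup G) [Fintype H] [DecidablePred (· ∈ H)]
    (a : H → ℂ) (x : G) :
    (algOf H.subtype a).coeff x = if hx : x ∈ H then a ⟨x, hx⟩ else 0 := by
  simp only [algOf, MonoidAlgebra.coeff_sum, Finsupp.coe_finsetSum, Finset.sum_apply,
    MonoidAlgebra.coeff_single, Finsupp.single_apply, Subgroup.subtype_apply]
  split_ifs with hx
  · rw [Finset.sum_eq_single ⟨x, hx⟩ (fun k _ hk => if_neg fun h => hk (Subtype.ext h))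
      (fun h => absurd (Finset.mem_univ _) h), if_pos rfl]
  · exact Finset.sum_eq_zero fun k _ => if_neg fun h : (k : G) = x => hx (h ▸ k.2)

variable [Fintype G] [DecidableEq G]

/-- The matrices of left multiplication. -/
noncomputable def leftMat : MonoidAlgebra ℂ G →ₐ[ℂ] Matrix G G ℂ :=
  MonoidAlgebra.lift ℂ (Matrix G G ℂ) G
    { toFun := fun g => Matrix.of fun s t => if s = g * t then 1 else 0
      map_one' := by ext s t; simp [Matrix.one_apply]
      map_mul' := fun a b => by
        ext s t
        simp [Matrix.mul_apply, mul_assoc] }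

theorem leftMat_single (g : G) (r : ℂ) (s t : G) :
    leftMat (MonoidAlgebra.single g r) s t = if s = g * t then r else 0 := by
  simp [leftMat]

theorem leftMat_apply (x : MonoidAlgebra ℂ G) (s t : G) : leftMat x s t = x.coeff (s * t⁻¹) := by
  induction x using MonoidAlgebra.induction_on with
  | of g =>
    rw [MonoidAlgebra.of_apply, leftMat_single, MonoidAlgebra.coeff_single, Finsupp.single_apply]
    exact if_congr ⟨fun h => by rw [h, mul_inv_cancel_right],
      fun h => by rw [h, inv_mul_cancel_right]⟩ rfl rfl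
  | add a b ha hb =>
    rw [map_add, Matrix.add_apply, ha, hb, MonoidAlgebra.coeff_add, Finsupp.add_apply]
  | smul r a ha =>
    rw [map_smul, Matrix.smul_apply, ha, MonoidAlgebra.coeff_smul, Finsupp.smul_apply]

/-- All coefficients lie in the local ring. -/
def AlgRing (M : Ideal AlgInt) (x : MonoidAlgebra ℂ G) : Prop :=
  ∀ g, MemLocalRing M (x.coeff g)

theorem AlgRing.matRing {x : MonoidAlgebra ℂ G} (hx : AlgRing M x) : MatRing M (leftMat x) :=
  fun s t => by rw [leftMat_apply]; exact hx _

theorem AlgRing.mul (hM : IsPModular p M) {x y : MonoidAlgebra ℂ G} (hx : AlgRing M x)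
    (hy : AlgRing M y) : AlgRing M (x * y) := fun g => by
  have h := (hx.matRing.mul hM hy.matRing) g 1
  rwa [← map_mul, leftMat_apply, inv_one, mul_one] at h

theorem AlgRing.single (hM : IsPModular p M) (a : G) :
    AlgRing M (MonoidAlgebra.single a (1 : ℂ)) := fun g => by
  rw [MonoidAlgebra.coeff_single, Finsupp.single_apply]
  split_ifs
  · exact ring_one hM
  · exact ring_zero hM

theorem AlgRing.neg {x : MonoidAlgebra ℂ G} (hx : AlgRing M x) : AlgRing M (-x) := fun g => by
  rw [MonoidAlgebra.coeff_neg, Finsupp.neg_apply]; exact ring_neg (hx g)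

theorem AlgRing.smul (hM : IsPModular p M) {c : ℂ} (hc : MemLocalRing M c)
    {x : MonoidAlgebra ℂ G} (hx : AlgRing M x) : AlgRing M (c • x) := fun g => by
  rw [MonoidAlgebra.coeff_smul, Finsupp.smul_apply, smul_eq_mul]; exact ring_mul hM hc (hx g)

theorem AlgRing.sum (hM : IsPModular p M) {ι : Type*} {s : Finset ι}
    {x : ι → MonoidAlgebra ℂ G} (h : ∀ i ∈ s, AlgRing M (x i)) : AlgRing M (∑ i ∈ s, x i) :=
  fun g => by
  rw [MonoidAlgebra.coeff_sum, Finsupp.coe_finsetSum, Finset.sum_apply]
  exact ring_sum hM fun i hi => h i hi g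

theorem AlgRing.algOf (hM : IsPModular p M) {K : Type v} [Group K] [Fintype K] (φ : K →* G)
    {a : K → ℂ} (ha : ∀ k, MemLocalRing M (a k)) : AlgRing M (algOf φ a) := by
  refine AlgRing.sum hM fun k _ g => ?_
  rw [MonoidAlgebra.coeff_single, Finsupp.single_apply]
  split_ifs
  · exact ha k
  · exact ring_zero hM

end Cfsg.Agent.Block
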