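import Cfsg.Agent.Lib.Block.FirstMain
import Cfsg.Agent.Lib.Block.GroupAlgebra

/-!
Nagao's lemma and Brauer's second main theorem, with the orthogonality of the sections.
-/

open scoped ComplexConjugate

namespace Cfsg.Agent.Block

set_option linter.unusedSectionVars false
set_option linter.style.haveILetI false

universe u

variable {G : Type u} [Group G] [Finite G] {p : ℕ} {M : Ideal AlgInt}

theorem pPart_unique [Fact p.Prime] {g a b : G} (ha : IsPPart p g a) (hb : IsPPart p g b) :
    a = b := by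
  have hp : p.Prime := Fact.out
  have hca := mem_zpowers_of_pPart ha
  have hcb := mem_zpowers_of_pPart hb
  obtain ⟨v, huv, -, ⟨k, hk⟩, hv⟩ := ha
  obtain ⟨w, huw, -, ⟨l, hl⟩, hw⟩ := hb
  have hv' : v ∈ Subgroup.zpowers g := by
    rw [show v = a⁻¹ * g by rw [← huv, inv_mul_cancel_left]]
    exact mul_mem (inv_mem hca) (Subgroup.mem_zpowers g)
  have hw' : w ∈ Subgroup.zpowers g := by
    rw [show w = b⁻¹ * g by rw [← huw, inv_mul_cancel_left]]
    exact mul_mem (inv_mem hcb) (Subgroup.mem_zpowers g)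
  have hcomm : ∀ {s t : G}, s ∈ Subgroup.zpowers g → t ∈ Subgroup.zpowers g → Commute s t := by
    intro s t hs ht
    obtain ⟨i, rfl⟩ := Subgroup.mem_zpowers_iff.1 hs
    obtain ⟨j, rfl⟩ := Subgroup.mem_zpowers_iff.1 ht
    exact (Commute.refl g).zpow_zpow i j
  have heq : b⁻¹ * a = w * v⁻¹ := by
    rw [inv_mul_eq_iff_eq_mul, ← mul_assoc, eq_mul_inv_iff_mul_eq, huv, huw]
  have h1 : orderOf (b⁻¹ * a) ∣ p ^ (l + k) := by
    refine (hcomm (inv_mem hcb) hca).orderOf_mul_dvd_mul_orderOf.trans ?_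
    rw [orderOf_inv, hl, hk, pow_add]
  have h2 : orderOf (b⁻¹ * a) ∣ orderOf w * orderOf v := by
    rw [heq]
    exact ((hcomm hw' (inv_mem hv')).orderOf_mul_dvd_mul_orderOf).trans (by rw [orderOf_inv])
  have h3 : Nat.Coprime (p ^ (l + k)) (orderOf w * orderOf v) :=
    Nat.Coprime.pow_left _ (hp.coprime_iff_not_dvd.2 fun h => (hp.dvd_mul.1 h).elim hw hv)
  have h4 := Nat.eq_one_of_dvd_coprimes h3 h1 h2
  exact (inv_mul_eq_one.1 (orderOf_eq_one_iff.1 h4)).symm

/-- A central element invertible on a block has an inverse there with local coefficients. -/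
theorem cenInt_inv_on_block (hM : IsPModular p M) {B : Set (IrrCharacter G)}
    (hB : IsPBlock M B) {r : IrrCharacter G → ℂ} (hr : CenInt M r)
    (h1 : ∀ χ ∈ B, MemLocalIdeal M (r χ - 1)) :
    ∃ s : IrrCharacter G → ℂ, CenInt M s ∧ s * r = blockInd B := by
  classical
  have heI := cenInt_blockInd hM hB
  set k : IrrCharacter G → ℂ := blockInd B * (1 - r) with hk
  have hkI : CenInt M k := heI.mul hM ((cenInt_one hM).sub hM hr)
  have hval : ∀ χ, MemLocalIdeal M (k χ) := by
    intro χ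
    by_cases hχ : χ ∈ B
    · simp only [hk, Pi.mul_apply, Pi.sub_apply, Pi.one_apply, blockInd_of_mem hχ, one_mul]
      exact ideal_sub_comm (h1 χ hχ)
    · simp only [hk, Pi.mul_apply, blockInd_of_notMem hχ, zero_mul]
      exact ideal_zero hM
  obtain ⟨N, hN, hpow⟩ :=
    exists_exponent_local hM k (fun χ => hkI.ring hM χ) ((Nat.card G).factorization p)
  let s : IrrCharacter G → ℂ := fun χ => if χ ∈ B then (r χ)⁻¹ else 0
  have hunit : ∀ χ ∈ B, ¬ MemLocalIdeal M (r χ) := fun χ hχ h =>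
    ideal_one hM ((ideal_congr hM (h1 χ hχ)).1 h)
  refine ⟨s, ?_, funext fun χ => ?_⟩
  · have hgeo : CenInt M (blockInd B * ∑ i ∈ Finset.range N, k ^ i) := by
      refine heI.mul hM (fun g => ?_)
      induction Finset.range N using Finset.induction with
      | empty =>
        rw [Finset.sum_empty, ← sub_self (1 : IrrCharacter G → ℂ), coeffFun_sub, sub_self]
        exact ring_zero hM
      | insert i t hi ih =>
        rw [Finset.sum_insert hi, coeffFun_add]
        exact ring_add hM (hkI.pow hM i g) ih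
    have htail : CenInt M (k ^ N * s) := by
      refine coeffFun_ring_of_pow_dvd hM le_rfl fun χ => ?_
      obtain ⟨c, hc, hkc⟩ := (hpow χ).1 (hval χ)
      refine ⟨c * s χ, ring_mul hM hc ?_, by rw [Pi.mul_apply, Pi.pow_apply, hkc, mul_assoc]⟩
      simp only [s]
      split_ifs with hχ
      · exact ring_inv hM (hr.ring hM χ) (hunit χ hχ)
      · exact ring_zero hM
    convert hgeo.add hM htail using 1
    funext χ
    simp only [Pi.add_apply, Pi.mul_apply, Finset.sum_apply, Pi.pow_apply, s, hk, Pi.sub_apply,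
      Pi.one_apply]
    by_cases hχ : χ ∈ B
    · have h0 : r χ ≠ 0 := fun h => hunit χ hχ (h ▸ ideal_zero hM)
      rw [if_pos hχ, blockInd_of_mem hχ]
      simp only [one_mul]
      have hg := geom_sum_mul (1 - r χ) N
      field_simp
      linear_combination hg
    · simp [if_neg hχ, blockInd_of_notMem hχ, zero_pow hN.ne']
  · simp only [Pi.mul_apply, s]
    by_cases hχ : χ ∈ B
    · have h0 : r χ ≠ 0 := fun h => hunit χ hχ (h ▸ ideal_zero hM)
      rw [if_pos hχ, blockInd_of_mem hχ, inv_mul_cancel₀ h0]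
    · rw [if_neg hχ, blockInd_of_notMem hχ, zero_mul]

set_option maxHeartbeats 1000000 in
/-- A class function on the part of the group outside `H` is a relative trace from the `p`-th
powers of `z`, by an element commuting with `v`. -/
theorem exists_relTrace_preimage [Fintype G] [DecidableEq G] [Fact p.Prime] (hM : IsPModular p M)
    (H : Subgroup G) [Fintype H] [DecidablePred (· ∈ H)] {z v : G} {j : ℕ}
    (hj : orderOf z = p ^ j) (hv : ¬ p ∣ orderOf v) (hcomm : Commute z v) (hzH : z ∈ H)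
    (hvH : v ∈ H) (hCz : Subgroup.centralizer ({z} : Set G) ≤ H) {a₀ : G → ℂ}
    (ha₀ : IsClassFunction G a₀) (hr₀ : ∀ g, MemLocalRing M (a₀ g)) :
    ∃ d₁ : MonoidAlgebra ℂ G, AlgRing M d₁ ∧
      MonoidAlgebra.single (z ^ p) (1 : ℂ) * d₁ = d₁ * MonoidAlgebra.single (z ^ p) (1 : ℂ) ∧
      MonoidAlgebra.single v (1 : ℂ) * d₁ = d₁ * MonoidAlgebra.single v (1 : ℂ) ∧
      ∑ i ∈ Finset.range p, MonoidAlgebra.single (z ^ i) (1 : ℂ) * d₁ *
          MonoidAlgebra.single ((z ^ i)⁻¹) (1 : ℂ) =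
        algOf (MonoidHom.id G) a₀ - algOf H.subtype (fun k : H => a₀ (k : G)) := by
  classical
  set d := algOf (MonoidHom.id G) a₀ - algOf H.subtype (fun k : H => a₀ (k : G)) with hd
  have hcen : ∀ x : MonoidAlgebra ℂ G,
      algOf (MonoidHom.id G) a₀ * x = x * algOf (MonoidHom.id G) a₀ := by
    intro x
    induction x using MonoidAlgebra.induction_on with
    | of g => exact algOf_comm_single (MonoidHom.id G) ha₀ g
    | add a b ha hb => rw [mul_add, add_mul, ha, hb]
    | smul r a ha => rw [mul_smul_comm, smul_mul_assoc, ha]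
  have hcenH : ∀ t : G, t ∈ H →
      algOf H.subtype (fun k : H => a₀ (k : G)) * MonoidAlgebra.single t (1 : ℂ) =
        MonoidAlgebra.single t (1 : ℂ) * algOf H.subtype (fun k : H => a₀ (k : G)) := fun t ht =>
    algOf_comm_single H.subtype (fun g h => ha₀ (g : G) (h : G)) ⟨t, ht⟩
  -- choose one orbit of the p-th powers in each orbit outside the subgroup
  let conjSetoid : Setoid G :=
    ⟨fun x y => ∃ a : ℤ, z ^ a * x * z ^ (-a) = y, ⟨fun x => ⟨0, by simp⟩, fun {x y} h => by
      obtain ⟨a, rfl⟩ := h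
      exact ⟨-a, by group⟩, fun {x y w} h h' => by
      obtain ⟨a, rfl⟩ := h
      obtain ⟨a', rfl⟩ := h'
      exact ⟨a' + a, by group⟩⟩⟩
  let rep : G → G := fun x => (Quotient.mk conjSetoid x).out
  have hrep : ∀ x, ∃ a : ℤ, z ^ a * rep x * z ^ (-a) = x := fun x =>
    Quotient.exact (s := conjSetoid) (Quotient.out_eq (Quotient.mk conjSetoid x))
  have hrep' : ∀ (x : G) (a : ℤ), rep (z ^ a * x * z ^ (-a)) = rep x := fun x a => by
    show (Quotient.mk conjSetoid _).out = (Quotient.mk conjSetoid x).out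
    rw [Quotient.sound (s := conjSetoid) (a := x) (b := z ^ a * x * z ^ (-a)) ⟨a, rfl⟩]
  have hconjH : ∀ (x : G) (a : ℤ), z ^ a * x * z ^ (-a) ∈ H ↔ x ∈ H := fun x a => by
    have hza : z ^ a ∈ H := H.zpow_mem hzH a
    rw [zpow_neg]
    exact ⟨fun hx => by simpa [mul_assoc] using mul_mem (mul_mem (inv_mem hza) hx) hza,
      fun hx => mul_mem (mul_mem hza hx) (inv_mem hza)⟩
  have hstab : ∀ x : G, x ∉ H → ∀ n : ℤ, z ^ n * rep x * z ^ (-n) = rep x → (p : ℤ) ∣ n := by
    intro x hx n hn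
    by_contra hpn
    refine hx ?_
    have hco : Int.gcd n ((p ^ j : ℕ) : ℤ) = 1 := by
      rw [Int.gcd, Int.natAbs_natCast]
      exact Nat.Coprime.pow_right _ (((Fact.out : p.Prime).coprime_iff_not_dvd).2 fun hd =>
        hpn (Int.natCast_dvd.2 hd)).symm
    have hbez := Int.gcd_eq_gcd_ab n ((p ^ j : ℕ) : ℤ)
    rw [hco] at hbez
    have hz : z = (z ^ n) ^ Int.gcdA n ((p ^ j : ℕ) : ℤ) := by
      conv_lhs => rw [← zpow_one z, show (1 : ℤ) = n * Int.gcdA n ((p ^ j : ℕ) : ℤ) +
        ((p ^ j : ℕ) : ℤ) * Int.gcdB n ((p ^ j : ℕ) : ℤ) by exact_mod_cast hbez]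
      rw [zpow_add, zpow_mul, zpow_mul z ((p ^ j : ℕ) : ℤ), zpow_natCast, ← hj,
        pow_orderOf_eq_one, one_zpow, mul_one]
    have hc1 : Commute (z ^ n) (rep x) := by
      have := congrArg (· * z ^ n) hn
      simpa [mul_assoc, Commute, SemiconjBy] using this
    have hc2 : Commute z (rep x) := by rw [hz]; exact hc1.zpow_left _
    have hrH : rep x ∈ H := hCz (Subgroup.mem_centralizer_singleton_iff.2 hc2.symm.eq)
    obtain ⟨a, ha⟩ := hrep x
    rw [← ha]
    exact (hconjH _ a).2 hrH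
  let T : G → Prop := fun x =>
    x ∉ H ∧ ∃ l : ℤ, z ^ ((p : ℤ) * l) * rep x * z ^ (-((p : ℤ) * l)) = x
  have hTinv : ∀ x, T (z ^ (p : ℤ) * x * z ^ (-(p : ℤ))) ↔ T x := by
    intro x
    simp only [T, hconjH, hrep']
    refine and_congr_right fun _ => ⟨fun ⟨l, hl⟩ => ⟨l - 1, ?_⟩, fun ⟨l, hl⟩ => ⟨l + 1, ?_⟩⟩
    · have := congrArg (fun w => z ^ (-(p : ℤ)) * w * z ^ (p : ℤ)) hl
      refine Eq.trans ?_ (Eq.trans this ?_)
      · rw [mul_sub, mul_one]; group
      · group
    · conv_rhs => rw [← hl]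
      rw [mul_add, mul_one]
      group
  let d₀ : MonoidAlgebra ℂ G :=
    algOf (MonoidHom.id G) (fun x => if T x then a₀ x else 0)
  have hd₀p : MonoidAlgebra.single (z ^ p) (1 : ℂ) * d₀ =
      d₀ * MonoidAlgebra.single (z ^ p) (1 : ℂ) := by
    ext x
    rw [MonoidAlgebra.coeff_mul_single_apply, MonoidAlgebra.coeff_single_mul_apply, one_mul,
      mul_one, algOf_coeff_id, algOf_coeff_id]
    have hx : x * (z ^ p)⁻¹ = z ^ (p : ℤ) * ((z ^ p)⁻¹ * x) * z ^ (-(p : ℤ)) := by
      rw [zpow_neg, zpow_natCast, mul_inv_cancel_left]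
    conv_rhs => rw [hx]
    refine if_congr (hTinv _).symm ?_ rfl
    rw [show z ^ (p : ℤ) * ((z ^ p)⁻¹ * x) * z ^ (-(p : ℤ)) =
      z ^ p * ((z ^ p)⁻¹ * x) * (z ^ p)⁻¹ by rw [zpow_neg, zpow_natCast]]
    exact (ha₀ _ _).symm
  have hd₀sum : ∑ i ∈ Finset.range p, MonoidAlgebra.single (z ^ i) (1 : ℂ) * d₀ *
      MonoidAlgebra.single ((z ^ i)⁻¹) (1 : ℂ) = d := by
    ext x
    rw [hd, MonoidAlgebra.coeff_sub, Finsupp.sub_apply, algOf_coeff_id,
      algOf_coeff_subtype, MonoidAlgebra.coeff_sum, Finsupp.coe_finsetSum, Finset.sum_apply]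
    simp only [MonoidAlgebra.coeff_mul_single_apply, MonoidAlgebra.coeff_single_mul_apply,
      one_mul, mul_one, inv_inv, d₀, algOf_coeff_id]
    have hshape : ∀ i : ℕ, (z ^ i)⁻¹ * (x * z ^ i) = z ^ (-(i : ℤ)) * x * z ^ (-(-(i : ℤ))) := by
      intro i
      rw [neg_neg, zpow_neg, zpow_natCast, mul_assoc]
    simp only [hshape]
    split_ifs with hx
    · rw [sub_self]
      exact Finset.sum_eq_zero fun i _ => if_neg fun hT => hT.1 ((hconjH x _).2 hx)
    · obtain ⟨a, ha⟩ := hrep x
      have hp0 : (p : ℤ) ≠ 0 := Int.natCast_ne_zero.2 (Fact.out : p.Prime).ne_zero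
      have hiff : ∀ i : ℕ, T (z ^ (-(i : ℤ)) * x * z ^ (-(-(i : ℤ)))) ↔ (p : ℤ) ∣ a - i := by
        intro i
        simp only [T, hconjH, hrep']
        refine ⟨fun ⟨_, l, hl⟩ => ?_, fun ⟨l, hl⟩ => ⟨hx, l, ?_⟩⟩
        · have h2 : z ^ (a - i - (p : ℤ) * l) * rep x * z ^ (-(a - i - (p : ℤ) * l)) = rep x := by
            have h3 := congrArg
              (fun w => z ^ (-((p : ℤ) * l)) * w * z ^ ((p : ℤ) * l)) hl
            conv at h3 => enter [2, 1, 2, 1, 2]; rw [← ha]
            calc z ^ (a - i - (p : ℤ) * l) * rep x * z ^ (-(a - i - (p : ℤ) * l))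
                = z ^ (-((p : ℤ) * l)) * (z ^ (-(i : ℤ)) * (z ^ a * rep x * z ^ (-a)) *
                    z ^ (-(-(i : ℤ)))) * z ^ ((p : ℤ) * l) := by group
              _ = z ^ (-((p : ℤ) * l)) * (z ^ ((p : ℤ) * l) * rep x * z ^ (-((p : ℤ) * l))) *
                    z ^ ((p : ℤ) * l) := h3.symm
              _ = rep x := by group
          have h4 := hstab x hx _ h2
          have := dvd_add h4 (dvd_mul_right (p : ℤ) l)
          rwa [sub_add_cancel] at this
        · rw [← hl]
          conv_rhs => rw [← ha]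
          group
      rw [sub_zero, Finset.sum_eq_single ((a % (p : ℤ)).toNat)]
      · rw [if_pos]
        · simp only [neg_neg]
          rw [zpow_neg]
          conv_rhs => rw [← ha₀ x (z ^ (((a % (p : ℤ)).toNat : ℕ) : ℤ))⁻¹]
          rw [inv_inv]
        · rw [hiff, Int.toNat_of_nonneg (Int.emod_nonneg a hp0)]
          rw [Int.emod_def]
          exact ⟨a / p, by ring⟩
      · intro i hi hne
        refine if_neg fun hT => hne ?_
        have h5 : (i : ℤ) % (p : ℤ) = a % (p : ℤ) :=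
          (Int.emod_eq_emod_iff_emod_sub_eq_zero.2 (Int.emod_eq_zero_of_dvd ((hiff i).1 hT))).symm
        rw [Int.emod_eq_of_lt (Int.natCast_nonneg i)
          (Int.ofNat_lt.2 (Finset.mem_range.1 hi))] at h5
        rw [← h5]
        simp
      · intro hn
        refine absurd (Finset.mem_range.2 ?_) hn
        have h6 := Int.emod_lt_of_pos a (show (0 : ℤ) < p by
          exact_mod_cast (Fact.out : p.Prime).pos)
        omega
  -- averaging over the regular part
  set m := orderOf v with hm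
  have hm0 : (m : ℂ) ≠ 0 := Nat.cast_ne_zero.2 (orderOf_pos v).ne'
  let d₁ : MonoidAlgebra ℂ G := (m : ℂ)⁻¹ • ∑ i ∈ Finset.range m,
    MonoidAlgebra.single (v ^ i) (1 : ℂ) * d₀ * MonoidAlgebra.single ((v ^ i)⁻¹) (1 : ℂ)
  have hd₁v : MonoidAlgebra.single v (1 : ℂ) * d₁ = d₁ * MonoidAlgebra.single v (1 : ℂ) := by
    have hshift : MonoidAlgebra.single v (1 : ℂ) * d₁ * MonoidAlgebra.single v⁻¹ (1 : ℂ) = d₁ := by
      simp only [d₁, mul_smul_comm, smul_mul_assoc, Finset.mul_sum, Finset.sum_mul]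
      congr 1
      have hterm : ∀ i : ℕ, MonoidAlgebra.single v (1 : ℂ) *
          (MonoidAlgebra.single (v ^ i) (1 : ℂ) * d₀ * MonoidAlgebra.single ((v ^ i)⁻¹) (1 : ℂ)) *
            MonoidAlgebra.single v⁻¹ (1 : ℂ) =
          MonoidAlgebra.single (v ^ (i + 1)) (1 : ℂ) * d₀ *
            MonoidAlgebra.single ((v ^ (i + 1))⁻¹) (1 : ℂ) := fun i => by
        simp only [mul_assoc, MonoidAlgebra.single_mul_single, mul_one, pow_succ', mul_inv_rev]
        simp only [← mul_assoc, MonoidAlgebra.single_mul_single, mul_one]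
      rw [Finset.sum_congr rfl fun i _ => hterm i]
      obtain ⟨n, hn⟩ : ∃ n, m = n + 1 :=
        ⟨m - 1, by have := orderOf_pos v; omega⟩
      rw [hn, Finset.sum_range_succ (fun i => MonoidAlgebra.single (v ^ (i + 1)) (1 : ℂ) * d₀ *
          MonoidAlgebra.single ((v ^ (i + 1))⁻¹) (1 : ℂ)),
        Finset.sum_range_succ' (fun i => MonoidAlgebra.single (v ^ i) (1 : ℂ) * d₀ *
          MonoidAlgebra.single ((v ^ i)⁻¹) (1 : ℂ)) n, ← hn, hm, pow_orderOf_eq_one, pow_zero]
    conv_rhs => rw [← hshift]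
    simp [mul_assoc, MonoidAlgebra.single_mul_single, ← MonoidAlgebra.one_def]
  have hcomm' : ∀ i k : ℕ, Commute (z ^ i) (v ^ k) := fun i k => hcomm.pow_pow i k
  have hswap : ∀ i k : ℕ, Commute (MonoidAlgebra.single (z ^ i) (1 : ℂ))
      (MonoidAlgebra.single (v ^ k) (1 : ℂ)) := fun i k => by
    simp only [Commute, SemiconjBy, MonoidAlgebra.single_mul_single, (hcomm' i k).eq]
  have hswap' : ∀ i k : ℕ, Commute (MonoidAlgebra.single (z ^ i) (1 : ℂ))
      (MonoidAlgebra.single ((v ^ k)⁻¹) (1 : ℂ)) := fun i k => by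
    simp only [Commute, SemiconjBy, MonoidAlgebra.single_mul_single, ((hcomm' i k).inv_right).eq]
  have hd₁p : MonoidAlgebra.single (z ^ p) (1 : ℂ) * d₁ =
      d₁ * MonoidAlgebra.single (z ^ p) (1 : ℂ) := by
    simp only [d₁, mul_smul_comm, smul_mul_assoc, Finset.mul_sum, Finset.sum_mul]
    congr 1
    refine Finset.sum_congr rfl fun i _ => ?_
    exact (((hswap p i).mul_right hd₀p).mul_right (hswap' p i)).eq
  have hdv : ∀ i : ℕ, MonoidAlgebra.single (v ^ i) (1 : ℂ) * d *
      MonoidAlgebra.single ((v ^ i)⁻¹) (1 : ℂ) = d := fun i => by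
    have h1 : d * MonoidAlgebra.single (v ^ i) (1 : ℂ) =
        MonoidAlgebra.single (v ^ i) (1 : ℂ) * d := by
      rw [hd, sub_mul, mul_sub, hcen, hcenH _ (H.pow_mem hvH i)]
    rw [← h1, mul_assoc, MonoidAlgebra.single_mul_single, mul_inv_cancel, mul_one,
      ← MonoidAlgebra.one_def, mul_one]
  have hd₁sum : ∑ i ∈ Finset.range p, MonoidAlgebra.single (z ^ i) (1 : ℂ) * d₁ *
      MonoidAlgebra.single ((z ^ i)⁻¹) (1 : ℂ) = d := by
    simp only [d₁, mul_smul_comm, smul_mul_assoc, Finset.mul_sum, Finset.sum_mul, ← Finset.smul_sum]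
    rw [Finset.sum_comm]
    have hterm : ∀ k : ℕ, ∑ i ∈ Finset.range p, MonoidAlgebra.single (z ^ i) (1 : ℂ) *
        (MonoidAlgebra.single (v ^ k) (1 : ℂ) * d₀ * MonoidAlgebra.single ((v ^ k)⁻¹) (1 : ℂ)) *
          MonoidAlgebra.single ((z ^ i)⁻¹) (1 : ℂ) = d := by
      intro k
      conv_rhs => rw [← hdv k, ← hd₀sum, Finset.mul_sum, Finset.sum_mul]
      refine Finset.sum_congr rfl fun i _ => ?_
      have hsw'' : Commute (MonoidAlgebra.single ((v ^ k)⁻¹) (1 : ℂ))
          (MonoidAlgebra.single ((z ^ i)⁻¹) (1 : ℂ)) := by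
        simp only [Commute, SemiconjBy, MonoidAlgebra.single_mul_single,
          ((hcomm' i k).inv_inv).symm.eq]
      simp only [← mul_assoc, (hswap i k).eq]
      simp only [mul_assoc, hsw''.eq]
    rw [Finset.sum_congr rfl fun k _ => hterm k, Finset.sum_const, Finset.card_range,
      ← Nat.cast_smul_eq_nsmul ℂ, smul_smul, inv_mul_cancel₀ hm0, one_smul]
  refine ⟨d₁, ?_, hd₁p, hd₁v, hd₁sum⟩
  refine (AlgRing.sum hM fun i _ => ((AlgRing.single hM _).mul hM ?_).mul hM
    (AlgRing.single hM _)).smul hM (ring_inv_natCast hM hv)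
  exact AlgRing.algOf hM _ fun x => by
    split_ifs
    · exact hr₀ x
    · exact ring_zero hM

set_option maxHeartbeats 1000000 in
/-- Nagao's lemma. -/
theorem nagao [Fact p.Prime] (hM : IsPModular p M) {H : Subgroup G} {b : Set (IrrCharacter H)}
    {B : Set (IrrCharacter G)} (hind : IsInducedBlock M H b B) (h : H)
    (hC : ∀ z : G, IsPPart p (h : G) z → Subgroup.centralizer ({z} : Set G) ≤ H)
    {χ : IrrCharacter G} (hχ : χ ∉ B) :
    ∑ᶠ k : H, blockCoeff b k * (χ : G → ℂ) ((k : G) * (h : G)) = 0 := by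
  classical
  cases nonempty_fintype G
  cases nonempty_fintype H
  obtain ⟨z, v, hzv, hcomm, ⟨j, hj⟩, hv, hzm, hvm⟩ := exists_pPart_zpowers (p := p) (h : G)
  have hCz := hC z ⟨v, hzv, hcomm, ⟨j, hj⟩, hv⟩
  have hzH : z ∈ H := Subgroup.zpowers_le.2 h.2 hzm
  have hvH : v ∈ H := Subgroup.zpowers_le.2 h.2 hvm
  obtain ⟨uF, huI, hur⟩ := cenInt_inv_on_block hM hind.1
    (CenInt.resCen (H := H) (cenInt_blockInd hM hind.2.1)) (fun ξ hξ => by
      obtain ⟨χ₁, hχ₁⟩ := pblock_nonempty hM hind.2.1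
      have := induced_congr hM hind (cenInt_blockInd hM hind.2.1) hξ hχ₁
      rwa [blockInd_of_mem hχ₁] at this)
  set e := algOf (MonoidHom.id G) (coeffFun (blockInd B)) with he
  set e' := algOf (MonoidHom.id G) (coeffFun (1 - blockInd B)) with he'
  set f := algOf H.subtype (coeffFun (blockInd b)) with hf
  set c := algOf H.subtype (coeffFun (resCen H (blockInd B))) with hc
  set u := algOf H.subtype (coeffFun uF) with hu
  set d := e - c with hd
  have hmulG : ∀ f₁ f₂ : IrrCharacter G → ℂ, algOf (MonoidHom.id G) (coeffFun (f₁ * f₂)) =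
      algOf (MonoidHom.id G) (coeffFun f₁) * algOf (MonoidHom.id G) (coeffFun f₂) := fun f₁ f₂ => by
    rw [coeffFun_mul, algOf_convFun]
  have hmulH : ∀ f₁ f₂ : IrrCharacter H → ℂ, algOf H.subtype (coeffFun (f₁ * f₂)) =
      algOf H.subtype (coeffFun f₁) * algOf H.subtype (coeffFun f₂) := fun f₁ f₂ => by
    rw [coeffFun_mul, algOf_convFun]
  have hcenG : ∀ (f₁ : IrrCharacter G → ℂ) (x : MonoidAlgebra ℂ G),
      algOf (MonoidHom.id G) (coeffFun f₁) * x = x * algOf (MonoidHom.id G) (coeffFun f₁) := by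
    intro f₁ x
    induction x using MonoidAlgebra.induction_on with
    | of g => exact algOf_comm_single (MonoidHom.id G) (coeffFun_classFun f₁) g
    | add a b ha hb => rw [mul_add, add_mul, ha, hb]
    | smul r a ha => rw [mul_smul_comm, smul_mul_assoc, ha]
  have hcenH : ∀ (f₁ : IrrCharacter H → ℂ) (t : G), t ∈ H →
      algOf H.subtype (coeffFun f₁) * MonoidAlgebra.single t (1 : ℂ) =
        MonoidAlgebra.single t (1 : ℂ) * algOf H.subtype (coeffFun f₁) := fun f₁ t ht =>
    algOf_comm_single H.subtype (coeffFun_classFun f₁) ⟨t, ht⟩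
  have hee' : e * e' = 0 := by
    rw [he, he', ← hmulG, show blockInd B * (1 - blockInd B) = 0 by
      rw [mul_sub, mul_one, blockInd_mul_self, sub_self]]
    have h0 : coeffFun (0 : IrrCharacter G → ℂ) = 0 := funext fun g => by
      rw [← sub_self (1 : IrrCharacter G → ℂ), coeffFun_sub, sub_self]; rfl
    simp [h0, algOf]
  set q := f * e' with hq
  have hqid : q * q = q := by
    have hff : f * f = f := by rw [hf, ← hmulH, blockInd_mul_self]
    have he'e' : e' * e' = e' := by
      rw [he', ← hmulG]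
      congr 2
      rw [mul_sub, mul_one, sub_mul, one_mul, blockInd_mul_self, sub_self, sub_zero]
    calc f * e' * (f * e') = f * (e' * f) * e' := by simp only [mul_assoc]
      _ = f * (f * e') * e' := by rw [hcenG (1 - blockInd B) f]
      _ = (f * f) * (e' * e') := by simp only [mul_assoc]
      _ = _ := by rw [hff, he'e']
  have hqneg : q = -(u * d * e') := by
    have hfc : u * c = f := by rw [hu, hc, ← hmulH, hur]
    rw [hd, mul_sub, hfc, sub_mul, mul_assoc, hee', mul_zero, zero_sub, neg_neg]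
  obtain ⟨d₁, hdr₁, hd₁p, hd₁v, hd₁sum'⟩ := exists_relTrace_preimage hM H hj hv hcomm hzH hvH
    hCz (coeffFun_classFun (blockInd B)) (cenInt_blockInd hM hind.2.1)
  have hd₁sum : ∑ i ∈ Finset.range p, MonoidAlgebra.single (z ^ i) (1 : ℂ) * d₁ *
      MonoidAlgebra.single ((z ^ i)⁻¹) (1 : ℂ) = d := by
    rw [hd₁sum', hd, he, hc]
    congr 2
    exact funext fun k => (coeffFun_resCen H (blockInd B) k).symm
  set E₀ := -(u * d₁ * e') with hE₀
  have hE₀z : ∀ t : G, t ∈ H → MonoidAlgebra.single t (1 : ℂ) * d₁ =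
      d₁ * MonoidAlgebra.single t (1 : ℂ) →
      MonoidAlgebra.single t (1 : ℂ) * E₀ = E₀ * MonoidAlgebra.single t (1 : ℂ) := by
    intro t ht hd₁t
    have h1 : Commute (MonoidAlgebra.single t (1 : ℂ)) u := (hcenH uF t ht).symm
    have h2 : Commute (MonoidAlgebra.single t (1 : ℂ)) d₁ := hd₁t
    have h3 : Commute (MonoidAlgebra.single t (1 : ℂ)) e' := (hcenG _ _).symm
    exact (((h1.mul_right h2).mul_right h3).neg_right).eq
  have hsum : q = ∑ i ∈ Finset.range p, MonoidAlgebra.single (z ^ i) (1 : ℂ) * E₀ *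
      MonoidAlgebra.single ((z ^ i)⁻¹) (1 : ℂ) := by
    rw [hqneg, hE₀, ← hd₁sum, Finset.mul_sum, Finset.sum_mul, ← Finset.sum_neg_distrib]
    refine Finset.sum_congr rfl fun i _ => ?_
    have h1 : MonoidAlgebra.single (z ^ i) (1 : ℂ) * u = u * MonoidAlgebra.single (z ^ i) (1 : ℂ) :=
      (hcenH uF _ (H.pow_mem hzH i)).symm
    simp only [mul_neg, neg_mul, mul_assoc]
    rw [← mul_assoc _ u, h1, mul_assoc]
    congr 3
    rw [hcenG]
  have hringE : AlgRing M E₀ := by
    exact (((AlgRing.algOf hM _ huI).mul hM hdr₁).mul hM (AlgRing.algOf hM _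
      ((cenInt_one hM).sub hM (cenInt_blockInd hM hind.2.1)))).neg
  have hringq : AlgRing M q :=
    (AlgRing.algOf hM _ (cenInt_blockInd hM hind.1)).mul hM (AlgRing.algOf hM _
      ((cenInt_one hM).sub hM (cenInt_blockInd hM hind.2.1)))
  have key : ∀ g : G, ∑ s : G, q.coeff ((h : G)⁻¹ * (s * g * s⁻¹)) = 0 := by
    intro g
    let R : Matrix G G ℂ := Matrix.of fun s t => if t = s * g then 1 else 0
    have hRcomm : ∀ x, R * leftMat x = leftMat x * R := by
      intro x
      ext s t
      rw [Matrix.mul_apply, Matrix.mul_apply, Finset.sum_eq_single (s * g),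
        Finset.sum_eq_single (t * g⁻¹)]
      · simp [R, leftMat_apply, mul_assoc]
      · intro y _ hy
        have : t ≠ y * g := fun h => hy (by rw [h, mul_inv_cancel_right])
        simp [R, this]
      · exact fun h => absurd (Finset.mem_univ _) h
      · intro y _ hy; simp [R, hy]
      · exact fun h => absurd (Finset.mem_univ _) h
    have hpowS : ∀ i : ℕ, leftMat (MonoidAlgebra.single z (1 : ℂ)) ^ i =
        leftMat (MonoidAlgebra.single (z ^ i) (1 : ℂ)) := fun i => by
      rw [← map_pow, MonoidAlgebra.single_pow, one_pow]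
    have hpowT : ∀ i : ℕ, leftMat (MonoidAlgebra.single z⁻¹ (1 : ℂ)) ^ i =
        leftMat (MonoidAlgebra.single ((z ^ i)⁻¹) (1 : ℂ)) := fun i => by
      rw [← map_pow, MonoidAlgebra.single_pow, one_pow, inv_pow]
    have htr := trace_eq_zero_of_relTrace hM
      (S := leftMat (MonoidAlgebra.single z (1 : ℂ))) (T := leftMat (MonoidAlgebra.single z⁻¹ (1 : ℂ)))
      (E := leftMat E₀) (O := leftMat (MonoidAlgebra.single v (1 : ℂ)) * R) (P := leftMat q)
      (AlgRing.single hM z).matRing (AlgRing.single hM z⁻¹).matRing hringE.matRing hringq.matRing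
      (by rw [← map_mul, MonoidAlgebra.single_mul_single, mul_inv_cancel, mul_one,
        ← MonoidAlgebra.one_def, map_one])
      (by rw [← map_mul, MonoidAlgebra.single_mul_single, inv_mul_cancel, mul_one,
        ← MonoidAlgebra.one_def, map_one])
      (by rw [hpowS, ← map_mul, ← map_mul, hE₀z _ (H.pow_mem hzH p) hd₁p])
      (by
        rw [mul_assoc, hRcomm, ← mul_assoc, ← mul_assoc, ← map_mul, ← map_mul]
        congr 2
        simp [MonoidAlgebra.single_mul_single, hcomm.eq])
      (by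
        rw [mul_assoc, hRcomm, ← mul_assoc, ← mul_assoc, ← map_mul, ← map_mul,
          hE₀z _ hvH hd₁v])
      (by rw [← map_mul, hqid])
      (by
        rw [hsum, map_sum]
        exact Finset.sum_congr rfl fun i _ => by rw [hpowS, hpowT, map_mul, map_mul])
    rw [← mul_assoc, ← map_mul, mul_assoc, hRcomm, ← mul_assoc, ← map_mul,
      MonoidAlgebra.single_mul_single, hzv, mul_one] at htr
    rw [← htr, Matrix.trace]
    refine Finset.sum_congr rfl fun s _ => ?_
    rw [Matrix.diag_apply, Matrix.mul_apply, Finset.sum_eq_single (s * g⁻¹)]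
    · rw [leftMat_apply, MonoidAlgebra.coeff_single_mul_apply]
      simp [R, mul_assoc]
    · intro y _ hy
      have : s ≠ y * g := fun h => hy (by rw [h, mul_inv_cancel_right])
      simp [R, this]
    · exact fun h => absurd (Finset.mem_univ _) h
  set Tc : IrrCharacter G → ℂ := fun η =>
    ∑ k : H, blockCoeff b k * (η : G → ℂ) ((k : G) * (h : G)) with hTc
  have hzero : ∑ η : IrrCharacter G,
      ((1 - blockInd B) η * Tc η) • (η : G → ℂ) = 0 := by
    funext g
    have hk := key g⁻¹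
    have hq' : ∀ w : G, q.coeff w =
        ∑ k : H, blockCoeff b k * coeffFun (1 - blockInd B) ((k : G)⁻¹ * w) := by
      intro w
      simp only [hq, hf, algOf, Finset.sum_mul, MonoidAlgebra.coeff_sum, Finsupp.coe_finsetSum,
        Finset.sum_apply, MonoidAlgebra.coeff_single_mul_apply, Subgroup.subtype_apply,
        ← blockCoeff_eq]
      refine Finset.sum_congr rfl fun k _ => ?_
      rw [he', algOf_coeff_id]
    simp only [hq', coeffFun_eq_sum, Finset.mul_sum] at hk
    rw [Finset.sum_comm] at hk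
    rw [Finset.sum_congr rfl (fun k _ => Finset.sum_comm), Finset.sum_comm] at hk
    rw [Finset.sum_apply, Pi.zero_apply, ← hk]
    refine Finset.sum_congr rfl fun η _ => ?_
    simp only [Pi.smul_apply, smul_eq_mul, hTc, Finset.mul_sum, Finset.sum_mul]
    refine Finset.sum_congr rfl fun k _ => ?_
    have hG : (Nat.card G : ℂ) ≠ 0 := Nat.cast_ne_zero.mpr Nat.card_pos.ne'
    have hsum' : ∑ s : G, (η : G → ℂ) ((k : G)⁻¹ * ((h : G)⁻¹ * (s * (g⁻¹ * s⁻¹))))⁻¹ =
        (Nat.card G : ℂ) * (η : G → ℂ) g / (η : G → ℂ) 1 * (η : G → ℂ) ((k : G) * (h : G)) := by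
      rw [show (η : G → ℂ) ((k : G) * (h : G)) = (η : G → ℂ) ((h : G) * (k : G)) by
        rw [← irr_classFun η ((k : G) * (h : G)) (h : G)]; group,
        ← Cfsg.Agent.Char.sum_conj_apply η.2 g ((h : G) * (k : G))]
      refine Finset.sum_congr rfl fun s _ => ?_
      congr 1
      group
    simp only [← Finset.mul_sum, mul_assoc]
    rw [hsum']
    have h1 := irr_one_ne_zero η
    field_simp
  have hli := Fintype.linearIndependent_iff.1 Cfsg.Agent.Char.irrCharacter_linearIndependent
    (fun η => (1 - blockInd B) η * Tc η) hzero χ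
  rw [Pi.sub_apply, Pi.one_apply, blockInd_of_notMem hχ, sub_zero, one_mul] at hli
  rw [finsum_eq_sum_of_fintype]
  exact hli

/-! ### The second main theorem -/

theorem blockPart_eq_conv [Fintype G] (B : Set (IrrCharacter G)) {θ : G → ℂ}
    (hθ : IsClassFunction G θ) (g : G) :
    blockPart B θ g = ∑ k : G, blockCoeff B k * θ (k * g) := by
  classical
  have hid : ∀ η : IrrCharacter G, ∑ k : G, blockCoeff B k * (η : G → ℂ) (k * g) =
      blockInd B η * (η : G → ℂ) g := by
    intro η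
    simp only [blockCoeff_eq]
    rw [Cfsg.Agent.Char.sum_classFun_mul_apply η.2 (coeffFun_classFun _) g,
      ← omegaFun_coeffFun (blockInd B) η, omegaFun]
  conv_rhs => rw [Cfsg.Agent.Char.classFunction_expansion hθ]
  simp only [Finset.sum_apply, Pi.smul_apply, smul_eq_mul, Finset.mul_sum]
  rw [Finset.sum_comm, blockPart, finsum_mem_block, Finset.sum_filter]
  refine Finset.sum_congr rfl fun η _ => ?_
  have h2 : ∀ k : G, blockCoeff B k * (classInner θ (η : G → ℂ) * (η : G → ℂ) (k * g)) =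
      classInner θ (η : G → ℂ) * (blockCoeff B k * (η : G → ℂ) (k * g)) := fun k => by ring
  simp only [h2, ← Finset.mul_sum, hid]
  by_cases hη : η ∈ B
  · rw [if_pos hη, blockInd_of_mem hη, one_mul]
    congr 1
    simp only [classInner]
    congr!
  · rw [if_neg hη, blockInd_of_notMem hη, zero_mul, mul_zero]

theorem centralizer_self_mem (x : G) : x ∈ Subgroup.centralizer ({x} : Set G) :=
  Subgroup.mem_centralizer_singleton_iff.2 rfl

theorem sectionFun_classFun (χ : IrrCharacter G) (x : G) :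
    IsClassFunction (Subgroup.centralizer ({x} : Set G))
      (fun c : Subgroup.centralizer ({x} : Set G) => (χ : G → ℂ) (x * (c : G))) := by
  intro g t
  have ht := Subgroup.mem_centralizer_singleton_iff.1 t.2
  show (χ : G → ℂ) (x * ((t * g * t⁻¹ : Subgroup.centralizer ({x} : Set G)) : G)) =
    (χ : G → ℂ) (x * (g : G))
  rw [← irr_classFun χ (x * (g : G)) (t : G)]
  refine congrArg _ ?_
  push_cast
  calc x * ((t : G) * (g : G) * (t : G)⁻¹) = x * (t : G) * (g : G) * (t : G)⁻¹ := by group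
    _ = (t : G) * x * (g : G) * (t : G)⁻¹ := by rw [ht]
    _ = _ := by group

theorem second_main [Fact p.Prime] (hM : IsPModular p M) {x : G}
    (hx : ∃ k : ℕ, orderOf x = p ^ k) {B : Set (IrrCharacter G)} (hB : IsPBlock M B)
    {χ : IrrCharacter G} (hχ : χ ∈ B)
    {b : Set (IrrCharacter (Subgroup.centralizer ({x} : Set G)))} (hb : IsPBlock M b)
    (hnot : ¬ IsInducedBlock M (Subgroup.centralizer ({x} : Set G)) b B)
    {y : Subgroup.centralizer ({x} : Set G)} (hy : ¬ p ∣ orderOf y) :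
    blockPart b (fun c : Subgroup.centralizer ({x} : Set G) => (χ : G → ℂ) (x * (c : G))) y = 0 := by
  classical
  cases nonempty_fintype G
  cases nonempty_fintype (Subgroup.centralizer ({x} : Set G))
  obtain ⟨k, hk⟩ := hx
  have hP : IsPGroup p (Subgroup.zpowers x) := IsPGroup.of_card (n := k) (by rw [Nat.card_zpowers, hk])
  have hPC : Subgroup.zpowers x ≤ Subgroup.centralizer ({x} : Set G) :=
    Subgroup.zpowers_le.2 (centralizer_self_mem x)
  have hCH : Subgroup.centralizer (Subgroup.zpowers x : Set G) ≤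
      Subgroup.centralizer ({x} : Set G) :=
    Subgroup.centralizer_le (Set.singleton_subset_iff.2 (Subgroup.mem_zpowers x))
  have hHN : Subgroup.centralizer ({x} : Set G) ≤
      Subgroup.normalizer (Subgroup.zpowers x : Set G) := by
    refine le_trans ?_ (Subgroup.centralizer_le_normalizer _)
    intro t ht
    rw [Subgroup.mem_centralizer_iff]
    intro w hw
    obtain ⟨i, rfl⟩ := Subgroup.mem_zpowers_iff.1 hw
    exact ((show Commute t x from Subgroup.mem_centralizer_singleton_iff.1 ht).zpow_right i).eq.symm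
  obtain ⟨B', hB'⟩ := inducedBlockDefined_brauer hM hP hPC hCH hHN hb
  have hχ' : χ ∉ B' := fun h => hnot (by
    rwa [pblock_eq_blockOf hM hB hχ, ← pblock_eq_blockOf hM hB'.2.1 h])
  let g : Subgroup.centralizer ({x} : Set G) := ⟨x, centralizer_self_mem x⟩ * y
  have hpart : IsPPart p (g : G) x :=
    ⟨(y : G), rfl, (Subgroup.mem_centralizer_singleton_iff.1 y.2).symm, ⟨k, hk⟩,
      by rwa [Subgroup.orderOf_coe]⟩
  have h := nagao hM hB' g (fun z hz => by rw [pPart_unique hz hpart]) hχ'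
  rw [finsum_eq_sum_of_fintype] at h
  rw [blockPart_eq_conv b (sectionFun_classFun χ x), ← h]
  refine Finset.sum_congr rfl fun c _ => ?_
  congr 2
  have hc := Subgroup.mem_centralizer_singleton_iff.1 c.2
  simp only [g, Subgroup.coe_mul]
  rw [← mul_assoc, ← mul_assoc, hc]

/-- The decomposition of a character value over the blocks of the centralizer of the `p`-part
inducing its block. -/
theorem value_eq_sum_inducing [Fact p.Prime] [Fintype G] (hM : IsPModular p M) {x : G}
    [Fintype (Subgroup.centralizer ({x} : Set G))]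
    (hx : ∃ k : ℕ, orderOf x = p ^ k) {B : Set (IrrCharacter G)} (hB : IsPBlock M B)
    {y : Subgroup.centralizer ({x} : Set G)} (hy : ¬ p ∣ orderOf y) (χ : IrrCharacter G)
    [DecidablePred (fun ξ : IrrCharacter (Subgroup.centralizer ({x} : Set G)) =>
      IsInducedBlock M _ (blockOf M (ξ : Subgroup.centralizer ({x} : Set G) → ℂ)) B)] [Decidable (χ ∈ B)] :
    ∑ ξ ∈ Finset.univ.filter (fun ξ : IrrCharacter (Subgroup.centralizer ({x} : Set G)) =>
        IsInducedBlock M _ (blockOf M (ξ : Subgroup.centralizer ({x} : Set G) → ℂ)) B),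
      classInner (fun c : Subgroup.centralizer ({x} : Set G) => (χ : G → ℂ) (x * (c : G)))
          (ξ : Subgroup.centralizer ({x} : Set G) → ℂ) *
        (ξ : Subgroup.centralizer ({x} : Set G) → ℂ) y =
      if χ ∈ B then (χ : G → ℂ) (x * (y : G)) else 0 := by
  classical
  set θ := fun c : Subgroup.centralizer ({x} : Set G) => (χ : G → ℂ) (x * (c : G))
  set term := fun ξ : IrrCharacter (Subgroup.centralizer ({x} : Set G)) =>
    classInner θ (ξ : Subgroup.centralizer ({x} : Set G) → ℂ) *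
      (ξ : Subgroup.centralizer ({x} : Set G) → ℂ) y
  have hblock : ∀ (B₁ : Set (IrrCharacter G)), IsPBlock M B₁ → χ ∈ B₁ →
      ∀ S : Finset (IrrCharacter (Subgroup.centralizer ({x} : Set G))),
      (∀ ξ ∈ S, ¬ IsInducedBlock M _ (blockOf M (ξ : Subgroup.centralizer ({x} : Set G) → ℂ)) B₁) →
      (∀ ξ ∈ S, ∀ η, η ∈ blockOf M (ξ : Subgroup.centralizer ({x} : Set G) → ℂ) → η ∈ S) →
      ∑ ξ ∈ S, term ξ = 0 := by
    intro B₁ hB₁ hχ₁ S hS hclosed
    rw [← Finset.sum_fiberwise_of_maps_to (t := S.image fun ξ : IrrCharacter (Subgroup.centralizer ({x} : Set G)) => blockOf M (ξ : Subgroup.centralizer ({x} : Set G) → ℂ))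
      (fun ξ hξ => Finset.mem_image_of_mem _ hξ)]
    refine Finset.sum_eq_zero fun b hb => ?_
    obtain ⟨ξ₀, hξ₀, rfl⟩ := Finset.mem_image.1 hb
    have h0 := second_main hM hx hB₁ hχ₁ (isPBlock_blockOf (M := M) ξ₀) (hS ξ₀ hξ₀) hy
    rw [blockPart, finsum_mem_block] at h0
    refine Eq.trans ?_ h0
    refine Finset.sum_congr ?_ fun ξ _ => by
      simp only [term, classInner]
      congr!
    ext ξ
    simp only [Finset.mem_filter, Finset.mem_univ, true_and]
    constructor
    · rintro ⟨-, hξ⟩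
      rw [← hξ]
      exact mem_blockOf_self hM ξ
    · exact fun hξ => ⟨hclosed ξ₀ hξ₀ ξ hξ, (blockOf_eq hM hξ).symm⟩
  have hclosed : ∀ (Q : Set (IrrCharacter (Subgroup.centralizer ({x} : Set G))) → Prop)
      [DecidablePred fun ξ : IrrCharacter (Subgroup.centralizer ({x} : Set G)) =>
        Q (blockOf M (ξ : Subgroup.centralizer ({x} : Set G) → ℂ))],
      ∀ ξ ∈ Finset.univ.filter (fun ξ : IrrCharacter (Subgroup.centralizer ({x} : Set G)) =>
        Q (blockOf M (ξ : Subgroup.centralizer ({x} : Set G) → ℂ))),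
      ∀ η, η ∈ blockOf M (ξ : Subgroup.centralizer ({x} : Set G) → ℂ) →
      η ∈ Finset.univ.filter (fun ξ : IrrCharacter (Subgroup.centralizer ({x} : Set G)) =>
        Q (blockOf M (ξ : Subgroup.centralizer ({x} : Set G) → ℂ))) := by
    intro Q _ ξ hξ η hη
    simp only [Finset.mem_filter, Finset.mem_univ, true_and] at hξ ⊢
    rwa [← blockOf_eq hM hη]
  split_ifs with hχ
  · have hall : ∑ ξ : IrrCharacter (Subgroup.centralizer ({x} : Set G)), term ξ =
        (χ : G → ℂ) (x * (y : G)) := by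
      have := congrFun (Cfsg.Agent.Char.classFunction_expansion (sectionFun_classFun χ x)) y
      rw [Finset.sum_apply] at this
      exact this.symm
    rw [← hall, ← Finset.sum_filter_add_sum_filter_not Finset.univ
      (fun ξ : IrrCharacter (Subgroup.centralizer ({x} : Set G)) =>
        IsInducedBlock M _ (blockOf M (ξ : Subgroup.centralizer ({x} : Set G) → ℂ)) B) term,
      hblock B hB hχ _ (fun ξ hξ => (Finset.mem_filter.1 hξ).2)
        (hclosed fun S => ¬ IsInducedBlock M _ S B), add_zero]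
  · refine hblock (blockOf M (χ : G → ℂ)) (isPBlock_blockOf χ) (mem_blockOf_self hM χ) _
      (fun ξ hξ h => ?_) (hclosed fun S => IsInducedBlock M _ S B)
    rw [induced_unique hM (Finset.mem_filter.1 hξ).2 h] at hχ
    exact hχ (mem_blockOf_self hM χ)

theorem value_eq_zero_of_pPart_notMem [Fact p.Prime] (hM : IsPModular p M) (χ : IrrCharacter G)
    {g x : G} (hx : IsPPart p g x)
    (hD : ∀ D : Subgroup G, IsDefectGroup p M (blockOf M (χ : G → ℂ)) D → x ∉ D) :
    (χ : G → ℂ) g = 0 := by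
  classical
  cases nonempty_fintype G
  cases nonempty_fintype (Subgroup.centralizer ({x} : Set G))
  have hxmem := mem_zpowers_of_pPart hx
  obtain ⟨v, huv, hc, ⟨k, hk⟩, hv⟩ := hx
  let y : Subgroup.centralizer ({x} : Set G) :=
    ⟨v, Subgroup.mem_centralizer_singleton_iff.2 hc.symm.eq⟩
  have h := value_eq_sum_inducing hM ⟨k, hk⟩ (isPBlock_blockOf (M := M) χ) (y := y)
    (by rwa [← Subgroup.orderOf_coe]) χ
  rw [if_pos (mem_blockOf_self hM χ), show x * (y : G) = g from huv] at h
  rw [← h, Finset.filter_false_of_mem, Finset.sum_empty]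
  intro ξ _ hind
  have hP : IsPGroup p (Subgroup.zpowers x) :=
    IsPGroup.of_card (n := k) (by rw [Nat.card_zpowers, hk])
  have hne : ¬ BrZero M (Subgroup.zpowers x) (blockInd (blockOf M (χ : G → ℂ))) := by
    refine (exists_inducing_iff hM hP (Subgroup.zpowers_le.2 (centralizer_self_mem x))
      (Subgroup.centralizer_le (Set.singleton_subset_iff.2 (Subgroup.mem_zpowers x))) ?_
      (isPBlock_blockOf χ)).1 ⟨_, hind⟩
    refine le_trans ?_ (Subgroup.centralizer_le_normalizer _)
    intro t ht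
    rw [Subgroup.mem_centralizer_iff]
    intro w hw
    obtain ⟨i, rfl⟩ := Subgroup.mem_zpowers_iff.1 hw
    exact ((show Commute t x from Subgroup.mem_centralizer_singleton_iff.1 ht).zpow_right i).eq.symm
  obtain ⟨D, hDd, hle⟩ := exists_defectGroup_ge hM (isPBlock_blockOf χ) hP hne
  exact hD D hDd (hle (Subgroup.mem_zpowers x))

/-- Orthogonality of sections. -/
theorem section_orth [Fact p.Prime] (hM : IsPModular p M) {g h x z : G} (hx : IsPPart p g x)
    (hz : IsPPart p h z) (hne : ¬ IsConj x z) {B : Set (IrrCharacter G)} (hB : IsPBlock M B) :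
    ∑ᶠ χ ∈ B, (χ : G → ℂ) g * (χ : G → ℂ) h⁻¹ = 0 := by
  classical
  cases nonempty_fintype G
  cases nonempty_fintype (Subgroup.centralizer ({x} : Set G))
  obtain ⟨v, huv, hcv, ⟨k, hk⟩, hv⟩ := hx
  let y : Subgroup.centralizer ({x} : Set G) :=
    ⟨v, Subgroup.mem_centralizer_singleton_iff.2 hcv.symm.eq⟩
  have hy : ¬ p ∣ orderOf y := by rwa [← Subgroup.orderOf_coe]
  set S := Finset.univ.filter (fun ξ : IrrCharacter (Subgroup.centralizer ({x} : Set G)) =>
    IsInducedBlock M _ (blockOf M (ξ : Subgroup.centralizer ({x} : Set G) → ℂ)) B)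
  set Φ := fun c : Subgroup.centralizer ({x} : Set G) =>
    ∑ ξ ∈ S, conj ((ξ : Subgroup.centralizer ({x} : Set G) → ℂ) c) *
      (ξ : Subgroup.centralizer ({x} : Set G) → ℂ) y
  have hΦ : ∀ c, p ∣ orderOf c → Φ c = 0 := by
    intro c hc
    simp only [Φ]
    rw [← Finset.sum_fiberwise_of_maps_to (t := S.image fun ξ : IrrCharacter (Subgroup.centralizer ({x} : Set G)) => blockOf M (ξ : Subgroup.centralizer ({x} : Set G) → ℂ))
      (fun ξ hξ => Finset.mem_image_of_mem _ hξ)]
    refine Finset.sum_eq_zero fun b hb => ?_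
    obtain ⟨ξ₀, hξ₀, rfl⟩ := Finset.mem_image.1 hb
    have h0 := weak_orth hM (isPBlock_blockOf (M := M) ξ₀) hy hc
    rw [finsum_mem_block] at h0
    rw [← h0]
    refine Finset.sum_congr ?_ fun ξ _ => mul_comm _ _
    ext ξ
    simp only [Finset.mem_filter, Finset.mem_univ, true_and, S]
    constructor
    · rintro ⟨-, hξ⟩
      rw [← hξ]
      exact mem_blockOf_self hM ξ
    · intro hξ
      have hSm := (Finset.mem_filter.1 hξ₀).2
      rw [blockOf_eq hM hξ] at hSm
      exact ⟨hSm, (blockOf_eq hM hξ).symm⟩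
  have hval : ∀ χ : IrrCharacter G,
      (Nat.card (Subgroup.centralizer ({x} : Set G)) : ℂ)⁻¹ *
          ∑ c : Subgroup.centralizer ({x} : Set G), (χ : G → ℂ) (x * (c : G)) * Φ c =
        if χ ∈ B then (χ : G → ℂ) g else 0 := by
    intro χ
    rw [← huv, show v = (y : G) from rfl, ← value_eq_sum_inducing hM ⟨k, hk⟩ hB hy χ]
    simp only [Φ, classInner, Finset.mul_sum, Finset.sum_mul]
    rw [Finset.sum_comm]
    exact Finset.sum_congr rfl fun ξ _ => Finset.sum_congr rfl fun c _ => by ring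
  rw [finsum_mem_block B, Finset.sum_filter]
  calc (∑ χ : IrrCharacter G, if χ ∈ B then (χ : G → ℂ) g * (χ : G → ℂ) h⁻¹ else 0)
      = ∑ χ : IrrCharacter G, (if χ ∈ B then (χ : G → ℂ) g else 0) * (χ : G → ℂ) h⁻¹ :=
        Finset.sum_congr rfl fun χ _ => by rw [ite_mul, zero_mul]
    _ = (Nat.card (Subgroup.centralizer ({x} : Set G)) : ℂ)⁻¹ *
          ∑ c : Subgroup.centralizer ({x} : Set G),
            Φ c * ∑ χ : IrrCharacter G, (χ : G → ℂ) (x * (c : G)) * conj ((χ : G → ℂ) h) := by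
        simp only [← hval, Finset.mul_sum, Finset.sum_mul, irr_apply_inv]
        rw [Finset.sum_comm]
        exact Finset.sum_congr rfl fun c _ => Finset.sum_congr rfl fun χ _ => by ring
    _ = 0 := by
        rw [Finset.sum_eq_zero, mul_zero]
        intro c _
        by_cases hc : p ∣ orderOf c
        · rw [hΦ c hc, zero_mul]
        · rw [Cfsg.Agent.Char.sum_irr_mul_conj, if_neg, mul_zero]
          intro hconj
          obtain ⟨t, ht⟩ := isConj_iff.1 hconj
          refine hne (isConj_iff.2 ⟨t, pPart_unique ?_ hz⟩)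
          have hconjord : ∀ a : G, orderOf (t * a * t⁻¹) = orderOf a := fun a => by
            rw [← MulAut.conj_apply, MulEquiv.orderOf_eq]
          refine ⟨t * (c : G) * t⁻¹, by rw [conj_mul, ht], ?_, ⟨k, by rw [hconjord, hk]⟩,
            by rwa [hconjord, Subgroup.orderOf_coe]⟩
          show t * x * t⁻¹ * (t * (c : G) * t⁻¹) = t * (c : G) * t⁻¹ * (t * x * t⁻¹)
          rw [conj_mul, conj_mul, (Subgroup.mem_centralizer_singleton_iff.1 c.2)]

theorem blockPart_eq_zero_of_vanish [Fact p.Prime] (hM : IsPModular p M) {ϑ : G → ℂ} {x : G}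
    (hvan : ∀ u z : G, IsPPart p u z → IsConj x z → ϑ u = 0) {B : Set (IrrCharacter G)}
    (hB : IsPBlock M B) {u z : G} (hu : IsPPart p u z) (hxz : IsConj x z) :
    blockPart B ϑ u = 0 := by
  classical
  cases nonempty_fintype G
  rw [blockPart, finsum_mem_block]
  simp only [classInner, Finset.mul_sum, Finset.sum_mul]
  rw [Finset.sum_comm]
  refine Finset.sum_eq_zero fun v _ => ?_
  obtain ⟨a, w, haw, hcw, hak, hw, -, -⟩ := exists_pPart_zpowers (p := p) v
  have hv : IsPPart p v a := ⟨w, haw, hcw, hak, hw⟩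
  by_cases hav : IsConj x a
  · simp [hvan v a hv hav]
  · have h := section_orth hM hu hv (fun h => hav (hxz.trans h)) hB
    rw [finsum_mem_block] at h
    calc _ = (Nat.card G : ℂ)⁻¹ * ϑ v *
          ∑ χ ∈ Finset.univ.filter (· ∈ B), (χ : G → ℂ) u * (χ : G → ℂ) v⁻¹ := by
          rw [Finset.mul_sum]
          exact Finset.sum_congr rfl fun χ _ => by rw [irr_apply_inv]; ring
      _ = 0 := by rw [h, mul_zero]

end Cfsg.Agent.Block
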