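import Cfsg.Agent.Lib.Char.PairMax
import Cfsg.Agent.Lib.Char.PairCorr
import Cfsg.Agent.Lib.Char.RealBlock
import Cfsg.Agent.Lib.Block.Elementary
import Cfsg.Agent.Lib.Block.SecondMain
import Cfsg.Agent.Lib.Char.Constituent
import Cfsg.Agent.Lib.Char.Kernel
import Cfsg.Agent.Lib.Grp.Cores
import Cfsg.Prelude.Def_OddOrderLocal

/-!
Cores in the kernels of Brauer pairs: whether the largest normal subgroup with prime divisors in a
set avoiding `p` lies in the kernel of a pair passes downwards along inclusion of pairs, upwards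
when the centralizer below is closed, and reads off the Brauer correspondent at a maximal pair.
-/

namespace Cfsg.Agent.Block

open Cfsg.Agent.Char.BP

set_option linter.unusedSectionVars false
set_option linter.style.haveILetI false

universe u

section Core

variable {G : Type u} [Group G] [Finite G] {σ : Set ℕ}

theorem piCore_primes {q : ℕ} (hq : q.Prime) (h : q ∣ Nat.card (piCore σ G)) : q ∈ σ :=
  (Grp.sSup_mem_of_closed {N : Subgroup G | N.Normal ∧ ∀ p : ℕ, p.Prime → p ∣ Nat.card N → p ∈ σ}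
    ⟨⊥, inferInstance, fun r hr h => by
      rw [Subgroup.card_bot] at h; exact absurd h hr.not_dvd_one⟩
    fun _ ⟨ha, ha'⟩ _ ⟨hb, hb'⟩ => ⟨inferInstance, fun r hr h => by
      haveI := hb
      rcases hr.dvd_mul.1 (h.trans (Grp.card_sup_dvd_mul
        (by rw [Subgroup.normalizer_eq_top]; exact le_top))) with h1 | h1
      · exact ha' r hr h1
      · exact hb' r hr h1⟩).2 q hq h

theorem piCoreOf_primes {X : Subgroup G} {q : ℕ} (hq : q.Prime)
    (h : q ∣ Nat.card (piCoreOf σ X)) : q ∈ σ := by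
  rw [piCoreOf, Subgroup.card_map_of_injective (Subgroup.subtype_injective X)] at h
  exact piCore_primes hq h

theorem piCoreOf_le (X : Subgroup G) : piCoreOf σ X ≤ X := Subgroup.map_subtype_le _

theorem mem_piCoreOf_iff {X : Subgroup G} (c : X) : (c : G) ∈ piCoreOf σ X ↔ c ∈ piCore σ X :=
  Subgroup.mem_map_iff_mem (Subgroup.subtype_injective X)

theorem le_normalizer_piCoreOf (X : Subgroup G) :
    X ≤ Subgroup.normalizer (piCoreOf σ X : Set G) := by
  intro x hx
  refine Subgroup.mem_normalizer_iff.2 fun g => ?_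
  by_cases hg : g ∈ X
  · have hgx : x * g * x⁻¹ ∈ X := mul_mem (mul_mem hx hg) (inv_mem hx)
    change (((⟨g, hg⟩ : X) : G) ∈ piCoreOf σ X) ↔ (((⟨_, hgx⟩ : X) : G) ∈ piCoreOf σ X)
    rw [mem_piCoreOf_iff, mem_piCoreOf_iff]
    exact ⟨fun h => (piCore_normal σ X).conj_mem _ h ⟨x, hx⟩, fun h => by
      have h1 := (piCore_normal σ X).conj_mem _ h ⟨x⁻¹, inv_mem hx⟩
      convert h1 using 1
      exact Subtype.ext (show g = x⁻¹ * (x * g * x⁻¹) * x⁻¹⁻¹ by group)⟩
  · refine iff_of_false (fun h => hg (piCoreOf_le X h)) fun h => hg ?_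
    simpa [mul_assoc] using mul_mem (mul_mem (inv_mem hx) (piCoreOf_le X h)) hx

theorem le_piCoreOf {L X : Subgroup G} (hL : L ≤ X) (hX : X ≤ Subgroup.normalizer (L : Set G))
    (h : ∀ q : ℕ, q.Prime → q ∣ Nat.card L → q ∈ σ) : L ≤ piCoreOf σ X := by
  intro l hl
  have h1 : L.subgroupOf X ≤ piCore σ X :=
    le_sSup ⟨(Subgroup.normal_subgroupOf_iff_le_normalizer hL).2 hX, fun q hq hd => h q hq (by
      rwa [Nat.card_congr (Subgroup.subgroupOfEquivOfLe hL).toEquiv] at hd)⟩
  exact (mem_piCoreOf_iff ⟨l, hL hl⟩).2 (h1 (Subgroup.mem_subgroupOf.2 hl))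

theorem piCoreOf_map_conj_le {X X' : Subgroup G} {x : G} (h : ∀ g, g ∈ X ↔ x * g * x⁻¹ ∈ X') :
    (piCoreOf σ X).map (MulAut.conj x).toMonoidHom ≤ piCoreOf σ X' := by
  refine le_piCoreOf ?_ (fun v hv => ?_) fun q hq hd => piCoreOf_primes hq (by
    rwa [card_map_conj] at hd)
  · rintro _ ⟨l, hl, rfl⟩
    exact (h l).1 (piCoreOf_le X hl)
  · have hv' : x⁻¹ * v * x ∈ X := (h _).2 (by simpa [mul_assoc] using hv)
    refine Subgroup.mem_normalizer_iff.2 fun g => ?_
    letI := Fintype.ofFinite G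
    rw [mem_map_conj, mem_map_conj]
    have := Subgroup.mem_normalizer_iff.1 (le_normalizer_piCoreOf (σ := σ) X hv') (x⁻¹ * g * x)
    simpa [mul_assoc] using this

theorem piCoreOf_map_conj {X X' : Subgroup G} {x : G} (h : ∀ g, g ∈ X ↔ x * g * x⁻¹ ∈ X') :
    (piCoreOf σ X).map (MulAut.conj x).toMonoidHom = piCoreOf σ X' := by
  have h' : ∀ g, g ∈ X' ↔ x⁻¹ * g * x⁻¹⁻¹ ∈ X := fun g => by
    rw [h (x⁻¹ * g * x⁻¹⁻¹)]; simp [mul_assoc]
  refine Subgroup.eq_of_le_of_card_ge (piCoreOf_map_conj_le h) ?_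
  rw [card_map_conj]
  refine le_of_eq_of_le ?_ (Subgroup.card_le_of_le (piCoreOf_map_conj_le (σ := σ) h'))
  rw [card_map_conj]

theorem mem_normalizer_piCoreOf {X : Subgroup G} {x : G}
    (hx : x ∈ Subgroup.normalizer (X : Set G)) :
    x ∈ Subgroup.normalizer (piCoreOf σ X : Set G) := by
  have h := piCoreOf_map_conj (σ := σ) (Subgroup.mem_normalizer_iff.1 hx)
  refine Subgroup.mem_normalizer_iff.2 fun g => ?_
  letI := Fintype.ofFinite G
  conv_rhs => rw [← h, mem_map_conj]
  simp [mul_assoc]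

theorem piCoreOf_not_dvd {p : ℕ} (hp : p.Prime) (hσ : p ∉ σ) (X : Subgroup G) :
    ¬ p ∣ Nat.card (piCoreOf σ X) := fun h => hσ (piCoreOf_primes hp h)

theorem primes_of_le {L : Subgroup G} {X : Subgroup G} (hL : L ≤ piCoreOf σ X) (q : ℕ)
    (hq : q.Prime) (h : q ∣ Nat.card L) : q ∈ σ :=
  piCoreOf_primes hq (h.trans (Subgroup.card_dvd_of_le hL))

theorem orderOf_primes {X : Subgroup G} {c : G} (hc : c ∈ piCoreOf σ X) (q : ℕ) (hq : q.Prime)
    (h : q ∣ orderOf c) : q ∈ σ :=
  piCoreOf_primes hq (h.trans (Subgroup.orderOf_dvd_natCard _ hc))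

end Core

variable {G : Type u} [Group G] [Fintype G] {p : ℕ} {M : Ideal AlgInt} {σ : Set ℕ}

/-! ### The idempotent of a subgroup of order prime to `p` -/

/-- The averaging element of a subgroup. -/
noncomputable def avgInd (L : Subgroup G) : G → ℂ :=
  fun g => open Classical in if g ∈ L then (Nat.card L : ℂ)⁻¹ else 0

theorem avgInd_inv {L W : Subgroup G} (h : W ≤ Subgroup.normalizer (L : Set G)) :
    Inv W (avgInd L) := by
  classical
  intro x hx g
  exact if_congr (Subgroup.mem_normalizer_iff.1 (h hx) g).symm rfl rfl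

theorem avgInd_ring (hM : IsPModular p M) {L : Subgroup G} (hL : ¬ p ∣ Nat.card L) (g : G) :
    MemLocalRing M (avgInd L g) := by
  classical
  unfold avgInd
  split_ifs
  · exact ring_inv_natCast hM hL
  · exact ring_zero hM

theorem avgInd_idem (hM : IsPModular p M) {L : Subgroup G} (hL : ¬ p ∣ Nat.card L) :
    Idem M (avgInd L) := by
  classical
  refine ⟨avgInd_ring hM hL, funext fun g => ?_⟩
  have hn : (Nat.card L : ℂ) ≠ 0 := Nat.cast_ne_zero.2 Nat.card_pos.ne'
  have e : ∀ h : G, avgInd L h * avgInd L (h⁻¹ * g) =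
      if h ∈ L then (if g ∈ L then (Nat.card L : ℂ)⁻¹ * (Nat.card L : ℂ)⁻¹ else 0) else 0 := by
    intro h
    unfold avgInd
    by_cases hh : h ∈ L
    · rw [if_pos hh, if_pos hh, Subgroup.mul_mem_cancel_left _ (inv_mem hh), mul_ite, mul_zero]
    · rw [if_neg hh, if_neg hh, zero_mul]
  rw [convFun, Finset.sum_congr rfl fun h _ => e h, ← Finset.sum_filter, Finset.sum_const,
    nsmul_eq_mul, show ((Finset.univ.filter fun h : G => h ∈ L).card : ℂ) = (Nat.card L : ℂ) by
      rw [Nat.card_eq_fintype_card, Fintype.card_subtype]]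
  unfold avgInd
  split_ifs
  · rw [mul_inv_cancel_left₀ hn]
  · rw [mul_zero]

theorem avgInd_supp {L W : Subgroup G} (h : L ≤ W) : Supp W (avgInd L) := by
  classical
  exact fun g hg => if_neg fun hh => hg (h hh)

theorem res_avgInd {L W : Subgroup G} [Fintype W] (h : L ≤ W) :
    res W (avgInd L) = avgInd (L.subgroupOf W) := by
  classical
  funext w
  rw [res_apply, avgInd, avgInd, Nat.card_congr (Subgroup.subgroupOfEquivOfLe h).toEquiv]
  exact if_congr Subgroup.mem_subgroupOf.symm rfl rfl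

/-- The central character at the average over a normal subgroup detects the kernel. -/
theorem omega_avgInd (L : Subgroup G) [L.Normal] (χ : IrrCharacter G) :
    ((∀ u ∈ L, (χ : G → ℂ) u = (χ : G → ℂ) 1) → omegaFun χ (avgInd L) = 1) ∧
      ((¬ ∀ u ∈ L, (χ : G → ℂ) u = (χ : G → ℂ) 1) → omegaFun χ (avgInd L) = 0) := by
  classical
  have hn : (Nat.card L : ℂ) ≠ 0 := Nat.cast_ne_zero.2 Nat.card_pos.ne'
  have e : omegaFun χ (avgInd L) =
      (Nat.card L : ℂ)⁻¹ * (∑ u : L, (χ : G → ℂ) u) / (χ : G → ℂ) 1 := by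
    rw [omegaFun]
    congr 1
    simp only [avgInd, ite_mul, zero_mul, ← Finset.sum_filter, ← Finset.mul_sum]
    rw [Finset.sum_subtype (Finset.univ.filter (· ∈ L)) (p := fun g => g ∈ L) (fun g => by simp)
      (fun g => (χ : G → ℂ) g)]
  constructor
  · intro h
    rw [e, Finset.sum_congr rfl (fun (u : L) _ => h (u : G) u.2), Finset.sum_const, Finset.card_univ,
      ← Nat.card_eq_fintype_card, nsmul_eq_mul, inv_mul_cancel_left₀ hn,
      div_self (irr_one_ne_zero χ)]
  · intro h
    have h0 := sum_normal_mul_eq_zero L χ h 1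
    simp only [mul_one] at h0
    rw [e, h0, mul_zero, zero_div]

theorem val_avgInd {P L : Subgroup G} (hL : L ≤ CG P)
    (hN : CG P ≤ Subgroup.normalizer (L : Set G)) (ξ : IrrCharacter (CG P)) :
    ((∀ c : CG P, (c : G) ∈ L → (ξ : CG P → ℂ) c = (ξ : CG P → ℂ) 1) →
        val P (avgInd L) ξ = 1) ∧
      ((¬ ∀ c : CG P, (c : G) ∈ L → (ξ : CG P → ℂ) c = (ξ : CG P → ℂ) 1) →
        val P (avgInd L) ξ = 0) := by
  letI := Fintype.ofFinite (CG P)
  haveI : (L.subgroupOf (CG P)).Normal := (Subgroup.normal_subgroupOf_iff_le_normalizer hL).2 hN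
  rw [val_eq, res_avgInd hL]
  exact omega_avgInd (L.subgroupOf (CG P)) ξ

/-- A pair carries the average of a normal subgroup of its centralizer exactly when the subgroup
lies in its kernel. -/
theorem holds_avgInd_iff (hM : IsPModular p M) {x : BrauerPairIdx G} (hx : IsPr p M x)
    {L : Subgroup G} (hL : L ≤ CG x.1) (hN : CG x.1 ≤ Subgroup.normalizer (L : Set G))
    (hd : ¬ p ∣ Nat.card L) :
    Holds M x (avgInd L) ↔
      ∀ ξ ∈ x.2, ∀ c : CG x.1, (c : G) ∈ L → (ξ : CG x.1 → ℂ) c = (ξ : CG x.1 → ℂ) 1 := by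
  constructor
  · intro h ξ hξ
    by_contra hk
    have := h ξ hξ
    rw [(val_avgInd hL hN ξ).2 hk, zero_sub] at this
    exact ideal_one hM (by simpa using ideal_neg this)
  · intro h ξ hξ
    rw [(val_avgInd hL hN ξ).1 (h ξ hξ), sub_self]
    exact ideal_zero hM

theorem holds_avgInd_of_member (hM : IsPModular p M) {x : BrauerPairIdx G} (hx : IsPr p M x)
    {L : Subgroup G} (hL : L ≤ CG x.1) (hN : CG x.1 ≤ Subgroup.normalizer (L : Set G))
    (hd : ¬ p ∣ Nat.card L) {ξ : IrrCharacter (CG x.1)} (hξ : ξ ∈ x.2)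
    (h : ∀ c : CG x.1, (c : G) ∈ L → (ξ : CG x.1 → ℂ) c = (ξ : CG x.1 → ℂ) 1) :
    Holds M x (avgInd L) := by
  have hself : Inv x.1 (avgInd L) := by
    refine avgInd_inv fun u hu => Subgroup.centralizer_le_normalizer _ ?_
    refine Subgroup.mem_centralizer_iff.2 fun l hl => ?_
    exact (Subgroup.mem_centralizer_iff.1 (hL hl) u hu).symm
  refine (holds_or hM hx (avgInd_idem hM hd) hself (avgInd_inv hN)).resolve_right fun h0 => ?_
  have := h0 ξ hξ
  rw [(val_avgInd hL hN ξ).1 h] at this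
  exact ideal_one hM this

theorem card_congr_centralizer (hM : IsPModular p M) {P L : Subgroup G} (hP : IsPGroup p P)
    (hPL : P ≤ Subgroup.normalizer (L : Set G)) :
    MemLocalIdeal M ((Nat.card L : ℂ) - (Nat.card (L ⊓ CG P : Subgroup G) : ℂ)) := by
  classical
  letI : MulAction P G := MulAction.compHom G ((MulAut.conj (G := G)).comp P.subtype)
  have hsmul : ∀ (u : P) (g : G), u • g = (u : G) * g * (u : G)⁻¹ := fun u g => rfl
  have hfix : MulAction.fixedPoints P G = (CG P : Set G) := by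
    ext g
    rw [MulAction.mem_fixedPoints, SetLike.mem_coe, Subgroup.mem_centralizer_iff]
    exact ⟨fun h u hu => mul_inv_eq_iff_eq_mul.1 ((hsmul ⟨u, hu⟩ g).symm.trans (h ⟨u, hu⟩)),
      fun h u => by rw [hsmul, mul_inv_eq_iff_eq_mul]; exact h u u.2⟩
  have h := ideal_sum_sub_fixed hM hP (F := fun g : G => if g ∈ L then (1 : ℂ) else 0)
    (fun g => by split_ifs <;> [exact ring_one hM; exact ring_zero hM])
    (fun u g => by
      rw [hsmul]
      exact if_congr (Subgroup.mem_normalizer_iff.1 (hPL u.2) g).symm rfl rfl)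
  rw [hfix, finsum_mem_eq_sum_of_inter_support_eq _
    (t := Finset.univ.filter (fun g => g ∈ CG P)) (by ext; simp), Finset.sum_boole,
    Finset.sum_boole, Finset.filter_filter] at h
  rw [Nat.card_eq_fintype_card, Nat.card_eq_fintype_card, Fintype.card_subtype,
    Fintype.card_subtype]
  rw [show (Finset.univ.filter fun g : G => g ∈ L ⊓ CG P) =
    Finset.univ.filter (fun g : G => g ∈ CG P ∧ g ∈ L) by ext g; simp [and_comm]]
  exact h

theorem avgInd_congr_inf (hM : IsPModular p M) {P L : Subgroup G} (hP : IsPGroup p P)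
    (hPL : P ≤ Subgroup.normalizer (L : Set G)) (hd : ¬ p ∣ Nat.card L) {c : G} (hc : c ∈ CG P) :
    MemLocalIdeal M (avgInd L c - avgInd (L ⊓ CG P) c) := by
  classical
  have hd' : ¬ p ∣ Nat.card (L ⊓ CG P : Subgroup G) := fun h =>
    hd (h.trans (Subgroup.card_dvd_of_le inf_le_left))
  by_cases hl : c ∈ L
  · unfold avgInd
    rw [if_pos hl, if_pos (Subgroup.mem_inf.2 ⟨hl, hc⟩)]
    have h := ideal_mul_left hM (ring_mul hM (ring_inv_natCast hM hd) (ring_inv_natCast hM hd'))
      (ideal_neg (card_congr_centralizer hM hP hPL))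
    convert h using 1
    have h1 : (Nat.card L : ℂ) ≠ 0 := Nat.cast_ne_zero.2 Nat.card_pos.ne'
    have h2 : (Nat.card (L ⊓ CG P : Subgroup G) : ℂ) ≠ 0 := Nat.cast_ne_zero.2 Nat.card_pos.ne'
    field_simp
    ring
  · unfold avgInd
    rw [if_neg hl, if_neg fun h => hl (Subgroup.mem_inf.1 h).1, sub_self]
    exact ideal_zero hM

theorem cfun_avgInd (x : G) (L : Subgroup G) :
    cfun x (avgInd L) = avgInd (L.map (MulAut.conj x).toMonoidHom) := by
  classical
  funext g
  simp only [cfun, avgInd, card_map_conj]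
  exact if_congr mem_map_conj.symm rfl rfl

/-! ### The kernel condition on pairs -/

/-- The core of the centralizer lies in the kernel of the pair. -/
def CoreKer (M : Ideal AlgInt) (σ : Set ℕ) (x : BrauerPairIdx G) : Prop :=
  Holds M x (avgInd (piCoreOf σ (CG x.1)))

/-- Every element of the centralizer whose order has all prime divisors in `σ` lies in the core. -/
def CoreClosed (σ : Set ℕ) (x : BrauerPairIdx G) : Prop :=
  ∀ c ∈ CG x.1, (∀ q : ℕ, q.Prime → q ∣ orderOf c → q ∈ σ) → c ∈ piCoreOf σ (CG x.1)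

theorem coreKer_iff (hM : IsPModular p M) (hσ : p ∉ σ) {x : BrauerPairIdx G} (hx : IsPr p M x) :
    CoreKer M σ x ↔ ∀ ξ ∈ x.2, ∀ c : CG x.1, c ∈ piCore σ (CG x.1) →
      (ξ : CG x.1 → ℂ) c = (ξ : CG x.1 → ℂ) 1 := by
  rw [CoreKer, holds_avgInd_iff hM hx (piCoreOf_le _) (le_normalizer_piCoreOf _)
    (piCoreOf_not_dvd (pmod_prime hM) hσ _)]
  simp only [mem_piCoreOf_iff]

theorem coreKer_of_member (hM : IsPModular p M) (hσ : p ∉ σ) {x : BrauerPairIdx G}
    (hx : IsPr p M x) {ξ : IrrCharacter (CG x.1)} (hξ : ξ ∈ x.2)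
    (h : ∀ c : CG x.1, c ∈ piCore σ (CG x.1) → (ξ : CG x.1 → ℂ) c = (ξ : CG x.1 → ℂ) 1) :
    CoreKer M σ x :=
  holds_avgInd_of_member hM hx (piCoreOf_le _) (le_normalizer_piCoreOf _)
    (piCoreOf_not_dvd (pmod_prime hM) hσ _) hξ fun c hc => h c ((mem_piCoreOf_iff c).1 hc)

theorem step_core (hM : IsPModular p M) (hσ : p ∉ σ) {x y : BrauerPairIdx G}
    (hxy : Step p M x y) :
    piCoreOf σ (CG x.1) ⊓ CG y.1 ≤ piCoreOf σ (CG y.1) ∧
      (Holds M y (avgInd (piCoreOf σ (CG x.1) ⊓ CG y.1)) ↔ CoreKer M σ x) := by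
  obtain ⟨hx, hy, hle, hN, -, -⟩ := (step_iff hM).1 hxy
  set L := piCoreOf σ (CG x.1) with hL
  have hC : CG y.1 ≤ CG x.1 := Subgroup.centralizer_le hle
  have hCL : CG x.1 ≤ Subgroup.normalizer (L : Set G) := le_normalizer_piCoreOf _
  have hyL : y.1 ≤ Subgroup.normalizer (L : Set G) := fun u hu =>
    mem_normalizer_piCoreOf (mem_normalizer_cg (hN hu))
  have hd : ¬ p ∣ Nat.card L := piCoreOf_not_dvd (pmod_prime hM) hσ _
  have hyN : CG y.1 ≤ Subgroup.normalizer ((L ⊓ CG y.1 : Subgroup G) : Set G) := fun u hu => by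
    refine Subgroup.mem_normalizer_iff.2 fun g => ?_
    rw [Subgroup.mem_inf, Subgroup.mem_inf, Subgroup.mem_normalizer_iff.1 (hCL (hC hu)) g,
      Subgroup.mem_normalizer_iff.1 (Subgroup.le_normalizer hu) g]
  refine ⟨le_piCoreOf inf_le_right hyN (primes_of_le inf_le_left), ?_⟩
  rw [CoreKer, ← holds_step hM hxy (avgInd_idem hM hd) (avgInd_inv hCL) (avgInd_inv hyL)]
  have hcg := fun c (hc : c ∈ CG y.1) => avgInd_congr_inf hM hy.1 hyL hd hc
  exact ⟨fun h => holds_congr hM (avgInd_inv hyN) (avgInd_inv (hC.trans hCL))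
      (fun c hc => ideal_sub_comm (hcg c hc)) h,
    fun h => holds_congr hM (avgInd_inv (hC.trans hCL)) (avgInd_inv hyN) hcg h⟩

theorem coreKer_down (hM : IsPModular p M) (hσ : p ∉ σ) {x y : BrauerPairIdx G}
    (hxy : Step p M x y) (h : CoreKer M σ y) : CoreKer M σ x := by
  obtain ⟨h1, h2⟩ := step_core hM hσ hxy
  have hy : IsPr p M y := hxy.2.1
  refine h2.1 ((holds_avgInd_iff hM hy inf_le_right ?_ ?_).2 fun ξ hξ c hc =>
    (coreKer_iff hM hσ hy).1 h ξ hξ c ((mem_piCoreOf_iff c).1 (h1 hc)))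
  · intro u hu
    refine Subgroup.mem_normalizer_iff.2 fun g => ?_
    rw [Subgroup.mem_inf, Subgroup.mem_inf,
      Subgroup.mem_normalizer_iff.1 (le_normalizer_piCoreOf _ (Subgroup.centralizer_le hxy.2.2.1 hu)) g,
      Subgroup.mem_normalizer_iff.1 (Subgroup.le_normalizer hu) g]
  · exact fun hd => piCoreOf_not_dvd (pmod_prime hM) hσ (CG x.1)
      (hd.trans (Subgroup.card_dvd_of_le inf_le_left))

theorem coreKer_up (hM : IsPModular p M) (hσ : p ∉ σ) {x y : BrauerPairIdx G}
    (hxy : Step p M x y) (hcl : CoreClosed σ x) (h : CoreKer M σ x) :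
    CoreClosed σ y ∧ CoreKer M σ y := by
  obtain ⟨h1, h2⟩ := step_core hM hσ hxy
  have hC : CG y.1 ≤ CG x.1 := Subgroup.centralizer_le hxy.2.2.1
  have heq : piCoreOf σ (CG x.1) ⊓ CG y.1 = piCoreOf σ (CG y.1) := le_antisymm h1 fun c hc =>
    Subgroup.mem_inf.2 ⟨hcl c (hC (piCoreOf_le _ hc)) (orderOf_primes hc), piCoreOf_le _ hc⟩
  refine ⟨fun c hc hq => heq ▸ Subgroup.mem_inf.2 ⟨hcl c (hC hc) hq, hc⟩, ?_⟩
  have h3 := h2.2 h
  rwa [heq] at h3

theorem coreKer_le (hM : IsPModular p M) (hσ : p ∉ σ) {x y : BrauerPairIdx G}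
    (hxy : Char.BP.LE p M x y) (h : CoreKer M σ y) : CoreKer M σ x := by
  induction hxy using Relation.ReflTransGen.head_induction_on with
  | refl => exact h
  | head hab _ ih => exact coreKer_down hM hσ hab ih

theorem coreKer_ge (hM : IsPModular p M) (hσ : p ∉ σ) {x y : BrauerPairIdx G}
    (hxy : Char.BP.LE p M x y) (hcl : CoreClosed σ x) (h : CoreKer M σ x) :
    CoreClosed σ y ∧ CoreKer M σ y := by
  induction hxy with
  | refl => exact ⟨hcl, h⟩
  | tail _ hst ih => exact coreKer_up hM hσ hst ih.1 ih.2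

theorem coreKer_cjI (g : G) (x : BrauerPairIdx G) :
    CoreKer M σ (cjI g x) ↔ CoreKer M σ x := by
  have e : avgInd (piCoreOf σ (CG (cjI g x).1)) = cfun g (avgInd (piCoreOf σ (CG x.1))) := by
    rw [cfun_avgInd, piCoreOf_map_conj (cg_map_conj g x.1)]
    rfl
  rw [CoreKer, e]
  exact holds_cjI g x _

/-! ### Maximal pairs and the Brauer correspondent -/

theorem exists_max_at_defect (hM : IsPModular p M) {B : Set (IrrCharacter G)}
    (hB : IsPBlock M B) {D : Subgroup G} (hD : IsDefectGroup p M B D) :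
    ∃ e, IsMx p M B (⟨D, e⟩ : BrauerPairIdx G) := by
  obtain ⟨e, he⟩ := (exists_pair_iff hM hB (IsDefectGroup.isPGroup hD)).2
    (defectGroup_not_brZero hM hB hD)
  exact ⟨e, max_of_defect hM he hD⟩

theorem coreKer_max_iff (hM : IsPModular p M) {B : Set (IrrCharacter G)} {x y : BrauerPairIdx G}
    (hx : IsMx p M B x) (hy : IsMx p M B y) : CoreKer M σ x ↔ CoreKer M σ y := by
  obtain ⟨g, rfl⟩ := max_conj hM hx hy
  exact (coreKer_cjI g x).symm

theorem coreKer_of_ofB (hM : IsPModular p M) (hσ : p ∉ σ) {B : Set (IrrCharacter G)}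
    {a x : BrauerPairIdx G} (ha : OfB p M B a) (hx : IsMx p M B x) (h : CoreKer M σ x) :
    CoreKer M σ a := by
  obtain ⟨y, hay, hy⟩ := exists_max_above hM ha
  exact coreKer_le hM hσ hay ((coreKer_max_iff hM hx hy).1 h)

/-- At a maximal pair the condition reads off the Brauer correspondent. -/
theorem coreKer_iff_blockKer (hM : IsPModular p M) (hσ : p ∉ σ) {B : Set (IrrCharacter G)}
    {D : Subgroup G} (hBD : IsDefectGroup p M B D)
    {B₁ : Set (IrrCharacter (Subgroup.normalizer (D : Set G)))}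
    (hB₁ : IsInducedBlock M (Subgroup.normalizer (D : Set G)) B₁ B)
    (hB₁D : IsDefectGroup p M B₁ (D.subgroupOf (Subgroup.normalizer (D : Set G))))
    {e : Set (IrrCharacter (CG D))} (hmx : IsMx p M B (⟨D, e⟩ : BrauerPairIdx G)) :
    CoreKer M σ (⟨D, e⟩ : BrauerPairIdx G) ↔
      ∀ n : Subgroup.normalizer (D : Set G),
        n ∈ piCore σ (Subgroup.normalizer (D : Set G)) → n ∈ blockKer B₁ := by
  classical
  haveI := Fact.mk (pmod_prime hM)
  let x : BrauerPairIdx G := ⟨D, e⟩
  letI := Fintype.ofFinite (Subgroup.normalizer (D : Set G))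
  obtain ⟨-, b, hb, hbD, hind, hw⟩ := exists_normalizer_block hM hmx
  have hbB : b = B₁ :=
    (exists_unique_inducing hM hmx.1.2.1 hBD).unique ⟨hb, hbD, hind⟩ ⟨hB₁.1, hB₁D, hB₁⟩
  rw [hbB] at hw
  set L := piCoreOf σ (CG D) with hLdef
  have hCN : CG D ≤ (Subgroup.normalizer (D : Set G)) := cg_le_normalizer D
  have hLC : L ≤ CG D := piCoreOf_le _
  have hNL : (Subgroup.normalizer (D : Set G)) ≤ Subgroup.normalizer (L : Set G) := fun u hu =>
    mem_normalizer_piCoreOf (mem_normalizer_cg hu)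
  have hd : ¬ p ∣ Nat.card L := piCoreOf_not_dvd (pmod_prime hM) hσ _
  have hcore : L = piCoreOf σ (Subgroup.normalizer (D : Set G)) := by
    refine le_antisymm (le_piCoreOf (hLC.trans hCN) hNL fun q hq h => piCoreOf_primes hq h) ?_
    have hcomm : piCoreOf σ (Subgroup.normalizer (D : Set G)) ≤ CG D := by
      intro c hc
      refine Subgroup.mem_centralizer_iff.2 fun u hu => ?_
      have hcN : c ∈ (Subgroup.normalizer (D : Set G)) := piCoreOf_le _ hc
      have h1 : c * u * c⁻¹ * u⁻¹ ∈ D :=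
        mul_mem ((Subgroup.mem_normalizer_iff.1 hcN u).1 hu) (inv_mem hu)
      have h2 : c * u * c⁻¹ * u⁻¹ ∈ piCoreOf σ (Subgroup.normalizer (D : Set G)) := by
        have := (Subgroup.mem_normalizer_iff.1 (le_normalizer_piCoreOf (σ := σ) (Subgroup.normalizer (D : Set G))
          (Subgroup.le_normalizer hu)) c⁻¹).1 (inv_mem hc)
        rw [show c * u * c⁻¹ * u⁻¹ = c * (u * c⁻¹ * u⁻¹) by group]
        exact mul_mem hc this
      have hone : c * u * c⁻¹ * u⁻¹ = 1 := by
        have hdisj : D ⊓ piCoreOf σ (Subgroup.normalizer (D : Set G)) = ⊥ := by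
          refine Grp.inf_eq_bot_of_coprime ?_
          obtain ⟨k, hk⟩ := IsPGroup.iff_card.1 hmx.1.1.1
          rw [hk]
          exact ((pmod_prime hM).coprime_iff_not_dvd.2
            (piCoreOf_not_dvd (pmod_prime hM) hσ (Subgroup.normalizer (D : Set G)))).pow_left k
        exact (Subgroup.eq_bot_iff_forall _).1 hdisj _ (Subgroup.mem_inf.2 ⟨h1, h2⟩)
      rw [mul_inv_eq_one, mul_inv_eq_iff_eq_mul] at hone
      exact hone.symm
    exact le_piCoreOf hcomm (hCN.trans (le_normalizer_piCoreOf _))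
      fun q hq h => piCoreOf_primes hq h
  haveI : (L.subgroupOf (Subgroup.normalizer (D : Set G))).Normal :=
    (Subgroup.normal_subgroupOf_iff_le_normalizer (hLC.trans hCN)).2 hNL
  have hmemL : ∀ n : (Subgroup.normalizer (D : Set G)), n ∈ L.subgroupOf (Subgroup.normalizer (D : Set G)) ↔ n ∈ piCore σ (Subgroup.normalizer (D : Set G)) := fun n => by
    rw [Subgroup.mem_subgroupOf, hcore, mem_piCoreOf_iff]
  set O := orbSum (Subgroup.normalizer (D : Set G)) (be (⟨D, e⟩ : BrauerPairIdx G)) with hOdef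
  have hOI : Inv (Subgroup.normalizer (D : Set G)) O := orbSum_inv (Subgroup.normalizer (D : Set G)) _
  have hOs : Supp (CG D) O := orbSum_supp hM (x := x) hmx.1.1
  have hCD : CG D ≤ Subgroup.normalizer (L : Set G) := hCN.trans hNL
  have hDL : D ≤ Subgroup.normalizer (L : Set G) := Subgroup.le_normalizer.trans hNL
  have hgood : ∀ φ ∈ orb (Subgroup.normalizer (D : Set G)) (be x), ∃ f, IsPr p M (⟨D, f⟩ : BrauerPairIdx G) ∧ bc (CG D) f = φ ∧
      (CoreKer M σ (⟨D, f⟩ : BrauerPairIdx G) ↔ CoreKer M σ x) := by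
    intro φ hφ
    obtain ⟨f, hf, hbc, n, hn, hnx⟩ := orb_pair hM (x := x) hmx.1.1 hφ
    exact ⟨f, ⟨hmx.1.1.1, hf⟩, hbc, by rw [← hnx]; exact coreKer_cjI n x⟩
  have hconv : res (Subgroup.normalizer (D : Set G)) (convFun (avgInd L) O) = convFun (res (Subgroup.normalizer (D : Set G)) (avgInd L)) (res (Subgroup.normalizer (D : Set G)) O) :=
    funext fun n => conv_res (Subgroup.normalizer (D : Set G)) O (avgInd_supp (hLC.trans hCN)) n
  have hsplit : ∀ η ∈ B₁, omegaFun η (res (Subgroup.normalizer (D : Set G)) (convFun (avgInd L) O)) =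
      omegaFun η (avgInd (L.subgroupOf (Subgroup.normalizer (D : Set G)))) * omegaFun η (res (Subgroup.normalizer (D : Set G)) O) := fun η _ => by
    rw [hconv, omegaFun_convFun (res_classFun hOI), res_avgInd (hLC.trans hCN)]
  have hcl : IsClassFunction (Subgroup.normalizer (D : Set G)) (res (Subgroup.normalizer (D : Set G)) (convFun (avgInd L) O)) :=
    res_classFun ((avgInd_inv hNL).conv hOI)
  constructor
  · intro hx n hn η hη
    have hc : ∀ g : G, MemLocalIdeal M (convFun (avgInd L) O g - O g) := by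
      intro g
      by_cases hg : g ∈ CG D
      · show MemLocalIdeal M (convFun (avgInd L) (fun g => ∑ φ ∈ orb (Subgroup.normalizer (D : Set G)) (be x), φ g) g -
          ∑ φ ∈ orb (Subgroup.normalizer (D : Set G)) (be x), φ g)
        rw [conv_sum_right, ← Finset.sum_sub_distrib]
        refine ideal_sum hM fun φ hφ => ?_
        obtain ⟨f, hf, rfl, hiff⟩ := hgood φ hφ
        exact holds_conv hM hf (avgInd_idem hM hd) (avgInd_inv hDL) (avgInd_inv hCD)
          (hiff.2 hx) hg
      · rw [(avgInd_supp hLC).conv hOs _ hg, hOs _ hg, sub_self]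
        exact ideal_zero hM
    have h1 := omega_congr hM hcl (res_classFun hOI) (fun m => hc m) η
    rw [hsplit η hη] at h1
    have hne : omegaFun η (avgInd (L.subgroupOf (Subgroup.normalizer (D : Set G)))) ≠ 0 := fun h0 => by
      rw [h0, zero_mul, zero_sub] at h1
      refine ideal_one hM ?_
      convert ideal_sub hM (ideal_neg h1) (hw η hη) using 1
      ring
    have hk : ∀ u ∈ L.subgroupOf (Subgroup.normalizer (D : Set G)), (η : (Subgroup.normalizer (D : Set G)) → ℂ) u = (η : (Subgroup.normalizer (D : Set G)) → ℂ) 1 := by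
      by_contra hh
      exact hne ((omega_avgInd (L.subgroupOf (Subgroup.normalizer (D : Set G))) η).2 hh)
    exact hk n ((hmemL n).2 hn)
  · intro hk
    by_contra hx
    obtain ⟨η, hη⟩ := pblock_nonempty hM hB₁.1
    have hv : omegaFun η (avgInd (L.subgroupOf (Subgroup.normalizer (D : Set G)))) = 1 :=
      (omega_avgInd (L.subgroupOf (Subgroup.normalizer (D : Set G))) η).1 fun u hu => hk u ((hmemL u).1 hu) η hη
    have hc : ∀ g : G, MemLocalIdeal M (convFun (avgInd L) O g) := by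
      intro g
      by_cases hg : g ∈ CG D
      · show MemLocalIdeal M (convFun (avgInd L) (fun g => ∑ φ ∈ orb (Subgroup.normalizer (D : Set G)) (be x), φ g) g)
        rw [conv_sum_right]
        refine ideal_sum hM fun φ hφ => ?_
        obtain ⟨f, hf, rfl, hiff⟩ := hgood φ hφ
        exact zero_conv hM hf (avgInd_idem hM hd) (avgInd_inv hDL) (avgInd_inv hCD)
          ((holds_or hM hf (avgInd_idem hM hd) (avgInd_inv hDL) (avgInd_inv hCD)).resolve_left
            fun h => hx (hiff.1 h)) hg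
      · rw [(avgInd_supp hLC).conv hOs _ hg]
        exact ideal_zero hM
    have h1 := omega_congr hM hcl (b := fun _ : (Subgroup.normalizer (D : Set G)) => (0 : ℂ)) (fun _ _ => rfl)
      (fun m => by simpa [res_apply] using hc m) η
    rw [hsplit η hη, hv, one_mul] at h1
    rw [show omegaFun η (fun _ : Subgroup.normalizer (D : Set G) => (0 : ℂ)) = 0 by
      simp [omegaFun], sub_zero] at h1
    refine ideal_one hM ?_
    convert ideal_sub hM h1 (hw η hη) using 1
    ring

/-! ### Pairs coming from induced blocks -/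

theorem ofB_of_induced (hM : IsPModular p M) {B : Set (IrrCharacter G)} {Q : Subgroup G}
    (hQ : IsPGroup p Q) {f : Set (IrrCharacter (CG Q))} (hind : IsInducedBlock M (CG Q) f B) :
    OfB p M B (⟨Q, f⟩ : BrauerPairIdx G) := by
  letI := Fintype.ofFinite (CG Q)
  refine ofB_of_holds hind.2.1 ⟨hQ, hind.1⟩ fun ξ hξ => ?_
  obtain ⟨χ, hχ⟩ := pblock_nonempty hM hind.2.1
  have h := induced_congr hM hind (cenInt_blockInd hM hind.2.1) hξ hχ
  rw [blockInd_of_mem hχ, resCen_eq_omegaFun, ← funext (blockCoeff_eq B)] at h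
  show MemLocalIdeal M (val Q (blockCoeff B) ξ - 1)
  rw [val_eq]
  exact h

/-- A constituent at the centralizer of a member of a block inducing `B`. -/
theorem exists_ofB_constituent (hM : IsPModular p M) {B : Set (IrrCharacter G)} {Q H : Subgroup G}
    (hQ : IsPGroup p Q) (hH : H = Q ⊔ CG Q) {b : Set (IrrCharacter H)}
    (hind : IsInducedBlock M H b B) {θ : IrrCharacter H} (hθ : θ ∈ b) :
    ∃ ξ : IrrCharacter (CG Q), OfB p M B (⟨Q, blockOf M (ξ : CG Q → ℂ)⟩ : BrauerPairIdx G) ∧
      ∀ (h : H) (c : CG Q), (h : G) = (c : G) → (θ : H → ℂ) h = (θ : H → ℂ) 1 →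
        (ξ : CG Q → ℂ) c = (ξ : CG Q → ℂ) 1 := by
  classical
  haveI := Fact.mk (pmod_prime hM)
  letI := Fintype.ofFinite H
  letI := Fintype.ofFinite (CG Q)
  have hQH : Q ≤ H := hH ▸ le_sup_left
  have hCH : CG Q ≤ H := hH ▸ le_sup_right
  have hHN : H ≤ Subgroup.normalizer (Q : Set G) := hH ▸ sup_centralizer_le_normalizer Q
  set C' := (CG Q).subgroupOf H with hC'
  haveI : C'.Normal := (Subgroup.normal_subgroupOf_iff_le_normalizer hCH).2
    fun u hu => mem_normalizer_cg (hHN hu)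
  letI := Fintype.ofFinite C'
  obtain ⟨ξ', hξ'⟩ := Char.IsChar.exists_constituent'
    (Char.IsChar.res (irr_isChar θ) C') (by simpa using irr_one_ne_zero θ)
  let e : C' ≃* CG Q := Subgroup.subgroupOfEquivOfLe hCH
  set ξ := irrPull e.symm ξ' with hξdef
  refine ⟨ξ, ?_, fun h c hc hh => ?_⟩
  · have hpr : IsPr p M (⟨Q, blockOf M (ξ : CG Q → ℂ)⟩ : BrauerPairIdx G) :=
      ⟨hQ, isPBlock_blockOf ξ⟩
    refine ofB_of_holds hind.2.1 hpr ?_
    refine (holds_or hM hpr (blockCoeff_idem hM hind.2.1)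
      (inv_of_classFun (blockCoeff_classFun B) _)
      (inv_of_classFun (blockCoeff_classFun B) _)).resolve_right fun h0 => ?_
    have h0 := h0 ξ (mem_blockOf_self hM ξ)
    obtain ⟨χ, hχ⟩ := pblock_nonempty hM hind.2.1
    have h1 := induced_congr hM hind (cenInt_blockInd hM hind.2.1) hθ hχ
    rw [blockInd_of_mem hχ] at h1
    have h2 := resCen_sub_brCen_ideal hM hQ hQH hHN (cenInt_blockInd hM hind.2.1) θ
    have h3 : brCen Q H (blockInd B) θ = val Q (blockCoeff B) ξ := by
      rw [brCen_eq_omegaFun, Cfsg.Agent.Char.RealBlock.omegaFun_eq_res C' (θ := ξ') hξ'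
        (brFun_classFun hHN _) (fun g hg => if_neg fun hh => hg (Subgroup.mem_subgroupOf.2 hh)),
        val_eq, ← omegaFun_irrPull e.symm ξ']
      congr 1
      funext c
      show brFun Q H (blockInd B) (e.symm c : H) = blockCoeff B c
      rw [brFun, if_pos (Subgroup.mem_subgroupOf.1 (e.symm c).2), blockCoeff_eq]
      rfl
    rw [← h3] at h0
    exact ideal_one hM (by simpa using ideal_sub hM (ideal_add hM h2 h0) h1)
  · have hhC : h ∈ C' := Subgroup.mem_subgroupOf.2 (hc ▸ c.2)
    have h4 := Char.constituent_ker (Char.IsChar.res (irr_isChar θ) C') ξ'.2 hξ'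
      (g := ⟨h, hhC⟩) hh
    have ec : e.symm c = ⟨h, hhC⟩ := e.symm_apply_eq.2 (Subtype.ext hc.symm)
    simp only [hξdef, irrPull_apply, map_one, ec]
    exact h4

theorem val_sub (P : Subgroup G) (a b : G → ℂ) (ξ : IrrCharacter (CG P)) :
    val P (a - b) ξ = val P a ξ - val P b ξ := by
  letI := Fintype.ofFinite (CG P)
  simp only [val_eq, omegaFun, res_apply, Pi.sub_apply, sub_mul, Finset.sum_sub_distrib, sub_div]

/-- A pair of a block of an overgroup is a pair of the induced block. -/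
theorem holds_res_of_induced (hM : IsPModular p M) {H : Subgroup G} [Fintype H]
    {B : Set (IrrCharacter G)} {B₀ : Set (IrrCharacter H)} (hind : IsInducedBlock M H B₀ B)
    {x : BrauerPairIdx H} (hx : OfB p M B₀ x) : Holds M x (res H (blockCoeff B)) := by
  intro ξ hξ
  obtain ⟨χ, hχ⟩ := pblock_nonempty hM hind.2.1
  set F : IrrCharacter H → ℂ := resCen H (blockInd B) with hF
  have hFI : CenInt M F := (cenInt_blockInd hM hind.2.1).resCen
  set f : IrrCharacter H → ℂ := F * blockInd B₀ - blockInd B₀ with hf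
  have hfI : CenInt M f := (hFI.mul hM (cenInt_blockInd hM hind.1)).sub hM
    (cenInt_blockInd hM hind.1)
  obtain ⟨n, hn, hpow⟩ := exists_pow_coeff_ideal hM hfI fun θ => by
    by_cases hθ : θ ∈ B₀
    · have h := induced_congr hM hind (cenInt_blockInd hM hind.2.1) hθ hχ
      rw [blockInd_of_mem hχ] at h
      simpa [hf, blockInd_of_mem hθ] using h
    · simp only [hf, Pi.sub_apply, Pi.mul_apply, blockInd_of_notMem hθ, mul_zero, sub_self]
      exact ideal_zero hM
  set v : (IrrCharacter H → ℂ) → ℂ := fun φ => val x.1 (coeffFun φ) ξ with hv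
  have hring : ∀ φ, CenInt M φ → MemLocalRing M (v φ) := fun φ hφ =>
    val_ring hM hφ (inv_of_classFun (coeffFun_classFun φ) _) ξ
  have hmul : ∀ φ ψ, CenInt M φ → CenInt M ψ → MemLocalIdeal M (v (φ * ψ) - v φ * v ψ) := by
    intro φ ψ hφ hψ
    simp only [hv]
    rw [coeffFun_mul]
    exact val_mul hM hx.1.1 hφ hψ (inv_of_classFun (coeffFun_classFun φ) _)
      (inv_of_classFun (coeffFun_classFun ψ) _) (inv_of_classFun (coeffFun_classFun φ) _)
      (inv_of_classFun (coeffFun_classFun ψ) _) ξ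
  have hpw : ∀ k, 0 < k → CenInt M (f ^ k) ∧ MemLocalIdeal M (v (f ^ k) - v f ^ k) := by
    intro k hk
    induction k, hk using Nat.le_induction with
    | base => simpa using ⟨hfI, ideal_zero hM⟩
    | succ k hk ih =>
      refine ⟨by rw [pow_succ]; exact ih.1.mul hM hfI, ?_⟩
      have := ideal_add hM (hmul _ _ ih.1 hfI) (ideal_mul_right hM ih.2 (hring f hfI))
      rw [← pow_succ] at this
      convert this using 1
      ring
  obtain ⟨hnI, hnv⟩ := hpw n hn
  have h0 : MemLocalIdeal M (v (f ^ n)) := ideal_of_coeffFun_ideal hM (f := val x.1 _)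
    (fun c => by rw [coeff_val (inv_of_classFun (coeffFun_classFun _) _)]; exact hpow _) ξ
  have h1 : MemLocalIdeal M (v f) :=
    ideal_of_pow hM (hring f hfI) n ((ideal_congr hM hnv).1 h0)
  have h2 : MemLocalIdeal M (val x.1 (blockCoeff B₀) ξ - 1) := hx.2.2 ξ hξ
  have h3 := hmul F (blockInd B₀) hFI (cenInt_blockInd hM hind.1)
  have e1 : v f = v (F * blockInd B₀) - v (blockInd B₀) := by
    simp only [hv, hf]
    rw [show coeffFun (F * blockInd B₀ - blockInd B₀) =
      coeffFun (F * blockInd B₀) - coeffFun (blockInd B₀) from funext fun h => coeffFun_sub _ _ h,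
      val_sub]
  have e2 : v (blockInd B₀) = val x.1 (blockCoeff B₀) ξ := by
    simp only [hv, ← funext (blockCoeff_eq B₀)]
  have e3 : v F = val x.1 (res H (blockCoeff B)) ξ := by
    simp only [hv]
    congr 1
    funext h
    rw [hF, coeffFun_resCen, res_apply, blockCoeff_eq]
  rw [e1, e2] at h1
  rw [e2, e3] at h3
  have h4 := ideal_add hM (ideal_sub hM h1 h3) h2
  have h5 := ideal_sub hM h4 (ideal_mul_left hM
    (val_ring hM (a := res H (blockCoeff B)) (fun g : H => blockCoeff_ring hM hind.2.1 (g : G))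
      (inv_of_classFun (res_classFun (inv_of_classFun (blockCoeff_classFun B) H)) _) ξ) h2)
  convert h5 using 1
  show val x.1 (res H (blockCoeff B)) ξ - 1 = _
  ring

/-! ### The three consequences -/

/-- The core of a subgroup containing the centralizer of a defect group of a block inducing `B`
lies in the kernel of that block. -/
theorem piCore_le_blockKer_of_induced (hM : IsPModular p M) (hσ : p ∉ σ)
    {B : Set (IrrCharacter G)} {x : BrauerPairIdx G} (hx : IsMx p M B x) (hker : CoreKer M σ x)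
    {H : Subgroup G} {B₀ : Set (IrrCharacter H)} (hind : IsInducedBlock M H B₀ B)
    {D₀ : Subgroup H} (hD₀ : IsDefectGroup p M B₀ D₀)
    (hC : Subgroup.centralizer ((D₀.map H.subtype : Subgroup G) : Set G) ≤ H) :
    ∀ h : H, h ∈ piCore σ H → h ∈ blockKer B₀ := by
  classical
  haveI := Fact.mk (pmod_prime hM)
  letI := Fintype.ofFinite H
  set Q := D₀.map H.subtype with hQdef
  have hQH : Q ≤ H := Subgroup.map_subtype_le _
  have hDQ : Q.subgroupOf H = D₀ := Subgroup.comap_map_eq_self_of_injective H.subtype_injective _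
  rw [← hDQ] at hD₀
  obtain ⟨e₀, he₀⟩ := exists_max_at_defect hM hind.1 hD₀
  set f : Set (IrrCharacter (CG Q)) := pullB (cgSub hQH hC) e₀ with hfdef
  have hidx : idxDown hQH hC f = (⟨Q.subgroupOf H, e₀⟩ : BrauerPairIdx H) := by
    rw [idxDown]
    congr 1
  have hQp : IsPGroup p Q := by
    have := (IsDefectGroup.isPGroup hD₀).map H.subtype
    rwa [hDQ] at this
  have hy : OfB p M B (⟨Q, f⟩ : BrauerPairIdx G) := by
    refine ofB_of_holds hind.2.1 ⟨hQp, isPBlock_pullB hM _ he₀.1.1.2⟩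
      ((holds_idxDown hQH hC f _).1 ?_)
    rw [hidx]
    exact holds_res_of_induced hM hind he₀.1
  have hgy := (coreKer_iff hM hσ hy.1).1 (coreKer_of_ofB hM hσ hy hx hker)
  set L := piCore σ H
  have hd : ¬ p ∣ Nat.card L := fun h => hσ (piCore_primes (pmod_prime hM) h)
  set x₀ : BrauerPairIdx H := ⟨Q.subgroupOf H, e₀⟩ with hx₀
  have hDL : x₀.1 ≤ Subgroup.normalizer (L : Set H) := by
    rw [Subgroup.normalizer_eq_top]; exact le_top
  have hCL : CG x₀.1 ≤ Subgroup.normalizer (L : Set H) := by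
    rw [Subgroup.normalizer_eq_top]; exact le_top
  have hinf : CG x₀.1 ≤ Subgroup.normalizer ((L ⊓ CG x₀.1 : Subgroup H) : Set H) := fun u hu => by
    refine Subgroup.mem_normalizer_iff.2 fun g => ?_
    rw [Subgroup.mem_inf, Subgroup.mem_inf, Subgroup.mem_normalizer_iff.1 (hCL hu) g,
      Subgroup.mem_normalizer_iff.1 (Subgroup.le_normalizer hu) g]
  have hd' : ¬ p ∣ Nat.card (L ⊓ CG x₀.1 : Subgroup H) := fun h =>
    hd (h.trans (Subgroup.card_dvd_of_le inf_le_left))
  have hI : Holds M x₀ (avgInd L) := by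
    refine holds_congr hM (avgInd_inv hinf) (avgInd_inv hCL)
      (fun c hc => ideal_sub_comm (avgInd_congr_inf hM he₀.1.1.1 hDL hd hc)) ?_
    refine (holds_avgInd_iff hM he₀.1.1 inf_le_right hinf hd').2 fun θ hθ c hc => ?_
    set K := (L ⊓ CG x₀.1).map H.subtype
    have hKC : K ≤ CG Q := by
      rintro _ ⟨w, hw, rfl⟩
      exact (mem_cg_subgroupOf hQH w).1 (Subgroup.mem_inf.1 hw).2
    have hKN : CG Q ≤ Subgroup.normalizer (K : Set G) := by
      intro u hu
      refine Subgroup.mem_normalizer_iff.2 fun g => ?_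
      by_cases hg : g ∈ H
      · have := Subgroup.mem_normalizer_iff.1
          (hinf ((mem_cg_subgroupOf hQH ⟨u, hC hu⟩).2 hu)) ⟨g, hg⟩
        exact ((Subgroup.mem_map_iff_mem H.subtype_injective).trans this).trans
          (Subgroup.mem_map_iff_mem H.subtype_injective).symm
      · refine iff_of_false (fun h => hg (Subgroup.map_subtype_le _ h)) fun h => hg ?_
        simpa [mul_assoc] using
          mul_mem (mul_mem (inv_mem (hC hu)) (Subgroup.map_subtype_le _ h)) (hC hu)
    have hKcore : K ≤ piCoreOf σ (CG Q) := le_piCoreOf hKC hKN fun q hq h => by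
      rw [Subgroup.card_map_of_injective H.subtype_injective] at h
      exact piCore_primes hq (h.trans (Subgroup.card_dvd_of_le inf_le_left))
    have hm := hgy (irrPull (cgSub hQH hC).symm θ) (by
      show irrPull (cgSub hQH hC) (irrPull (cgSub hQH hC).symm θ) ∈ e₀
      rwa [irrPull_symm_self]) (cgSub hQH hC c)
      ((mem_piCoreOf_iff _).1 (hKcore ⟨_, hc, rfl⟩))
    simpa using hm
  intro h hh χ hχ
  by_contra hne
  have hzero : ∀ θ ∈ B₀, omegaFun θ (avgInd L) = 0 := fun θ hθ =>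
    (omega_avgInd L θ).2 fun hk => hne
      (ker_of_sameBlock hM L hd (pblock_sameBlock hM hind.1 hθ hχ) hk hh)
  have hcf : IsClassFunction H (avgInd L) := fun g u => by
    unfold avgInd
    exact if_congr ⟨fun hg => by
      simpa [mul_assoc] using (piCore_normal σ H).conj_mem _ hg u⁻¹,
      fun hg => (piCore_normal σ H).conj_mem _ hg u⟩ rfl rfl
  have hprod : convFun (blockCoeff B₀) (avgInd L) = 0 := by
    rw [funext (blockCoeff_eq B₀), ← coeffFun_omegaFun hcf, ← coeffFun_mul]
    have : (blockInd B₀ * fun θ => omegaFun θ (avgInd L)) = 0 := funext fun θ => by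
      by_cases hθ : θ ∈ B₀
      · simp [hzero θ hθ]
      · simp [blockInd_of_notMem hθ]
    rw [this]
    funext g
    simp [coeffFun_eq_sum]
  exact holds_mul_ne_zero hM he₀.1.1 (blockCoeff_ring hM hind.1) (avgInd_ring hM hd)
    (inv_of_classFun (blockCoeff_classFun B₀) _) (avgInd_inv hDL)
    (inv_of_classFun (blockCoeff_classFun B₀) _) (avgInd_inv hCL) he₀.1.2.2 hI hprod

/-- The kernel condition at a maximal pair gives constancy of the block on cosets in a section
whose centralizer is closed. -/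
theorem value_section_of_coreKer (hM : IsPModular p M) (hσ : p ∉ σ) {B : Set (IrrCharacter G)}
    {x : BrauerPairIdx G} (hx : IsMx p M B x) (hker : CoreKer M σ x) {y : G}
    (hy : ∃ k : ℕ, orderOf y = p ^ k) {χ : IrrCharacter G} (hχ : χ ∈ B)
    {W : Subgroup G} (hW : W = Subgroup.centralizer ({y} : Set G)) {c : W}
    (hc : c ∈ piCore σ W) :
    (χ : G → ℂ) (y * c) = (χ : G → ℂ) y := by
  classical
  subst hW
  haveI := Fact.mk (pmod_prime hM)
  letI := Fintype.ofFinite (Subgroup.centralizer ({y} : Set G))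
  obtain ⟨k, hk⟩ := hy
  have hQ : IsPGroup p (Subgroup.zpowers y) :=
    IsPGroup.of_card (n := k) (by rw [Nat.card_zpowers, hk])
  have hCQ : CG (Subgroup.zpowers y) = Subgroup.centralizer ({y} : Set G) := by
    rw [Subgroup.zpowers_eq_closure]
    exact Subgroup.centralizer_closure {y}
  have key : ∀ (W : Subgroup G), CG (Subgroup.zpowers y) = W → ∀ (ξ : IrrCharacter W) (c : W),
      IsInducedBlock M W (blockOf M (ξ : W → ℂ)) B → c ∈ piCore σ W →
        (ξ : W → ℂ) c = (ξ : W → ℂ) 1 := by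
    rintro W rfl ξ c hind hc
    have hofB := ofB_of_induced hM hQ hind
    exact (coreKer_iff hM hσ hofB.1).1 (coreKer_of_ofB hM hσ hofB hx hker) ξ
      (mem_blockOf_self hM ξ) c hc
  have hcp : ¬ p ∣ orderOf c := fun h =>
    hσ (piCore_primes (pmod_prime hM) (h.trans (Subgroup.orderOf_dvd_natCard _ hc)))
  have h1 := value_eq_sum_inducing hM ⟨k, hk⟩ hx.1.2.1 (y := c) hcp χ
  have h2 := value_eq_sum_inducing hM ⟨k, hk⟩ hx.1.2.1
    (y := (1 : Subgroup.centralizer ({y} : Set G))) (by simpa using (pmod_prime hM).not_dvd_one) χ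
  rw [if_pos hχ] at h1 h2
  rw [OneMemClass.coe_one, mul_one] at h2
  rw [← h1, ← h2]
  exact Finset.sum_congr rfl fun ξ hξ => by
    rw [key _ hCQ ξ c (Finset.mem_filter.1 hξ).2 hc]

end Cfsg.Agent.Block
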