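import Cfsg.Agent.Lib.Block.Induced
import Cfsg.Agent.Lib.Char.Schur
import Cfsg.Agent.Lib.Char.Quotient
import Cfsg.Agent.Lib.Transfer.Elements

/-!
Brauer's first main theorem, the support of central characters of a block, and the consequences
for central elements of defect groups.
-/

open scoped ComplexConjugate

namespace Cfsg.Agent.Block

set_option linter.unusedSectionVars false
set_option linter.style.haveILetI false

universe u

variable {G : Type u} [Group G] [Finite G] {p : ℕ} {M : Ideal AlgInt}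

theorem eq_of_coeffFun_eq {f f' : IrrCharacter G → ℂ} (h : coeffFun f = coeffFun f') : f = f' := by
  cases nonempty_fintype G
  funext χ
  rw [← omegaFun_coeffFun f χ, h, omegaFun_coeffFun]

/-! ### Every block contains a character with a given normal `p`-subgroup in its kernel -/

theorem sum_normal_mul_eq_zero (P : Subgroup G) [P.Normal] [Fintype P] (χ : IrrCharacter G)
    (h : ¬ ∀ u ∈ P, (χ : G → ℂ) u = (χ : G → ℂ) 1) (x : G) :
    ∑ u : P, (χ : G → ℂ) ((u : G) * x) = 0 := by
  classical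
  cases nonempty_fintype G
  let f : G → ℂ := fun g => if g ∈ P then 1 else 0
  have hf : IsClassFunction G f := fun g t => by
    simp only [f]
    refine if_congr ⟨fun h => ?_, fun h => Subgroup.Normal.conj_mem inferInstance g h t⟩ rfl rfl
    simpa [mul_assoc] using Subgroup.Normal.conj_mem (inferInstance : P.Normal) _ h t⁻¹
  have hsum : ∀ y : G, ∑ g : G, f g * (χ : G → ℂ) (g * y) =
      ∑ u : P, (χ : G → ℂ) ((u : G) * y) := by
    intro y
    simp only [f, ite_mul, one_mul, zero_mul]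
    rw [← Finset.sum_filter]
    refine (Finset.sum_subtype (Finset.univ.filter (· ∈ P)) (fun g => by simp)
      (fun g => (χ : G → ℂ) (g * y)))
  have key : ∀ y : G, ∑ u : P, (χ : G → ℂ) ((u : G) * y) =
      (∑ u : P, (χ : G → ℂ) u) / (χ : G → ℂ) 1 * (χ : G → ℂ) y := by
    intro y
    rw [← hsum, Cfsg.Agent.Char.sum_classFun_mul_apply χ.2 hf y]
    congr 2
    simpa using hsum 1
  by_cases hS : ∑ u : P, (χ : G → ℂ) u = 0
  · rw [key, hS, zero_div, zero_mul]
  · refine absurd (fun w hw => ?_) h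
    have h1 := key w
    have h2 : ∑ u : P, (χ : G → ℂ) ((u : G) * w) = ∑ u : P, (χ : G → ℂ) u :=
      Fintype.sum_equiv (Equiv.mulRight (⟨w, hw⟩ : P)) _ _ fun u => rfl
    rw [h2, div_mul_eq_mul_div, eq_div_iff (irr_one_ne_zero χ)] at h1
    exact (mul_left_cancel₀ hS h1).symm

theorem exists_member_ker (hM : IsPModular p M) {B : Set (IrrCharacter G)} (hB : IsPBlock M B)
    (P : Subgroup G) [P.Normal] (hP : IsPGroup p P) :
    ∃ χ ∈ B, ∀ u ∈ P, (χ : G → ℂ) u = (χ : G → ℂ) 1 := by
  classical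
  cases nonempty_fintype G
  cases nonempty_fintype P
  by_contra hno
  obtain ⟨χ₀, hχ₀⟩ := pblock_nonempty hM hB
  refine ideal_one hM (blockInd_of_mem hχ₀ ▸
    omega_ideal_of_coset_sum hM (cenInt_blockInd hM hB) P hP (fun x => ?_) χ₀)
  have h0 : ∑ u : P, coeffFun (blockInd B) (x * u) = 0 := by
    simp only [← blockCoeff_eq, blockCoeff, finsum_mem_block, ← Finset.mul_sum]
    rw [Finset.sum_comm, Finset.sum_eq_zero, mul_zero]
    intro χ hχ
    have h1 : ∑ u : P, (χ : G → ℂ) (x * u) = 0 := by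
      rw [← sum_normal_mul_eq_zero P χ (fun h => hno ⟨χ, (Finset.mem_filter.1 hχ).2, h⟩) x]
      refine Finset.sum_congr rfl fun u _ => ?_
      rw [← irr_classFun χ ((u : G) * x) x, show x * ((u : G) * x) * x⁻¹ = x * u by group]
    rw [← Finset.mul_sum, ← map_sum, h1, map_zero, mul_zero]
  rw [h0]
  exact ideal_zero hM

/-! ### The first main theorem -/

theorem map_subgroupOf_normalizer (D : Subgroup G) :
    (D.subgroupOf (Subgroup.normalizer (D : Set G))).map
      (Subgroup.normalizer (D : Set G)).subtype = D :=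
  Subgroup.map_subgroupOf_eq_of_le Subgroup.le_normalizer

theorem normal_subgroupOf_normalizer (D : Subgroup G) :
    (D.subgroupOf (Subgroup.normalizer (D : Set G))).Normal :=
  (Subgroup.normal_subgroupOf_iff_le_normalizer Subgroup.le_normalizer).2 le_rfl

theorem mem_centralizer_of_subgroupOf {D : Subgroup G} {N : Subgroup G} (hDN : D ≤ N) {c : N}
    (hc : c ∈ Subgroup.centralizer ((D.subgroupOf N : Subgroup N) : Set N)) :
    (c : G) ∈ Subgroup.centralizer (D : Set G) := by
  rw [Subgroup.mem_centralizer_iff] at hc ⊢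
  intro u hu
  exact congrArg Subtype.val (hc ⟨u, hDN hu⟩ (Subgroup.mem_subgroupOf.2 hu))

/-- A class of the normalizer of `D` with defect group `D` is the whole `D`-centralizing part of
its class in the group, and has defect group `D` there. -/
theorem classDefect_lift [Fact p.Prime] {D : Subgroup G} (hD : IsPGroup p D)
    (c : Subgroup.normalizer (D : Set G))
    (Q : Sylow p (Subgroup.centralizer ({c} : Set (Subgroup.normalizer (D : Set G)))))
    (hQ : csyl Q = D.subgroupOf (Subgroup.normalizer (D : Set G))) :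
    (∃ S : Sylow p (Subgroup.centralizer ({(c : G)} : Set G)), csyl S = D) ∧
      brCen D (Subgroup.normalizer (D : Set G))
          (fun χ : IrrCharacter G => centralChar (χ : G → ℂ) (c : G)) =
        fun ξ : IrrCharacter (Subgroup.normalizer (D : Set G)) =>
          centralChar (ξ : (Subgroup.normalizer (D : Set G)) → ℂ) c := by
  classical
  have hc : (c : G) ∈ Subgroup.centralizer (D : Set G) :=
    mem_centralizer_of_subgroupOf Subgroup.le_normalizer (hQ ▸ mem_centralizer_csyl Q)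
  obtain ⟨S, hS⟩ : ∃ S : Sylow p (Subgroup.centralizer ({(c : G)} : Set G)), csyl S = D := by
    refine exists_csyl_eq_of_normalizer hD hc fun R hR hDR hRle => ?_
    have hRN : R ≤ (Subgroup.normalizer (D : Set G)) := hRle.trans inf_le_right
    have hle : R.subgroupOf (Subgroup.normalizer (D : Set G)) ≤ Subgroup.centralizer ({c} : Set (Subgroup.normalizer (D : Set G))) := fun w hw =>
      Subgroup.mem_centralizer_singleton_iff.2 (Subtype.ext
        (Subgroup.mem_centralizer_singleton_iff.1 (hRle hw).1))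
    obtain ⟨Q', hQ'⟩ := exists_csyl_ge (hR.of_equiv (Subgroup.subgroupOfEquivOfLe hRN).symm) hle
    have hcard : Nat.card R ≤ Nat.card D := by
      rw [← Nat.card_congr (Subgroup.subgroupOfEquivOfLe hRN).toEquiv,
        ← Nat.card_congr (Subgroup.subgroupOfEquivOfLe (Subgroup.le_normalizer (H := D))).toEquiv,
        ← hQ, card_csyl, ← card_csyl Q']
      exact Subgroup.card_le_of_le hQ'
    exact (Subgroup.eq_of_le_of_card_ge hDR hcard).ge
  refine ⟨⟨S, hS⟩, eq_of_coeffFun_eq (funext fun n => ?_)⟩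
  rw [coeffFun_brCen le_rfl, coeffFun_centralChar c]
  simp only [brFun, coeffFun_centralChar, classInd]
  by_cases h : IsConj c n
  · rw [if_pos h]
    obtain ⟨t, ht⟩ := isConj_iff.1 h
    have hmem : (n : G) ∈ Subgroup.centralizer (D : Set G) := by
      rw [← ht, Subgroup.coe_mul, Subgroup.coe_mul, Subgroup.coe_inv]
      exact centralizer_conj_mem t.2 hc
    rw [if_pos hmem, if_pos (isConj_iff.2 ⟨(t : G), by rw [← ht]; rfl⟩)]
  · rw [if_neg h]
    split_ifs with h1 h2
    · refine absurd ?_ h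
      obtain ⟨w, hw, hwc⟩ := exists_normalizer_conj ⟨S, hS⟩ (IsConj.refl _) h2 hc h1
      exact isConj_iff.2 ⟨⟨w, hw⟩, Subtype.ext hwc⟩
    · rfl
    · rfl

variable [Fact p.Prime]

theorem normalizer_block_induces (hM : IsPModular p M) {D : Subgroup G} (hD : IsPGroup p D)
    {b : Set (IrrCharacter (Subgroup.normalizer (D : Set G)))} (hb : IsPBlock M b)
    (hbD : IsDefectGroup p M b (D.subgroupOf (Subgroup.normalizer (D : Set G)))) :
    ∃ B : Set (IrrCharacter G), IsPBlock M B ∧ IsDefectGroup p M B D ∧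
      IsInducedBlock M (Subgroup.normalizer (D : Set G)) b B := by
  obtain ⟨B, hind⟩ := inducedBlockDefined_brauer hM hD Subgroup.le_normalizer
    (Subgroup.centralizer_le_normalizer _) le_rfl hb
  refine ⟨B, hind.2.1, ?_, hind⟩
  obtain ⟨E, hE, hle⟩ := exists_defectGroup_ge_map hM hind hbD
  rw [map_subgroupOf_normalizer] at hle
  obtain ⟨c, hc, Q, hQ⟩ := hbD
  obtain ⟨⟨S, hS⟩, hbr⟩ := classDefect_lift hD c Q hQ.symm
  obtain ⟨ξ, hξ⟩ := pblock_nonempty hM hb
  obtain ⟨χ, hχ⟩ := pblock_nonempty hM hind.2.1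
  have h1 := (induced_iff_brauer hM hD Subgroup.le_normalizer le_rfl hb hind.2.1).1 hind
    ξ hξ χ hχ (c : G)
  rw [← brCen_centralChar, hbr] at h1
  obtain ⟨x, hx⟩ := exists_conj_le_centralizer_of_omega hM hind.2.1 hE hχ
    (fun h => hc.2.2 ξ hξ ((ideal_congr hM h1).2 h)) S
  rw [hS] at hx
  have hcard : Nat.card E ≤ Nat.card D := by
    rw [← card_map_conj x E]; exact Subgroup.card_le_of_le hx
  rwa [Subgroup.eq_of_le_of_card_ge hle hcard]

theorem defectGroup_of_inducing (hM : IsPModular p M) {D : Subgroup G}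
    {B : Set (IrrCharacter G)} (hBD : IsDefectGroup p M B D)
    {b : Set (IrrCharacter (Subgroup.normalizer (D : Set G)))}
    (hind : IsInducedBlock M (Subgroup.normalizer (D : Set G)) b B) :
    IsDefectGroup p M b (D.subgroupOf (Subgroup.normalizer (D : Set G))) := by
  set N := Subgroup.normalizer (D : Set G)
  haveI := normal_subgroupOf_normalizer D
  have hD' : IsPGroup p (D.subgroupOf N) :=
    (IsDefectGroup.isPGroup hBD).of_equiv (Subgroup.subgroupOfEquivOfLe Subgroup.le_normalizer).symm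
  obtain ⟨Db, hDb⟩ := exists_isDefectGroup hM hind.1
  have h1 := normal_le_defectGroup hM hind.1 hDb hD'
  obtain ⟨E, hE, hle⟩ := exists_defectGroup_ge_map hM hind hDb
  have hcard : Nat.card Db ≤ Nat.card (D.subgroupOf N) := by
    rw [Nat.card_congr (Subgroup.subgroupOfEquivOfLe (Subgroup.le_normalizer (H := D))).toEquiv,
      defectGroup_card_eq hM hind.2.1 hBD hE, ← Subgroup.card_map_of_injective N.subtype_injective]
    exact Subgroup.card_le_of_le hle
  rwa [Subgroup.eq_of_le_of_card_ge h1 hcard]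

theorem exists_unique_inducing (hM : IsPModular p M) {D : Subgroup G}
    {B : Set (IrrCharacter G)} (hB : IsPBlock M B) (hBD : IsDefectGroup p M B D) :
    ∃! b : Set (IrrCharacter (Subgroup.normalizer (D : Set G))), IsPBlock M b ∧
      IsDefectGroup p M b (D.subgroupOf (Subgroup.normalizer (D : Set G))) ∧
      IsInducedBlock M (Subgroup.normalizer (D : Set G)) b B := by
  classical
  set N := Subgroup.normalizer (D : Set G)
  have hD := IsDefectGroup.isPGroup hBD
  haveI := normal_subgroupOf_normalizer D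
  have hD' : IsPGroup p (D.subgroupOf N) :=
    hD.of_equiv (Subgroup.subgroupOfEquivOfLe Subgroup.le_normalizer).symm
  obtain ⟨b, hind⟩ := (exists_inducing_iff hM hD Subgroup.le_normalizer
    (Subgroup.centralizer_le_normalizer _) le_rfl hB).2 (defectGroup_not_brZero hM hB hBD)
  refine ⟨b, ⟨hind.1, defectGroup_of_inducing hM hBD hind, hind⟩, ?_⟩
  rintro b₁ ⟨hb₁, hbD₁, hind₁⟩
  obtain ⟨ξ₁, hξ₁⟩ := pblock_nonempty hM hb₁
  obtain ⟨ξ, hξ⟩ := pblock_nonempty hM hind.1
  by_contra hne
  have hξnot : ξ ∉ b₁ := fun h => hne (by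
    rw [pblock_eq_blockOf hM hb₁ h, pblock_eq_blockOf hM hind.1 hξ])
  cases nonempty_fintype (ConjClasses N)
  refine ideal_one hM ?_
  have hdiff : blockInd b₁ ξ₁ - blockInd b₁ ξ = 1 := by
    rw [blockInd_of_mem hξ₁, blockInd_of_notMem hξnot, sub_zero]
  rw [← hdiff, eq_sum_centralChar (blockInd b₁) ξ₁, eq_sum_centralChar (blockInd b₁) ξ,
    ← Finset.sum_sub_distrib]
  refine ideal_sum hM fun C _ => ?_
  rw [← mul_sub]
  by_cases he : MemLocalIdeal M (coeffFun (blockInd b₁) C.out)
  · exact ideal_mul_right hM he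
      (ring_sub hM (centralChar_ring hM ξ₁ _) (centralChar_ring hM ξ _))
  refine ideal_mul_left hM (cenInt_blockInd hM hb₁ _) ?_
  by_cases hcC : C.out ∈ Subgroup.centralizer ((D.subgroupOf N : Subgroup N) : Set N)
  · obtain ⟨Q, hQ⟩ := exists_csyl_ge hD' (le_centralizer_singleton hcC)
    obtain ⟨x, hx⟩ := exists_conj_le_of_unit hM hb₁ hbD₁ (by rwa [blockCoeff_eq]) Q
    have hQeq : csyl Q = D.subgroupOf N := (Subgroup.eq_of_le_of_card_ge hQ (by
      rw [← card_map_conj x (csyl Q)]
      exact Subgroup.card_le_of_le hx)).symm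
    obtain ⟨-, hbr⟩ := classDefect_lift hD C.out Q hQeq
    obtain ⟨χ, hχ⟩ := pblock_nonempty hM hB
    have h1 := (induced_iff_brauer hM hD Subgroup.le_normalizer le_rfl hb₁ hB).1 hind₁
      ξ₁ hξ₁ χ hχ (C.out : G)
    have h2 := (induced_iff_brauer hM hD Subgroup.le_normalizer le_rfl hind.1 hB).1 hind
      ξ hξ χ hχ (C.out : G)
    rw [← brCen_centralChar, hbr] at h1 h2
    simpa using ideal_sub hM h1 h2
  · exact ideal_sub hM (centralChar_ideal_of_normal hM hD' hcC ξ₁)
      (centralChar_ideal_of_normal hM hD' hcC ξ)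

theorem pCore_normalizer_eq (hM : IsPModular p M) {B : Set (IrrCharacter G)} (hB : IsPBlock M B)
    {D : Subgroup G} (hBD : IsDefectGroup p M B D)
    {K : Subgroup (Subgroup.normalizer (D : Set G))} [K.Normal] (hK : IsPGroup p K) :
    K.map (Subgroup.normalizer (D : Set G)).subtype ≤ D := by
  obtain ⟨b, ⟨hb, hbD, -⟩, -⟩ := exists_unique_inducing hM hB hBD
  exact (Subgroup.map_mono (normal_le_defectGroup hM hb hbD hK)).trans_eq
    (map_subgroupOf_normalizer D)

/-! ### Support of the central characters -/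

theorem mem_zpowers_of_pPart {g u : G} (h : IsPPart p g u) : u ∈ Subgroup.zpowers g := by
  obtain ⟨v, huv, hc, ⟨k, hk⟩, hv⟩ := h
  refine Cfsg.Agent.Transfer.mem_of_pow_mem (n := orderOf v) ?_ ?_
  · have h1 : g ^ orderOf v = u ^ orderOf v := by
      rw [← huv, hc.mul_pow, pow_orderOf_eq_one, mul_one]
    rw [← h1]
    exact Subgroup.pow_mem _ (Subgroup.mem_zpowers g) _
  · rw [hk]
    exact Nat.Coprime.pow_left _ ((pmod_prime' (p := p)).coprime_iff_not_dvd.2 hv)
where
  pmod_prime' {p : ℕ} [h : Fact p.Prime] : p.Prime := h.out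

theorem pPart_mem_of_quotient {P : Subgroup G} [P.Normal] {g u : G} (h : IsPPart p g u)
    (hq : ¬ p ∣ orderOf (QuotientGroup.mk g : G ⧸ P)) : u ∈ P := by
  obtain ⟨v, huv, hc, ⟨k, hk⟩, hv⟩ := h
  refine Cfsg.Agent.Transfer.mem_of_pow_mem
    (n := orderOf (QuotientGroup.mk g : G ⧸ P) * orderOf v) ?_ ?_
  · have h1 : g ^ (orderOf (QuotientGroup.mk g : G ⧸ P) * orderOf v) ∈ P := by
      rw [← QuotientGroup.eq_one_iff, QuotientGroup.mk_pow, pow_mul, pow_orderOf_eq_one, one_pow]
    rwa [← huv, hc.mul_pow, mul_comm (orderOf (QuotientGroup.mk (u * v) : G ⧸ P)) (orderOf v),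
      pow_mul v, pow_orderOf_eq_one, one_pow, mul_one, huv,
      mul_comm (orderOf v) (orderOf (QuotientGroup.mk g : G ⧸ P))] at h1
  · rw [hk]
    exact Nat.Coprime.pow_left _ ((Fact.out : p.Prime).coprime_iff_not_dvd.2
      fun hd => ((Fact.out : p.Prime).dvd_mul.1 hd).elim hq hv)

/-- The central character of a block with defect group `P`, at a class meeting it, is supported
on elements with `p`-part in the centre of `P`. -/
theorem exists_conj_pPart_mem (hM : IsPModular p M) {B : Set (IrrCharacter G)} (hB : IsPBlock M B)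
    {P : Subgroup G} (hP : IsDefectGroup p M B P) {g : G} {χ : IrrCharacter G} (hχ : χ ∈ B)
    (hg : ¬ MemLocalIdeal M (centralChar (χ : G → ℂ) g)) :
    ∃ c : G, IsConj g c ∧ c ∈ Subgroup.centralizer (P : Set G) ∧
      ∀ z : G, IsPPart p c z → z ∈ P ∧ ∀ w ∈ P, z * w = w * z := by
  classical
  have hPp := IsDefectGroup.isPGroup hP
  set L := P ⊔ Subgroup.centralizer (P : Set G) with hL
  have hPL : P ≤ L := le_sup_left
  have hCL : Subgroup.centralizer (P : Set G) ≤ L := le_sup_right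
  have hLN : L ≤ Subgroup.normalizer (P : Set G) :=
    sup_le Subgroup.le_normalizer (Subgroup.centralizer_le_normalizer _)
  haveI : (P.subgroupOf L).Normal := (Subgroup.normal_subgroupOf_iff_le_normalizer hPL).2 hLN
  have hP' : IsPGroup p (P.subgroupOf L) :=
    hPp.of_equiv (Subgroup.subgroupOfEquivOfLe hPL).symm
  obtain ⟨b, hind⟩ :=
    (exists_inducing_iff hM hPp hPL hCL hLN hB).2 (defectGroup_not_brZero hM hB hP)
  obtain ⟨Db, hDb⟩ := exists_isDefectGroup hM hind.1
  obtain ⟨E, hE, hle⟩ := exists_defectGroup_ge_map hM hind hDb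
  obtain ⟨θ, hθ, hker⟩ := exists_member_ker hM hind.1 (P.subgroupOf L) hP'
  obtain ⟨θ', hθ', hfac⟩ := Cfsg.Agent.Char.IsIrr.exists_factor_quotient θ.2 (P.subgroupOf L) hker
  have hdeg : charDegree θ' = charDegree (θ : L → ℂ) := by
    rw [charDegree, charDegree, ← hfac 1, QuotientGroup.mk_one]
  have hdef : p ^ blockDefect p b ∣ Nat.card (P.subgroupOf L) := by
    rw [← card_defectGroup hM hind.1 hDb, ← Subgroup.card_map_of_injective L.subtype_injective,
      Nat.card_congr (Subgroup.subgroupOfEquivOfLe hPL).toEquiv,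
      defectGroup_card_eq hM hB hP hE]
    exact Subgroup.card_dvd_of_le hle
  have hvan : ∀ x : L, p ∣ orderOf (QuotientGroup.mk x : L ⧸ P.subgroupOf L) →
      (θ : L → ℂ) x = 0 := by
    intro x hx
    let θb : IrrCharacter (L ⧸ P.subgroupOf L) := ⟨θ', hθ'⟩
    have hcardQ : Nat.card L = Nat.card (L ⧸ P.subgroupOf L) * Nat.card (P.subgroupOf L) :=
      Subgroup.card_eq_card_quotient_mul_card_subgroup _
    have ha := le_defect_add hM hind.1 hθ
    obtain ⟨e, he⟩ := IsPGroup.iff_card.1 hP'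
    have hde : blockDefect p b ≤ e := (Nat.pow_dvd_pow_iff_le_right (Fact.out : p.Prime).one_lt).1
      (he ▸ hdef)
    have hv : ¬ p ∣ Nat.card (L ⧸ P.subgroupOf L) / charDegree θ' := by
      intro hd
      have hdd : charDegree θ' ∣ Nat.card (L ⧸ P.subgroupOf L) := charDeg_dvd θb
      have h1 := (Nat.Prime.dvd_iff_one_le_factorization (Fact.out : p.Prime)
        (Nat.div_pos (Nat.le_of_dvd Nat.card_pos hdd) (charDeg_pos θb)).ne').1 hd
      rw [Nat.factorization_div hdd, Finsupp.tsub_apply, hdeg] at h1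
      rw [hcardQ, Nat.factorization_mul Nat.card_pos.ne' Nat.card_pos.ne', Finsupp.add_apply,
        he, Nat.Prime.factorization_pow (Fact.out : p.Prime), Finsupp.single_eq_same] at ha
      omega
    have hsingle : blockOf M (θb : L ⧸ P.subgroupOf L → ℂ) = {θb} := by
      refine Set.eq_singleton_iff_unique_mem.2 ⟨mem_blockOf_self hM θb, fun ψ hψ => ?_⟩
      by_contra hne
      have hA : CenInt M (blockInd ({θb} : Set (IrrCharacter (L ⧸ P.subgroupOf L)))) := fun y => by
        rw [← blockCoeff_eq, blockCoeff, finsum_mem_singleton]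
        obtain ⟨k, hk⟩ := charDeg_dvd θb
        have hk' : ¬ p ∣ k := by
          rw [show Nat.card (L ⧸ P.subgroupOf L) / charDegree θ' = k by
            rw [show Nat.card (L ⧸ P.subgroupOf L) = charDegree θ' * k from hk,
              Nat.mul_div_cancel_left _ (charDeg_pos θb)]] at hv
          exact hv
        have hd0 : ((charDegree (θb : L ⧸ P.subgroupOf L → ℂ) : ℕ) : ℂ) ≠ 0 :=
          Nat.cast_ne_zero.mpr (charDeg_pos θb).ne'
        rw [show ((Nat.card (L ⧸ P.subgroupOf L) : ℕ) : ℂ)⁻¹ * ((θb : L ⧸ P.subgroupOf L → ℂ) 1 *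
            conj ((θb : L ⧸ P.subgroupOf L → ℂ) y)) =
            (k : ℂ)⁻¹ * conj ((θb : L ⧸ P.subgroupOf L → ℂ) y) by
          rw [charDeg_spec' θb, hk]; push_cast; field_simp]
        rw [← irr_apply_inv]
        exact ring_mul hM (ring_inv_natCast hM hk') (irr_ring hM θb _)
      have h := hA.congr_block hM (χ := θb) (ψ := ψ) hψ
      rw [blockInd_of_mem (Set.mem_singleton θb),
        blockInd_of_notMem (B := ({θb} : Set (IrrCharacter (L ⧸ P.subgroupOf L)))) hne,
        sub_zero] at h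
      exact ideal_one hM h
    have hBlock : IsPBlock M ({θb} : Set (IrrCharacter (L ⧸ P.subgroupOf L))) :=
      ⟨θb, hsingle.symm⟩
    have h0 := blockCoeff_singular hM hBlock hx
    rw [blockCoeff, finsum_mem_singleton, mul_eq_zero, mul_eq_zero] at h0
    rcases h0 with h0 | h0 | h0
    · exact absurd (inv_eq_zero.1 h0) (Nat.cast_ne_zero.mpr Nat.card_pos.ne')
    · exact absurd h0 (irr_one_ne_zero θb)
    · rw [← hfac x]
      exact (map_eq_zero _).1 h0
  have h1 := (induced_iff_brauer hM hPp hPL hLN hind.1 hB).1 hind θ hθ χ hχ g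
  by_contra hno
  refine hg ((ideal_congr hM h1).1 ?_)
  rw [brauerCentralChar]
  suffices h : ∑ᶠ h ∈ {h : L | IsConj g (h : G) ∧ (h : G) ∈ Subgroup.centralizer (P : Set G)},
      (θ : L → ℂ) h / (θ : L → ℂ) 1 = 0 by rw [h]; exact ideal_zero hM
  refine (finsum_mem_congr rfl fun c hc => ?_).trans (finsum_mem_zero _)
  obtain ⟨z, hz, hzbad⟩ : ∃ z, IsPPart p (c : G) z ∧ z ∉ P := by
    by_contra hall
    refine hno ⟨c, hc.1, hc.2, fun z hz => ?_⟩
    refine ⟨by_contra fun hzP => hall ⟨z, hz, hzP⟩, fun w hw => ?_⟩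
    exact (Subgroup.mem_centralizer_iff.1 ((Subgroup.zpowers_le.2 hc.2)
      (mem_zpowers_of_pPart hz)) w hw).symm
  rw [hvan c, zero_div]
  by_contra hreg
  have hzc : z ∈ L := (Subgroup.zpowers_le.2 c.2) (mem_zpowers_of_pPart hz)
  obtain ⟨v, huv, hzv, ⟨k, hk⟩, hv⟩ := hz
  have hvL : v ∈ L := by
    rw [show v = z⁻¹ * (c : G) by rw [← huv, inv_mul_cancel_left]]
    exact mul_mem (inv_mem hzc) c.2
  have hz' : IsPPart p c (⟨z, hzc⟩ : L) :=
    ⟨⟨v, hvL⟩, Subtype.ext huv, Subtype.ext hzv.eq, ⟨k, by rwa [← Subgroup.orderOf_coe]⟩,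
      by rwa [← Subgroup.orderOf_coe]⟩
  exact hzbad (Subgroup.mem_subgroupOf.1 (pPart_mem_of_quotient hz' hreg))

/-! ### Values at `x y` for `x` a `p`-element centralizing `y` -/

theorem value_pPart_congr (hM : IsPModular p M) {χ : G → ℂ} (hχ : IsCharacter G χ) {g u v : G}
    (huv : u * v = g) (hc : Commute u v) {k : ℕ} (hu : u ^ p ^ k = 1)
    (hv : v ∈ Subgroup.zpowers g) : MemLocalIdeal M (χ g - χ v) := by
  obtain ⟨n, ρ, rfl⟩ := hχ
  obtain ⟨bs, c, hb, hc1, htr⟩ := Cfsg.Agent.Char.exists_rep_eigenbasis ρ g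
  obtain ⟨l, rfl⟩ := (Submonoid.mem_powers_iff _ _).1 (mem_powers_iff_mem_zpowers.2 hv)
  have hpow : g ^ p ^ k = g ^ (l * p ^ k) := by
    calc g ^ p ^ k = u ^ p ^ k * (g ^ l) ^ p ^ k := by rw [← hc.mul_pow, huv]
      _ = _ := by rw [hu, one_mul, pow_mul]
  have hci : ∀ i, c i ^ p ^ k = c i ^ (l * p ^ k) := fun i => by
    have h1 := Cfsg.Agent.Char.apply_pow_of_eigen (hb i) (p ^ k)
    have h2 := Cfsg.Agent.Char.apply_pow_of_eigen (hb i) (l * p ^ k)
    rw [← map_pow, hpow, map_pow, h2] at h1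
    exact (smul_left_injective ℂ (bs.ne_zero i) h1).symm
  have hr : ∀ i, MemLocalRing M (c i) := fun i =>
    ring_of_integral hM (isIntegral_of_pow_eq_one (orderOf_pos g) (hc1 i))
  have h1 := htr 1
  rw [pow_one] at h1
  rw [h1, htr l, ← Finset.sum_sub_distrib]
  refine ideal_sum hM fun i _ => ?_
  simp only [pow_one]
  refine ideal_of_pow hM (ring_sub hM (hr i) (ring_pow hM (hr i) l)) (p ^ k) ?_
  haveI : CharP (ResField hM) p := resField_charP hM
  rw [← red_eq_zero hM (ring_pow hM (ring_sub hM (hr i) (ring_pow hM (hr i) l)) _)]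
  have hmk : ∀ {z : ℂ} (hz : MemLocalRing M z) (m : ℕ), red hM (z ^ m) = red hM z ^ m := by
    intro z hz m
    induction m with
    | zero => simpa using red_one hM
    | succ m ih => rw [pow_succ, pow_succ, red_mul hM (ring_pow hM hz m) hz, ih]
  have hsub : red hM (c i - c i ^ l) = red hM (c i) - red hM (c i ^ l) :=
    eq_sub_of_add_eq (by
      rw [← red_add hM (ring_sub hM (hr i) (ring_pow hM (hr i) l)) (ring_pow hM (hr i) l),
        sub_add_cancel])
  rw [hmk (ring_sub hM (hr i) (ring_pow hM (hr i) l)), hsub, sub_pow_char_pow, ← hmk (hr i),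
    ← hmk (ring_pow hM (hr i) l), ← pow_mul, ← hci, sub_self]

theorem defectClass_mul_value (hM : IsPModular p M) {B : Set (IrrCharacter G)} (hB : IsPBlock M B)
    {y : G} (hy : IsDefectClass M B y)
    (P : Sylow p (Subgroup.centralizer ({y} : Set G))) {x : G} (hx : x ∈ csyl P)
    {χ : IrrCharacter G} (hχ : χ ∈ B) (h0 : blockHeight p B (χ : G → ℂ) = 0) :
    ¬ MemLocalIdeal M ((χ : G → ℂ) (x * y)) := by
  obtain ⟨k, hk⟩ := isPGroup_csyl P ⟨x, hx⟩
  have hx1 : x ^ p ^ k = 1 := congrArg Subtype.val hk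
  have hcomm : Commute x y := Subgroup.mem_centralizer_singleton_iff.1 (csyl_le P hx)
  have hyz : y ∈ Subgroup.zpowers (x * y) := by
    refine Cfsg.Agent.Transfer.mem_of_pow_mem (n := p ^ k) ?_ (Nat.Coprime.pow_right _
      ((Fact.out : p.Prime).coprime_iff_not_dvd.2 (regular_of_unit hM hB hy.2.1)).symm)
    rw [show y ^ p ^ k = (x * y) ^ p ^ k by rw [hcomm.mul_pow, hx1, one_mul]]
    exact Subgroup.pow_mem _ (Subgroup.mem_zpowers _) _
  rw [blockHeight_zero_iff hM hB hχ, blockDefect_eq hM hB hy] at h0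
  exact fun h => value_notMem hM χ (hy.2.2 χ hχ) h0
    ((ideal_congr hM (value_pPart_congr hM (irr_isChar χ) rfl hcomm hx1 hyz)).1 h)

theorem defectClass_mul_omega (hM : IsPModular p M) {B : Set (IrrCharacter G)} (hB : IsPBlock M B)
    {y : G} (hy : IsDefectClass M B y)
    (P : Sylow p (Subgroup.centralizer ({y} : Set G))) {x : G} (hx : x ∈ csyl P)
    (hxc : ∀ w ∈ csyl P, x * w = w * x) {χ : IrrCharacter G} (hχ : χ ∈ B) :
    ¬ MemLocalIdeal M (centralChar (χ : G → ℂ) (x * y)) := by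
  obtain ⟨χ₀, hχ₀, h0⟩ := exists_height_zero hM hB
  intro h
  have hω := (ideal_congr hM (pblock_sameBlock hM hB hχ hχ₀ (x * y))).1 h
  refine defectClass_mul_value hM hB hy P hx hχ₀ h0 ?_
  rw [value_eq χ₀ (x * y)]
  refine ideal_mul_right hM hω
    (ring_natDiv hM Nat.card_pos.ne' (mul_pos Nat.card_pos (charDeg_pos χ₀)).ne' ?_)
  rw [factorization_centralizer_mul]
  have hle : csyl P ≤ Subgroup.centralizer ({x * y} : Set G) := fun w hw => by
    have h1 : Commute x w := hxc w hw
    have h2 : Commute w y := Subgroup.mem_centralizer_singleton_iff.1 (csyl_le P hw)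
    exact Subgroup.mem_centralizer_singleton_iff.2 (h1.symm.mul_right h2)
  obtain ⟨S, hS⟩ := exists_csyl_ge (isPGroup_csyl P) hle
  have hpow := Subgroup.card_le_of_le hS
  rw [card_csyl, card_csyl] at hpow
  have hle' := (Nat.pow_le_pow_iff_right (Fact.out : p.Prime).one_lt).1 hpow
  rw [blockHeight_zero_iff hM hB hχ₀, blockDefect_eq hM hB hy] at h0
  omega

/-- The central elements of a defect group of the induced block lie, up to conjugacy, in the
centre of a defect group of the inducing block. -/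
theorem exists_conj_center_mem (hM : IsPModular p M) {H : Subgroup G}
    {b : Set (IrrCharacter H)} {B : Set (IrrCharacter G)} (hind : IsInducedBlock M H b B)
    {D : Subgroup H} (hD : IsDefectGroup p M b D) {P : Subgroup G}
    (hP : IsDefectGroup p M B P) {x : G} (hx : x ∈ P) (hxc : ∀ w ∈ P, x * w = w * x) :
    ∃ g : G, g * x * g⁻¹ ∈ D.map H.subtype ∧
      ∀ w ∈ D.map H.subtype, (g * x * g⁻¹) * w = w * (g * x * g⁻¹) := by
  classical
  obtain ⟨y, hy, Q, rfl⟩ := hP
  obtain ⟨ξ, hξ⟩ := pblock_nonempty hM hind.1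
  obtain ⟨χ, hχ⟩ := pblock_nonempty hM hind.2.1
  cases nonempty_fintype (ConjClasses H)
  have hres : ¬ MemLocalIdeal M
      (resCen H (fun χ : IrrCharacter G => centralChar (χ : G → ℂ) (x * y)) ξ) := fun h =>
    defectClass_mul_omega hM hind.2.1 hy Q hx hxc hχ
      ((ideal_congr hM (induced_congr hM hind (cenInt_centralChar hM (x * y)) hξ hχ)).1 h)
  obtain ⟨C, hC, hω⟩ : ∃ C : ConjClasses H, IsConj (x * y) (C.out : G) ∧
      ¬ MemLocalIdeal M (centralChar (ξ : H → ℂ) C.out) := by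
    by_contra hno
    refine hres ?_
    rw [eq_sum_centralChar (resCen H _) ξ]
    refine ideal_sum hM fun C _ => ?_
    rw [coeffFun_resCen, coeffFun_centralChar]
    simp only [classInd]
    split_ifs with hc
    · rw [one_mul]
      exact not_not.1 fun h => hno ⟨C, hc, h⟩
    · rw [zero_mul]; exact ideal_zero hM
  obtain ⟨c, hhc, -, hz⟩ := exists_conj_pPart_mem hM hind.1 hD hξ hω
  obtain ⟨g, hg⟩ := isConj_iff.1 (hC.trans (H.subtype.map_isConj hhc))
  refine ⟨g, ?_⟩
  obtain ⟨k, hk⟩ := isPGroup_csyl Q ⟨x, hx⟩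
  have hx1 : x ^ p ^ k = 1 := congrArg Subtype.val hk
  obtain ⟨j, -, hj⟩ := (Nat.dvd_prime_pow (Fact.out : p.Prime)).1 (orderOf_dvd_of_pow_eq_one hx1)
  have hconj : ∀ a : G, orderOf (g * a * g⁻¹) = orderOf a := fun a => by
    rw [← MulAut.conj_apply, MulEquiv.orderOf_eq]
  have hcomm : Commute x y := Subgroup.mem_centralizer_singleton_iff.1 (csyl_le Q hx)
  have hpp : IsPPart p (c : G) (g * x * g⁻¹) := by
    refine ⟨g * y * g⁻¹, ?_, ?_, ⟨j, (hconj x).trans hj⟩, ?_⟩
    · rw [conj_mul]; exact hg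
    · show g * x * g⁻¹ * (g * y * g⁻¹) = g * y * g⁻¹ * (g * x * g⁻¹)
      rw [conj_mul, conj_mul, hcomm.eq]
    · rw [hconj]; exact regular_of_unit hM hind.2.1 hy.2.1
  have hgx : g * x * g⁻¹ ∈ H := Subgroup.zpowers_le.2 c.2 (mem_zpowers_of_pPart hpp)
  obtain ⟨v, huv, hzv, ⟨i, hi⟩, hv⟩ := hpp
  have hvH : v ∈ H := by
    rw [show v = (g * x * g⁻¹)⁻¹ * (c : G) by rw [← huv, inv_mul_cancel_left]]
    exact mul_mem (inv_mem hgx) c.2
  obtain ⟨hmem, hcen⟩ := hz (⟨g * x * g⁻¹, hgx⟩ : H)
    ⟨⟨v, hvH⟩, Subtype.ext huv, Subtype.ext hzv.eq, ⟨i, by rwa [← Subgroup.orderOf_coe]⟩,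
      by rwa [← Subgroup.orderOf_coe]⟩
  refine ⟨⟨⟨_, hgx⟩, hmem, rfl⟩, ?_⟩
  rintro _ ⟨w, hw, rfl⟩
  exact congrArg Subtype.val (hcen w hw)

theorem blockDefect_eq_zero_iff (hM : IsPModular p M) {H : Subgroup G}
    {b : Set (IrrCharacter H)} {B : Set (IrrCharacter G)} (hind : IsInducedBlock M H b B) :
    blockDefect p b = 0 ↔ blockDefect p B = 0 := by
  obtain ⟨D, hD⟩ := exists_isDefectGroup hM hind.1
  obtain ⟨E, hE, hle⟩ := exists_defectGroup_ge_map hM hind hD
  have hcD := card_defectGroup hM hind.1 hD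
  have hcE := card_defectGroup hM hind.2.1 hE
  have hp1 := (Fact.out : p.Prime).one_lt
  constructor
  · intro h0
    rw [h0, pow_zero] at hcD
    by_contra hne
    haveI : Nontrivial E := Finite.one_lt_card_iff_nontrivial.1
      (hcE ▸ Nat.one_lt_pow hne hp1)
    haveI := (IsDefectGroup.isPGroup hE).center_nontrivial
    obtain ⟨⟨⟨x, hx⟩, hxc⟩, hx1⟩ := exists_ne (1 : Subgroup.center E)
    obtain ⟨g, hg, -⟩ := exists_conj_center_mem hM hind hD hE hx
      (fun w hw => (congrArg Subtype.val (Subgroup.mem_center_iff.1 hxc ⟨w, hw⟩)).symm)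
    rw [Subgroup.eq_bot_of_card_eq D hcD, Subgroup.map_bot, Subgroup.mem_bot,
      conj_eq_one_iff] at hg
    exact hx1 (Subtype.ext (Subtype.ext hg))
  · intro h0
    rw [h0, pow_zero] at hcE
    have h1 := Subgroup.card_le_of_le hle
    rw [Subgroup.card_map_of_injective H.subtype_injective, hcE, hcD] at h1
    by_contra hne
    have := Nat.one_lt_pow hne hp1
    omega

end Cfsg.Agent.Block
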