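import Cfsg.Agent.Lib.Char.PairDefect
import Cfsg.Agent.Lib.Char.PairSub
import Cfsg.Agent.Lib.Block.FirstMain

/-!
Blocks induced from a subgroup containing the centralizer of a defect group.
-/

set_option autoImplicit false

namespace Cfsg.Agent.Block.IndDefect

open Cfsg Cfsg.Agent.Block Cfsg.Agent.Char.BP

set_option linter.unusedSectionVars false

universe u

variable {G : Type u} [Group G] [Fintype G] {p : ℕ} [Fact p.Prime] {M : Ideal AlgInt}

theorem resCen_one (H : Subgroup G) : resCen H (1 : IrrCharacter G → ℂ) = 1 := by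
  classical
  cases nonempty_fintype H
  funext ξ
  rw [Pi.one_apply, resCen_eq_omegaFun, omegaFun, Finset.sum_eq_single (1 : H)]
  · simp only [OneMemClass.coe_one, coeffFun_one, if_true, one_mul]
    exact div_self (irr_one_ne_zero ξ)
  · intro h _ hh
    simp [coeffFun_one, hh]
  · exact fun h => absurd (Finset.mem_univ _) h

theorem val_coeff_eq (P : Subgroup G) (f : IrrCharacter G → ℂ) (ξ : IrrCharacter (CG P)) :
    val P (coeffFun f) ξ = brCen P (CG P) f ξ := by
  classical
  letI := Fintype.ofFinite (CG P)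
  rw [val_eq, brCen_eq_omegaFun]
  congr 1
  funext c
  show coeffFun f (c : G) = _
  simp only [brFun]
  rw [if_pos c.2]

/-- The Brauer image at a pair is the central character of some block. -/
theorem exists_block_of_pair (hM : IsPModular p M) {x : BrauerPairIdx G} (hx : IsPr p M x)
    (ξ : IrrCharacter (CG x.1)) :
    ∃ B, IsPBlock M B ∧ ∀ f, CenInt M f → ∀ χ ∈ B,
      MemLocalIdeal M (val x.1 (coeffFun f) ξ - f χ) := by
  have hN : CG x.1 ≤ Subgroup.normalizer (x.1 : Set G) := cg_le_normalizer _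
  obtain ⟨B, hB, h⟩ := exists_block_of_hom hM (fun f => brCen x.1 (CG x.1) f ξ)
    (fun f f' => brCen_sub x.1 _ f f' ξ) (fun c f => brCen_smul x.1 _ c f ξ)
    (fun f hf => (CenInt.brCen hM hN hf).ring hM ξ)
    (fun f hf => ideal_of_coeffFun_ideal hM (fun h => by
      rw [coeffFun_brCen hN]
      simp only [brFun]
      split_ifs
      · exact hf _
      · exact ideal_zero hM) ξ)
    (fun f f' hf hf' => brCen_mul_ideal hM hx.1 le_rfl hN hf hf' ξ)
    (by rw [brCen_one hN, Pi.one_apply, sub_self]; exact ideal_zero hM)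
  exact ⟨B, hB, fun f hf χ hχ => by rw [val_coeff_eq]; exact h f hf χ hχ⟩

/-- At a pair of a block the Brauer image is the central character of that block. -/
theorem val_eq_of_ofB (hM : IsPModular p M) {B : Set (IrrCharacter G)} {x : BrauerPairIdx G}
    (h : OfB p M B x) {ξ : IrrCharacter (CG x.1)} (hξ : ξ ∈ x.2) {f : IrrCharacter G → ℂ}
    (hf : CenInt M f) {χ : IrrCharacter G} (hχ : χ ∈ B) :
    MemLocalIdeal M (val x.1 (coeffFun f) ξ - f χ) := by
  obtain ⟨B', hB', hval⟩ := exists_block_of_pair hM h.1 ξ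
  suffices B' = B by subst this; exact hval f hf χ hχ
  obtain ⟨χ', hχ'⟩ := pblock_nonempty hM hB'
  by_contra hne
  have hnot : χ' ∉ B := fun hh => hne
    ((pblock_eq_blockOf hM hB' hχ').trans (pblock_eq_blockOf hM h.2.1 hh).symm)
  have h1 := hval (blockInd B) (cenInt_blockInd hM h.2.1) χ' hχ'
  rw [blockInd_of_notMem hnot, sub_zero] at h1
  have h2 := ofB_holds h ξ hξ
  rw [show blockCoeff B = coeffFun (blockInd B) from funext (blockCoeff_eq B)] at h2
  exact ideal_one hM (by simpa using ideal_sub hM h1 h2)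

variable {H : Subgroup G} {b : Set (IrrCharacter H)} {D₀ : Subgroup H}

/-- The pair at a defect group of `b`, read in `G`. -/
theorem exists_pair_up (hM : IsPModular p M) (hb : IsPBlock M b)
    (hD₀ : IsDefectGroup p M b D₀)
    (hC : Subgroup.centralizer ((D₀.map H.subtype : Subgroup G) : Set G) ≤ H) :
    ∃ a : BrauerPairIdx G, a.1 = D₀.map H.subtype ∧ IsPr p M a ∧
      (∃ ξ : IrrCharacter (CG a.1), ξ ∈ a.2 ∧ ∀ f : IrrCharacter G → ℂ, CenInt M f → ∀ θ ∈ b,
        MemLocalIdeal M (val a.1 (coeffFun f) ξ - resCen H f θ)) ∧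
      p ^ blockDefect p a.2 ≤ Nat.card ↥(a.1 ⊓ CG a.1) := by
  classical
  letI := Fintype.ofFinite H
  have hsub : (D₀.map H.subtype).subgroupOf H = D₀ :=
    Subgroup.comap_map_eq_self_of_injective H.subtype_injective D₀
  have hle : D₀.map H.subtype ≤ H := Subgroup.map_subtype_le D₀
  set D := D₀.map H.subtype with hDdef
  rw [← hsub] at hD₀
  obtain ⟨f, hf⟩ := (exists_pair_iff hM hb (IsDefectGroup.isPGroup hD₀)).2
    (defectGroup_not_brZero hM hb hD₀)
  set x : BrauerPairIdx H := ⟨D.subgroupOf H, f⟩ with hx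
  have hmx : IsMx p M b x := max_of_defect hM hf hD₀
  set e : CG (D.subgroupOf H) ≃* CG D := cgSub hle hC
  have hpr : IsPr p M (⟨D, pullB e f⟩ : BrauerPairIdx G) :=
    ⟨((IsDefectGroup.isPGroup hD₀).map H.subtype).to_le (by
      rw [Subgroup.map_subgroupOf_eq_of_le hle]), isPBlock_pullB hM e hf.1.2⟩
  obtain ⟨η, hη⟩ := pblock_nonempty hM hf.1.2
  refine ⟨⟨D, pullB e f⟩, rfl, hpr, ⟨irrPull e.symm η, ?_, fun F hF θ hθ => ?_⟩, ?_⟩
  · show irrPull e (irrPull e.symm η) ∈ f
    rwa [irrPull_symm_self]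
  · have h1 : val D (coeffFun F) (irrPull e.symm η) =
        val (D.subgroupOf H) (coeffFun (resCen H F)) η := by
      rw [val_pull (G := G) (G' := H) e (φ' := coeffFun (resCen H F)) (φ := coeffFun F)
        (fun c => coeffFun_resCen H F _), irrPull_symm_self]
    rw [h1]
    exact val_eq_of_ofB hM (x := x) hf (ξ := η) hη hF.resCen hθ
  · obtain ⟨g, hg, hdef⟩ := exists_conj_fully hM hmx Relation.ReflTransGen.refl
    have hle' : (cjI g x).1 ≤ x.1 := le_subgroup hg
    have heq : (cjI g x).1 = x.1 := Subgroup.eq_of_le_of_card_ge hle' (by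
      show Nat.card x.1 ≤ Nat.card ↥(x.1.map (MulAut.conj g).toMonoidHom)
      rw [card_map_conj])
    have hc := card_of_isDefect_inf hM (isPr_cjI hM g hf.1) hdef
    rw [blockDefect_cjI, heq] at hc
    show p ^ blockDefect p (pullB e f) ≤ _
    rw [blockDefect_pullB, ← hc]
    refine le_of_eq (Nat.card_congr (Equiv.ofBijective (fun v => (⟨((v.1 : H) : G),
      ⟨Subgroup.mem_subgroupOf.1 v.2.1, (mem_cg_subgroupOf hle v.1).1 v.2.2⟩⟩ : ↥(D ⊓ CG D)))
      ⟨fun v w h => ?_, fun v => ?_⟩))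
    · exact Subtype.ext (Subtype.ext (congrArg Subtype.val h :))
    · exact ⟨⟨⟨(v : G), hle v.2.1⟩, Subgroup.mem_subgroupOf.2 v.2.1,
        (mem_cg_subgroupOf hle _).2 v.2.2⟩, rfl⟩

theorem induced_defined (hM : IsPModular p M) (hb : IsPBlock M b)
    (hD₀ : IsDefectGroup p M b D₀)
    (hC : Subgroup.centralizer ((D₀.map H.subtype : Subgroup G) : Set G) ≤ H) :
    InducedBlockDefined M H b := by
  obtain ⟨a, -, hpr, ⟨ξ, -, hval⟩, -⟩ := exists_pair_up hM hb hD₀ hC
  obtain ⟨B, hB, h⟩ := exists_block_of_pair hM hpr ξ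
  refine ⟨B, hb, hB, fun θ hθ χ hχ g => ?_⟩
  rw [← resCen_centralChar]
  have hI := cenInt_centralChar (G := G) hM g
  simpa using ideal_sub hM (h _ hI χ hχ) (hval _ hI θ hθ)

/-- A defect group of the induced block, with its centralizer of the given defect group inside it. -/
theorem exists_defect (hM : IsPModular p M) {B : Set (IrrCharacter G)}
    (hind : IsInducedBlock M H b B) (hD₀ : IsDefectGroup p M b D₀)
    (hC : Subgroup.centralizer ((D₀.map H.subtype : Subgroup G) : Set G) ≤ H) :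
    ∃ D : Subgroup G, IsDefectGroup p M B D ∧ D₀.map H.subtype ≤ D ∧
      D ⊓ Subgroup.centralizer ((D₀.map H.subtype : Subgroup G) : Set G) ≤ D₀.map H.subtype := by
  classical
  obtain ⟨a, ha, hpr, ⟨ξ, hξ, hval⟩, hcard⟩ := exists_pair_up hM hind.1 hD₀ hC
  have hI := cenInt_blockInd hM hind.2.1
  obtain ⟨θ, hθ⟩ := pblock_nonempty hM hind.1
  obtain ⟨χ, hχ⟩ := pblock_nonempty hM hind.2.1
  have hof : OfB p M B a := ofB_of_holds hind.2.1 hpr fun η hη => by
    rw [show blockCoeff B = coeffFun (blockInd B) from funext (blockCoeff_eq B)]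
    have h1 := (cenInt_val (M := M) (P := a.1) (a := coeffFun (blockInd B)) hI
      (inv_of_classFun (coeffFun_classFun _) _)).congr_block hM (pblock_sameBlock hM hpr.2 hη hξ)
    have h2 := hval _ hI θ hθ
    have h3 := induced_congr hM hind hI hθ hχ
    rw [blockInd_of_mem hχ] at h3
    simpa using ideal_add hM (ideal_add hM h1 h2) h3
  obtain ⟨y, hay, hy⟩ := exists_max_above hM hof
  refine ⟨y.1, defect_of_max hM hy, ha ▸ le_subgroup hay, ?_⟩
  rw [← ha]
  have h1 := card_inf_cg_le hM hy.1.1 hay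
  have h2 : a.1 ⊓ CG a.1 = y.1 ⊓ CG a.1 := Subgroup.eq_of_le_of_card_ge
    (inf_le_inf_right _ (le_subgroup hay)) (h1.trans hcard)
  exact h2.ge.trans inf_le_left

end Cfsg.Agent.Block.IndDefect
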