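import Cfsg.Agent.Lib.Block.Roots
import Cfsg.Agent.Lib.Block.Separated
import Cfsg.Agent.Lib.Char.Quotient
import Cfsg.Prelude.Def_BrauerPairs

/-!
Maximal Brauer pairs: central defect and stabilizer of index prime to `p`.
-/

open scoped ComplexConjugate

namespace Cfsg.Agent.Block

set_option linter.unusedSectionVars false
set_option linter.style.haveILetI false

universe u

variable {G : Type u} [Group G] [Finite G] {p : ℕ} {M : Ideal AlgInt} {Q R : Subgroup G}

/-- Conjugation on the centralizer of `Q` by an element normalizing `Q`. -/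
def centEquiv {x : G} (hx : x ∈ Subgroup.normalizer (Q : Set G)) :
    Subgroup.centralizer (Q : Set G) ≃* Subgroup.centralizer (Q : Set G) where
  toFun k := ⟨x * k * x⁻¹, centralizer_conj_mem hx k.2⟩
  invFun k := ⟨x⁻¹ * k * x, by simpa using centralizer_conj_mem (inv_mem hx) k.2⟩
  left_inv k := Subtype.ext (by simp [mul_assoc])
  right_inv k := Subtype.ext (by simp [mul_assoc])
  map_mul' k l := Subtype.ext (by simp [mul_assoc])

theorem centEquiv_val {x : G} (hx : x ∈ Subgroup.normalizer (Q : Set G))
    (k : Subgroup.centralizer (Q : Set G)) : (centEquiv hx k : G) = x * k * x⁻¹ := rfl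

theorem irrPull_centEquiv_mul {x y : G} (hx : x ∈ Subgroup.normalizer (Q : Set G))
    (hy : y ∈ Subgroup.normalizer (Q : Set G)) (χ : IrrCharacter (Subgroup.centralizer (Q : Set G))) :
    irrPull (centEquiv (mul_mem hx hy)) χ = irrPull (centEquiv hy) (irrPull (centEquiv hx) χ) := by
  refine Subtype.ext (funext fun k => ?_)
  simp only [irrPull_apply]
  exact congrArg _ (Subtype.ext (by simp [centEquiv_val, mul_assoc]))

theorem irrPull_centEquiv_of_eq {x : G} (hx : x ∈ Subgroup.normalizer (Q : Set G))
    (h : ∀ k : Subgroup.centralizer (Q : Set G), ∀ χ : IrrCharacter (Subgroup.centralizer (Q : Set G)),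
      (χ : _ → ℂ) (centEquiv hx k) = (χ : _ → ℂ) k)
    (χ : IrrCharacter (Subgroup.centralizer (Q : Set G))) : irrPull (centEquiv hx) χ = χ :=
  Subtype.ext (funext fun k => h k χ)

/-- The stabilizer in the normalizer of `Q` of a set of characters of the centralizer. -/
def blockStab (e : Set (IrrCharacter (Subgroup.centralizer (Q : Set G)))) : Subgroup G where
  carrier := {x | ∃ hx : x ∈ Subgroup.normalizer (Q : Set G),
    ∀ χ, irrPull (centEquiv hx) χ ∈ e ↔ χ ∈ e}
  one_mem' := ⟨one_mem _, fun χ => by
    rw [irrPull_centEquiv_of_eq (one_mem _) fun k χ => congrArg _ (Subtype.ext (by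
      simp [centEquiv_val]))]⟩
  mul_mem' := fun ⟨hx, h⟩ ⟨hy, h'⟩ => ⟨mul_mem hx hy, fun χ => by
    rw [irrPull_centEquiv_mul hx hy, h', h]⟩
  inv_mem' := fun {x} ⟨hx, h⟩ => ⟨inv_mem hx, fun χ => by
    rw [← h (irrPull (centEquiv (inv_mem hx)) χ), ← irrPull_centEquiv_mul]
    rw [irrPull_centEquiv_of_eq (mul_mem (inv_mem hx) hx) fun k χ => congrArg _ (Subtype.ext (by
      simp [centEquiv_val]))]⟩

theorem blockStab_le_normalizer (e : Set (IrrCharacter (Subgroup.centralizer (Q : Set G)))) :
    blockStab e ≤ Subgroup.normalizer (Q : Set G) := fun _ ⟨hx, _⟩ => hx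

theorem sup_centralizer_le_blockStab (e : Set (IrrCharacter (Subgroup.centralizer (Q : Set G)))) :
    Q ⊔ Subgroup.centralizer (Q : Set G) ≤ blockStab e := by
  refine sup_le (fun x hx => ⟨Subgroup.le_normalizer hx, fun χ => ?_⟩)
    (fun x hx => ⟨Subgroup.centralizer_le_normalizer _ hx, fun χ => ?_⟩)
  · rw [irrPull_centEquiv_of_eq _ fun k χ => congrArg _ (Subtype.ext (by
      rw [centEquiv_val, Subgroup.mem_centralizer_iff.1 k.2 x hx, mul_inv_cancel_right]))]
  · rw [irrPull_centEquiv_of_eq _ fun k χ => ?_]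
    have h : centEquiv (Subgroup.centralizer_le_normalizer _ hx) k =
        (⟨x, hx⟩ : Subgroup.centralizer (Q : Set G)) * k * (⟨x, hx⟩ : Subgroup.centralizer (Q : Set G))⁻¹ :=
      Subtype.ext rfl
    rw [h, irr_classFun χ k ⟨x, hx⟩]

theorem stabilizes_iff (hM : IsPModular p M)
    {e : Set (IrrCharacter (Subgroup.centralizer (Q : Set G)))} (he : IsPBlock M e) {x : G}
    (hx : x ∈ Subgroup.normalizer (Q : Set G)) :
    StabilizesBlock (Subgroup.centralizer (Q : Set G)) e x ↔ x ∈ blockStab e := by
  constructor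
  · rintro ⟨-, h⟩
    have hsurj : ∀ χ ∈ e, ∃ χ' ∈ e, irrPull (centEquiv hx) χ' = χ := fun χ hχ => by
      obtain ⟨χ', hχ', hc⟩ := h χ hχ
      exact ⟨χ', hχ', Subtype.ext (funext fun k => hc k _ rfl)⟩
    have hinj : ∀ a b : IrrCharacter (Subgroup.centralizer (Q : Set G)),
        irrPull (centEquiv hx) a = irrPull (centEquiv hx) b → a = b := fun a b hab => by
      rw [← irrPull_self_symm (centEquiv hx) a, hab, irrPull_self_symm]
    refine ⟨hx, fun χ => ⟨fun hχ => ?_, fun hχ => ?_⟩⟩
    · obtain ⟨χ', hχ', hc⟩ := hsurj _ hχ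
      exact hinj _ _ hc ▸ hχ'
    · obtain ⟨η, hη⟩ := pblock_nonempty hM he
      obtain ⟨η', hη', rfl⟩ := hsurj η hη
      exact pblock_mem_of_sameBlock hM he hη
        ((sameBlock_irrPull_iff _ _ _).2 (pblock_sameBlock hM he hη' hχ))
  · rintro ⟨hx', h⟩
    refine ⟨Subgroup.mem_normalizer_iff.2 fun k => ⟨centralizer_conj_mem hx, fun hk => ?_⟩,
      fun χ hχ => ⟨irrPull (centEquiv hx).symm χ, ?_, fun k k' hk => ?_⟩⟩
    · simpa [mul_assoc] using centralizer_conj_mem (inv_mem hx) hk
    · rw [← h, irrPull_symm_self]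
      exact hχ
    · simp only [irrPull_apply]
      exact congrArg _ ((MulEquiv.symm_apply_eq _).2 (Subtype.ext hk))

/-- Invariance of a central element of the centralizer under `R`. -/
def RInv (R : Subgroup G) (f : IrrCharacter (Subgroup.centralizer (Q : Set G)) → ℂ) : Prop :=
  ∀ x ∈ R, ∀ (hx : x ∈ Subgroup.normalizer (Q : Set G)) (k : Subgroup.centralizer (Q : Set G)),
    coeffFun f (centEquiv hx k) = coeffFun f k

theorem rInv_mul {f f' : IrrCharacter (Subgroup.centralizer (Q : Set G)) → ℂ} (hf : RInv R f)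
    (hf' : RInv R f') : RInv R (f * f') := by
  intro x hxR hx k
  cases nonempty_fintype (Subgroup.centralizer (Q : Set G))
  rw [coeffFun_mul]
  simp only [convFun]
  refine (Fintype.sum_equiv (centEquiv hx).toEquiv _ _ fun h => ?_).symm
  simp only [MulEquiv.toEquiv_eq_coe, MulEquiv.coe_toEquiv]
  rw [hf x hxR hx h, ← map_inv, ← map_mul, hf' x hxR hx]

theorem rInv_sub {f f' : IrrCharacter (Subgroup.centralizer (Q : Set G)) → ℂ} (hf : RInv R f)
    (hf' : RInv R f') : RInv R (f - f') := fun x hxR hx k => by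
  rw [coeffFun_sub, coeffFun_sub, hf x hxR hx, hf' x hxR hx]

theorem rInv_one : RInv R (1 : IrrCharacter (Subgroup.centralizer (Q : Set G)) → ℂ) := by
  classical
  intro x _ hx k
  rw [coeffFun_one, coeffFun_one]
  simp only [EmbeddingLike.map_eq_one_iff]

theorem rInv_pow {f : IrrCharacter (Subgroup.centralizer (Q : Set G)) → ℂ} (hf : RInv R f) :
    ∀ n : ℕ, RInv R (f ^ n)
  | 0 => by rw [pow_zero]; exact rInv_one
  | n + 1 => by rw [pow_succ]; exact rInv_mul (rInv_pow hf n) hf

theorem rInv_blockInd {e : Set (IrrCharacter (Subgroup.centralizer (Q : Set G)))}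
    (hR : R ≤ blockStab e) : RInv R (blockInd e) := by
  intro x hxR hx k
  obtain ⟨hx', h⟩ := hR hxR
  cases nonempty_fintype (IrrCharacter (Subgroup.centralizer (Q : Set G)))
  rw [coeffFun_eq_sum, coeffFun_eq_sum]
  congr 1
  refine Fintype.sum_equiv
    ⟨irrPull (centEquiv hx), irrPull (centEquiv hx).symm, fun a => irrPull_self_symm _ a,
      fun a => irrPull_symm_self _ a⟩ _ _ fun χ => ?_
  have h1 : blockInd e (irrPull (centEquiv hx) χ) = blockInd e χ := by
    by_cases hχ : χ ∈ e
    · rw [blockInd_of_mem hχ, blockInd_of_mem ((h χ).2 hχ)]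
    · rw [blockInd_of_notMem hχ, blockInd_of_notMem fun hh => hχ ((h χ).1 hh)]
  simp only [Equiv.coe_fn_mk, irrPull_apply, map_one, map_inv, h1]

/-- Truncation of a central element of `C_G(Q)` to `C_G(R)`. -/
noncomputable def truncFun (hQR : Q ≤ R)
    (f : IrrCharacter (Subgroup.centralizer (Q : Set G)) → ℂ)
    (k : Subgroup.centralizer (R : Set G)) : ℂ :=
  coeffFun f ⟨(k : G), Subgroup.centralizer_le (SetLike.coe_subset_coe.2 hQR) k.2⟩

/-- The central character values of the truncation. -/
noncomputable def truncCen (hQR : Q ≤ R)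
    (f : IrrCharacter (Subgroup.centralizer (Q : Set G)) → ℂ)
    (ξ : IrrCharacter (Subgroup.centralizer (R : Set G))) : ℂ :=
  (∑ᶠ k : Subgroup.centralizer (R : Set G),
    truncFun hQR f k * (ξ : Subgroup.centralizer (R : Set G) → ℂ) k) /
      (ξ : Subgroup.centralizer (R : Set G) → ℂ) 1

theorem truncCen_eq [Fintype (Subgroup.centralizer (R : Set G))] (hQR : Q ≤ R)
    (f : IrrCharacter (Subgroup.centralizer (Q : Set G)) → ℂ)
    (ξ : IrrCharacter (Subgroup.centralizer (R : Set G))) :
    truncCen hQR f ξ = omegaFun ξ (truncFun hQR f) := by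
  rw [truncCen, finsum_eq_sum_of_fintype, omegaFun]

theorem coeffFun_truncCen (hQR : Q ≤ R)
    (f : IrrCharacter (Subgroup.centralizer (Q : Set G)) → ℂ) :
    coeffFun (truncCen hQR f) = truncFun hQR f := by
  cases nonempty_fintype (Subgroup.centralizer (R : Set G))
  rw [funext (truncCen_eq hQR f), coeffFun_omegaFun]
  exact fun k l => coeffFun_classFun f ⟨(k : G), _⟩
    ⟨(l : G), Subgroup.centralizer_le (SetLike.coe_subset_coe.2 hQR) l.2⟩

theorem cenInt_truncCen {hQR : Q ≤ R}
    {f : IrrCharacter (Subgroup.centralizer (Q : Set G)) → ℂ} (hf : CenInt M f) :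
    CenInt M (truncCen hQR f) := fun k => by rw [coeffFun_truncCen]; exact hf _

theorem truncCen_sub (hQR : Q ≤ R) (f f' : IrrCharacter (Subgroup.centralizer (Q : Set G)) → ℂ) :
    truncCen hQR (f - f') = truncCen hQR f - truncCen hQR f' := by
  cases nonempty_fintype (Subgroup.centralizer (R : Set G))
  funext ξ
  simp only [Pi.sub_apply, truncCen_eq, omegaFun, truncFun, coeffFun_sub, sub_mul,
    Finset.sum_sub_distrib, sub_div]

theorem truncCen_mul_coeff (hM : IsPModular p M) (hRp : IsPGroup p R) (hQR : Q ≤ R)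
    (hRN : R ≤ Subgroup.normalizer (Q : Set G))
    {f f' : IrrCharacter (Subgroup.centralizer (Q : Set G)) → ℂ} (hf : CenInt M f)
    (hf' : CenInt M f') (hi : RInv R f) (hi' : RInv R f')
    (k : Subgroup.centralizer (R : Set G)) :
    MemLocalIdeal M (coeffFun (truncCen hQR (f * f') - truncCen hQR f * truncCen hQR f') k) := by
  classical
  cases nonempty_fintype (Subgroup.centralizer (R : Set G))
  cases nonempty_fintype (Subgroup.centralizer (Q : Set G))
  have hle : Subgroup.centralizer (R : Set G) ≤ Subgroup.centralizer (Q : Set G) :=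
    Subgroup.centralizer_le (SetLike.coe_subset_coe.2 hQR)
  letI act : MulAction R (Subgroup.centralizer (Q : Set G)) :=
    { smul := fun r h => centEquiv (hRN r.2) h
      one_smul := fun h => Subtype.ext (by
        show ((1 : R) : G) * h * ((1 : R) : G)⁻¹ = h
        simp)
      mul_smul := fun r r' h => Subtype.ext (by
        show ((r * r' : R) : G) * h * ((r * r' : R) : G)⁻¹ =
          (r : G) * ((r' : G) * h * (r' : G)⁻¹) * (r : G)⁻¹
        simp [mul_assoc]) }
  set k' : Subgroup.centralizer (Q : Set G) := ⟨(k : G), hle k.2⟩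
  have hkfix : ∀ r : R, centEquiv (hRN r.2) k' = k' := fun r => Subtype.ext (by
    show (r : G) * (k : G) * (r : G)⁻¹ = (k : G)
    rw [Subgroup.mem_centralizer_iff.1 k.2 r r.2, mul_inv_cancel_right])
  have h := ideal_sum_sub_fixed (α := Subgroup.centralizer (Q : Set G)) hM hRp
    (F := fun h => coeffFun f h * coeffFun f' (h⁻¹ * k'))
    (fun h => ring_mul hM (hf _) (hf' _)) (fun r h => by
      show coeffFun f (centEquiv (hRN r.2) h) * coeffFun f' ((centEquiv (hRN r.2) h)⁻¹ * k') = _
      rw [hi r r.2, show (centEquiv (hRN r.2) h)⁻¹ * k' = centEquiv (hRN r.2) (h⁻¹ * k') by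
        rw [map_mul, map_inv, hkfix r], hi' r r.2])
  rw [coeffFun_sub, coeffFun_mul, coeffFun_truncCen, coeffFun_truncCen, coeffFun_truncCen]
  simp only [truncFun, convFun, coeffFun_mul]
  rw [finsum_mem_eq_sum_of_inter_support_eq _
    (t := Finset.univ.filter
      (· ∈ MulAction.fixedPoints R (Subgroup.centralizer (Q : Set G)))) (by ext; simp)] at h
  convert h using 2
  refine Finset.sum_bij (fun x _ => (⟨(x : G), hle x.2⟩ : Subgroup.centralizer (Q : Set G)))
    (fun x _ => ?_) (fun x _ y _ h => Subtype.ext (congrArg (fun z :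
      Subgroup.centralizer (Q : Set G) => (z : G)) h)) (fun y hy => ?_) (fun x _ => rfl)
  · simp only [Finset.mem_filter, Finset.mem_univ, true_and]
    intro r
    refine Subtype.ext ?_
    show (r : G) * (x : G) * (r : G)⁻¹ = (x : G)
    rw [Subgroup.mem_centralizer_iff.1 x.2 r r.2, mul_inv_cancel_right]
  · simp only [Finset.mem_filter, Finset.mem_univ, true_and] at hy
    refine ⟨⟨(y : G), Subgroup.mem_centralizer_iff.2 fun r hr => ?_⟩, Finset.mem_univ _, rfl⟩
    have := congrArg (fun z : Subgroup.centralizer (Q : Set G) => (z : G)) (hy ⟨r, hr⟩)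
    exact mul_inv_eq_iff_eq_mul.1 this

theorem truncCen_mul_ideal (hM : IsPModular p M) (hRp : IsPGroup p R) (hQR : Q ≤ R)
    (hRN : R ≤ Subgroup.normalizer (Q : Set G))
    {f f' : IrrCharacter (Subgroup.centralizer (Q : Set G)) → ℂ} (hf : CenInt M f)
    (hf' : CenInt M f') (hi : RInv R f) (hi' : RInv R f')
    (ξ : IrrCharacter (Subgroup.centralizer (R : Set G))) :
    MemLocalIdeal M (truncCen hQR (f * f') ξ - truncCen hQR f ξ * truncCen hQR f' ξ) :=
  ideal_of_coeffFun_ideal hM (truncCen_mul_coeff hM hRp hQR hRN hf hf' hi hi') ξ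

theorem truncCen_ideal_of_values (hM : IsPModular p M) (hRp : IsPGroup p R) (hQR : Q ≤ R)
    (hRN : R ≤ Subgroup.normalizer (Q : Set G))
    {f : IrrCharacter (Subgroup.centralizer (Q : Set G)) → ℂ} (hf : CenInt M f) (hi : RInv R f)
    (hval : ∀ χ, MemLocalIdeal M (f χ)) (ξ : IrrCharacter (Subgroup.centralizer (R : Set G))) :
    MemLocalIdeal M (truncCen hQR f ξ) := by
  obtain ⟨N, hN, hpow⟩ := exists_pow_coeff_ideal hM hf hval
  have hr := fun n => (cenInt_truncCen (hQR := hQR) (CenInt.pow hM hf n)).ring hM ξ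
  have hstep : ∀ n, 0 < n →
      MemLocalIdeal M (truncCen hQR (f ^ n) ξ - truncCen hQR f ξ ^ n) := by
    intro n hn
    induction n, hn using Nat.le_induction with
    | base => rw [pow_one, pow_one, sub_self]; exact ideal_zero hM
    | succ n _ ih =>
      have h1 := truncCen_mul_ideal hM hRp hQR hRN (CenInt.pow hM hf n) hf (rInv_pow hi n) hi ξ
      have h2 := ideal_mul_right hM ih ((cenInt_truncCen (hQR := hQR) hf).ring hM ξ)
      have h3 := ideal_add hM h1 h2
      rw [← pow_succ] at h3
      convert h3 using 1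
      ring
  have h0 : MemLocalIdeal M (truncCen hQR (f ^ N) ξ) :=
    ideal_of_coeffFun_ideal hM (fun k => by rw [coeffFun_truncCen]; exact hpow _) ξ
  exact ideal_of_pow hM ((cenInt_truncCen (hQR := hQR) hf).ring hM ξ) N
    ((ideal_congr hM (hstep N hN)).1 h0)

theorem brauerOmega_truncCen_blockInd (hQR : Q ≤ R)
    (e : Set (IrrCharacter (Subgroup.centralizer (Q : Set G))))
    (ξ : IrrCharacter (Subgroup.centralizer (R : Set G))) :
    brauerOmega R (subgroupBlockCoeff (Subgroup.centralizer (Q : Set G)) e)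
      (ξ : Subgroup.centralizer (R : Set G) → ℂ) = truncCen hQR (blockInd e) ξ := by
  cases nonempty_fintype (Subgroup.centralizer (R : Set G))
  rw [truncCen_eq, brauerOmega, finsum_eq_sum_of_fintype, omegaFun, Finset.sum_div]
  refine Finset.sum_congr rfl fun k _ => ?_
  rw [subgroupBlockCoeff, dif_pos (Subgroup.centralizer_le (SetLike.coe_subset_coe.2 hQR) k.2),
    blockCoeff_eq]
  rfl

theorem brCen_eq_brauerOmega (Q : Subgroup G) (B : Set (IrrCharacter G))
    (ξ : IrrCharacter (Subgroup.centralizer (Q : Set G))) :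
    brCen Q (Subgroup.centralizer (Q : Set G)) (blockInd B) ξ =
      brauerOmega Q (blockCoeff B) (ξ : Subgroup.centralizer (Q : Set G) → ℂ) := by
  cases nonempty_fintype (Subgroup.centralizer (Q : Set G))
  rw [brCen_eq_omegaFun, brauerOmega, finsum_eq_sum_of_fintype, omegaFun, Finset.sum_div]
  refine Finset.sum_congr rfl fun k _ => ?_
  rw [brFun, if_pos k.2, blockCoeff_eq]

theorem brauerOmega_truncCen_brCen (hQR : Q ≤ R) (B : Set (IrrCharacter G))
    (ξ : IrrCharacter (Subgroup.centralizer (R : Set G))) :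
    brauerOmega R (blockCoeff B) (ξ : Subgroup.centralizer (R : Set G) → ℂ) =
      truncCen hQR (brCen Q (Subgroup.centralizer (Q : Set G)) (blockInd B)) ξ := by
  cases nonempty_fintype (Subgroup.centralizer (R : Set G))
  rw [truncCen_eq, brauerOmega, finsum_eq_sum_of_fintype, omegaFun, Finset.sum_div]
  refine Finset.sum_congr rfl fun k _ => ?_
  rw [truncFun, coeffFun_brCen (Subgroup.centralizer_le_normalizer _), brFun,
    if_pos (Subgroup.centralizer_le (SetLike.coe_subset_coe.2 hQR) k.2), blockCoeff_eq]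

theorem rInv_brCen (B : Set (IrrCharacter G)) :
    RInv R (brCen Q (Subgroup.centralizer (Q : Set G)) (blockInd B)) := by
  intro x _ hx k
  rw [coeffFun_brCen (Subgroup.centralizer_le_normalizer _), brFun, brFun, if_pos k.2,
    if_pos (centEquiv hx k).2, centEquiv_val]
  exact coeffFun_classFun _ _ _

/-- A `p`-subgroup stabilizing `e` and fixing a unit coefficient gives a larger pair. -/
theorem exists_pair_above (hM : IsPModular p M) {B : Set (IrrCharacter G)}
    {e : Set (IrrCharacter (Subgroup.centralizer (Q : Set G)))}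
    (hpair : IsBrauerPairOf p M B Q e) (hRp : IsPGroup p R) (hQR : Q ≤ R)
    (hR : R ≤ blockStab e) {k : Subgroup.centralizer (Q : Set G)}
    (hk : (k : G) ∈ Subgroup.centralizer (R : Set G))
    (hku : ¬ MemLocalIdeal M (blockCoeff e k)) :
    ∃ f, IsBrauerPairOf p M B R f ∧ IsNormalSubpair p M Q e R f := by
  classical
  have he := hpair.1.2
  have hB := hpair.2.1
  have hRN : R ≤ Subgroup.normalizer (Q : Set G) := hR.trans (blockStab_le_normalizer e)
  set K := Subgroup.centralizer (R : Set G)
  have heI := cenInt_blockInd hM he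
  have hei : RInv R (blockInd e) := rInv_blockInd hR
  have hφe : ∀ ξ, ¬ MemLocalIdeal M (truncCen hQR (blockInd e) ξ) →
      MemLocalIdeal M (truncCen hQR (blockInd e) ξ - 1) := by
    intro ξ hξ
    have h1 := truncCen_mul_ideal hM hRp hQR hRN heI heI hei hei ξ
    rw [blockInd_mul_self] at h1
    have hr := (cenInt_truncCen (hQR := hQR) heI).ring hM ξ
    have h2 : MemLocalIdeal M (truncCen hQR (blockInd e) ξ * (truncCen hQR (blockInd e) ξ - 1)) := by
      convert ideal_neg h1 using 1
      ring
    exact (ideal_or_of_mul hM hr (ring_sub hM hr (ring_one hM)) h2).resolve_left hξ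
  obtain ⟨ξ, hξ⟩ : ∃ ξ, ¬ MemLocalIdeal M (truncCen hQR (blockInd e) ξ) := by
    by_contra hall
    push Not at hall
    have hI := cenInt_truncCen (hQR := hQR) heI
    obtain ⟨N, hN, hpow⟩ := exists_pow_coeff_ideal hM hI hall
    have hd : ∀ n, 0 < n → ∀ x, MemLocalIdeal M
        (coeffFun (truncCen hQR (blockInd e) - truncCen hQR (blockInd e) ^ n) x) := by
      intro n hn
      induction n, hn using Nat.le_induction with
      | base => intro x; rw [pow_one, coeffFun_sub, sub_self]; exact ideal_zero hM
      | succ n hn ih =>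
        intro x
        cases nonempty_fintype K
        have h1 := truncCen_mul_coeff hM hRp hQR hRN heI heI hei hei x
        rw [blockInd_mul_self] at h1
        have h2 : MemLocalIdeal M (coeffFun ((truncCen hQR (blockInd e) -
            truncCen hQR (blockInd e) ^ n) * truncCen hQR (blockInd e)) x) := by
          rw [coeffFun_mul]
          exact ideal_sum hM fun y _ => ideal_mul_right hM (ih y) (hI _)
        have h3 := ideal_add hM h1 h2
        rw [← coeffFun_add] at h3
        convert h3 using 3
        rw [pow_succ]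
        ring
    apply hku
    have h1 := ideal_add hM (hd N hN ⟨(k : G), hk⟩) (hpow ⟨(k : G), hk⟩)
    rw [coeffFun_sub, sub_add_cancel, coeffFun_truncCen] at h1
    rw [blockCoeff_eq]
    exact h1
  have hφe1 : ∀ η ∈ blockOf M (ξ : K → ℂ),
      MemLocalIdeal M (truncCen hQR (blockInd e) η - 1) := fun η hη => by
    simpa using ideal_add hM ((cenInt_truncCen (hQR := hQR) heI).congr_block hM (sameBlock_symm hη))
      (hφe ξ hξ)
  refine ⟨blockOf M (ξ : K → ℂ), ⟨⟨hRp, isPBlock_blockOf ξ⟩, hB, fun η hη => ?_⟩, hpair.1,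
    ⟨hRp, isPBlock_blockOf ξ⟩, hQR, hRN,
    fun x hx => (stabilizes_iff hM he (hRN hx)).2 (hR hx),
    fun η hη => by rw [brauerOmega_truncCen_blockInd hQR]; exact hφe1 η hη⟩
  set F := brCen Q (Subgroup.centralizer (Q : Set G)) (blockInd B) with hF
  have hFI : CenInt M F :=
    CenInt.brCen hM (Subgroup.centralizer_le_normalizer _) (cenInt_blockInd hM hB)
  have hFi : RInv R F := rInv_brCen B
  have hval : ∀ χ, MemLocalIdeal M ((F * blockInd e - blockInd e) χ) := by
    intro χ
    simp only [Pi.sub_apply, Pi.mul_apply]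
    by_cases hχ : χ ∈ e
    · rw [blockInd_of_mem hχ, mul_one, hF, brCen_eq_brauerOmega]
      exact hpair.2.2 χ hχ
    · rw [blockInd_of_notMem hχ, mul_zero, sub_zero]
      exact ideal_zero hM
  have h1 := truncCen_ideal_of_values hM hRp hQR hRN ((hFI.mul hM heI).sub hM heI)
    (rInv_sub (rInv_mul hFi hei) hei) hval η
  rw [truncCen_sub, Pi.sub_apply] at h1
  have h2 := truncCen_mul_ideal hM hRp hQR hRN hFI heI hFi hei η
  have hr := (cenInt_truncCen (hQR := hQR) hFI).ring hM η
  rw [brauerOmega_truncCen_brCen hQR, ← hF]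
  have h4 := ideal_mul_left hM hr (hφe1 η hη)
  have h5 := ideal_add hM (ideal_sub hM (ideal_sub hM h1 h2) h4) (hφe1 η hη)
  convert h5 using 1
  ring

/-- Central defect, read from a member that is of defect zero modulo `Z`. -/
theorem blockDefect_of_central [Fact p.Prime] {C : Type u} [Group C] [Finite C]
    (hM : IsPModular p M) {e : Set (IrrCharacter C)} (he : IsPBlock M e) (Z : Subgroup C) [Z.Normal]
    (hZc : Z ≤ Subgroup.center C) (hZp : IsPGroup p Z) {θ : IrrCharacter C} (hθ : θ ∈ e)
    (hker : ∀ z ∈ Z, (θ : C → ℂ) z = (θ : C → ℂ) 1)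
    (hdeg : (charDegree (θ : C → ℂ)).factorization p + (Nat.card Z).factorization p =
      (Nat.card C).factorization p) :
    blockDefect p e = (Nat.card Z).factorization p := by
  classical
  cases nonempty_fintype C
  cases nonempty_fintype (C ⧸ Z)
  obtain ⟨φ, hφ, hφθ⟩ := Cfsg.Agent.Char.IsIrr.exists_factor_quotient θ.2 Z hker
  let φ' : IrrCharacter (C ⧸ Z) := ⟨φ, hφ⟩
  have hdφ : charDegree (φ' : C ⧸ Z → ℂ) = charDegree (θ : C → ℂ) := by
    have h : ((charDegree (φ' : C ⧸ Z → ℂ) : ℕ) : ℂ) = ((charDegree (θ : C → ℂ) : ℕ) : ℂ) := by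
      rw [← charDeg_spec' φ', ← charDeg_spec' θ]
      exact hφθ 1
    exact_mod_cast h
  have hcard : (Nat.card C).factorization p =
      (Nat.card (C ⧸ Z)).factorization p + (Nat.card Z).factorization p := by
    rw [Subgroup.card_eq_card_quotient_mul_card_subgroup Z,
      Nat.factorization_mul Nat.card_pos.ne' Nat.card_pos.ne', Finsupp.add_apply]
  have hfull : (charDegree (φ' : C ⧸ Z → ℂ)).factorization p = (Nat.card (C ⧸ Z)).factorization p := by
    rw [hdφ]; omega
  have hvan : ∀ c : C, p ∣ orderOf (c : C ⧸ Z) → (θ : C → ℂ) c = 0 := fun c hc => by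
    rw [← hφθ]; exact defectZero_vanish hM φ' hfull hc
  have hsq : ∑ c : C, (θ : C → ℂ) c * conj ((θ : C → ℂ) c) = (Nat.card C : ℂ) := by
    have := Cfsg.Agent.Char.classInner_self_irr θ.2
    rwa [classInner, inv_mul_eq_one₀ (Nat.cast_ne_zero.2 Nat.card_pos.ne'), eq_comm] at this
  cases nonempty_fintype Z
  set S := Finset.univ.filter (fun c : C => ¬ p ∣ orderOf c)
  set T := Finset.univ.filter (fun c : C => ¬ p ∣ orderOf (c : C ⧸ Z))
  have hcent : ∀ (z : Z) (c : C), Commute (z : C) c := fun z c =>
    (Subgroup.mem_center_iff.1 (hZc z.2) c).symm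
  have hzv : ∀ (z : Z) (v : C), (θ : C → ℂ) ((z : C) * v) = (θ : C → ℂ) v := fun z v => by
    rw [← hφθ, ← hφθ, QuotientGroup.mk_mul, (QuotientGroup.eq_one_iff (z : C)).2 z.2, one_mul]
  have hpair : ∀ (z : Z) (v : C), v ∈ S → IsPPart p ((z : C) * v) (z : C) := fun z v hv =>
    ⟨v, rfl, hcent z v, by
      obtain ⟨k, hk⟩ := hZp z
      obtain ⟨i, -, hi⟩ := (Nat.dvd_prime_pow (Fact.out : p.Prime)).1 (orderOf_dvd_of_pow_eq_one hk)
      exact ⟨i, by rw [Subgroup.orderOf_coe, hi]⟩, (Finset.mem_filter.1 hv).2⟩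
  have hT : ∑ c ∈ T, (θ : C → ℂ) c * conj ((θ : C → ℂ) c) =
      (Nat.card Z : ℂ) * ∑ v ∈ S, (θ : C → ℂ) v * conj ((θ : C → ℂ) v) := by
    rw [show T = ((Finset.univ : Finset Z) ×ˢ S).image (fun zv : Z × C => (zv.1 : C) * zv.2) from ?_,
      Finset.sum_image, Finset.sum_product]
    · simp only [hzv, Finset.sum_const, Finset.card_univ, nsmul_eq_mul, Nat.card_eq_fintype_card]
    · intro a ha b hb hab
      simp only [Finset.coe_product, Set.mem_prod, Finset.mem_coe] at ha hb
      simp only at hab
      have h1 : a.1 = b.1 :=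
        Subtype.ext (pPart_unique (hpair a.1 a.2 ha.2) (hab ▸ hpair b.1 b.2 hb.2))
      rw [h1] at hab
      exact Prod.ext h1 (mul_left_cancel hab)
    · ext c
      simp only [T, Finset.mem_filter, Finset.mem_univ, true_and, Finset.mem_image, Finset.mem_product]
      constructor
      · intro hc
        obtain ⟨u, v, huv, huvc, ⟨k, hk⟩, hv, hu', -⟩ := exists_pPart_zpowers (p := p) c
        refine ⟨(⟨u, ?_⟩, v), Finset.mem_filter.2 ⟨Finset.mem_univ _, hv⟩, huv⟩
        rw [← QuotientGroup.eq_one_iff, ← orderOf_eq_one_iff]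
        obtain ⟨i, hi⟩ := Subgroup.mem_zpowers_iff.1 hu'
        have h1 : orderOf (u : C ⧸ Z) ∣ orderOf (c : C ⧸ Z) :=
          orderOf_dvd_of_mem_zpowers ⟨i, by rw [← hi, QuotientGroup.mk_zpow]⟩
        have h2 : orderOf (u : C ⧸ Z) ∣ p ^ k := hk ▸ orderOf_map_dvd (QuotientGroup.mk' Z) u
        exact Nat.eq_one_of_dvd_coprimes
          (Nat.Coprime.pow_right _ (Nat.coprime_comm.1 ((Fact.out : p.Prime).coprime_iff_not_dvd.2 hc)))
          h1 h2
      · rintro ⟨⟨z, v⟩, hv, rfl⟩ hc
        rw [QuotientGroup.mk_mul, (QuotientGroup.eq_one_iff (z : C)).2 z.2, one_mul] at hc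
        exact (Finset.mem_filter.1 hv).2 (hc.trans (orderOf_map_dvd (QuotientGroup.mk' Z) v))
  have hsupp : ∑ c ∈ T, (θ : C → ℂ) c * conj ((θ : C → ℂ) c) = (Nat.card C : ℂ) := by
    rw [← hsq]
    refine Finset.sum_subset (Finset.subset_univ _) fun c _ hc => ?_
    rw [hvan c (not_not.1 fun h => hc (Finset.mem_filter.2 ⟨Finset.mem_univ _, h⟩)), zero_mul]
  rw [hT] at hsupp
  have hreg : regPair p θ θ =
      ((Nat.card (C ⧸ Z) : ℕ) : ℂ) / ((charDegree (θ : C → ℂ) : ℕ) : ℂ) := by
    rw [regPair, regSum_eq_sum, ← charDeg_spec' θ]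
    congr 1
    have hZ0 : (Nat.card Z : ℂ) ≠ 0 := Nat.cast_ne_zero.2 Nat.card_pos.ne'
    refine mul_left_cancel₀ hZ0 (hsupp.trans ?_)
    rw [Subgroup.card_eq_card_quotient_mul_card_subgroup Z]
    push_cast
    ring
  have h0 : blockHeight p e (θ : C → ℂ) = 0 := by
    by_contra h
    have hi := regPair_ideal hM he hθ hθ h
    rw [hreg] at hi
    exact natDiv_notMem hM (charDeg_pos θ).ne' Nat.card_pos.ne' (by omega) hi
  rw [blockHeight_zero_iff hM he hθ] at h0
  omega

/-- Maximal Brauer pairs. -/
theorem maximal_pair_iff [Fact p.Prime] (hM : IsPModular p M) (Q : Subgroup G)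
    (e : Set (IrrCharacter (Subgroup.centralizer (Q : Set G)))) (he : IsBrauerPair p M Q e) :
    (∃ B : Set (IrrCharacter G), IsMaximalBrauerPair p M B Q e) ↔
      ∃ θ ∈ e, (∀ z : Subgroup.centralizer (Q : Set G), (z : G) ∈ Q →
          (θ : Subgroup.centralizer (Q : Set G) → ℂ) z =
            (θ : Subgroup.centralizer (Q : Set G) → ℂ) 1) ∧
        (charDegree (θ : Subgroup.centralizer (Q : Set G) → ℂ)).factorization p +
            (Nat.card ↥(Q ⊓ Subgroup.centralizer (Q : Set G))).factorization p =
          (Nat.card (Subgroup.centralizer (Q : Set G))).factorization p ∧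
        (∀ g : G, g ∈ Subgroup.normalizer (Q : Set G) →
          StabilizesBlock (Subgroup.centralizer (Q : Set G)) e g →
          (∃ k : ℕ, orderOf g = p ^ k) → g ∈ Q ⊔ Subgroup.centralizer (Q : Set G)) := by
  classical
  have hp : p.Prime := Fact.out
  obtain ⟨hQp, heb⟩ := he
  have hQC : (Subgroup.centralizer (Q : Set G)) ≤ Subgroup.normalizer (Q : Set G) := Subgroup.centralizer_le_normalizer _
  set Z := Q.subgroupOf (Subgroup.centralizer (Q : Set G))
  have hZc : Z ≤ Subgroup.center (Subgroup.centralizer (Q : Set G)) := fun z hz => Subgroup.mem_center_iff.2 fun c =>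
    Subtype.ext (Subgroup.mem_centralizer_iff.1 c.2 _ hz).symm
  haveI hZn : Z.Normal := ⟨fun z hz g => by
    rw [Subgroup.mem_center_iff.1 (hZc hz) g, mul_inv_cancel_right]; exact hz⟩
  have hZp : IsPGroup p Z := hQp.comap_subtype
  have hZcard : Nat.card Z = Nat.card ↥(Q ⊓ (Subgroup.centralizer (Q : Set G))) := by
    rw [← Subgroup.card_map_of_injective (Subgroup.centralizer (Q : Set G)).subtype_injective, Subgroup.subgroupOf_map_subtype]
  constructor
  · rintro ⟨B, hpair, hmax⟩
    -- every candidate overgroup lies in `Q`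
    have hno : ∀ (U : Subgroup G) (k : (Subgroup.centralizer (Q : Set G))), IsPGroup p U → U ≤ blockStab e →
        (k : G) ∈ Subgroup.centralizer (U : Set G) → ¬ MemLocalIdeal M (blockCoeff e k) →
        U ≤ Q := by
      intro U k hU hUs hkU hku
      have hRp : IsPGroup p ↥(Q ⊔ U) :=
        hQp.to_sup_of_normal_left' hU (hUs.trans (blockStab_le_normalizer e))
      obtain ⟨f, hf, hn⟩ := exists_pair_above hM hpair hRp le_sup_left
        (sup_le (le_sup_left.trans (sup_centralizer_le_blockStab e)) hUs) (k := k) (by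
          rw [Subgroup.sup_eq_closure, Subgroup.centralizer_closure]
          rintro y (hy | hy)
          · exact Subgroup.mem_centralizer_iff.1 k.2 y hy
          · exact Subgroup.mem_centralizer_iff.1 hkU y hy) hku
      have := hmax _ f hf (Relation.ReflTransGen.single hn)
      exact le_sup_right.trans this.le
    obtain ⟨g, hg, P, hP⟩ : ∃ g : (Subgroup.centralizer (Q : Set G)), IsDefectClass M e g ∧
        ∃ P : Sylow p (Subgroup.centralizer ({g} : Set (Subgroup.centralizer (Q : Set G)))), csyl P = csyl P := by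
      obtain ⟨g, hg⟩ := exists_isDefectClass hM heb
      exact ⟨g, hg, Classical.arbitrary _, rfl⟩
    have hD : IsDefectGroup p M e (csyl P) := ⟨g, hg, P, rfl⟩
    have hDZ : csyl P = Z := by
      refine le_antisymm ?_ (normal_le_defectGroup hM heb hD hZp)
      intro d hd
      refine hno ((csyl P).map (Subgroup.centralizer (Q : Set G)).subtype) g ((IsDefectGroup.isPGroup hD).map _)
        (fun x hx => ?_) ?_ hg.2.1 ⟨d, hd, rfl⟩
      · obtain ⟨y, -, rfl⟩ := hx
        exact sup_centralizer_le_blockStab e (Subgroup.mem_sup_right y.2)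
      · rw [Subgroup.mem_centralizer_iff]
        rintro _ ⟨u, hu, rfl⟩
        exact congrArg Subtype.val
          (Subgroup.mem_centralizer_iff.1 (mem_centralizer_csyl P) u hu)
    obtain ⟨θ, hθ, hθker⟩ := exists_member_ker hM heb Z hZp
    have hdef : blockDefect p e = (Nat.card Z).factorization p := by
      have h := card_defectGroup hM heb hD
      rw [hDZ] at h
      rw [h, Nat.Prime.factorization_pow hp, Finsupp.single_eq_same]
    refine ⟨θ, hθ, fun z hz => hθker z hz, ?_, ?_⟩
    · rw [← hZcard]
      have h1 := le_defect_add hM heb hθ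
      rw [hdef] at h1
      obtain ⟨φ, hφ, hφθ⟩ := Cfsg.Agent.Char.IsIrr.exists_factor_quotient θ.2 Z hθker
      have hd : charDegree (θ : (Subgroup.centralizer (Q : Set G)) → ℂ) ∣ Z.index := by
        have h2 : ((charDegree (θ : (Subgroup.centralizer (Q : Set G)) → ℂ) : ℕ) : ℂ) =
            ((charDegree ((⟨φ, hφ⟩ : IrrCharacter ((Subgroup.centralizer (Q : Set G)) ⧸ Z)) : (Subgroup.centralizer (Q : Set G)) ⧸ Z → ℂ) : ℕ) : ℂ) := by
          rw [← charDeg_spec' θ, ← charDeg_spec' (⟨φ, hφ⟩ : IrrCharacter ((Subgroup.centralizer (Q : Set G)) ⧸ Z))]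
          exact (hφθ 1).symm
        rw [Nat.cast_inj.1 h2, Subgroup.index_eq_card]
        exact charDeg_dvd _
      have h2 := (Nat.factorization_le_iff_dvd (charDeg_pos θ).ne'
        Subgroup.index_ne_zero_of_finite).2 hd p
      have h3 := congrArg (fun n => n.factorization p) Z.card_mul_index
      simp only [Nat.factorization_mul Nat.card_pos.ne' Subgroup.index_ne_zero_of_finite,
        Finsupp.add_apply] at h3
      omega
    · intro x hxN hxs hxp
      by_contra hxQC
      have hxS : x ∈ blockStab e := (stabilizes_iff hM heb hxN).1 hxs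
      -- an element of `x (Subgroup.centralizer (Q : Set G))` fixing a defect class
      obtain ⟨u, k, hup, huS, huQC, hku, hk⟩ : ∃ (u : G) (k : (Subgroup.centralizer (Q : Set G))), (∃ j, orderOf u = p ^ j) ∧
          u ∈ blockStab e ∧ u ∉ Q ⊔ (Subgroup.centralizer (Q : Set G)) ∧ ¬ MemLocalIdeal M (blockCoeff e k) ∧
          u * (k : G) = (k : G) * u := by
        cases nonempty_fintype (Subgroup.centralizer (Q : Set G))
        cases nonempty_fintype (ConjClasses (Subgroup.centralizer (Q : Set G)))
        obtain ⟨η, hη⟩ := pblock_nonempty hM heb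
        set a : ConjClasses (Subgroup.centralizer (Q : Set G)) → ℂ := fun K => blockCoeff e K.out * centralChar (η : (Subgroup.centralizer (Q : Set G)) → ℂ) K.out
        have ha1 : ∑ K, a K = 1 := sum_blockCoeff_centralChar hη
        have har : ∀ K, MemLocalRing M (a K) := fun K =>
          ring_mul hM (blockCoeff_ring hM heb _) (centralChar_ring hM η _)
        have hxf := hxS
        obtain ⟨_, hxiff⟩ := hxf
        set cx := centEquiv hxN
        let π : Equiv.Perm (ConjClasses (Subgroup.centralizer (Q : Set G))) := Equiv.ofBijective (ConjClasses.map cx.toMonoidHom)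
          (Finite.surjective_iff_bijective.1 (ConjClasses.map_surjective cx.surjective))
        have hπval : ∀ K : ConjClasses (Subgroup.centralizer (Q : Set G)), π K = ConjClasses.mk (cx K.out) := fun K => by
          conv_lhs => rw [← (Quotient.out_eq K : ConjClasses.mk K.out = K)]
          rfl
        obtain ⟨j, hj⟩ := hxp
        have hπp : π ^ p ^ j = 1 := by
          have hiter : ∀ i : ℕ, ∀ m : (Subgroup.centralizer (Q : Set G)), (π ^ i) (ConjClasses.mk m) =
              ConjClasses.mk (centEquiv (pow_mem hxN i) m) := by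
            intro i
            induction i with
            | zero =>
              intro m
              rw [pow_zero, Equiv.Perm.one_apply]
              exact congrArg _ (Subtype.ext (by simp [centEquiv_val]))
            | succ i ih =>
              intro m
              rw [pow_succ, Equiv.Perm.mul_apply]
              show (π ^ i) (ConjClasses.map cx.toMonoidHom (ConjClasses.mk m)) = _
              rw [show ConjClasses.map cx.toMonoidHom (ConjClasses.mk m) = ConjClasses.mk (cx m)
                from rfl, ih]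
              refine congrArg _ (Subtype.ext ?_)
              simp only [cx, centEquiv_val, pow_succ]
              group
          refine Equiv.ext fun K => ?_
          obtain ⟨m, rfl⟩ := ConjClasses.exists_rep K
          rw [hiter, Equiv.Perm.one_apply]
          refine congrArg _ (Subtype.ext ?_)
          rw [centEquiv_val, ← hj, pow_orderOf_eq_one]
          simp
        obtain ⟨i, -, hi⟩ := (Nat.dvd_prime_pow hp).1 (orderOf_dvd_of_pow_eq_one hπp)
        have hZπ : IsPGroup p (Subgroup.zpowers π) :=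
          IsPGroup.of_card (p := p) (n := i) (by rw [Nat.card_zpowers, hi])
        -- the terms are invariant modulo the prime
        have hinv : ∀ K, MemLocalIdeal M (a (π K) - a K) := by
          intro K
          have hc : IsConj (π K).out (cx K.out) :=
            ConjClasses.mk_eq_mk_iff_isConj.1 ((Quotient.out_eq (π K)).trans (hπval K))
          have h1 : blockCoeff e (π K).out = blockCoeff e K.out := by
            rw [Cfsg.Agent.Char.IsClass.eq_of_isConj (blockCoeff_classFun e) hc, blockCoeff_eq,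
              blockCoeff_eq]
            exact rInv_blockInd (R := Subgroup.zpowers x) (Subgroup.zpowers_le.2 hxS) x
              (Subgroup.mem_zpowers x) hxN K.out
          simp only [a]
          rw [h1, centralChar_conj η hc, ← mul_sub, ← centralChar_irrPull cx η K.out]
          exact ideal_mul_left hM (blockCoeff_ring hM heb _)
            (pblock_sameBlock hM heb ((hxiff η).2 hη) hη K.out)
        letI : Field (ResField hM) := resInst hM
        have hfix := sum_eq_sum_fixed (A := ResField hM) (p := p)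
          (fun z => by rw [nsmul_eq_mul, resField_p, zero_mul]) hZπ (fun K => red hM (a K))
          (fun w K => by
            obtain ⟨n, hn⟩ := (isOfFinOrder_of_finite π).mem_powers_iff_mem_zpowers.2 w.2
            show red hM (a ((w : Equiv.Perm (ConjClasses (Subgroup.centralizer (Q : Set G)))) K)) = red hM (a K)
            rw [← hn]
            clear hn
            induction n generalizing K with
            | zero => rfl
            | succ n ih =>
              show red hM (a ((π ^ (n + 1)) K)) = red hM (a K)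
              rw [pow_succ, Equiv.Perm.mul_apply]
              exact (ih (π K)).trans ((red_eq_red hM (har _) (har _)).2 (hinv K)))
        obtain ⟨K, hKfix, hKu⟩ : ∃ K ∈ MulAction.fixedPoints (Subgroup.zpowers π) (ConjClasses (Subgroup.centralizer (Q : Set G))),
            red hM (a K) ≠ 0 := by
          by_contra hall
          push Not at hall
          rw [finsum_mem_eq_sum_of_inter_support_eq _ (t := Finset.univ.filter
              (· ∈ MulAction.fixedPoints (Subgroup.zpowers π) (ConjClasses (Subgroup.centralizer (Q : Set G))))) (by ext; simp),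
            Finset.sum_eq_zero (s := Finset.univ.filter _)
              (fun K hK => hall K (Finset.mem_filter.1 hK).2),
            ← red_sum hM fun K _ => har K, ha1] at hfix
          exact ideal_one hM ((red_eq_zero hM (ring_one hM)).1 hfix)
        have hKu' : ¬ MemLocalIdeal M (blockCoeff e K.out) := fun h =>
          hKu ((red_eq_zero hM (har K)).2 (ideal_mul_right hM h (centralChar_ring hM η _)))
        have hfixed := hKfix ⟨π, Subgroup.mem_zpowers π⟩
        have hK' : ConjClasses.mk (cx K.out) = ConjClasses.mk K.out := by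
          rw [← hπval]
          exact hfixed.trans (Quotient.out_eq K).symm
        obtain ⟨l, hl⟩ := isConj_iff.1 (ConjClasses.mk_eq_mk_iff_isConj.1 hK')
        have hl' := congrArg Subtype.val hl
        simp only [cx, Subgroup.coe_mul, Subgroup.coe_inv, centEquiv_val] at hl'
        set y : G := (l : G) * x with hy
        have hyc : y * (K.out : G) = (K.out : G) * y := by
          calc y * (K.out : G) =
              (l : G) * (x * (K.out : G) * x⁻¹) * (l : G)⁻¹ * ((l : G) * x) := by rw [hy]; group
            _ = (K.out : G) * y := by rw [hl', hy]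
        have hCS : (Subgroup.centralizer (Q : Set G)) ≤ blockStab e := le_sup_right.trans (sup_centralizer_le_blockStab e)
        have hyS : y ∈ blockStab e := mul_mem (hCS l.2) hxS
        obtain ⟨u, v, huv, -, ⟨t, ht⟩, hv, hu', hv'⟩ := exists_pPart_zpowers (p := p) y
        refine ⟨u, K.out, ⟨t, ht⟩, (Subgroup.zpowers_le.2 hyS) hu', fun huQ => ?_, hKu', ?_⟩
        · have hQCN : Q ⊔ (Subgroup.centralizer (Q : Set G)) ≤ (Subgroup.normalizer (Q : Set G)) := sup_le Subgroup.le_normalizer hQC
          haveI : ((Q ⊔ (Subgroup.centralizer (Q : Set G))).subgroupOf (Subgroup.normalizer (Q : Set G))).Normal :=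
            normal_sup_centralizer_subgroupOf Q
          have hyN : y ∈ (Subgroup.normalizer (Q : Set G)) := blockStab_le_normalizer e hyS
          have huN : u ∈ (Subgroup.normalizer (Q : Set G)) := blockStab_le_normalizer e ((Subgroup.zpowers_le.2 hyS) hu')
          have hvN : v ∈ (Subgroup.normalizer (Q : Set G)) := blockStab_le_normalizer e ((Subgroup.zpowers_le.2 hyS) hv')
          have hlN : (l : G) ∈ (Subgroup.normalizer (Q : Set G)) := hQC l.2
          let mk := QuotientGroup.mk' ((Q ⊔ (Subgroup.centralizer (Q : Set G))).subgroupOf (Subgroup.normalizer (Q : Set G)))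
          have e0 : mk ⟨y, hyN⟩ = mk ⟨x, hxN⟩ := by
            rw [show (⟨y, hyN⟩ : (Subgroup.normalizer (Q : Set G))) = ⟨(l : G), hlN⟩ * ⟨x, hxN⟩ from Subtype.ext rfl, map_mul,
              show mk ⟨(l : G), hlN⟩ = 1 from (QuotientGroup.eq_one_iff _).2
                (Subgroup.mem_sup_right l.2), one_mul]
          have e1 : mk ⟨v, hvN⟩ = mk ⟨x, hxN⟩ := by
            rw [← e0, show (⟨y, hyN⟩ : (Subgroup.normalizer (Q : Set G))) = ⟨u, huN⟩ * ⟨v, hvN⟩ from Subtype.ext huv.symm, map_mul,
              show mk ⟨u, huN⟩ = 1 from (QuotientGroup.eq_one_iff _).2 huQ, one_mul]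
          apply hxQC
          have h1 : orderOf (mk ⟨v, hvN⟩) ∣ orderOf v := by
            rw [← Subgroup.orderOf_mk v hvN]
            exact orderOf_map_dvd mk _
          have h2 : orderOf (mk ⟨v, hvN⟩) ∣ p ^ j := by
            rw [e1, ← hj, ← Subgroup.orderOf_mk x hxN]
            exact orderOf_map_dvd mk _
          have h3 := Nat.eq_one_of_dvd_coprimes (Nat.Coprime.pow_right _
            (Nat.coprime_comm.1 (hp.coprime_iff_not_dvd.2 hv))) h1 h2
          rw [orderOf_eq_one_iff, e1] at h3
          exact ((QuotientGroup.eq_one_iff (⟨x, hxN⟩ : (Subgroup.normalizer (Q : Set G)))).1 h3 :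
            (⟨x, hxN⟩ : (Subgroup.normalizer (Q : Set G))) ∈ (Q ⊔ (Subgroup.centralizer (Q : Set G))).subgroupOf (Subgroup.normalizer (Q : Set G)))
        · have hcz : ∀ w ∈ Subgroup.zpowers y, w * (K.out : G) = (K.out : G) * w := fun w hw => by
            obtain ⟨n, rfl⟩ := Subgroup.mem_zpowers_iff.1 hw
            exact (show Commute y (K.out : G) from hyc).zpow_left n
          exact hcz u hu'
      obtain ⟨j, hj⟩ := hup
      apply huQC
      refine Subgroup.mem_sup_left (hno (Subgroup.zpowers u) k
        (IsPGroup.of_card (n := j) (by rw [Nat.card_zpowers, hj])) (Subgroup.zpowers_le.2 huS) ?_ hku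
        (Subgroup.mem_zpowers u))
      rw [Subgroup.mem_centralizer_iff]
      intro w hw
      obtain ⟨n, rfl⟩ := Subgroup.mem_zpowers_iff.1 hw
      exact (show Commute u (k : G) from hk).zpow_left n
  · rintro ⟨θ, hθ, hθker, hθdeg, hstab⟩
    obtain ⟨ξ₀, hξ₀⟩ := pblock_nonempty hM heb
    obtain ⟨B, hB, hBc⟩ := exists_block_of_hom hM (fun f => brCen Q (Subgroup.centralizer (Q : Set G)) f ξ₀)
      (fun f f' => brCen_sub Q (Subgroup.centralizer (Q : Set G)) f f' ξ₀) (fun c f => brCen_smul Q (Subgroup.centralizer (Q : Set G)) c f ξ₀)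
      (fun f hf => (CenInt.brCen hM hQC hf).ring hM ξ₀)
      (fun f hf => ideal_of_coeffFun_ideal hM (fun h => by
        rw [coeffFun_brCen hQC]
        simp only [brFun]
        split_ifs
        · exact hf _
        · exact ideal_zero hM) ξ₀)
      (fun f f' hf hf' => brCen_mul_ideal hM hQp le_rfl hQC hf hf' ξ₀)
      (by rw [brCen_one hQC, Pi.one_apply, sub_self]; exact ideal_zero hM)
    have hpair : IsBrauerPairOf p M B Q e := ⟨⟨hQp, heb⟩, hB, fun ξ hξ => by
      obtain ⟨χ, hχ⟩ := pblock_nonempty hM hB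
      rw [← brCen_eq_brauerOmega]
      have h1 := (CenInt.brCen (P := Q) hM hQC (cenInt_blockInd hM hB)).congr_block hM
        (pblock_sameBlock hM heb hξ hξ₀)
      have h2 := hBc _ (cenInt_blockInd hM hB) χ hχ
      rw [blockInd_of_mem hχ] at h2
      simpa using ideal_add hM h1 h2⟩
    have hdef : blockDefect p e = (Nat.card Z).factorization p :=
      blockDefect_of_central hM heb Z hZc hZp hθ (fun z hz => hθker z hz) (by rw [hZcard]; exact hθdeg)
    refine ⟨B, hpair, fun R g _ hle => ?_⟩
    suffices h : ∀ b : BrauerPairIdx G,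
        Relation.ReflTransGen (NormalSubpairRel p M) ⟨Q, e⟩ b → b = ⟨Q, e⟩ from
      congrArg Sigma.fst (h ⟨R, g⟩ hle)
    intro b hb
    induction hb with
    | refl => rfl
    | tail _ hstep ih =>
      subst ih
      rename_i bb hbb
      obtain ⟨R, f⟩ := bb
      obtain ⟨-, ⟨hRp, hf⟩, hQR, hRN, hRs, hom⟩ := hstep
      change Q ≤ R at hQR
      obtain ⟨ξ, hξ⟩ := pblock_nonempty hM hf
      have hom' : ∀ η ∈ f, MemLocalIdeal M (truncCen hQR (blockInd e) η - 1) := fun η hη => by
        rw [← brauerOmega_truncCen_blockInd hQR]; exact hom η hη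
      obtain ⟨k, hku⟩ : ∃ k : Subgroup.centralizer (R : Set G),
          ¬ MemLocalIdeal M (truncFun hQR (blockInd e) k) := by
        by_contra h
        push Not at h
        refine ideal_one hM ((ideal_congr hM (hom' ξ hξ)).1 ?_)
        exact ideal_of_coeffFun_ideal hM (fun k => by rw [coeffFun_truncCen]; exact h k) ξ
      have hRQC : R ≤ Q ⊔ (Subgroup.centralizer (Q : Set G)) := fun x hx => hstab x (hRN hx) (hRs x hx) (by
        obtain ⟨i, hi⟩ := IsPGroup.iff_orderOf.1 hRp ⟨x, hx⟩
        exact ⟨i, by rwa [Subgroup.orderOf_mk] at hi⟩)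
      have hRC : R ⊓ (Subgroup.centralizer (Q : Set G)) ≤ Q := by
        intro x hx
        set U : Subgroup (Subgroup.centralizer (Q : Set G)) := (R ⊓ (Subgroup.centralizer (Q : Set G))).subgroupOf (Subgroup.centralizer (Q : Set G))
        have hUp : IsPGroup p U :=
          (hRp.to_le inf_le_left).of_equiv (Subgroup.subgroupOfEquivOfLe inf_le_right).symm
        have hkC : (k : G) ∈ (Subgroup.centralizer (Q : Set G)) := Subgroup.centralizer_le (SetLike.coe_subset_coe.2 hQR) k.2
        obtain ⟨D, hD⟩ := exists_isDefectGroup hM heb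
        have hkcoef : ¬ MemLocalIdeal M (blockCoeff e ⟨(k : G), hkC⟩) := by
          rw [blockCoeff_eq]; exact hku
        obtain ⟨t, ht⟩ := (not_brZero_iff hM heb hD hUp).1 (not_brZero_of_unit hkcoef
          (Subgroup.mem_centralizer_iff.2 fun w hw =>
            Subtype.ext (Subgroup.mem_centralizer_iff.1 k.2 _ hw.1)))
        have hDZ : Z = D := by
          refine Subgroup.eq_of_le_of_card_ge (normal_le_defectGroup hM heb hD hZp) ?_
          obtain ⟨n, hn⟩ := IsPGroup.iff_card.1 hZp
          rw [card_defectGroup hM heb hD, hdef, hn, Nat.Prime.factorization_pow hp,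
            Finsupp.single_eq_same]
        have h1 : t * ⟨x, hx.2⟩ * t⁻¹ ∈ Z :=
          hDZ ▸ (map_conj_le_iff.1 ht ⟨x, hx.2⟩ (Subgroup.mem_subgroupOf.2 hx))
        have h2 := hZn.conj_mem _ h1 t⁻¹
        rw [inv_inv, show t⁻¹ * (t * ⟨x, hx.2⟩ * t⁻¹) * t = ⟨x, hx.2⟩ by group] at h2
        exact h2
      have hReq : R = Q := by
        refine le_antisymm (fun x hx => ?_) hQR
        obtain ⟨w, hw, hwc⟩ : ∃ w ∈ Q, w⁻¹ * x ∈ (Subgroup.centralizer (Q : Set G)) := by
          obtain ⟨q, hq, c, hc, hqc⟩ : ∃ q ∈ Q, ∃ c ∈ (Subgroup.centralizer (Q : Set G)), q * c = x := by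
            have h := hRQC hx
            rw [← SetLike.mem_coe, Subgroup.coe_mul_of_right_le_normalizer_left Q (Subgroup.centralizer (Q : Set G)) hQC] at h
            exact Set.mem_mul.1 h
          exact ⟨q, hq, by rw [← hqc, inv_mul_cancel_left]; exact hc⟩
        have h3 := hRC ⟨R.mul_mem (R.inv_mem (hQR hw)) hx, hwc⟩
        have := Q.mul_mem hw h3
        rwa [mul_inv_cancel_left] at this
      subst hReq
      congr 1
      -- the block is unchanged
      have hξe : ξ ∈ e := by
        by_contra h
        have h1 := hom' ξ hξ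
        have h2 : truncCen hQR (blockInd e) ξ = 0 := by
          cases nonempty_fintype (Subgroup.centralizer (R : Set G))
          rw [truncCen_eq, show truncFun hQR (blockInd e) = coeffFun (blockInd e) from rfl,
            omegaFun_coeffFun, blockInd_of_notMem h]
        rw [h2, zero_sub] at h1
        exact ideal_one hM (by simpa using ideal_neg h1)
      show f = e
      exact (pblock_eq_blockOf hM hf hξ).trans (pblock_eq_blockOf hM heb hξe).symm

end Cfsg.Agent.Block
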