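import Cfsg.Agent.Lib.Block.SecondMain
import Cfsg.Agent.Lib.Block.FirstMain
import Cfsg.Agent.Lib.Char.Clifford

/-!
Blocks with defect group `P` of a group `P C(P)`: the canonical character, and the bijection with
the irreducible characters of `P`.
-/

open scoped ComplexConjugate

namespace Cfsg.Agent.Block

set_option linter.unusedSectionVars false
set_option linter.style.haveILetI false

universe u

variable {G : Type u} [Group G] [Finite G] {p : ℕ} {M : Ideal AlgInt}

theorem exists_mul_of_sup_centralizer {P : Subgroup G} [P.Normal]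
    (hG : P ⊔ Subgroup.centralizer (P : Set G) = ⊤) (g : G) :
    ∃ u ∈ P, ∃ c ∈ Subgroup.centralizer (P : Set G), u * c = g :=
  Subgroup.mem_sup_of_normal_left.1 (hG ▸ Subgroup.mem_top g)

/-- In `P C(P)` every `p`-regular element centralises `P`. -/
theorem regular_mem_centralizer [Fact p.Prime] {P : Subgroup G} [P.Normal] (hP : IsPGroup p P)
    (hG : P ⊔ Subgroup.centralizer (P : Set G) = ⊤) {v : G} (hv : ¬ p ∣ orderOf v) :
    v ∈ Subgroup.centralizer (P : Set G) := by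
  obtain ⟨u, hu, c, hc, rfl⟩ := exists_mul_of_sup_centralizer hG v
  obtain ⟨k, hk⟩ := hP ⟨u, hu⟩
  have huk : u ^ p ^ k = 1 := congrArg Subtype.val hk
  have hmk : (QuotientGroup.mk (u * c) : G ⧸ Subgroup.centralizer (P : Set G)) =
      QuotientGroup.mk u := by
    rw [QuotientGroup.eq]
    simpa [mul_assoc] using hc
  rw [← QuotientGroup.eq_one_iff, ← orderOf_eq_one_iff]
  refine Nat.eq_one_of_dvd_coprimes (a := orderOf (u * c)) (b := p ^ k) ?_
    (orderOf_map_dvd (QuotientGroup.mk' _) _) ?_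
  · exact Nat.Coprime.pow_right _ ((Fact.out : p.Prime).coprime_iff_not_dvd.2 hv).symm
  · rw [hmk]
    exact orderOf_dvd_of_pow_eq_one (by rw [← QuotientGroup.mk_pow, huk, QuotientGroup.mk_one])

/-- A character of `P C(P)` is multiplicative across `P` and `C(P)`. -/
theorem char_mul_centralizer {P : Subgroup G} [P.Normal]
    (hG : P ⊔ Subgroup.centralizer (P : Set G) = ⊤) (χ : IrrCharacter G) {u v : G} (hu : u ∈ P)
    (hv : v ∈ Subgroup.centralizer (P : Set G)) :
    (χ : G → ℂ) (u * v) * (χ : G → ℂ) 1 = (χ : G → ℂ) u * (χ : G → ℂ) v := by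
  classical
  cases nonempty_fintype G
  have hconst : ∀ g : G, (χ : G → ℂ) (u * (g * v * g⁻¹)) = (χ : G → ℂ) (u * v) := by
    intro g
    obtain ⟨w, hw, c, hc, rfl⟩ := exists_mul_of_sup_centralizer hG g
    have hcu : c * u = u * c := (Subgroup.mem_centralizer_iff.1 hc u hu).symm
    have hwv : c * v * c⁻¹ ∈ Subgroup.centralizer (P : Set G) :=
      Subgroup.mul_mem _ (Subgroup.mul_mem _ hc hv) (Subgroup.inv_mem _ hc)
    have hww : w * (c * v * c⁻¹) * w⁻¹ = c * v * c⁻¹ := by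
      rw [Subgroup.mem_centralizer_iff.1 hwv w hw, mul_inv_cancel_right]
    have h : u * (w * c * v * (w * c)⁻¹) = c * (u * v) * c⁻¹ := by
      calc u * (w * c * v * (w * c)⁻¹) = u * (w * (c * v * c⁻¹) * w⁻¹) := by group
        _ = u * c * v * c⁻¹ := by rw [hww]; group
        _ = c * (u * v) * c⁻¹ := by rw [← hcu]; group
    rw [h, irr_classFun χ (u * v) c]
  have h := sum_mul_conj χ u v
  rw [Finset.sum_congr rfl fun g _ => hconst g, Finset.sum_const, Finset.card_univ, nsmul_eq_mul,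
    ← Nat.card_eq_fintype_card, eq_div_iff (irr_one_ne_zero χ)] at h
  exact mul_left_cancel₀ (Nat.cast_ne_zero.2 Nat.card_pos.ne') (by linear_combination h)

/-- The restriction to `P` of an irreducible character of `P C(P)` is a multiple of an
irreducible character. -/
theorem exists_res_eq_smul {P : Subgroup G} [P.Normal]
    (hG : P ⊔ Subgroup.centralizer (P : Set G) = ⊤) (χ : IrrCharacter G) :
    ∃ ψ : IrrCharacter P, ∀ x : P,
      (χ : G → ℂ) x = (χ : G → ℂ) 1 / (ψ : P → ℂ) 1 * (ψ : P → ℂ) x := by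
  classical
  cases nonempty_fintype G
  cases nonempty_fintype P
  obtain ⟨ψ, hψ⟩ := Cfsg.Agent.Char.IsChar.exists_constituent'
    (Cfsg.Agent.Char.IsChar.res (irr_isChar χ) P) (by simpa using irr_one_ne_zero χ)
  have horb : Cfsg.Agent.Char.conjOrbit P (ψ : P → ℂ) = {(ψ : P → ℂ)} := by
    ext φ
    rw [Cfsg.Agent.Char.mem_conjOrbit, Finset.mem_singleton]
    refine ⟨?_, fun h => ⟨1, h ▸ Cfsg.Agent.Char.conjN_one P _⟩⟩
    rintro ⟨g, rfl⟩
    obtain ⟨w, hw, c, hc, rfl⟩ := exists_mul_of_sup_centralizer hG g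
    rw [Cfsg.Agent.Char.conjN_mul, Cfsg.Agent.Char.conjN_mem P (irr_classFun ψ) hw]
    funext n
    rw [Cfsg.Agent.Char.conjN_apply]
    refine congrArg (ψ : P → ℂ) (Subtype.ext ?_)
    show c * (n : G) * c⁻¹ = n
    rw [← Subgroup.mem_centralizer_iff.1 hc n n.2, mul_inv_cancel_right]
  have h := Cfsg.Agent.Char.clifford P χ.2 ψ.2 hψ
  rw [horb, Finset.sum_singleton] at h
  refine ⟨ψ, fun x => ?_⟩
  have hx := congrFun h x
  have h1 := congrFun h 1
  simp only [Pi.smul_apply, smul_eq_mul, OneMemClass.coe_one] at hx h1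
  rw [hx, h1, mul_div_cancel_right₀ _ (irr_one_ne_zero ψ)]

/-- Bessel's identity on a finite set of points for an orthogonal family of equal norm. -/
theorem bessel_identity {α ι : Type*} [DecidableEq ι] (R : Finset α) (T : Finset ι) (η : α → ℂ)
    (χ : ι → α → ℂ) (N : ℝ) (hN : N ≠ 0)
    (horth : ∀ i ∈ T, ∀ j ∈ T, ∑ v ∈ R, χ i v * conj (χ j v) = if i = j then (N : ℂ) else 0) :
    (N : ℂ) * ∑ v ∈ R,
        (η v - ∑ i ∈ T, (∑ w ∈ R, η w * conj (χ i w)) / N * χ i v) *
          conj (η v - ∑ i ∈ T, (∑ w ∈ R, η w * conj (χ i w)) / N * χ i v) =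
      (N : ℂ) * ∑ v ∈ R, η v * conj (η v) -
        ∑ i ∈ T, (∑ w ∈ R, η w * conj (χ i w)) * conj (∑ w ∈ R, η w * conj (χ i w)) := by
  set s : ι → ℂ := fun i => ∑ w ∈ R, η w * conj (χ i w) with hs
  set d : α → ℂ := fun v => η v - ∑ i ∈ T, s i / N * χ i v with hd
  have hNC : (N : ℂ) ≠ 0 := Complex.ofReal_ne_zero.2 hN
  have hperp : ∀ j ∈ T, ∑ v ∈ R, d v * conj (χ j v) = 0 := by
    intro j hj
    simp only [hd, sub_mul, Finset.sum_sub_distrib, Finset.sum_mul]
    rw [Finset.sum_comm, Finset.sum_congr rfl (g := fun i => if i = j then s i else 0),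
      Finset.sum_ite_eq' T j s, if_pos hj, sub_self]
    intro i hi
    simp only [mul_assoc]
    rw [← Finset.mul_sum, horth i hi j hj]
    split_ifs
    · exact div_mul_cancel₀ _ hNC
    · exact mul_zero _
  have hself : ∑ v ∈ R, d v * conj (d v) = ∑ v ∈ R, d v * conj (η v) := by
    simp only [show ∀ v, conj (d v) = conj (η v) - ∑ i ∈ T, conj (s i / N) * conj (χ i v) from
      fun v => by simp [hd], mul_sub, Finset.sum_sub_distrib, Finset.mul_sum]
    rw [sub_eq_self, Finset.sum_comm]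
    refine Finset.sum_eq_zero fun i hi => ?_
    rw [Finset.sum_congr rfl (g := fun v => conj (s i / N) * (d v * conj (χ i v)))
      fun v _ => by ring, ← Finset.mul_sum, hperp i hi, mul_zero]
  show (N : ℂ) * ∑ v ∈ R, d v * conj (d v) = _
  rw [hself]
  simp only [hd, sub_mul, Finset.sum_sub_distrib, mul_sub, Finset.sum_mul]
  congr 1
  rw [Finset.sum_comm, Finset.mul_sum]
  refine Finset.sum_congr rfl fun i _ => ?_
  have hc : conj (s i) = ∑ v ∈ R, χ i v * conj (η v) := by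
    simp only [hs, map_sum, map_mul, Complex.conj_conj]
    exact Finset.sum_congr rfl fun v _ => mul_comm _ _
  rw [← Finset.sum_mul, show (∑ w ∈ R, η w * conj (χ i w)) = s i from rfl,
    show s i * conj (s i) = ∑ v ∈ R, s i * (χ i v * conj (η v)) by rw [← Finset.mul_sum, hc],
    Finset.mul_sum]
  refine Finset.sum_congr rfl fun v _ => ?_
  field_simp

variable [Fact p.Prime]

set_option maxHeartbeats 2000000 in
/-- The structure of a block with defect group `P` in `P C(P)`, with the degrees and the values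
at regular elements. -/
theorem sup_centralizer_block_data (hM : IsPModular p M) {P : Subgroup G}
    (hG : P ⊔ Subgroup.centralizer (P : Set G) = ⊤) {B : Set (IrrCharacter G)}
    (hB : IsPBlock M B) (hD : IsDefectGroup p M B P) :
    (∃! θ : IrrCharacter G, θ ∈ B ∧ ∀ x ∈ P, (θ : G → ℂ) x = (θ : G → ℂ) 1) ∧
    (∀ θ ∈ B, (∀ x ∈ P, (θ : G → ℂ) x = (θ : G → ℂ) 1) →
      (charDegree (θ : G → ℂ)).factorization p = P.index.factorization p) ∧
    Nat.card B = Nat.card (ConjClasses P) ∧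
    (∀ φ : IrrCharacter P, ∃ η ∈ B, ∃ θ ∈ B,
      (∀ x ∈ P, (θ : G → ℂ) x = (θ : G → ℂ) 1) ∧
      (∀ x : P, (η : G → ℂ) x = (η : G → ℂ) 1 / (φ : P → ℂ) 1 * (φ : P → ℂ) x) ∧
      (η : G → ℂ) 1 = (θ : G → ℂ) 1 * (φ : P → ℂ) 1) ∧
    ∀ η ∈ B, ∀ θ ∈ B, (∀ x ∈ P, (θ : G → ℂ) x = (θ : G → ℂ) 1) → ∀ v : G, ¬ p ∣ orderOf v →
      (η : G → ℂ) v = (η : G → ℂ) 1 / (θ : G → ℂ) 1 * (θ : G → ℂ) v := by
  classical
  cases nonempty_fintype G
  cases nonempty_fintype P
  have hp : p.Prime := Fact.out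
  have hPp : IsPGroup p P := IsDefectGroup.isPGroup hD
  haveI : P.Normal := Subgroup.normalizer_eq_top_iff.1
    (top_le_iff.1 (hG ▸ sup_le Subgroup.le_normalizer (Subgroup.centralizer_le_normalizer _)))
  have hcardP : Nat.card P = p ^ blockDefect p B := card_defectGroup hM hB hD
  have hdeg : ∀ θ ∈ B, (∀ x ∈ P, (θ : G → ℂ) x = (θ : G → ℂ) 1) →
      (charDegree (θ : G → ℂ)).factorization p = P.index.factorization p := by
    intro θ hθ hker
    have hGf : (Nat.card G).factorization p = blockDefect p B + P.index.factorization p := by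
      rw [← P.card_mul_index, Nat.factorization_mul Nat.card_pos.ne' Subgroup.index_ne_zero_of_finite,
        Finsupp.add_apply, hcardP, Nat.Prime.factorization_pow hp, Finsupp.single_eq_same]
    obtain ⟨ϕ, hϕ, hϕθ⟩ := Cfsg.Agent.Char.IsIrr.exists_factor_quotient θ.2 P hker
    have hd : charDegree (θ : G → ℂ) ∣ P.index := by
      have h2 : ((charDegree (θ : G → ℂ) : ℕ) : ℂ) =
          ((charDegree ((⟨ϕ, hϕ⟩ : IrrCharacter (G ⧸ P)) : G ⧸ P → ℂ) : ℕ) : ℂ) := by
        rw [← charDeg_spec' θ, ← charDeg_spec' (⟨ϕ, hϕ⟩ : IrrCharacter (G ⧸ P))]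
        exact (hϕθ 1).symm
      rw [Nat.cast_inj.1 h2, Subgroup.index_eq_card]
      exact charDeg_dvd _
    have h1 := (Nat.factorization_le_iff_dvd (charDeg_pos θ).ne'
      Subgroup.index_ne_zero_of_finite).2 hd p
    have h2 := le_defect_add hM hB hθ
    omega
  set R := Finset.univ.filter (fun v : G => ¬ p ∣ orderOf v) with hR
  have hRC : ∀ v ∈ R, v ∈ Subgroup.centralizer (P : Set G) := fun v hv =>
    regular_mem_centralizer hPp hG (Finset.mem_filter.1 hv).2
  -- the inner product splits over the sections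
  have hvan : ∀ χ ∈ B, ∀ g z : G, IsPPart p g z → z ∉ P → (χ : G → ℂ) g = 0 := by
    intro χ hχ g z hz hzP
    refine value_eq_zero_of_pPart_notMem hM χ hz fun E hE hzE => hzP ?_
    rw [← pblock_eq_blockOf hM hB hχ] at hE
    obtain ⟨t, ht⟩ := defectGroup_conj hM hB hD hE
    rw [← ht, Subgroup.mem_map] at hzE
    obtain ⟨w, hw, rfl⟩ := hzE
    exact Subgroup.Normal.conj_mem inferInstance w hw t
  have hsplit : ∀ χ ∈ B, ∀ η : IrrCharacter G,
      (Nat.card G : ℂ) * classInner (χ : G → ℂ) (η : G → ℂ) =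
        (∑ u : P, (χ : G → ℂ) u * conj ((η : G → ℂ) u)) /
          ((χ : G → ℂ) 1 * conj ((η : G → ℂ) 1)) *
            ∑ v ∈ R, (χ : G → ℂ) v * conj ((η : G → ℂ) v) := by
    intro χ hχ η
    have hpair : ∀ (u : P) (v : G), v ∈ R → IsPPart p ((u : G) * v) (u : G) := fun u v hv =>
      ⟨v, rfl, Subgroup.mem_centralizer_iff.1 (hRC v hv) u u.2, by
        obtain ⟨k, hk⟩ := hPp u
        obtain ⟨i, -, hi⟩ := (Nat.dvd_prime_pow hp).1 (orderOf_dvd_of_pow_eq_one hk)
        exact ⟨i, by rw [Subgroup.orderOf_coe, hi]⟩, (Finset.mem_filter.1 hv).2⟩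
    have hsum : ∑ g : G, (χ : G → ℂ) g * conj ((η : G → ℂ) g) =
        ∑ uv ∈ (Finset.univ : Finset P) ×ˢ R,
          (χ : G → ℂ) ((uv.1 : G) * uv.2) * conj ((η : G → ℂ) ((uv.1 : G) * uv.2)) := by
      rw [← Finset.sum_image (g := fun uv : P × G => (uv.1 : G) * uv.2)
        (f := fun g => (χ : G → ℂ) g * conj ((η : G → ℂ) g))]
      · refine (Finset.sum_subset (Finset.subset_univ _) fun g _ hg => ?_).symm
        obtain ⟨u', v', huv, hc', hk', hv', -, -⟩ := exists_pPart_zpowers (p := p) g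
        rw [hvan χ hχ g u' ⟨v', huv, hc', hk', hv'⟩ (fun hu => hg (Finset.mem_image.2
          ⟨(⟨u', hu⟩, v'), by simp [hR, hv'], huv⟩)), zero_mul]
      · intro a ha b hb hab
        simp only [Finset.coe_product, Set.mem_prod, Finset.mem_coe] at ha hb
        simp only at hab
        have h1 : a.1 = b.1 :=
          Subtype.ext (pPart_unique (hpair a.1 a.2 ha.2) (hab ▸ hpair b.1 b.2 hb.2))
        rw [h1] at hab
        exact Prod.ext h1 (mul_left_cancel hab)
    rw [classInner, ← mul_assoc, mul_inv_cancel₀ (Nat.cast_ne_zero.2 Nat.card_pos.ne'), one_mul,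
      hsum, Finset.sum_product, div_mul_eq_mul_div, Finset.sum_mul_sum, Finset.sum_div]
    refine Finset.sum_congr rfl fun u _ => ?_
    rw [Finset.sum_div]
    refine Finset.sum_congr rfl fun v hv => ?_
    have e1 := char_mul_centralizer hG χ u.2 (hRC v hv)
    have e2 := congrArg conj (char_mul_centralizer hG η u.2 (hRC v hv))
    simp only [map_mul] at e2
    rw [eq_div_iff (mul_ne_zero (irr_one_ne_zero χ)
      ((map_ne_zero (starRingEnd ℂ)).2 (irr_one_ne_zero η)))]
    linear_combination (conj ((η : G → ℂ) ((u : G) * v)) * conj ((η : G → ℂ) 1)) * e1 +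
      ((χ : G → ℂ) u * (χ : G → ℂ) v) * e2
  choose ψ hψ using exists_res_eq_smul hG (G := G)
  let N : IrrCharacter P → ℝ := fun φ =>
    (Nat.card G : ℝ) / (Nat.card P : ℝ) * ((charDegree (φ : P → ℂ) : ℕ) : ℝ) ^ 2
  have hN : ∀ φ, N φ ≠ 0 := fun φ => mul_ne_zero
    (div_ne_zero (Nat.cast_ne_zero.2 Nat.card_pos.ne') (Nat.cast_ne_zero.2 Nat.card_pos.ne'))
    (pow_ne_zero _ (Nat.cast_ne_zero.2 (charDeg_pos φ).ne'))
  have horth : ∀ χ ∈ B, ∀ η ∈ B, ψ χ = ψ η →
      ∑ v ∈ R, (χ : G → ℂ) v * conj ((η : G → ℂ) v) =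
        if χ = η then (N (ψ χ) : ℂ) else 0 := by
    intro χ hχ η hη hsame
    have h := hsplit χ hχ η
    have hu : ∑ u : P, (χ : G → ℂ) u * conj ((η : G → ℂ) u) =
        (χ : G → ℂ) 1 * conj ((η : G → ℂ) 1) / (ψ χ : P → ℂ) 1 ^ 2 * (Nat.card P : ℂ) := by
      have hn := Cfsg.Agent.Char.classInner_self_irr (ψ χ).2
      rw [classInner, inv_mul_eq_iff_eq_mul₀ (Nat.cast_ne_zero.2 Nat.card_pos.ne'), mul_one] at hn
      rw [← hn, Finset.mul_sum]
      refine Finset.sum_congr rfl fun u _ => ?_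
      rw [hψ χ u, hψ η u, ← hsame, charDeg_spec' (ψ χ), map_mul, map_div₀, Complex.conj_natCast]
      ring
    rw [hu, Cfsg.Agent.Char.classInner_irr_eq_ite χ.2 η.2] at h
    have hd : (ψ χ : P → ℂ) 1 ≠ 0 := irr_one_ne_zero _
    have hPc : (Nat.card P : ℂ) ≠ 0 := Nat.cast_ne_zero.2 Nat.card_pos.ne'
    have hcoef : (χ : G → ℂ) 1 * conj ((η : G → ℂ) 1) / (ψ χ : P → ℂ) 1 ^ 2 * (Nat.card P : ℂ) /
        ((χ : G → ℂ) 1 * conj ((η : G → ℂ) 1)) = (Nat.card P : ℂ) / (ψ χ : P → ℂ) 1 ^ 2 := by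
      have := irr_one_ne_zero χ
      have := (map_ne_zero (starRingEnd ℂ)).2 (irr_one_ne_zero η)
      field_simp
    rw [hcoef, div_mul_eq_mul_div, eq_div_iff (pow_ne_zero 2 hd)] at h
    refine mul_left_cancel₀ hPc ?_
    rw [← h]
    by_cases he : χ = η
    · subst he
      simp only [if_true, N, charDeg_spec' (ψ χ)]
      push_cast
      field_simp
    · rw [if_neg he, if_neg fun hh => he (Subtype.ext hh)]
      ring
  set Bs := Finset.univ.filter (fun χ : IrrCharacter G => χ ∈ B) with hBs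
  have hkey : ∀ η ∈ B, ∀ φ : IrrCharacter P, ∀ v ∈ R,
      (η : G → ℂ) v = ∑ χ ∈ Bs.filter (fun χ => ψ χ = φ),
        (∑ w ∈ R, (η : G → ℂ) w * conj ((χ : G → ℂ) w)) / N φ * (χ : G → ℂ) v := by
    intro η hη
    set s : IrrCharacter G → ℂ := fun χ => ∑ w ∈ R, (η : G → ℂ) w * conj ((χ : G → ℂ) w) with hs
    set S : ℂ := ∑ w ∈ R, (η : G → ℂ) w * conj ((η : G → ℂ) w) with hS
    set d : IrrCharacter P → G → ℂ := fun φ v => (η : G → ℂ) v -
      ∑ χ ∈ Bs.filter (fun χ => ψ χ = φ), s χ / N φ * (χ : G → ℂ) v with hd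
    have hbes : ∀ φ, (N φ : ℂ) * ∑ v ∈ R, d φ v * conj (d φ v) =
        (N φ : ℂ) * S - ∑ χ ∈ Bs.filter (fun χ => ψ χ = φ), s χ * conj (s χ) := by
      intro φ
      have hb := bessel_identity R (Bs.filter (fun χ => ψ χ = φ)) (η : G → ℂ)
        (fun (χ : IrrCharacter G) v => (χ : G → ℂ) v) (N φ) (hN φ) (by
          intro i hi j hj
          have hiB := (Finset.mem_filter.1 (Finset.mem_filter.1 hi).1).2
          have hjB := (Finset.mem_filter.1 (Finset.mem_filter.1 hj).1).2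
          have hiφ := (Finset.mem_filter.1 hi).2
          have hjφ := (Finset.mem_filter.1 hj).2
          show ∑ v ∈ R, (i : G → ℂ) v * conj ((j : G → ℂ) v) = _
          rw [horth i hiB j hjB (hiφ.trans hjφ.symm), hiφ])
      simp only [d, s, S]
      exact hb
    have hNsum : ∑ φ : IrrCharacter P, (N φ : ℂ) = (Nat.card G : ℂ) := by
      have h := Cfsg.Agent.Char.sum_degree_sq (G := P)
      rw [Finset.sum_congr rfl fun φ _ => by rw [charDeg_spec' φ]] at h
      simp only [N, Complex.ofReal_mul, Complex.ofReal_pow, Complex.ofReal_natCast,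
        Complex.ofReal_div, ← Finset.mul_sum, h]
      exact div_mul_cancel₀ _ (Nat.cast_ne_zero.2 Nat.card_pos.ne')
    have htot : ∑ χ ∈ Bs, s χ * conj (s χ) = (Nat.card G : ℂ) * S := by
      have h := sum_sq_regSum (p := p) Bs (fun x y hx hy => by
        have h := weak_orth hM hB hx hy
        rwa [finsum_mem_block] at h) (χ := η) (by simp [hBs, hη])
      simpa only [regSum_eq_sum] using h
    have hzero : ∑ φ : IrrCharacter P, N φ * ∑ v ∈ R, Complex.normSq (d φ v) = 0 := by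
      apply Complex.ofReal_injective
      simp only [Complex.ofReal_sum, Complex.ofReal_mul, ← Complex.mul_conj, Complex.ofReal_zero]
      rw [Finset.sum_congr rfl fun φ _ => hbes φ, Finset.sum_sub_distrib, ← Finset.sum_mul, hNsum,
        Finset.sum_fiberwise, htot, sub_self]
    intro φ v hv
    have hnn : ∀ φ' ∈ (Finset.univ : Finset (IrrCharacter P)),
        0 ≤ N φ' * ∑ v ∈ R, Complex.normSq (d φ' v) := fun φ' _ =>
      mul_nonneg (by positivity) (Finset.sum_nonneg fun w _ => Complex.normSq_nonneg _)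
    have h := (Finset.sum_eq_zero_iff_of_nonneg hnn).1 hzero φ (Finset.mem_univ _)
    rcases mul_eq_zero.1 h with h | h
    · exact absurd h (hN φ)
    · exact sub_eq_zero.1 (Complex.normSq_eq_zero.1
        ((Finset.sum_eq_zero_iff_of_nonneg fun w _ => Complex.normSq_nonneg _).1 h v hv))
  obtain ⟨θ, hθ, hθker⟩ := exists_member_ker hM hB P hPp
  have hker_iff : ∀ χ : IrrCharacter G,
      (∀ x ∈ P, (χ : G → ℂ) x = (χ : G → ℂ) 1) ↔ ψ χ = trivialIrr P := by
    intro χ
    constructor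
    · intro h
      refine Subtype.ext (Cfsg.Agent.Char.irr_const_eq_one (ψ χ).2 fun x => ?_)
      have hx := hψ χ x
      rw [h x x.2, div_mul_eq_mul_div, eq_div_iff (irr_one_ne_zero (ψ χ))] at hx
      exact (mul_left_cancel₀ (irr_one_ne_zero χ) hx).symm
    · intro h x hx
      rw [hψ χ ⟨x, hx⟩, h]
      simp [trivialIrr]
  -- uniqueness of the canonical character
  have huniq : ∀ θ' ∈ B, (∀ x ∈ P, (θ' : G → ℂ) x = (θ' : G → ℂ) 1) → θ' = θ := by
    intro θ' hθ' hker'
    by_contra hne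
    have h := horth θ' hθ' θ hθ (by rw [(hker_iff θ').1 hker', (hker_iff θ).1 hθker])
    rw [if_neg hne, ← regSum_eq_sum] at h
    have hGf : (Nat.card G).factorization p = blockDefect p B + P.index.factorization p := by
      rw [← P.card_mul_index, Nat.factorization_mul Nat.card_pos.ne' Subgroup.index_ne_zero_of_finite,
        Finsupp.add_apply, hcardP, Nat.Prime.factorization_pow hp, Finsupp.single_eq_same]
    have h0 : blockHeight p B (θ : G → ℂ) = 0 := by
      rw [blockHeight_zero_iff hM hB hθ, hdeg θ hθ hθker, hGf]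
    exact regPair_unit hM hB hθ hθ' h0 (by rw [regPair, h, zero_div]; exact ideal_zero hM)
  have hTriv : Bs.filter (fun χ => ψ χ = trivialIrr P) = {θ} := by
    ext χ
    simp only [Finset.mem_filter, hBs, Finset.mem_univ, true_and, Finset.mem_singleton]
    exact ⟨fun ⟨h, h'⟩ => huniq χ h ((hker_iff χ).2 h'), fun h => h ▸ ⟨hθ, (hker_iff θ).1 hθker⟩⟩
  have h1R : (1 : G) ∈ R := by simp [hR, hp.not_dvd_one]
  have hprop : ∀ η ∈ B, ∀ v ∈ R,
      (η : G → ℂ) v = (η : G → ℂ) 1 / (θ : G → ℂ) 1 * (θ : G → ℂ) v := by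
    intro η hη v hv
    have h := hkey η hη (trivialIrr P) v hv
    have h1 := hkey η hη (trivialIrr P) 1 h1R
    rw [hTriv, Finset.sum_singleton] at h h1
    rw [h, h1, mul_div_cancel_right₀ _ (irr_one_ne_zero θ)]
  have hsurj : ∀ φ : IrrCharacter P, ∃ η ∈ B, ψ η = φ := by
    intro φ
    by_contra hno
    push Not at hno
    have h := hkey θ hθ φ 1 h1R
    rw [Finset.sum_eq_zero] at h
    · exact irr_one_ne_zero θ h
    · intro χ hχ
      rw [Finset.mem_filter] at hχ
      exact absurd hχ.2 (hno χ (Finset.mem_filter.1 hχ.1).2)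
  refine ⟨⟨θ, ⟨hθ, hθker⟩, fun θ' h => huniq θ' h.1 h.2⟩, hdeg, ?_, fun φ => ?_,
    fun η hη θ' hθ' hk v hv => huniq θ' hθ' hk ▸ hprop η hη v (by simp [hR, hv])⟩
  swap
  · obtain ⟨η, hη, rfl⟩ := hsurj φ
    refine ⟨η, hη, θ, hθ, hθker, hψ η, ?_⟩
    have h1 := horth η hη η hη rfl
    rw [if_pos rfl] at h1
    have h2 := horth θ hθ θ hθ rfl
    rw [if_pos rfl, (hker_iff θ).1 hθker] at h2
    rw [Finset.sum_congr rfl (g := fun v => (η : G → ℂ) 1 / (θ : G → ℂ) 1 *
      conj ((η : G → ℂ) 1 / (θ : G → ℂ) 1) * ((θ : G → ℂ) v * conj ((θ : G → ℂ) v)))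
      fun v hv => by rw [hprop η hη v hv, map_mul]; ring, ← Finset.mul_sum, h2] at h1
    have htriv : charDegree ((trivialIrr P : IrrCharacter P) : P → ℂ) = 1 := charDeg_trivial
    simp only [N, charDeg_spec' η, charDeg_spec' θ, htriv, map_div₀, Complex.conj_natCast] at h1
    push_cast at h1
    have hG : (Nat.card G : ℂ) ≠ 0 := Nat.cast_ne_zero.2 Nat.card_pos.ne'
    have hPc : (Nat.card P : ℂ) ≠ 0 := Nat.cast_ne_zero.2 Nat.card_pos.ne'
    have ht0 : ((charDegree (θ : G → ℂ) : ℕ) : ℂ) ≠ 0 := Nat.cast_ne_zero.2 (charDeg_pos θ).ne'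
    field_simp at h1
    have hn : charDegree (η : G → ℂ) =
        charDegree (θ : G → ℂ) * charDegree ((ψ η : IrrCharacter P) : P → ℂ) := by
      refine Nat.pow_left_injective two_ne_zero ?_
      refine Nat.cast_injective (R := ℂ) ?_
      push_cast
      linear_combination h1
    rw [charDeg_spec' η, charDeg_spec' θ, charDeg_spec' (ψ η), hn]
    push_cast
    ring
  rw [← Cfsg.Agent.Char.card_irrCharacter]
  refine Nat.card_congr (Equiv.ofBijective (fun χ : B => ψ χ.1) ⟨fun χ η h => ?_, fun φ => ?_⟩)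
  · by_contra hne
    have h' := horth χ.1 χ.2 η.1 η.2 h
    rw [if_neg fun e => hne (Subtype.ext e)] at h'
    have h'' := horth θ hθ θ hθ rfl
    rw [if_pos rfl] at h''
    rw [Finset.sum_congr rfl (g := fun v => (χ.1 : G → ℂ) 1 / (θ : G → ℂ) 1 *
      conj ((η.1 : G → ℂ) 1 / (θ : G → ℂ) 1) * ((θ : G → ℂ) v * conj ((θ : G → ℂ) v)))
      fun v hv => by rw [hprop χ.1 χ.2 v hv, hprop η.1 η.2 v hv, map_mul]; ring,
      ← Finset.mul_sum, h''] at h'
    rcases mul_eq_zero.1 h' with h' | h'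
    · rcases mul_eq_zero.1 h' with h' | h'
      · exact div_ne_zero (irr_one_ne_zero χ.1) (irr_one_ne_zero θ) h'
      · exact (map_ne_zero (starRingEnd ℂ)).2
          (div_ne_zero (irr_one_ne_zero η.1) (irr_one_ne_zero θ)) h'
    · exact hN _ (Complex.ofReal_eq_zero.1 h')
  · by_contra hno
    have h := hkey θ hθ φ 1 h1R
    rw [Finset.sum_eq_zero] at h
    · exact irr_one_ne_zero θ h
    · intro χ hχ
      rw [Finset.mem_filter] at hχ
      exact absurd ⟨⟨χ, (Finset.mem_filter.1 hχ.1).2⟩, hχ.2⟩ hno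

/-- The structure of a block with defect group `P` in `P C(P)`, with the degrees. -/
theorem sup_centralizer_block_full (hM : IsPModular p M) {P : Subgroup G}
    (hG : P ⊔ Subgroup.centralizer (P : Set G) = ⊤) {B : Set (IrrCharacter G)}
    (hB : IsPBlock M B) (hD : IsDefectGroup p M B P) :
    (∃! θ : IrrCharacter G, θ ∈ B ∧ ∀ x ∈ P, (θ : G → ℂ) x = (θ : G → ℂ) 1) ∧
    (∀ θ ∈ B, (∀ x ∈ P, (θ : G → ℂ) x = (θ : G → ℂ) 1) →
      (charDegree (θ : G → ℂ)).factorization p = P.index.factorization p) ∧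
    Nat.card B = Nat.card (ConjClasses P) ∧
    ∀ φ : IrrCharacter P, ∃ η ∈ B, ∃ θ ∈ B,
      (∀ x ∈ P, (θ : G → ℂ) x = (θ : G → ℂ) 1) ∧
      (∀ x : P, (η : G → ℂ) x = (η : G → ℂ) 1 / (φ : P → ℂ) 1 * (φ : P → ℂ) x) ∧
      (η : G → ℂ) 1 = (θ : G → ℂ) 1 * (φ : P → ℂ) 1 :=
  ⟨(sup_centralizer_block_data hM hG hB hD).1, (sup_centralizer_block_data hM hG hB hD).2.1,
    (sup_centralizer_block_data hM hG hB hD).2.2.1,
    (sup_centralizer_block_data hM hG hB hD).2.2.2.1⟩

/-- The structure of a block with defect group `P` in `P C(P)`. -/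
theorem sup_centralizer_block (hM : IsPModular p M) {P : Subgroup G}
    (hG : P ⊔ Subgroup.centralizer (P : Set G) = ⊤) {B : Set (IrrCharacter G)}
    (hB : IsPBlock M B) (hD : IsDefectGroup p M B P) :
    (∃! θ : IrrCharacter G, θ ∈ B ∧ ∀ x ∈ P, (θ : G → ℂ) x = (θ : G → ℂ) 1) ∧
    (∀ θ ∈ B, (∀ x ∈ P, (θ : G → ℂ) x = (θ : G → ℂ) 1) →
      (charDegree (θ : G → ℂ)).factorization p = P.index.factorization p) ∧
    Nat.card B = Nat.card (ConjClasses P) :=
  ⟨(sup_centralizer_block_full hM hG hB hD).1, (sup_centralizer_block_full hM hG hB hD).2.1,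
    (sup_centralizer_block_full hM hG hB hD).2.2.1⟩

end Cfsg.Agent.Block
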