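import Cfsg.Agent.Lib.Block.SecondMain
import Cfsg.Agent.Lib.Block.FirstMain
import Cfsg.Agent.Lib.Char.ModP

/-!
Height zero characters on defect groups, a character vanishing on the elements of order `p`,
and column sums in the principal block.
-/

open scoped ComplexConjugate

namespace Cfsg.Agent.Block

set_option linter.unusedSectionVars false
set_option linter.style.haveILetI false

universe u

variable {G : Type u} [Group G] [Finite G] {p : ℕ} {M : Ideal AlgInt}

/-- In a nontrivial `p`-group the number of elements of order exactly `p` is prime to `p`. -/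
theorem not_dvd_card_orderOf_eq [Fact p.Prime] {D : Type u} [Group D] [Finite D]
    (hD : IsPGroup p D) [Nontrivial D] : ¬ p ∣ Nat.card {u : D // orderOf u = p} := by
  classical
  cases nonempty_fintype D
  have hp : p.Prime := Fact.out
  haveI := hD.center_nontrivial
  obtain ⟨k, hk, hcard⟩ := (hD.to_subgroup (Subgroup.center D)).nontrivial_iff_card.1 inferInstance
  obtain ⟨z, hz⟩ := exists_prime_orderOf_dvd_card' (G := Subgroup.center D) p
    (hcard ▸ dvd_pow_self p hk.ne')
  set Z := Subgroup.zpowers (z : D) with hZdef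
  have hzo : orderOf (z : D) = p := by rw [Subgroup.orderOf_coe]; exact hz
  set T := {u : D | u ^ p = 1} with hT
  have hsat : (QuotientGroup.mk ⁻¹' ((QuotientGroup.mk : D → D ⧸ Z) '' T)) = T := by
    refine Set.Subset.antisymm ?_ (Set.subset_preimage_image _ _)
    rintro u ⟨t, ht, htu⟩
    have hmem : t⁻¹ * u ∈ Z := QuotientGroup.eq.1 htu
    obtain ⟨i, hi⟩ := Subgroup.mem_zpowers_iff.1 hmem
    have hu : u = t * (z : D) ^ i := by rw [hi, mul_inv_cancel_left]
    have hc : Commute t ((z : D) ^ i) :=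
      Commute.zpow_right (Subgroup.mem_center_iff.1 z.2 t) i
    have hzp : (z : D) ^ p = 1 := by rw [← hzo]; exact pow_orderOf_eq_one _
    show u ^ p = 1
    rw [hu, hc.mul_pow, show t ^ p = 1 from ht, one_mul, ← zpow_natCast, ← zpow_mul, mul_comm,
      zpow_mul, zpow_natCast, hzp, one_zpow]
  have hcardT : Nat.card T = p * Nat.card ((QuotientGroup.mk : D → D ⧸ Z) '' T) := by
    rw [← hzo, ← Nat.card_zpowers, ← Nat.card_prod]
    exact (Nat.card_congr (Equiv.setCongr hsat.symm)).trans
      (Nat.card_congr (QuotientGroup.preimageMkEquivSubgroupProdSet Z _))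
  have hsplit : Nat.card T = Nat.card {u : D // orderOf u = p} + 1 := by
    have e : T = insert 1 {u : D | orderOf u = p} := by
      ext u
      simp only [hT, Set.mem_setOf_eq, Set.mem_insert_iff]
      constructor
      · intro h
        rcases (Nat.dvd_prime hp).1 (orderOf_dvd_of_pow_eq_one h) with h1 | h1
        · exact .inl (orderOf_eq_one_iff.1 h1)
        · exact .inr h1
      · rintro (rfl | h)
        · exact one_pow p
        · rw [← h]; exact pow_orderOf_eq_one u
    rw [Nat.card_coe_set_eq, e, Set.ncard_insert_of_notMem, ← Nat.card_coe_set_eq]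
    · rfl
    · simp only [Set.mem_setOf_eq, orderOf_one]
      exact hp.one_lt.ne
  intro h
  have : p ∣ Nat.card {u : D // orderOf u = p} + 1 := hsplit ▸ hcardT ▸ dvd_mul_right _ _
  exact hp.one_lt.not_ge (Nat.le_of_dvd one_pos ((Nat.dvd_add_right h).1 this))

/-- A character vanishing on all elements of order `p` has defect zero. -/
theorem degree_full_of_vanish [Fact p.Prime] (χ : IrrCharacter G)
    (hvan : ∀ g : G, orderOf g = p → (χ : G → ℂ) g = 0) :
    (charDegree (χ : G → ℂ)).factorization p = (Nat.card G).factorization p := by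
  classical
  cases nonempty_fintype G
  have hp : p.Prime := Fact.out
  obtain ⟨M, hM⟩ := Cfsg.Agent.Char.exists_isPModular p hp
  set B := blockOf M (χ : G → ℂ)
  have hB : IsPBlock M B := isPBlock_blockOf χ
  have hχB : χ ∈ B := mem_blockOf_self hM χ
  obtain ⟨D, hD⟩ := exists_isDefectGroup hM hB
  have hle : (charDegree (χ : G → ℂ)).factorization p ≤ (Nat.card G).factorization p :=
    (Nat.factorization_le_iff_dvd (charDeg_pos χ).ne' Nat.card_pos.ne').2 (charDeg_dvd χ) p
  rcases eq_or_ne D ⊥ with hbot | hbot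
  · have h0 : blockDefect p B = 0 := by
      have := card_defectGroup hM hB hD
      rw [hbot, Subgroup.card_bot] at this
      exact ((Nat.pow_eq_one.1 this.symm).resolve_left hp.one_lt.ne')
    have := le_defect_add hM hB hχB
    omega
  exfalso
  set N := Subgroup.normalizer (D : Set G)
  cases nonempty_fintype N
  obtain ⟨b, ⟨hb, hbD, hind⟩, -⟩ := exists_unique_inducing hM hB hD
  haveI : (D.subgroupOf N).Normal := normal_subgroupOf_normalizer D
  have hDp : IsPGroup p (D.subgroupOf N) := IsDefectGroup.isPGroup hbD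
  obtain ⟨θ, hθb, hθker⟩ := exists_member_ker hM hb (D.subgroupOf N) hDp
  set a : G → ℂ := fun g => if orderOf g = p then 1 else 0 with ha
  have hcls : IsClassFunction G a := fun g h => by
    have : orderOf (h * g * h⁻¹) = orderOf g :=
      (MulAut.conj h).orderOf_eq g
    simp only [ha, this]
  have hf : CenInt M (fun ξ : IrrCharacter G => omegaFun ξ a) := fun g => by
    rw [coeffFun_omegaFun hcls]
    simp only [ha]
    split_ifs
    · exact ring_one hM
    · exact ring_zero hM
  have hfχ : omegaFun χ a = 0 := by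
    have : ∀ g : G, a g * (χ : G → ℂ) g = 0 := fun g => by
      simp only [ha]
      split_ifs with h
      · rw [one_mul, hvan g h]
      · rw [zero_mul]
    simp [omegaFun, this]
  have hc := induced_congr hM hind hf hθb hχB
  rw [hfχ, sub_zero, resCen_eq_omegaFun] at hc
  have hval : ∀ h : N, a (h : G) * (θ : N → ℂ) h =
      (if orderOf h = p ∧ h ∈ D.subgroupOf N then (θ : N → ℂ) 1 else 0) := by
    intro h
    simp only [ha, Subgroup.orderOf_coe]
    by_cases ho : orderOf h = p
    · rw [if_pos ho, one_mul]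
      by_cases hm : h ∈ D.subgroupOf N
      · rw [if_pos ⟨ho, hm⟩, hθker h hm]
      · rw [if_neg (fun hh => hm hh.2)]
        refine value_eq_zero_of_pPart_notMem hM θ
          ⟨1, mul_one _, Commute.one_right _, ⟨1, by rw [ho, pow_one]⟩, by
            rw [orderOf_one]; exact hp.not_dvd_one⟩ fun E hE hhE => hm ?_
        rw [← pblock_eq_blockOf hM hb hθb] at hE
        obtain ⟨x, hx⟩ := defectGroup_conj hM hb hbD hE
        rw [← hx, Subgroup.mem_map] at hhE
        obtain ⟨u, hu, huh⟩ := hhE
        rw [← huh]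
        exact Subgroup.Normal.conj_mem inferInstance u hu x
    · rw [if_neg ho, zero_mul, if_neg (fun hh => ho hh.1)]
  have hom : omegaFun θ (fun h : N => coeffFun (fun ξ : IrrCharacter G => omegaFun ξ a) (h : G)) =
      (Nat.card {u : D // orderOf u = p} : ℂ) := by
    rw [coeffFun_omegaFun hcls, omegaFun, Finset.sum_congr rfl fun h _ => hval h,
      Finset.sum_ite, Finset.sum_const_zero, add_zero, Finset.sum_const, nsmul_eq_mul,
      mul_div_assoc, div_self (irr_one_ne_zero θ), mul_one]
    congr 1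
    rw [← Fintype.card_subtype, ← Nat.card_eq_fintype_card]
    refine Nat.card_congr
      { toFun := fun h => ⟨⟨(h.1 : G), h.2.2⟩, by
          rw [← Subgroup.orderOf_coe, Subgroup.orderOf_coe h.1, h.2.1]⟩
        invFun := fun u => ⟨⟨(u.1 : G), Subgroup.le_normalizer u.1.2⟩, by
          refine ⟨?_, u.1.2⟩
          rw [← Subgroup.orderOf_coe]
          simpa using u.2⟩
        left_inv := fun h => rfl
        right_inv := fun u => rfl }
  rw [hom] at hc
  haveI : Nontrivial D := Subgroup.nontrivial_iff_ne_bot D |>.2 hbot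
  exact not_dvd_card_orderOf_eq (IsDefectGroup.isPGroup hD) ((ideal_natCast_iff hM _).1 hc)

/-- A character of height zero in a block restricts to the defect group with a linear
constituent; on a central subgroup inside it this extends the scalar by which the character acts. -/
theorem exists_linear_extension [Fact p.Prime] (hM : IsPModular p M)
    {B : Set (IrrCharacter G)} (hB : IsPBlock M B) {D : Subgroup G}
    (hD : IsDefectGroup p M B D) {χ : IrrCharacter G} (hχ : χ ∈ B)
    (h0 : blockHeight p B (χ : G → ℂ) = 0) (Z : Subgroup G) (hZc : Z ≤ Subgroup.center G)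
    (hZD : Z ≤ D) (lam : Z →* ℂˣ)
    (hover : ∀ z : Z, (χ : G → ℂ) z = (χ : G → ℂ) 1 * (lam z : ℂ)) :
    ∃ μ : D →* ℂˣ, ∀ z : Z, μ ⟨(z : G), hZD z.2⟩ = lam z := by
  classical
  cases nonempty_fintype G
  have hp : p.Prime := Fact.out
  cases nonempty_fintype D
  obtain ⟨g, hg, Q, hQ⟩ := hD
  have hgD : D ≤ Subgroup.centralizer ({g} : Set G) := hQ ▸ Subgroup.map_subtype_le _
  have hDp : IsPGroup p D := hQ ▸ isPGroup_csyl Q
  have hunit : ¬ MemLocalIdeal M ((χ : G → ℂ) g) := by
    rw [blockHeight_zero_iff hM hB hχ, blockDefect_eq hM hB hg] at h0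
    exact value_notMem hM χ (hg.2.2 χ hχ) h0
  -- some constituent of the restriction to `D` is linear
  obtain ⟨a, hainner, hadec⟩ :=
    Cfsg.Agent.Char.IsChar.exists_decomp_inner (Cfsg.Agent.Char.IsChar.res (irr_isChar χ) D)
  have hlin : ∃ φ : IrrCharacter D, a φ ≠ 0 ∧ charDegree (φ : D → ℂ) = 1 := by
    by_contra hno
    push_neg at hno
    have hdiv : ∀ φ : IrrCharacter D, a φ ≠ 0 → p ∣ charDegree (φ : D → ℂ) := fun φ hφ => by
      obtain ⟨k, hk⟩ := IsPGroup.iff_card.1 hDp
      obtain ⟨i, -, hi⟩ := (Nat.dvd_prime_pow hp).1 (hk ▸ charDeg_dvd φ)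
      rcases i with _ | i
      · exact absurd (by rw [hi, pow_zero]) (hno φ hφ)
      · rw [hi]; exact dvd_pow_self p (Nat.succ_ne_zero i)
    set H : Subgroup G := Subgroup.closure ((D : Set G) ∪ {g}) with hH
    cases nonempty_fintype H
    have hDH : D ≤ H := fun u hu => Subgroup.subset_closure (.inl hu)
    have hgH : g ∈ H := Subgroup.subset_closure (.inr rfl)
    have hcen : (⟨g, hgH⟩ : H) ∈ Subgroup.center H := by
      have hle : H ≤ Subgroup.centralizer ({g} : Set G) := by
        rw [hH, Subgroup.closure_le]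
        rintro u (hu | rfl)
        · exact hgD hu
        · exact centralizer_self_mem _
      exact Subgroup.mem_center_iff.2 fun u =>
        Subtype.ext (Subgroup.mem_centralizer_singleton_iff.1 (hle u.2))
    obtain ⟨n, hninner, hndec⟩ :=
      Cfsg.Agent.Char.IsChar.exists_decomp_inner (Cfsg.Agent.Char.IsChar.res (irr_isChar χ) H)
    have hdeg : ∀ η : IrrCharacter H, n η ≠ 0 → p ∣ charDegree (η : H → ℂ) := by
      intro η hη
      have hηD : IsCharacter D (fun u : D => (η : H → ℂ) (Subgroup.inclusion hDH u)) :=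
        Cfsg.Agent.Char.IsChar.comp (Subgroup.inclusion hDH) (irr_isChar η)
      obtain ⟨m, hminner, hmdec⟩ := Cfsg.Agent.Char.IsChar.exists_decomp_inner hηD
      have h1 := congrFun hmdec 1
      rw [Cfsg.Agent.Char.sum_irr_apply] at h1
      simp only [map_one] at h1
      rw [charDeg_spec' η] at h1
      have h2 : (charDegree (η : H → ℂ) : ℕ) = ∑ φ : IrrCharacter D, m φ * charDegree (φ : D → ℂ) := by
        have : ((charDegree (η : H → ℂ) : ℕ) : ℂ) =
            ((∑ φ : IrrCharacter D, m φ * charDegree (φ : D → ℂ) : ℕ) : ℂ) := by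
          rw [h1]; push_cast
          exact Finset.sum_congr rfl fun φ _ => by rw [charDeg_spec' φ]
        exact_mod_cast this
      rw [h2]
      refine Finset.dvd_sum fun φ _ => ?_
      rcases Nat.eq_zero_or_pos (m φ) with hm | hm
      · simp [hm]
      refine dvd_mul_of_dvd_right (hdiv φ ?_) _
      have hsum : a φ = ∑ η' : IrrCharacter H, n η' *
          (Cfsg.Agent.Char.IsChar.exists_decomp_inner
            (Cfsg.Agent.Char.IsChar.comp (Subgroup.inclusion hDH) (irr_isChar η'))).choose φ := by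
        have hres : (fun u : D => (χ : G → ℂ) u) =
            ∑ η' : IrrCharacter H,
              (n η' : ℂ) • fun u : D => (η' : H → ℂ) (Subgroup.inclusion hDH u) := by
          funext u
          have := congrFun hndec (Subgroup.inclusion hDH u)
          rw [Cfsg.Agent.Char.sum_irr_apply] at this
          rw [Finset.sum_apply]
          exact this
        have := hainner φ
        rw [hres, Cfsg.Agent.Char.classInner_sum_left] at this
        have h' : ((a φ : ℕ) : ℂ) = ((∑ η' : IrrCharacter H, n η' *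
          (Cfsg.Agent.Char.IsChar.exists_decomp_inner
            (Cfsg.Agent.Char.IsChar.comp (Subgroup.inclusion hDH) (irr_isChar η'))).choose φ : ℕ) : ℂ) := by
          rw [← this]; push_cast
          refine Finset.sum_congr rfl fun η' _ => ?_
          rw [Cfsg.Agent.Char.classInner_smul_left,
            (Cfsg.Agent.Char.IsChar.exists_decomp_inner
              (Cfsg.Agent.Char.IsChar.comp (Subgroup.inclusion hDH) (irr_isChar η'))).choose_spec.1 φ]
        exact_mod_cast h'
      intro hzero
      rw [hzero, eq_comm, Finset.sum_eq_zero_iff] at hsum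
      have hcho : ((Cfsg.Agent.Char.IsChar.exists_decomp_inner
          (Cfsg.Agent.Char.IsChar.comp (Subgroup.inclusion hDH) (irr_isChar η))).choose φ : ℂ) =
          (m φ : ℂ) :=
        ((Cfsg.Agent.Char.IsChar.exists_decomp_inner
          (Cfsg.Agent.Char.IsChar.comp (Subgroup.inclusion hDH) (irr_isChar η))).choose_spec.1 φ).symm.trans
          (hminner φ)
      have h0' := (mul_eq_zero.1 (hsum η (Finset.mem_univ _))).resolve_left hη
      rw [h0', Nat.cast_zero, eq_comm, Nat.cast_eq_zero] at hcho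
      exact hm.ne' hcho
    refine hunit ?_
    have hgval := congrFun hndec (⟨g, hgH⟩ : H)
    rw [Cfsg.Agent.Char.sum_irr_apply] at hgval
    rw [show (χ : G → ℂ) g = ∑ η : IrrCharacter H, (n η : ℂ) * (η : H → ℂ) ⟨g, hgH⟩ from hgval]
    refine ideal_sum hM fun η _ => ?_
    rcases Nat.eq_zero_or_pos (n η) with hn | hn
    · simp [hn, ideal_zero hM]
    have hval : (η : H → ℂ) ⟨g, hgH⟩ =
        centralChar (η : H → ℂ) (⟨g, hgH⟩ : H) * ((charDegree (η : H → ℂ) : ℕ) : ℂ) := by
      have htop : Subgroup.centralizer ({(⟨g, hgH⟩ : H)} : Set H) = ⊤ := by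
        rw [eq_top_iff]
        exact fun u _ => Subgroup.mem_centralizer_singleton_iff.2
          (Subgroup.mem_center_iff.1 hcen u)
      rw [centralChar, htop, Subgroup.index_top, Nat.cast_one, one_mul, ← charDeg_spec' η,
        div_mul_cancel₀ _ (irr_one_ne_zero η)]
    rw [hval]
    exact ideal_mul_left hM (ring_natCast hM _)
      (ideal_mul_left hM (centralChar_ring hM η _)
        ((ideal_natCast_iff hM _).2 (hdeg η hn.ne')))
  obtain ⟨φ, hφ, hφ1⟩ := hlin
  obtain ⟨μ, hμ⟩ := Cfsg.Agent.Char.linearHom_of_isCharacter (irr_isChar φ)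
    (by rw [charDeg_spec' φ, hφ1, Nat.cast_one])
  refine ⟨μ, fun z => ?_⟩
  obtain ⟨c, -, hc⟩ := Cfsg.Agent.Char.IsIrr.scalar_of_center χ.2 (hZc z.2)
  have hcl : c = (lam z : ℂ) := by
    have := hc 1
    rw [mul_one, hover z] at this
    exact mul_right_cancel₀ (irr_one_ne_zero χ) (by linear_combination -this)
  set zD : D := ⟨(z : G), hZD z.2⟩
  have hshift : ((lam z : ℂ)) * conj ((μ zD : ℂ)) * (a φ : ℂ) = (a φ : ℂ) := by
    rw [← hainner φ, classInner, ← mul_assoc, mul_comm ((lam z : ℂ) * _) (Nat.card D : ℂ)⁻¹,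
      mul_assoc, Finset.mul_sum]
    congr 1
    refine Fintype.sum_equiv (Equiv.mulLeft zD) _ _ fun u => ?_
    rw [hμ]
    simp only [Equiv.coe_mulLeft, map_mul, Units.val_mul, Subgroup.coe_mul]
    rw [show (χ : G → ℂ) ((z : G) * (u : G)) = c * (χ : G → ℂ) u from hc u, hcl]
    ring
  have h1 : (lam z : ℂ) * conj ((μ zD : ℂ)) = 1 :=
    mul_right_cancel₀ (Nat.cast_ne_zero.2 hφ) (by rw [hshift, one_mul])
  have hnorm : ((μ zD : ℂ)) * conj ((μ zD : ℂ)) = 1 := by
    have h := (irr_apply_inv φ zD).symm
    rw [hμ] at h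
    simp only at h
    rw [h, ← Units.val_mul, ← map_mul, mul_inv_cancel, map_one, Units.val_one]
  refine Units.ext ?_
  have hne : conj ((μ zD : ℂ)) ≠ 0 := fun h => by rw [h, mul_zero] at hnorm; exact zero_ne_one hnorm
  exact mul_right_cancel₀ hne (hnorm.trans h1.symm)

/-- The sections on which a character of height zero does not vanish identically are exactly
those meeting the defect group. -/
theorem mem_defectGroup_iff_nonvanishing [Fact p.Prime] (hM : IsPModular p M)
    {B : Set (IrrCharacter G)} (hB : IsPBlock M B) {D : Subgroup G}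
    (hD : IsDefectGroup p M B D) {χ : IrrCharacter G} (hχ : χ ∈ B)
    (h0 : blockHeight p B (χ : G → ℂ) = 0) {x : G} (hx : ∃ k : ℕ, orderOf x = p ^ k) :
    (∃ g : G, g * x * g⁻¹ ∈ D) ↔
      ∃ u : G, (∃ z : G, IsPPart p u z ∧ IsConj x z) ∧ (χ : G → ℂ) u ≠ 0 := by
  constructor
  · rintro ⟨g, hg⟩
    obtain ⟨y, hy, Q, hQ⟩ := hD
    have hmem : g * x * g⁻¹ ∈ csyl Q := by rw [csyl, ← hQ]; exact hg
    refine ⟨g * x * g⁻¹ * y, ⟨g * x * g⁻¹, ⟨y, rfl, ?_, ?_, regular_of_unit hM hB hy.2.1⟩,
      isConj_iff.2 ⟨g, rfl⟩⟩, fun h => ?_⟩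
    · exact Subgroup.mem_centralizer_singleton_iff.1 (csyl_le Q hmem)
    · obtain ⟨k, hk⟩ := hx
      exact ⟨k, by rw [show g * x * g⁻¹ = MulAut.conj g x from rfl, MulEquiv.orderOf_eq, hk]⟩
    · exact defectClass_mul_value hM hB hy Q hmem hχ h0 (h ▸ ideal_zero hM)
  · rintro ⟨u, ⟨z, hz, hxz⟩, hu⟩
    by_contra hno
    refine hu (value_eq_zero_of_pPart_notMem hM χ hz fun E hE hzE => hno ?_)
    rw [← pblock_eq_blockOf hM hB hχ] at hE
    obtain ⟨t, ht⟩ := defectGroup_conj hM hB hD hE
    rw [← ht, Subgroup.mem_map] at hzE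
    obtain ⟨w, hw, hwz⟩ := hzE
    obtain ⟨s, hs⟩ := isConj_iff.1 hxz
    refine ⟨t⁻¹ * s, ?_⟩
    have hwe : t⁻¹ * s * x * (t⁻¹ * s)⁻¹ = w := by
      have : t * w * t⁻¹ = s * x * s⁻¹ := by rw [hs]; exact hwz
      calc t⁻¹ * s * x * (t⁻¹ * s)⁻¹ = t⁻¹ * (s * x * s⁻¹) * t := by group
        _ = t⁻¹ * (t * w * t⁻¹) * t := by rw [this]
        _ = w := by group
    rw [hwe]
    exact hw

end Cfsg.Agent.Block
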