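import Cfsg.Agent.Lib.Block.Defect

/-!
Conjugacy classes with a given defect group: the correspondence with classes of the normalizer.
-/

namespace Cfsg.Agent.Block

set_option linter.unusedSectionVars false
set_option linter.style.haveILetI false

universe u

variable {G : Type u} [Group G] [Finite G] {p : ℕ}

theorem exists_csyl_eq [Fact p.Prime] {g : G} {P : Subgroup G} (hP : IsPGroup p P)
    (hle : P ≤ Subgroup.centralizer ({g} : Set G))
    (hmax : ∀ Q : Sylow p (Subgroup.centralizer ({g} : Set G)), P ≤ csyl Q → csyl Q ≤ P) :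
    ∃ Q : Sylow p (Subgroup.centralizer ({g} : Set G)), csyl Q = P := by
  obtain ⟨Q, hQ⟩ := exists_csyl_ge hP hle
  exact ⟨Q, le_antisymm (hmax Q hQ) hQ⟩

theorem le_centralizer_singleton {P : Subgroup G} {g : G}
    (h : g ∈ Subgroup.centralizer (P : Set G)) : P ≤ Subgroup.centralizer ({g} : Set G) :=
  fun u hu => Subgroup.mem_centralizer_singleton_iff.2 (Subgroup.mem_centralizer_iff.1 h u hu)

/-- Two conjugates centralizing a Sylow subgroup of the centralizer are conjugate in its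
normalizer. -/
theorem exists_normalizer_conj [Fact p.Prime] {g : G} {P : Subgroup G}
    (hg : ∃ Q : Sylow p (Subgroup.centralizer ({g} : Set G)), csyl Q = P) {c₁ c₂ : G}
    (h1 : IsConj g c₁) (h2 : IsConj g c₂) (hc₁ : c₁ ∈ Subgroup.centralizer (P : Set G))
    (hc₂ : c₂ ∈ Subgroup.centralizer (P : Set G)) :
    ∃ n ∈ Subgroup.normalizer (P : Set G), n * c₁ * n⁻¹ = c₂ := by
  obtain ⟨Q, hQ⟩ := hg
  have hP : IsPGroup p P := hQ ▸ isPGroup_csyl Q
  have hcard : Nat.card P =
      p ^ (Nat.card (Subgroup.centralizer ({c₂} : Set G))).factorization p := by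
    obtain ⟨t, rfl⟩ := isConj_iff.1 h2
    rw [card_centralizer_conj, ← hQ, card_csyl]
  obtain ⟨Q₂, hQ₂⟩ := exists_csyl_ge hP (le_centralizer_singleton hc₂)
  have hQ₂eq : P = csyl Q₂ := Subgroup.eq_of_le_of_card_ge hQ₂ (by rw [card_csyl, hcard])
  obtain ⟨t, ht⟩ := isConj_iff.1 (h1.symm.trans h2)
  have hc' : c₂ ∈ Subgroup.centralizer ((P.map (MulAut.conj t).toMonoidHom : Subgroup G) : Set G) := by
    rw [Subgroup.mem_centralizer_iff]
    rintro _ ⟨u, hu, rfl⟩
    have h := Subgroup.mem_centralizer_iff.1 hc₁ u hu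
    show t * u * t⁻¹ * c₂ = c₂ * (t * u * t⁻¹)
    rw [← ht]
    calc t * u * t⁻¹ * (t * c₁ * t⁻¹) = t * (u * c₁) * t⁻¹ := by group
      _ = t * (c₁ * u) * t⁻¹ := by rw [h]
      _ = _ := by group
  have hle : P.map (MulAut.conj t).toMonoidHom ≤ Subgroup.centralizer ({c₂} : Set G) :=
    le_centralizer_singleton hc'
  obtain ⟨Q', hQ'⟩ := exists_csyl_ge (isPGroup_map_conj t hP) hle
  obtain ⟨s, hs⟩ := MulAction.exists_smul_eq (Subgroup.centralizer ({c₂} : Set G)) Q' Q₂
  have hmap : P.map (MulAut.conj ((s : G) * t)).toMonoidHom ≤ P := by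
    refine map_conj_trans le_rfl ?_
    rw [map_conj_le_iff]
    intro u hu
    rw [hQ₂eq]
    obtain ⟨w, hw, rfl⟩ := hQ' hu
    refine ⟨s * w * s⁻¹, ?_, rfl⟩
    rw [← hs, Sylow.coe_subgroup_smul]
    exact Subgroup.smul_mem_pointwise_smul w (MulAut.conj s) _ hw
  refine ⟨(s : G) * t, ?_, ?_⟩
  · have heq : P.map (MulAut.conj ((s : G) * t)).toMonoidHom = P :=
      Subgroup.eq_of_le_of_card_ge hmap (card_map_conj _ P).ge
    rw [Subgroup.mem_normalizer_iff]
    intro u
    constructor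
    · exact fun hu => map_conj_le_iff.1 hmap u hu
    · intro hu
      rw [← heq] at hu
      obtain ⟨w, hw, hwu⟩ := hu
      have : w = u := (MulAut.conj ((s : G) * t)).injective hwu
      exact this ▸ hw
  · have hsC := Subgroup.mem_centralizer_singleton_iff.1 s.2
    calc (s : G) * t * c₁ * ((s : G) * t)⁻¹ = (s : G) * (t * c₁ * t⁻¹) * (s : G)⁻¹ := by group
      _ = c₂ := by rw [ht, hsC, mul_inv_cancel_right]

/-- A Sylow subgroup of the centralizer inside the normalizer is one of the whole centralizer. -/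
theorem exists_csyl_eq_of_normalizer [Fact p.Prime] {c : G} {P : Subgroup G} (hP : IsPGroup p P)
    (hc : c ∈ Subgroup.centralizer (P : Set G))
    (hmax : ∀ R : Subgroup G, IsPGroup p R → P ≤ R →
      R ≤ Subgroup.centralizer ({c} : Set G) ⊓ Subgroup.normalizer (P : Set G) → R ≤ P) :
    ∃ Q : Sylow p (Subgroup.centralizer ({c} : Set G)), csyl Q = P := by
  refine exists_csyl_eq hP (le_centralizer_singleton hc) fun Q hQ => ?_
  by_contra hne
  haveI := (isPGroup_csyl Q).isNilpotent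
  have hlt : P.subgroupOf (csyl Q) < ⊤ :=
    lt_top_iff_ne_top.2 fun h => hne (Subgroup.subgroupOf_eq_top.1 h)
  obtain ⟨hsub, hnot⟩ := lt_iff_le_not_ge.1 (Group.normalizerCondition_of_isNilpotent _ hlt)
  apply hnot
  intro w hw
  have hR := hmax ((Subgroup.normalizer (P.subgroupOf (csyl Q) : Set (csyl Q))).map
    (csyl Q).subtype) (((isPGroup_csyl Q).to_subgroup _).map _)
    (fun u hu => ⟨⟨u, hQ hu⟩, hsub hu, rfl⟩) ?_ ⟨w, hw, rfl⟩
  · exact Subgroup.mem_subgroupOf.2 hR
  · rintro _ ⟨a, ha, rfl⟩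
    refine ⟨csyl_le Q a.2, Subgroup.mem_normalizer_iff.2 fun u => ?_⟩
    have ha' := Subgroup.mem_normalizer_iff.1 ha
    constructor
    · intro hu
      exact Subgroup.mem_subgroupOf.1 ((ha' ⟨u, hQ hu⟩).1 (Subgroup.mem_subgroupOf.2 hu))
    · intro hu
      have hu' : u ∈ csyl Q := by
        have h := (csyl Q).mul_mem ((csyl Q).mul_mem ((csyl Q).inv_mem a.2) (hQ hu)) a.2
        simpa [mul_assoc] using h
      exact Subgroup.mem_subgroupOf.1 ((ha' ⟨u, hu'⟩).2 (Subgroup.mem_subgroupOf.2 hu))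

end Cfsg.Agent.Block
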