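import Cfsg.Agent.Lib.Block.Separated
import Cfsg.Agent.Lib.Block.ClassDefect

/-!
Separated classes with defect group `D` give blocks with defect group `D`.
-/

open scoped ComplexConjugate

namespace Cfsg.Agent.Block

set_option linter.unusedSectionVars false
set_option linter.style.haveILetI false

universe u

variable {G : Type u} [Group G] [Finite G] {p : ℕ} {M : Ideal AlgInt}

theorem exists_submatrix_det_ne_zero {k : Type*} [Field k] {ι Z : Type*} [Fintype ι]
    [DecidableEq ι] [Fintype Z] (A : Matrix ι Z k) (B : Matrix Z ι k) (h : IsUnit (A * B)) :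
    ∃ f : ι → Z, (A.submatrix id f).det ≠ 0 := by
  classical
  have hsurj : Function.Surjective A.mulVec :=
    Matrix.mulVec_surjective_iff_exists_right_inverse.2
      ⟨B * (A * B)⁻¹, by rw [← Matrix.mul_assoc, Matrix.mul_nonsing_inv _
        ((Matrix.isUnit_iff_isUnit_det _).1 h)]⟩
  have hspan : Submodule.span k (Set.range A.col) = ⊤ := by
    rw [← Matrix.range_mulVecLin, LinearMap.range_eq_top]
    exact hsurj
  obtain ⟨b, hb, hbspan, hbind⟩ := exists_linearIndependent k (Set.range A.col)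
  let bb : Module.Basis b k (ι → k) := Module.Basis.mk hbind
    (by rw [Subtype.range_coe_subtype, Set.setOf_mem_eq, hbspan, hspan])
  let e : ι ≃ b := (Pi.basisFun k ι).indexEquiv bb
  have hch : ∀ i, ∃ z : Z, A.col z = (e i : ι → k) := fun i => hb (e i).2
  choose f hf using hch
  refine ⟨f, fun h0 => ?_⟩
  have hli : LinearIndependent k (A.submatrix id f).col := by
    have : (A.submatrix id f).col = (fun v : b => (v : ι → k)) ∘ e := by
      funext i
      exact hf i
    rw [this]
    exact hbind.comp e e.injective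
  have := (Matrix.isUnit_iff_isUnit_det _).1 (Matrix.linearIndependent_cols_iff_isUnit.1 hli)
  rw [h0] at this
  exact not_isUnit_zero this

theorem ring_conj_value (hM : IsPModular p M) (χ : IrrCharacter G) (g : G) :
    MemLocalRing M (conj ((χ : G → ℂ) g)) := by
  rw [← irr_apply_inv]; exact irr_ring hM χ _

/-- Separated classes of defect zero: characters of defect zero with invertible value matrix. -/
theorem exists_defectZero_det [Fact p.Prime] (hM : IsPModular p M) {ι : Type*} [Fintype ι]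
    [DecidableEq ι] (x : ι → G)
    (hC : ∀ i, ¬ p ∣ Nat.card (Subgroup.centralizer ({x i} : Set G)))
    (hinj : ∀ i j, IsConj (x i) (x j) → i = j)
    (hsep : ∀ i j g h, IsConj (x i) g → IsConj (x j) h → (g * h⁻¹) ^ p = 1 → g = h) :
    letI : Field (ResField hM) := resInst hM
    ∃ θ : ι → IrrCharacter G,
      (∀ i, (charDegree (θ i : G → ℂ)).factorization p = (Nat.card G).factorization p) ∧
      (Matrix.of fun i j => red hM ((θ i : G → ℂ) (x j))).det ≠ 0 := by
  classical
  letI : Field (ResField hM) := resInst hM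
  cases nonempty_fintype G
  let Z := {χ : IrrCharacter G //
      (charDegree (χ : G → ℂ)).factorization p = (Nat.card G).factorization p}
  let A : Matrix ι Z (ResField hM) := Matrix.of fun i χ => red hM ((χ.1 : G → ℂ) (x i))
  let A' : Matrix Z ι (ResField hM) := Matrix.of fun χ j => red hM (conj ((χ.1 : G → ℂ) (x j)))
  have hprod : A * A' = Matrix.diagonal fun j =>
      red hM (Nat.card (Subgroup.centralizer ({x j} : Set G)) : ℂ) := by
    ext i j
    rw [Matrix.mul_apply, Matrix.diagonal_apply]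
    have h := separated_gram hM x hinj hsep i j
    have hterm : ∀ χ : Z,
        MemLocalRing M ((χ.1 : G → ℂ) (x i) * conj ((χ.1 : G → ℂ) (x j))) := fun χ =>
      ring_mul hM (irr_ring hM χ.1 _) (ring_conj_value hM χ.1 _)
    have hrsum : MemLocalRing M (∑ χ : Z, (χ.1 : G → ℂ) (x i) * conj ((χ.1 : G → ℂ) (x j))) :=
      ring_sum hM fun χ _ => hterm χ
    rw [Finset.sum_subtype (p := fun χ : IrrCharacter G =>
      (charDegree (χ : G → ℂ)).factorization p = (Nat.card G).factorization p) _
      (fun χ => by simp)] at h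
    calc ∑ χ : Z, A i χ * A' χ j
        = red hM (∑ χ : Z, (χ.1 : G → ℂ) (x i) * conj ((χ.1 : G → ℂ) (x j))) := by
          rw [red_sum hM fun χ _ => hterm χ]
          exact Finset.sum_congr rfl fun χ _ =>
            (red_mul hM (irr_ring hM χ.1 _) (ring_conj_value hM χ.1 _)).symm
      _ = red hM (if i = j then (Nat.card (Subgroup.centralizer ({x j} : Set G)) : ℂ) else 0) := by
          symm
          rw [red_eq_red hM _ hrsum]
          · exact h
          · split_ifs
            · exact ring_natCast hM _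
            · exact ring_zero hM
      _ = _ := by
          split_ifs with hij
          · subst hij; rfl
          · exact red_zero hM
  have hunit : IsUnit (A * A') := by
    rw [hprod, Matrix.isUnit_diagonal, Pi.isUnit_iff]
    intro j
    rw [isUnit_iff_ne_zero, Ne, red_eq_zero hM (ring_natCast hM _), ideal_natCast_iff hM]
    exact hC j
  obtain ⟨f, hf⟩ := exists_submatrix_det_ne_zero A A' hunit
  refine ⟨fun i => (f i).1, fun i => (f i).2, ?_⟩
  have : (Matrix.of fun i j => red hM (((f i).1 : G → ℂ) (x j))) =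
      (A.submatrix id f).transpose := by
    ext i j; rfl
  rw [this, Matrix.det_transpose]
  exact hf

theorem ideal_det_iff (hM : IsPModular p M) {ι : Type*} [Fintype ι] [DecidableEq ι]
    (A : Matrix ι ι ℂ) (hA : ∀ i j, MemLocalRing M (A i j)) :
    letI : Field (ResField hM) := resInst hM
    MemLocalIdeal M A.det ↔ (A.map (red hM)).det = 0 := by
  letI : Field (ResField hM) := resInst hM
  let A₀ : Matrix ι ι (localRing hM) := Matrix.of fun i j => ⟨A i j, hA i j⟩
  have h1 : A.det = (A₀.det : ℂ) := by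
    have h := (localRing hM).subtype.map_det A₀
    simp only [Subring.coe_subtype] at h
    rw [h]
    congr 1
  have h2 : A.map (red hM) = A₀.map (Ideal.Quotient.mk (localIdeal hM)) := by
    ext i j
    exact red_mk hM (hA i j)
  rw [h2, show (A₀.map (Ideal.Quotient.mk (localIdeal hM))).det =
    Ideal.Quotient.mk (localIdeal hM) A₀.det from ((Ideal.Quotient.mk _).map_det A₀).symm,
    Ideal.Quotient.eq_zero_iff_mem, mem_localIdeal, h1]

theorem pPow_of_pow_pow_eq_one [Fact p.Prime] {w : G} {k : ℕ} (h : w ^ p ^ k = 1) :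
    ∃ i, orderOf w = p ^ i := by
  obtain ⟨i, -, hi⟩ := (Nat.dvd_prime_pow (Fact.out : p.Prime)).1 (orderOf_dvd_of_pow_eq_one h)
  exact ⟨i, hi⟩

theorem eq_one_of_pPow_of_regular [Fact p.Prime] {w : G} {k : ℕ} (h : w ^ p ^ k = 1)
    (hw : ¬ p ∣ orderOf w) : w = 1 := by
  obtain ⟨i, hi⟩ := pPow_of_pow_pow_eq_one h
  rcases i with _ | i
  · exact orderOf_eq_one_iff.1 (by rw [hi, pow_zero])
  · exact absurd (hi ▸ dvd_pow_self p (Nat.succ_ne_zero i)) hw

/-- The data of separated classes with a common normal Sylow subgroup of the centralizers. -/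
theorem separated_local [Fact p.Prime] (hM : IsPModular p M) {D : Subgroup G} [D.Normal]
    (hDp : IsPGroup p D) {ι : Type*} [Fintype ι] [DecidableEq ι] (x : ι → G)
    (hinj : ∀ i j, IsConj (x i) (x j) → i = j)
    (hD : ∀ i, ∃ S : Sylow p (Subgroup.centralizer ({x i} : Set G)), csyl S = D)
    (hsep : ∀ i j g h, IsConj (x i) g → IsConj (x j) h →
      ∀ k : ℕ, 0 < k → orderOf (g * h⁻¹) ≠ p ^ k) :
    letI : Field (ResField hM) := resInst hM
    ∃ θ : ι → IrrCharacter G,
      (∀ i, (charDegree (θ i : G → ℂ)).factorization p = D.index.factorization p) ∧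
      (Matrix.of fun i j => red hM ((θ i : G → ℂ) (x j))).det ≠ 0 := by
  classical
  letI : Field (ResField hM) := resInst hM
  have hp : p.Prime := Fact.out
  cases nonempty_fintype G
  have hker : ∀ u : G ⧸ D, ∀ g : G, (g : G ⧸ D) = u → u = 1 → g ∈ D := fun u g hg hu =>
    (QuotientGroup.eq_one_iff g).1 (hg.trans hu)
  have hsep' : ∀ i j g h, IsConj (x i) g → IsConj (x j) h → ∀ k : ℕ,
      (g * h⁻¹) ^ p ^ k = 1 → g = h := fun i j g h hg hh k hk => by
    obtain ⟨m, hm⟩ := pPow_of_pow_pow_eq_one hk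
    rcases Nat.eq_zero_or_pos m with rfl | hm0
    · rw [pow_zero, orderOf_eq_one_iff, mul_inv_eq_one] at hm
      exact hm
    · exact absurd hm (hsep i j g h hg hh m hm0)
  have hlift : ∀ i, ∀ gq : G ⧸ D, IsConj ((x i : G) : G ⧸ D) gq →
      ∃ g : G, IsConj (x i) g ∧ (g : G ⧸ D) = gq := by
    intro i gq hg
    obtain ⟨c, hc⟩ := isConj_iff.1 hg
    obtain ⟨c, rfl⟩ := QuotientGroup.mk'_surjective D c
    exact ⟨c * x i * c⁻¹, isConj_iff.2 ⟨c, rfl⟩, by rw [← hc]; rfl⟩
  have hsepQ : ∀ i j, ∀ gq hq : G ⧸ D, IsConj ((x i : G) : G ⧸ D) gq →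
      IsConj ((x j : G) : G ⧸ D) hq → (gq * hq⁻¹) ^ p = 1 → gq = hq := by
    intro i j gq hq hg hh hgh
    obtain ⟨g, hg', rfl⟩ := hlift i gq hg
    obtain ⟨h, hh', rfl⟩ := hlift j hq hh
    have hmem : (g * h⁻¹) ^ p ∈ D := hker _ _ (by simp) hgh
    obtain ⟨k, hk⟩ := hDp ⟨_, hmem⟩
    rw [hsep' i j g h hg' hh' (k + 1)]
    rw [pow_succ', pow_mul]
    exact congrArg Subtype.val hk
  have hinjQ : ∀ i j, IsConj ((x i : G) : G ⧸ D) ((x j : G) : G ⧸ D) → i = j := by
    intro i j hc
    obtain ⟨g, hg', hgeq⟩ := hlift i _ hc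
    have hmem : g * (x j)⁻¹ ∈ D := hker _ _ rfl (by
      show ((g * (x j)⁻¹ : G) : G ⧸ D) = 1
      rw [QuotientGroup.mk_mul, QuotientGroup.mk_inv, hgeq, mul_inv_cancel])
    obtain ⟨k, hk⟩ := hDp ⟨_, hmem⟩
    have := hsep' i j g (x j) hg' (IsConj.refl _) k (congrArg Subtype.val hk)
    exact hinj i j (this ▸ hg')
  have hCQ : ∀ i, ¬ p ∣ Nat.card (Subgroup.centralizer ({((x i : G) : G ⧸ D)} : Set (G ⧸ D))) := by
    intro i hdvd
    obtain ⟨S, hS⟩ := hD i
    obtain ⟨t, ht⟩ := exists_prime_orderOf_dvd_card'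
      (G := Subgroup.centralizer ({((x i : G) : G ⧸ D)} : Set (G ⧸ D))) p hdvd
    obtain ⟨n, hn⟩ := QuotientGroup.mk'_surjective D (t : G ⧸ D)
    -- replace `n` by its `p`-part
    obtain ⟨u, v, huv, huvc, ⟨k, hk⟩, hv, -, -⟩ := exists_pPart_zpowers (p := p) n
    have hnD : n ^ p ∈ D := by
      rw [← QuotientGroup.eq_one_iff, QuotientGroup.mk_pow,
        show (n : G ⧸ D) = t from hn, ← ht, ← Subgroup.orderOf_coe, pow_orderOf_eq_one]
    have hvD : v ∈ D := by
      rw [← QuotientGroup.eq_one_iff]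
      obtain ⟨l, hl⟩ := hDp ⟨_, hnD⟩
      have hn' : n ^ p ^ (l + 1) = 1 := by
        rw [pow_succ', pow_mul]; exact congrArg Subtype.val hl
      have hv1 : v ^ p ^ (l + 1) = 1 := by
        have hu1 : u ^ p ^ (l + 1) * v ^ p ^ (l + 1) = 1 := by rw [← huvc.mul_pow, huv, hn']
        have h3 : v ^ p ^ (l + 1) = (u ^ p ^ (l + 1))⁻¹ := eq_inv_of_mul_eq_one_right hu1
        have h4 : (v ^ p ^ (l + 1)) ^ p ^ k = 1 := by
          rw [h3, inv_pow, ← pow_mul, mul_comm, pow_mul, ← hk, pow_orderOf_eq_one, one_pow, inv_one]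
        refine eq_one_of_pPow_of_regular h4 fun hd => hv (dvd_trans hd (orderOf_pow_dvd _))
      rw [eq_one_of_pPow_of_regular hv1 hv, QuotientGroup.mk_one]
    have hu : (u : G ⧸ D) = t := by
      rw [← hn]
      show _ = ((n : G) : G ⧸ D)
      rw [← huv, QuotientGroup.mk_mul, (QuotientGroup.eq_one_iff v).2 hvD, mul_one]
    -- `u` moves `x i` inside its coset, hence centralises it
    have hfix : u * x i * u⁻¹ = x i := by
      have hmem : u * x i * u⁻¹ * (x i)⁻¹ ∈ D := hker _ _ rfl (by
        show ((u * x i * u⁻¹ * (x i)⁻¹ : G) : G ⧸ D) = 1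
        simp only [QuotientGroup.mk_mul, QuotientGroup.mk_inv, hu]
        rw [(Subgroup.mem_centralizer_singleton_iff.1 t.2 : (t : G ⧸ D) * (x i : G ⧸ D) = _)]
        group)
      obtain ⟨l, hl⟩ := hDp ⟨_, hmem⟩
      exact hsep' i i _ (x i) (isConj_iff.2 ⟨u, rfl⟩) (IsConj.refl _) l (congrArg Subtype.val hl)
    have huC : u ∈ Subgroup.centralizer ({x i} : Set G) :=
      Subgroup.mem_centralizer_singleton_iff.2 (mul_inv_eq_iff_eq_mul.1 hfix)
    have hup : IsPGroup p (Subgroup.zpowers u) :=
      IsPGroup.of_card (n := k) (by rw [Nat.card_zpowers, hk])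
    obtain ⟨S', hS'⟩ := exists_csyl_ge hup (Subgroup.zpowers_le.2 huC)
    obtain ⟨s, hs⟩ := MulAction.exists_smul_eq (Subgroup.centralizer ({x i} : Set G)) S S'
    have huD : u ∈ D := by
      obtain ⟨w, hw, hwu⟩ := hS' (Subgroup.mem_zpowers u)
      rw [← hs, Sylow.coe_subgroup_smul] at hw
      obtain ⟨q, hq, hqw⟩ := hw
      have hqD : (q : G) ∈ D := hS ▸ ⟨q, hq, rfl⟩
      have : u = (s : G) * q * (s : G)⁻¹ := by
        rw [← hwu, ← hqw]; rfl
      exact this ▸ Subgroup.Normal.conj_mem inferInstance _ hqD _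
    rw [(QuotientGroup.eq_one_iff u).2 huD] at hu
    rw [← Subgroup.orderOf_coe, ← hu, orderOf_one] at ht
    exact hp.one_lt.ne ht
  obtain ⟨θ, hθ, hdet⟩ := exists_defectZero_det hM (fun i => ((x i : G) : G ⧸ D)) hCQ hinjQ hsepQ
  let θ' : ι → IrrCharacter G := fun i =>
    ⟨fun g => (θ i : G ⧸ D → ℂ) (QuotientGroup.mk' D g),
      Cfsg.Agent.Char.IsIrr.comp_surjective (QuotientGroup.mk' D)
        (QuotientGroup.mk'_surjective D) (θ i).2⟩
  refine ⟨θ', fun i => ?_, hdet⟩
  have hdeg : charDegree (θ' i : G → ℂ) = charDegree (θ i : G ⧸ D → ℂ) := by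
    have h : ((charDegree (θ' i : G → ℂ) : ℕ) : ℂ) = ((charDegree (θ i : G ⧸ D → ℂ) : ℕ) : ℂ) := by
      rw [← charDeg_spec' (θ' i), ← charDeg_spec' (θ i)]; rfl
    exact_mod_cast h
  rw [hdeg, hθ, ← Subgroup.index_eq_card]

theorem ring_value_factor [Fact p.Prime] (hM : IsPModular p M) (χ : IrrCharacter G) (g : G)
    (h : (Nat.card (Subgroup.centralizer ({g} : Set G))).factorization p +
      (charDegree (χ : G → ℂ)).factorization p = (Nat.card G).factorization p) :
    let F : ℂ := ((Nat.card (Subgroup.centralizer ({g} : Set G)) * charDegree (χ : G → ℂ) : ℕ) : ℂ) /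
      (Nat.card G : ℕ)
    MemLocalRing M F ∧ ¬ MemLocalIdeal M F ∧ (χ : G → ℂ) g = centralChar (χ : G → ℂ) g * F := by
  intro F
  have h0 : Nat.card (Subgroup.centralizer ({g} : Set G)) * charDegree (χ : G → ℂ) ≠ 0 :=
    mul_ne_zero Nat.card_pos.ne' (charDeg_pos χ).ne'
  have hf := factorization_centralizer_mul (p := p) χ g
  exact ⟨ring_natDiv hM Nat.card_pos.ne' h0 (by omega),
    natDiv_notMem hM Nat.card_pos.ne' h0 (by omega), value_eq χ g⟩

theorem centralizer_defect_card [Fact p.Prime] {D : Subgroup G} {g : G}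
    (h : ∃ S : Sylow p (Subgroup.centralizer ({g} : Set G)), csyl S = D) :
    Nat.card D = p ^ (Nat.card (Subgroup.centralizer ({g} : Set G))).factorization p := by
  obtain ⟨S, hS⟩ := h
  rw [← hS, card_csyl]

theorem red_ne_zero (hM : IsPModular p M) {z : ℂ} (hz : MemLocalRing M z)
    (h : ¬ MemLocalIdeal M z) : red hM z ≠ 0 := fun h0 => h ((red_eq_zero hM hz).1 h0)

/-- Robinson: separated classes with defect group `D` give as many blocks with defect group `D`,
and their height zero characters have a value matrix invertible modulo the prime. -/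
theorem exists_blocks_of_separated [Fact p.Prime] (hM : IsPModular p M) (D : Subgroup G)
    {ι : Type*} [Fintype ι] [DecidableEq ι] (x : ι → G)
    (hinj : ∀ i j, IsConj (x i) (x j) → i = j)
    (hD : ∀ i, ∃ S : Sylow p (Subgroup.centralizer ({x i} : Set G)), csyl S = D)
    (hsep : ∀ i j g h, IsConj (x i) g → IsConj (x j) h →
      ∀ k : ℕ, 0 < k → orderOf (g * h⁻¹) ≠ p ^ k) :
    ∃ B : ι → Set (IrrCharacter G), Function.Injective B ∧
      (∀ i, IsPBlock M (B i) ∧ IsDefectGroup p M (B i) D) ∧
      ∀ χ : ι → IrrCharacter G, (∀ i, χ i ∈ B i ∧ blockHeight p (B i) (χ i : G → ℂ) = 0) →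
        ¬ MemLocalIdeal M (Matrix.det (Matrix.of fun i j => (χ i : G → ℂ) (x j))) := by
  classical
  rcases isEmpty_or_nonempty ι with hι | hι
  · refine ⟨isEmptyElim, fun i => isEmptyElim i, fun i => isEmptyElim i, fun χ _ => ?_⟩
    rw [Matrix.det_isEmpty]
    exact ideal_one hM
  letI : Field (ResField hM) := resInst hM
  have hp : p.Prime := Fact.out
  cases nonempty_fintype G
  have hDp : IsPGroup p D := by
    obtain ⟨S, hS⟩ := hD hι.some
    exact hS ▸ isPGroup_csyl S
  have hxC : ∀ i, x i ∈ Subgroup.centralizer (D : Set G) := fun i => by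
    obtain ⟨S, hS⟩ := hD i
    exact hS ▸ mem_centralizer_csyl S
  set N := Subgroup.normalizer (D : Set G) with hN
  cases nonempty_fintype N
  let c : ι → N := fun i => ⟨x i, Subgroup.centralizer_le_normalizer _ (hxC i)⟩
  haveI : (D.subgroupOf N).Normal := normal_subgroupOf_normalizer D
  have hDN : D ≤ N := Subgroup.le_normalizer
  have hDp' : IsPGroup p (D.subgroupOf N) :=
    hDp.of_equiv (Subgroup.subgroupOfEquivOfLe hDN).symm
  have hcard' : Nat.card (D.subgroupOf N) = Nat.card D :=
    Nat.card_congr (Subgroup.subgroupOfEquivOfLe hDN).toEquiv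
  have hDN' : ∀ i, ∃ S : Sylow p (Subgroup.centralizer ({c i} : Set N)),
      csyl S = D.subgroupOf N := by
    intro i
    have hle : D.subgroupOf N ≤ Subgroup.centralizer ({c i} : Set N) := fun u hu =>
      Subgroup.mem_centralizer_singleton_iff.2
        (Subtype.ext (Subgroup.mem_centralizer_iff.1 (hxC i) _ hu))
    refine exists_csyl_eq hDp' hle fun Q hQ => ?_
    have hQG : (csyl Q).map N.subtype ≤ Subgroup.centralizer ({x i} : Set G) := by
      rintro _ ⟨u, hu, rfl⟩
      exact Subgroup.mem_centralizer_singleton_iff.2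
        (congrArg Subtype.val (Subgroup.mem_centralizer_singleton_iff.1 (csyl_le Q hu)))
    obtain ⟨Q', hQ'⟩ := exists_csyl_ge ((isPGroup_csyl Q).map N.subtype) hQG
    refine (Subgroup.eq_of_le_of_card_ge hQ ?_).ge
    rw [hcard', centralizer_defect_card (hD i), ← card_csyl Q',
      Nat.card_congr ((csyl Q).equivMapOfInjective _ N.subtype_injective).toEquiv]
    exact Subgroup.card_le_of_le hQ'
  obtain ⟨θ, hθdeg, hdet⟩ := separated_local hM (G := N) hDp' c
    (fun i j h => hinj i j (by
      obtain ⟨t, ht⟩ := isConj_iff.1 h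
      exact isConj_iff.2 ⟨(t : G), congrArg Subtype.val ht⟩))
    hDN' (fun i j g h hg hh k hk => by
      obtain ⟨t, ht⟩ := isConj_iff.1 hg
      obtain ⟨s, hs⟩ := isConj_iff.1 hh
      rw [← Subgroup.orderOf_coe]
      exact hsep i j g h (isConj_iff.2 ⟨(t : G), congrArg Subtype.val ht⟩)
        (isConj_iff.2 ⟨(s : G), congrArg Subtype.val hs⟩) k hk)
  have hNf : ∀ i, (Nat.card (Subgroup.centralizer ({c i} : Set N))).factorization p +
      (D.subgroupOf N).index.factorization p = (Nat.card N).factorization p := fun i => by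
    obtain ⟨S, hS⟩ := hDN' i
    rw [← (D.subgroupOf N).card_mul_index,
      Nat.factorization_mul Nat.card_pos.ne' Subgroup.index_ne_zero_of_finite, Finsupp.add_apply,
      ← hS, card_csyl, Nat.Prime.factorization_pow hp, Finsupp.single_eq_same]
  have hFN : ∀ i j, (Nat.card (Subgroup.centralizer ({c j} : Set N))).factorization p +
      (charDegree (θ i : N → ℂ)).factorization p = (Nat.card N).factorization p := fun i j => by
    rw [hθdeg i]; exact hNf j
  set ω : ι → ι → ℂ := fun i j => centralChar (θ i : N → ℂ) (c j)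
  have hωr : ∀ i j, MemLocalRing M (ω i j) := fun i j => centralChar_ring hM _ _
  -- the matrix of central characters is invertible modulo the prime
  have hωdet : (Matrix.of fun i j => red hM (ω i j)).det ≠ 0 := by
    intro h0
    apply hdet
    have hfac : (Matrix.of fun i j => red hM ((θ i : N → ℂ) (c j))) =
        Matrix.of fun i j => red hM (ω i j) *
          red hM (((Nat.card (Subgroup.centralizer ({c j} : Set N)) *
            charDegree (θ i : N → ℂ) : ℕ) : ℂ) / (Nat.card N : ℕ)) := by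
      ext i j
      obtain ⟨hr, -, hval⟩ := ring_value_factor hM (θ i) (c j) (hFN i j)
      rw [Matrix.of_apply, Matrix.of_apply, ← red_mul hM (hωr i j) hr, ← hval]
    rw [hfac]
    have hsplit : ∀ i j, red hM (((Nat.card (Subgroup.centralizer ({c j} : Set N)) *
        charDegree (θ i : N → ℂ) : ℕ) : ℂ) / (Nat.card N : ℕ)) =
        red hM (((p ^ (D.subgroupOf N).index.factorization p : ℕ) : ℂ) *
          ((Nat.card (Subgroup.centralizer ({c j} : Set N)) : ℕ) : ℂ) / (Nat.card N : ℕ)) *
        red hM (((charDegree (θ i : N → ℂ) : ℕ) : ℂ) /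
          ((p ^ (D.subgroupOf N).index.factorization p : ℕ) : ℕ)) := by
      intro i j
      have hpow : p ^ (D.subgroupOf N).index.factorization p ≠ 0 := pow_ne_zero _ hp.ne_zero
      have r1 : MemLocalRing M (((p ^ (D.subgroupOf N).index.factorization p : ℕ) : ℂ) *
          ((Nat.card (Subgroup.centralizer ({c j} : Set N)) : ℕ) : ℂ) / (Nat.card N : ℕ)) := by
        rw [← Nat.cast_mul]
        refine ring_natDiv hM Nat.card_pos.ne' (mul_ne_zero hpow Nat.card_pos.ne') ?_
        rw [Nat.factorization_mul hpow Nat.card_pos.ne', Finsupp.add_apply,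
          Nat.Prime.factorization_pow hp, Finsupp.single_eq_same]
        have := hNf j
        omega
      have r2 : MemLocalRing M (((charDegree (θ i : N → ℂ) : ℕ) : ℂ) /
          ((p ^ (D.subgroupOf N).index.factorization p : ℕ) : ℕ)) := by
        refine ring_natDiv hM hpow (charDeg_pos _).ne' ?_
        rw [Nat.Prime.factorization_pow hp, Finsupp.single_eq_same, hθdeg i]
      rw [← red_mul hM r1 r2]
      congr 1
      have : (((p ^ (D.subgroupOf N).index.factorization p : ℕ) : ℕ) : ℂ) ≠ 0 :=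
        Nat.cast_ne_zero.2 hpow
      push_cast
      field_simp
    simp only [hsplit, ← mul_assoc]
    have hrow := Matrix.det_mul_row (fun j => red hM
      (((p ^ (D.subgroupOf N).index.factorization p : ℕ) : ℂ) *
        ((Nat.card (Subgroup.centralizer ({c j} : Set N)) : ℕ) : ℂ) / (Nat.card N : ℕ)))
      (Matrix.of fun i j => red hM (ω i j))
    have hcol := Matrix.det_mul_column (fun i => red hM (((charDegree (θ i : N → ℂ) : ℕ) : ℂ) /
      ((p ^ (D.subgroupOf N).index.factorization p : ℕ) : ℕ)))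
      (Matrix.of fun i j => red hM (((p ^ (D.subgroupOf N).index.factorization p : ℕ) : ℂ) *
        ((Nat.card (Subgroup.centralizer ({c j} : Set N)) : ℕ) : ℂ) / (Nat.card N : ℕ)) *
          red hM (ω i j))
    simp only [Matrix.of_apply] at hrow hcol
    rw [h0, mul_zero] at hrow
    rw [hrow, mul_zero] at hcol
    rw [← hcol]
    congr 1
    ext i j
    simp only [Matrix.of_apply]
    ring
  -- every row has a unit
  have hrowne : ∀ i, ∃ j, red hM (ω i j) ≠ 0 := fun i => by
    by_contra hno
    push Not at hno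
    exact hωdet (Matrix.det_eq_zero_of_row_eq_zero i hno)
  let b : ι → Set (IrrCharacter N) := fun i => blockOf M (θ i : N → ℂ)
  have hb : ∀ i, IsPBlock M (b i) := fun i => isPBlock_blockOf _
  have hbD : ∀ i, IsDefectGroup p M (b i) (D.subgroupOf N) := by
    intro i
    obtain ⟨E, hE⟩ := exists_isDefectGroup hM (hb i)
    obtain ⟨j, hj⟩ := hrowne i
    have hωu : ¬ MemLocalIdeal M (ω i j) := fun h => hj ((red_eq_zero hM (hωr i j)).2 h)
    obtain ⟨S, hS⟩ := hDN' j
    obtain ⟨t, ht⟩ := exists_conj_le_centralizer_of_omega hM (hb i) hE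
      (mem_blockOf_self hM (θ i)) hωu S
    have hle := normal_le_defectGroup hM (hb i) hE hDp'
    rw [Subgroup.eq_of_le_of_card_ge hle]
    · exact hE
    · rw [← card_map_conj t E, ← hS]
      exact Subgroup.card_le_of_le ht
  have hinjb : Function.Injective b := by
    intro i k h
    by_contra hne
    refine hωdet (Matrix.det_zero_of_row_eq hne (funext fun j => ?_))
    have hmem : θ k ∈ b i := h ▸ mem_blockOf_self hM (θ k)
    exact (red_eq_red hM (hωr i j) (hωr k j)).2 (mem_blockOf.1 hmem (c j))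
  choose B hB using fun i => normalizer_block_induces hM hDp (hb i) (hbD i)
  refine ⟨B, fun i k h => hinjb ?_, fun i => ⟨(hB i).1, (hB i).2.1⟩, fun χ hχ => ?_⟩
  · obtain ⟨d, -, hd⟩ := exists_unique_inducing hM (hB i).1 (hB i).2.1
    rw [hd (b i) ⟨hb i, hbD i, (hB i).2.2⟩, hd (b k) ⟨hb k, hbD k, h.symm ▸ (hB k).2.2⟩]
  -- the values in `G`
  have hGf : ∀ i j, (Nat.card (Subgroup.centralizer ({x j} : Set G))).factorization p +
      (charDegree (χ i : G → ℂ)).factorization p = (Nat.card G).factorization p := fun i j => by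
    have h1 := (blockHeight_zero_iff hM (hB i).1 (hχ i).1).1 (hχ i).2
    have h2 := card_defectGroup hM (hB i).1 (hB i).2.1
    rw [centralizer_defect_card (hD j)] at h2
    rw [Nat.pow_right_injective hp.two_le h2]
    exact h1
  have hωeq : ∀ i j, MemLocalIdeal M (centralChar (χ i : G → ℂ) (x j) - ω i j) := by
    intro i j
    obtain ⟨S, hS⟩ := hDN' j
    obtain ⟨-, hbr⟩ := classDefect_lift hDp (c j) S hS
    have h := (induced_iff_brauer hM hDp hDN le_rfl (hb i) (hB i).1).1 (hB i).2.2 (θ i)
      (mem_blockOf_self hM _) (χ i) (hχ i).1 (x j)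
    rw [← brCen_centralChar] at h
    have e := congrFun hbr (θ i)
    simp only [c] at e
    rw [e] at h
    exact ideal_sub_comm h
  have hvr : ∀ i j, MemLocalRing M ((χ i : G → ℂ) (x j)) := fun i j => irr_ring hM _ _
  intro hideal
  apply hωdet
  rw [ideal_det_iff hM (Matrix.of fun i j => (χ i : G → ℂ) (x j)) (fun i j => hvr i j)] at hideal
  set e : ι → ℕ := fun i => (charDegree (χ i : G → ℂ)).factorization p with he
  let a : ι → ResField hM := fun i =>
    red hM (((charDegree (χ i : G → ℂ) : ℕ) : ℂ) / ((p ^ e hι.some : ℕ) : ℕ))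
  let f : ι → ResField hM := fun j => red hM (((p ^ e hι.some : ℕ) : ℂ) *
    ((Nat.card (Subgroup.centralizer ({x j} : Set G)) : ℕ) : ℂ) / (Nat.card G : ℕ))
  have he' : ∀ i, e i = e hι.some := fun i => by
    have := hGf i hι.some; have := hGf hι.some hι.some; simp only [he]; omega
  have hpow : p ^ e hι.some ≠ 0 := pow_ne_zero _ hp.ne_zero
  have rf : ∀ j, MemLocalRing M (((p ^ e hι.some : ℕ) : ℂ) *
      ((Nat.card (Subgroup.centralizer ({x j} : Set G)) : ℕ) : ℂ) / (Nat.card G : ℕ)) ∧
      ¬ MemLocalIdeal M (((p ^ e hι.some : ℕ) : ℂ) *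
      ((Nat.card (Subgroup.centralizer ({x j} : Set G)) : ℕ) : ℂ) / (Nat.card G : ℕ)) := fun j => by
    have hv : (p ^ e hι.some * Nat.card (Subgroup.centralizer ({x j} : Set G))).factorization p =
        (Nat.card G).factorization p := by
      rw [Nat.factorization_mul hpow Nat.card_pos.ne', Finsupp.add_apply,
        Nat.Prime.factorization_pow hp, Finsupp.single_eq_same]
      have := hGf hι.some j; simp only [he]; omega
    rw [← Nat.cast_mul]
    exact ⟨ring_natDiv hM Nat.card_pos.ne' (mul_ne_zero hpow Nat.card_pos.ne') hv.ge,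
      natDiv_notMem hM Nat.card_pos.ne' (mul_ne_zero hpow Nat.card_pos.ne') hv.symm⟩
  have ra : ∀ i, MemLocalRing M (((charDegree (χ i : G → ℂ) : ℕ) : ℂ) / ((p ^ e hι.some : ℕ) : ℕ)) ∧
      ¬ MemLocalIdeal M (((charDegree (χ i : G → ℂ) : ℕ) : ℂ) / ((p ^ e hι.some : ℕ) : ℕ)) :=
    fun i => by
    have hv : (p ^ e hι.some).factorization p = (charDegree (χ i : G → ℂ)).factorization p := by
      rw [Nat.Prime.factorization_pow hp, Finsupp.single_eq_same]
      exact (he' i).symm
    exact ⟨ring_natDiv hM hpow (charDeg_pos _).ne' hv.le, natDiv_notMem hM hpow (charDeg_pos _).ne' hv⟩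
  have hmat : (Matrix.of fun i j => (χ i : G → ℂ) (x j)).map (red hM) =
      Matrix.of fun i j => a i * (f j * red hM (ω i j)) := by
    ext i j
    obtain ⟨-, -, hval⟩ := ring_value_factor hM (χ i) (x j) (hGf i j)
    rw [Matrix.map_apply, Matrix.of_apply, Matrix.of_apply]
    simp only [a, f]
    rw [← red_mul hM (rf j).1 (hωr i j), ← red_mul hM (ra i).1 (ring_mul hM (rf j).1 (hωr i j)),
      red_eq_red hM (hvr i j) (ring_mul hM (ra i).1 (ring_mul hM (rf j).1 (hωr i j))), hval]
    have hrw : centralChar (χ i : G → ℂ) (x j) *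
        (((Nat.card (Subgroup.centralizer ({x j} : Set G)) * charDegree (χ i : G → ℂ) : ℕ) : ℂ) /
          (Nat.card G : ℕ)) -
        ((charDegree (χ i : G → ℂ) : ℕ) : ℂ) / ((p ^ e hι.some : ℕ) : ℕ) *
          ((((p ^ e hι.some : ℕ) : ℂ) *
            ((Nat.card (Subgroup.centralizer ({x j} : Set G)) : ℕ) : ℂ) / (Nat.card G : ℕ)) *
            ω i j) =
        (centralChar (χ i : G → ℂ) (x j) - ω i j) *
          (((Nat.card (Subgroup.centralizer ({x j} : Set G)) * charDegree (χ i : G → ℂ) : ℕ) : ℂ) /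
            (Nat.card G : ℕ)) := by
      have : (((p ^ e hι.some : ℕ) : ℕ) : ℂ) ≠ 0 := Nat.cast_ne_zero.2 hpow
      push_cast at this ⊢
      field_simp
    rw [hrw]
    exact ideal_mul_right hM (hωeq i j) (ring_value_factor hM (χ i) (x j) (hGf i j)).1
  rw [hmat] at hideal
  have h1 := Matrix.det_mul_column a (Matrix.of fun i j => f j * red hM (ω i j))
  have h2 := Matrix.det_mul_row f (Matrix.of fun i j => red hM (ω i j))
  simp only [Matrix.of_apply] at h1 h2
  rw [h1, h2] at hideal
  rcases mul_eq_zero.1 hideal with h | h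
  · obtain ⟨i, -, hi⟩ := Finset.prod_eq_zero_iff.1 h
    exact absurd hi (red_ne_zero hM (ra i).1 (ra i).2)
  · rcases mul_eq_zero.1 h with h | h
    · obtain ⟨j, -, hj⟩ := Finset.prod_eq_zero_iff.1 h
      exact absurd hj (red_ne_zero hM (rf j).1 (rf j).2)
    · exact h

end Cfsg.Agent.Block
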