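import Cfsg.Agent.Lib.Block.Elementary
import Cfsg.Agent.Lib.Block.HeightLocal
import Cfsg.Agent.Lib.Block.SeparatedBlocks
import Cfsg.Prelude.Def_BlockRank

/-!
More elementary consequences of orthogonality: defect zero, rank of a block, two primes.
-/

open scoped ComplexConjugate

namespace Cfsg.Agent.Block

set_option linter.unusedSectionVars false
set_option linter.style.haveILetI false

universe u

variable {G : Type u} [Group G] [Finite G] {p : ℕ} {M : Ideal AlgInt}

theorem degree_factorization_le (χ : IrrCharacter G) (p : ℕ) :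
    (charDegree (χ : G → ℂ)).factorization p ≤ (Nat.card G).factorization p :=
  (Nat.factorization_le_iff_dvd (charDeg_pos χ).ne' Nat.card_pos.ne').2 (charDeg_dvd χ) p

theorem blockDefect_zero_iff_full (hM : IsPModular p M) {B : Set (IrrCharacter G)}
    (hB : IsPBlock M B) :
    blockDefect p B = 0 ↔
      ∀ χ ∈ B, (charDegree (χ : G → ℂ)).factorization p = (Nat.card G).factorization p := by
  obtain ⟨χ₀, hχ₀⟩ := pblock_nonempty hM hB
  set S := (fun χ : IrrCharacter G => (charDegree (χ : G → ℂ)).factorization p) '' B with hS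
  rw [blockDefect, ← hS]
  constructor
  · intro h χ hχ
    have h1 : sInf S ≤ (charDegree (χ : G → ℂ)).factorization p := Nat.sInf_le ⟨χ, hχ, rfl⟩
    have := degree_factorization_le χ p
    omega
  · intro h
    have hS' : S = {(Nat.card G).factorization p} := by
      refine Set.eq_singleton_iff_unique_mem.2 ⟨⟨χ₀, hχ₀, h χ₀ hχ₀⟩, ?_⟩
      rintro _ ⟨χ, hχ, rfl⟩
      exact h χ hχ
    rw [hS', csInf_singleton, Nat.sub_self]

theorem defectZero_singleton [Fact p.Prime] (hM : IsPModular p M) {B : Set (IrrCharacter G)}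
    (hB : IsPBlock M B) (h : blockDefect p B = 0) {χ ψ : IrrCharacter G} (hχ : χ ∈ B)
    (hψ : ψ ∈ B) : χ = ψ := by
  classical
  cases nonempty_fintype G
  by_contra hne
  have hall := (blockDefect_zero_iff_full hM hB).1 h
  have h0 : blockHeight p B (χ : G → ℂ) = 0 := by
    rw [blockHeight, hall χ hχ, Nat.sub_eq_zero_iff_le]
    refine le_csInf (Set.Nonempty.image _ ⟨χ, hχ⟩) ?_
    rintro _ ⟨η, hη, rfl⟩
    exact (hall η hη).ge
  refine regPair_unit hM hB hχ hψ h0 ?_
  have hz : regSum p (ψ : G → ℂ) (χ : G → ℂ) = 0 := by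
    rw [regSum_eq_sum, Finset.sum_subset (Finset.filter_subset _ _) fun x _ hx => by
      rw [defectZero_vanish hM ψ (hall ψ hψ) (by simpa using hx), zero_mul]]
    have h1 := Cfsg.Agent.Char.classInner_irr_ne ψ.2 χ.2 (fun e => hne (Subtype.ext e).symm)
    rw [classInner, mul_eq_zero] at h1
    exact h1.resolve_left (inv_ne_zero (Nat.cast_ne_zero.2 Nat.card_pos.ne'))
  rw [regPair, hz, zero_div]
  exact ideal_zero hM

theorem pRegularPart_apply (p : ℕ) (φ : G → ℂ) (g : G) [Decidable (IsPRegular p g)] :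
    pRegularPart p φ g = if IsPRegular p g then φ g else 0 := by
  unfold pRegularPart
  congr 1

theorem blockRank_facts [Fact p.Prime] (hM : IsPModular p M) {B : Set (IrrCharacter G)}
    (hB : IsPBlock M B) :
    blockRank p B ≤ Nat.card B ∧
      (blockDefect p B = 0 ↔ (Nat.card B = 1 ∧ blockRank p B = 1)) ∧
      (blockDefect p B = 0 ↔ Nat.card B = blockRank p B) := by
  classical
  cases nonempty_fintype G
  cases nonempty_fintype B
  set f : B → (G → ℂ) := fun χ => pRegularPart p ((χ : IrrCharacter G) : G → ℂ) with hf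
  have hrank : blockRank p B = Set.finrank ℂ (Set.range f) := by
    rw [blockRank, Set.image_eq_range]; rfl
  have hle : blockRank p B ≤ Nat.card B := by
    rw [hrank, Nat.card_eq_fintype_card]; exact finrank_range_le_card f
  -- equality forces defect zero
  have heq : Nat.card B = blockRank p B → blockDefect p B = 0 := by
    intro h
    have hli : LinearIndependent ℂ f := linearIndependent_iff_card_eq_finrank_span.2
      (by rw [← Nat.card_eq_fintype_card, h, hrank])
    refine (blockDefect_zero_iff_full hM hB).2 fun χ hχ => degree_full_of_vanish χ fun y hy => ?_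
    have h0 : ∑ ξ : B, (conj (((ξ : IrrCharacter G) : G → ℂ) y)) • f ξ = 0 := by
      funext x
      simp only [Finset.sum_apply, Pi.smul_apply, smul_eq_mul, Pi.zero_apply, hf,
        pRegularPart_apply, IsPRegular]
      by_cases hx : p ∣ orderOf x
      · simp [hx]
      · simp only [hx, not_false_eq_true, if_true]
        have hw := weak_orth hM hB hx (y := y) (by rw [hy])
        rw [finsum_mem_block, Finset.sum_subtype (p := fun ξ : IrrCharacter G => ξ ∈ B) (Finset.univ.filter (· ∈ B))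
          (fun ξ => by simp) (fun ξ => (ξ : G → ℂ) x * conj ((ξ : G → ℂ) y))] at hw
        rw [← hw]
        exact Finset.sum_congr rfl fun ξ _ => mul_comm _ _
    have := Fintype.linearIndependent_iff.1 hli _ h0 ⟨χ, hχ⟩
    simpa using this
  -- defect zero gives one character and rank one
  have hzero : blockDefect p B = 0 → Nat.card B = 1 ∧ blockRank p B = 1 := by
    intro h
    obtain ⟨χ₀, hχ₀⟩ := pblock_nonempty hM hB
    haveI : Subsingleton B := ⟨fun a b => Subtype.ext (defectZero_singleton hM hB h a.2 b.2)⟩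
    haveI : Nonempty B := ⟨⟨χ₀, hχ₀⟩⟩
    have hcard : Nat.card B = 1 := Nat.card_eq_one_iff_unique.2 ⟨inferInstance, inferInstance⟩
    refine ⟨hcard, le_antisymm (hcard ▸ hle) ?_⟩
    rw [hrank, show Set.range f = {f ⟨χ₀, hχ₀⟩} from Set.eq_singleton_iff_unique_mem.2
      ⟨⟨_, rfl⟩, by rintro _ ⟨a, rfl⟩; rw [Subsingleton.elim a ⟨χ₀, hχ₀⟩]⟩]
    refine le_of_eq (finrank_span_singleton fun h0 => ?_).symm
    have h1 := congrFun h0 1
    simp only [hf, pRegularPart_apply, IsPRegular, orderOf_one, Pi.zero_apply,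
      if_pos (Fact.out : p.Prime).not_dvd_one] at h1
    exact irr_one_ne_zero χ₀ h1
  refine ⟨hle, ⟨hzero, fun h => heq (by rw [h.1, h.2])⟩, ⟨fun h => ?_, heq⟩⟩
  rw [(hzero h).1, (hzero h).2]

theorem principal_pPrime_only [Fact p.Prime] (hM : IsPModular p M) :
    (∀ χ : IrrCharacter G, χ ∈ principalBlock M G → ¬ p ∣ charDegree (χ : G → ℂ) →
      (χ : G → ℂ) = fun _ => (1 : ℂ)) ↔ ¬ p ∣ Nat.card G := by
  classical
  cases nonempty_fintype G
  constructor
  · intro h hd
    obtain ⟨u, hu⟩ := exists_prime_orderOf_dvd_card' p hd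
    have hw := weak_orth hM (isPBlock_principalBlock (M := M) (G := G)) (x := 1) (y := u)
      (by rw [orderOf_one]; exact (Fact.out : p.Prime).not_dvd_one) (by rw [hu])
    rw [finsum_mem_block, ← Finset.add_sum_erase _ _ (Finset.mem_filter.2
      ⟨Finset.mem_univ (trivialIrr G), trivial_mem_principalBlock hM⟩)] at hw
    simp only [show ∀ g, ((trivialIrr G : IrrCharacter G) : G → ℂ) g = 1 from fun _ => rfl,
      map_one, mul_one] at hw
    refine ideal_one hM ?_
    rw [show (1 : ℂ) = -(∑ χ ∈ (Finset.univ.filter (· ∈ principalBlock M G)).erase (trivialIrr G),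
      (χ : G → ℂ) 1 * conj ((χ : G → ℂ) u)) by linear_combination hw]
    refine ideal_neg (ideal_sum hM fun χ hχ => ?_)
    obtain ⟨hne, hmem⟩ := Finset.mem_erase.1 hχ
    have hdvd : p ∣ charDegree (χ : G → ℂ) := by
      by_contra hnd
      exact hne (Subtype.ext (h χ (Finset.mem_filter.1 hmem).2 hnd))
    rw [charDeg_spec' χ]
    exact ideal_mul_right hM ((ideal_natCast_iff hM _).2 hdvd) (ring_conj_value hM χ u)
  · intro h χ hχ _
    exact Cfsg.Agent.Char.irr_const_eq_one χ.2 fun g =>
      principal_ker_of_coprime hM (K := ⊤) (by rwa [Subgroup.card_top]) hχ (Subgroup.mem_top g)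

theorem two_prime_column {p q : ℕ} [Fact p.Prime] [Fact q.Prime] (hpq : p ≠ q)
    {Mp Mq : Ideal AlgInt} (hMp : IsPModular p Mp) (hMq : IsPModular q Mq)
    (hno : ∀ g : G, orderOf g ≠ p * q) {Bp : Set (IrrCharacter G)} (hBp : IsPBlock Mp Bp)
    {Bq : Set (IrrCharacter G)} (hBq : IsPBlock Mq Bq) {y : G} (hy : p ∣ orderOf y) :
    ∃ ω : AlgInt, ∑ᶠ χ ∈ Bp ∩ Bq, (charDegree (χ : G → ℂ) : ℂ) * (χ : G → ℂ) y =
      (q : ℂ) ^ (Nat.card G).factorization q * (ω : ℂ) := by
  classical
  cases nonempty_fintype G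
  set c : IrrCharacter G → ℂ := fun χ => if χ ∈ Bp then (χ : G → ℂ) y else 0 with hc
  set ϑ : G → ℂ := ∑ χ : IrrCharacter G, c χ • (χ : G → ℂ) with hϑ
  have hcop : p.Coprime q := (Nat.coprime_primes Fact.out Fact.out).2 hpq
  have hsing : ∀ x : G, q ∣ orderOf x → ¬ p ∣ orderOf x := fun x hx hpx =>
    hno _ (orderOf_pow_orderOf_div (orderOf_pos x).ne' (hcop.mul_dvd_of_dvd_of_dvd hpx hx))
  have hϑx : ∀ x : G, q ∣ orderOf x → ϑ x = 0 := by
    intro x hx
    obtain ⟨u, v, huv, hcm, ⟨k, hk⟩, hv, -, -⟩ := exists_pPart_zpowers (p := p) y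
    have hu1 : u ≠ 1 := by
      rintro rfl
      rw [one_mul] at huv
      exact hv (huv ▸ hy)
    have h := section_orth (g := y) (h := x⁻¹) (x := u) (z := 1) hMp
      ⟨v, huv, hcm, ⟨k, hk⟩, hv⟩
      ⟨x⁻¹, one_mul _, Commute.one_left _, ⟨0, by simp⟩, by rw [orderOf_inv]; exact hsing x hx⟩
      (fun h => hu1 (isConj_one_left.1 h)) hBp
    rw [finsum_mem_block, Finset.sum_filter] at h
    rw [hϑ, Cfsg.Agent.Char.sum_irr_apply, ← h]
    refine Finset.sum_congr rfl fun χ _ => ?_
    rw [inv_inv, hc]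
    simp only [ite_mul, zero_mul]
  have hcoef : ∀ χ : IrrCharacter G, classInner ϑ (χ : G → ℂ) = c χ := fun χ =>
    Cfsg.Agent.Char.classInner_sum_irr c χ
  have hpart : ∀ w : G, q ∣ orderOf w →
      ∑ χ ∈ Finset.univ.filter (· ∈ Bq), c χ * (χ : G → ℂ) w = 0 := by
    intro w hw
    obtain ⟨u, v, huv, hcm, ⟨k, hk⟩, hv, -, -⟩ := exists_pPart_zpowers (p := q) w
    have hu1 : u ≠ 1 := by
      rintro rfl
      rw [one_mul] at huv
      exact hv (huv ▸ hw)
    have h := blockPart_eq_zero_of_vanish hMq (ϑ := ϑ) (x := u) (fun w' z hz hconj => hϑx w' (by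
      obtain ⟨i, hi⟩ := Subgroup.mem_zpowers_iff.1 (mem_zpowers_of_pPart hz)
      have hzu : orderOf z = q ^ k := by
        obtain ⟨c', rfl⟩ := isConj_iff.1 hconj
        rw [show c' * u * c'⁻¹ = MulAut.conj c' u from rfl, MulEquiv.orderOf_eq, hk]
      have hk0 : k ≠ 0 := fun h => hu1 (orderOf_eq_one_iff.1 (by rw [hk, h, pow_zero]))
      exact (dvd_pow_self q hk0).trans (hzu ▸ orderOf_dvd_of_mem_zpowers (mem_zpowers_of_pPart hz))))
      hBq (u := w) ⟨v, huv, hcm, ⟨k, hk⟩, hv⟩ (IsConj.refl u)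
    rw [blockPart, finsum_mem_block] at h
    refine Eq.trans (Finset.sum_congr rfl fun χ _ => ?_) h
    rw [← hcoef χ]
    simp only [classInner]
    congr!
  -- sum over a Sylow subgroup
  let Q : Sylow q G := default
  cases nonempty_fintype (Q : Subgroup G)
  choose m hm using fun χ : IrrCharacter G => Cfsg.Agent.Char.IsChar.classInner_nat
    (Cfsg.Agent.Char.IsChar.res (irr_isChar χ) (Q : Subgroup G))
    (Cfsg.Agent.Char.IsChar.one (G := (Q : Subgroup G)))
  have hωi : IsIntegral ℤ (∑ χ ∈ Finset.univ.filter (· ∈ Bq), c χ * (m χ : ℂ)) :=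
    IsIntegral.sum _ fun χ _ => IsIntegral.mul
      (by simp only [hc]; split_ifs <;> [exact irr_isIntegral χ y; exact isIntegral_zero])
      (by simpa using isIntegral_algebraMap (R := ℤ) (A := ℂ) (x := ((m χ : ℕ) : ℤ)))
  refine ⟨⟨_, hωi⟩, ?_⟩
  have hsum : ∑ w : (Q : Subgroup G), ∑ χ ∈ Finset.univ.filter (· ∈ Bq), c χ * (χ : G → ℂ) (w : G) =
      ∑ χ ∈ Finset.univ.filter (· ∈ Bq), c χ * (χ : G → ℂ) 1 := by
    rw [Finset.sum_eq_single (1 : (Q : Subgroup G)) (fun w _ hw => hpart w ?_)
      (fun h => absurd (Finset.mem_univ _) h)]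
    · rfl
    · obtain ⟨i, hi⟩ := pPow_of_mem Q.isPGroup' w.2
      rw [hi]
      refine dvd_pow_self q fun h => hw ?_
      rw [h, pow_zero, orderOf_eq_one_iff] at hi
      exact Subtype.ext hi
  rw [Finset.sum_comm] at hsum
  have hQ : (Nat.card (Q : Subgroup G) : ℂ) = (q : ℂ) ^ (Nat.card G).factorization q := by
    rw [show Nat.card (Q : Subgroup G) = q ^ (Nat.card G).factorization q from Q.card_eq_multiplicity]
    push_cast; rfl
  rw [finsum_mem_block (Bp ∩ Bq)]
  calc ∑ χ ∈ Finset.univ.filter (· ∈ Bp ∩ Bq), (charDegree (χ : G → ℂ) : ℂ) * (χ : G → ℂ) y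
      = ∑ χ ∈ Finset.univ.filter (· ∈ Bq), c χ * (χ : G → ℂ) 1 := by
        rw [Finset.sum_filter, Finset.sum_filter]
        refine Finset.sum_congr rfl fun χ _ => ?_
        simp only [hc, Set.mem_inter_iff, charDeg_spec' χ]
        by_cases h1 : χ ∈ Bp <;> by_cases h2 : χ ∈ Bq <;> simp [h1, h2, mul_comm]
    _ = _ := by
        rw [← hsum, Finset.mul_sum]
        refine Finset.sum_congr rfl fun χ _ => ?_
        have h := hm χ
        rw [classInner] at h
        simp only [map_one, mul_one] at h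
        rw [← Finset.mul_sum, ← hQ, ← h, ← mul_assoc, mul_comm _ (c χ), mul_assoc,
          mul_inv_cancel_left₀ (Nat.cast_ne_zero.2 Nat.card_pos.ne')]

theorem pPow_degree_defect [Fact p.Prime] (hM : IsPModular p M) (hZ : Subgroup.center G = ⊥)
    (P : Sylow p G) {a b : ℕ} (ha : Nat.card P = p ^ a)
    (hb : Nat.card (Subgroup.center (P : Subgroup G)) = p ^ b) (χ : IrrCharacter G)
    (hfaith : ∀ g : G, (χ : G → ℂ) g = (χ : G → ℂ) 1 → g = 1) (n : ℕ)
    (hdeg : charDegree (χ : G → ℂ) = p ^ n) :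
    blockDefect p (blockOf M (χ : G → ℂ)) ≤ a - b := by
  classical
  cases nonempty_fintype G
  cases nonempty_fintype (Subgroup.center (P : Subgroup G))
  set B := blockOf M (χ : G → ℂ)
  have hB : IsPBlock M B := isPBlock_blockOf χ
  have hidx : ∀ z : Subgroup.center (P : Subgroup G),
      ¬ p ∣ (Subgroup.centralizer ({((z : (P : Subgroup G)) : G)} : Set G)).index := by
    intro z hd
    have hle : (P : Subgroup G) ≤ Subgroup.centralizer ({((z : (P : Subgroup G)) : G)} : Set G) :=
      fun w hw => Subgroup.mem_centralizer_singleton_iff.2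
        (congrArg Subtype.val (Subgroup.mem_center_iff.1 z.2 ⟨w, hw⟩))
    exact P.not_dvd_index (hd.trans (Subgroup.index_dvd_of_le hle))
  have hzero : ∀ z : Subgroup.center (P : Subgroup G), z ≠ 1 →
      (χ : G → ℂ) ((z : (P : Subgroup G)) : G) = 0 := by
    intro z hz
    obtain ⟨m, ρ, hρ, hρχ⟩ := χ.2
    have hfin : Module.finrank ℂ (Fin m → ℂ) = p ^ n := by
      have h := charDeg_spec' χ
      rw [hdeg, ← hρχ, Representation.char_one] at h
      exact_mod_cast h
    rcases Cfsg.Agent.Char.character_eq_zero_or_norm_eq ρ ((z : (P : Subgroup G)) : G) (hfin ▸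
      (((Fact.out : p.Prime).coprime_iff_not_dvd.2 (hidx z)).pow_left n)) with h0 | h0
    · rw [← hρχ]; exact h0
    · exfalso
      obtain ⟨ω, hω⟩ := (Cfsg.Agent.Char.norm_character_eq_iff ρ _).mp h0
      have hzc : ((z : (P : Subgroup G)) : G) ∈ Subgroup.center G := by
        refine Subgroup.mem_center_iff.mpr fun x => ?_
        have hinj : Function.Injective ρ := by
          refine (MonoidHom.ker_eq_bot_iff ρ).mp (eq_bot_iff.2 fun g hg => ?_)
          refine Subgroup.mem_bot.2 (hfaith g ?_)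
          rw [← hρχ]
          simp [Representation.character, MonoidHom.mem_ker.1 hg]
        refine hinj ?_
        rw [map_mul, map_mul, hω, ← Module.End.one_eq_id, mul_smul_comm, smul_mul_assoc, one_mul,
          mul_one]
      rw [hZ, Subgroup.mem_bot] at hzc
      exact hz (Subtype.ext (Subtype.ext hzc))
  have hmain : ∀ ψ ∈ B, b ≤ (charDegree (ψ : G → ℂ)).factorization p := by
    intro ψ hψ
    have hd0 : (charDegree (ψ : G → ℂ) : ℂ) ≠ 0 := Nat.cast_ne_zero.2 (charDeg_pos ψ).ne'
    have hterm : ∀ z : Subgroup.center (P : Subgroup G), z ≠ 1 →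
        MemLocalIdeal M ((ψ : G → ℂ) ((z : (P : Subgroup G)) : G) / (ψ : G → ℂ) 1) := by
      intro z hz
      have h0 : MemLocalIdeal M (centralChar (ψ : G → ℂ) ((z : (P : Subgroup G)) : G)) := by
        have := pblock_sameBlock hM hB hψ (mem_blockOf_self hM χ) ((z : (P : Subgroup G)) : G)
        have hx : centralChar (χ : G → ℂ) ((z : (P : Subgroup G)) : G) = 0 := by
          rw [centralChar, hzero z hz, mul_zero, zero_div]
        rwa [hx, sub_zero] at this
      have := ideal_mul_left hM (ring_inv_natCast hM (hidx z)) h0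
      rwa [centralChar, ← mul_div_assoc, ← mul_assoc,
        inv_mul_cancel₀ (Nat.cast_ne_zero.2 (Subgroup.index_ne_zero_of_finite)), one_mul] at this
    obtain ⟨m, hm⟩ := Cfsg.Agent.Char.IsChar.classInner_nat
      (Cfsg.Agent.Char.IsChar.res (Cfsg.Agent.Char.IsChar.res (irr_isChar ψ) (P : Subgroup G))
        (Subgroup.center (P : Subgroup G)))
      (Cfsg.Agent.Char.IsChar.one (G := Subgroup.center (P : Subgroup G)))
    rw [classInner, hb] at hm
    simp only [map_one, mul_one] at hm
    set U : ℂ := ∑ z : Subgroup.center (P : Subgroup G),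
      (ψ : G → ℂ) ((z : (P : Subgroup G)) : G) / (ψ : G → ℂ) 1
    have hU : MemLocalIdeal M (U - 1) := by
      rw [show U = _ from (Finset.add_sum_erase _ _ (Finset.mem_univ
        (1 : Subgroup.center (P : Subgroup G)))).symm]
      simp only [OneMemClass.coe_one, div_self (irr_one_ne_zero ψ), add_sub_cancel_left]
      exact ideal_sum hM fun z hz => hterm z (Finset.ne_of_mem_erase hz)
    have hUd : U * (charDegree (ψ : G → ℂ) : ℂ) = (m : ℂ) * ((p ^ b : ℕ) : ℂ) := by
      rw [← hm, Finset.sum_mul, ← charDeg_spec' ψ,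
        Finset.sum_congr rfl fun z _ => div_mul_cancel₀ _ (irr_one_ne_zero ψ),
        mul_comm, ← mul_assoc,
        mul_inv_cancel₀ (Nat.cast_ne_zero.2 (pow_ne_zero _ (Fact.out : p.Prime).ne_zero)), one_mul]
    by_contra hlt
    push Not at hlt
    set d := charDegree (ψ : G → ℂ)
    set e := d.factorization p
    have hUu : ¬ MemLocalIdeal M U := fun h => ideal_one hM (by
      convert ideal_sub hM h hU using 1
      ring)
    have hdd : p ^ e * (d / p ^ e) = d := Nat.ordProj_mul_ordCompl_eq_self d p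
    have hd' : ¬ p ∣ d / p ^ e := Nat.not_dvd_ordCompl Fact.out (charDeg_pos ψ).ne'
    have hI : MemLocalIdeal M (U * ((d / p ^ e : ℕ) : ℂ)) := by
      have : U * ((d / p ^ e : ℕ) : ℂ) = (m : ℂ) * ((p ^ (b - e) : ℕ) : ℂ) := by
        have hpe : ((p ^ e : ℕ) : ℂ) ≠ 0 := Nat.cast_ne_zero.2 (pow_ne_zero _ (Fact.out : p.Prime).ne_zero)
        apply mul_left_cancel₀ hpe
        rw [mul_left_comm, ← Nat.cast_mul, hdd, hUd]
        push_cast
        rw [mul_left_comm, ← pow_add, Nat.add_sub_cancel' hlt.le]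
      rw [this]
      exact ideal_mul_left hM (ring_natCast hM m)
        ((ideal_natCast_iff hM _).2 (dvd_pow_self p (by omega)))
    exact hd' ((ideal_natCast_iff hM _).1 ((ideal_or_of_mul hM
      (by simpa using ring_add hM (ring_of_ideal hU) (ring_one hM)) (ring_natCast hM _)
        hI).resolve_left hUu))
  have hG : (Nat.card G).factorization p = a := by
    have := P.card_eq_multiplicity
    rw [ha] at this
    exact ((Nat.pow_right_injective (Fact.out : p.Prime).two_le) this).symm
  rw [blockDefect, hG]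
  refine Nat.sub_le_sub_left (le_csInf (Set.Nonempty.image _ ⟨χ, mem_blockOf_self hM χ⟩) ?_) a
  rintro _ ⟨ψ, hψ, rfl⟩
  exact hmain ψ hψ

end Cfsg.Agent.Block
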