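import Cfsg.Agent.Lib.Block.Local
import Cfsg.Agent.Lib.Block.ClassMul

/-!
Integral central elements of the group ring, described by their central character values, and
Osima's theorem: block idempotents have local integral coefficients.
-/

open scoped ComplexConjugate

namespace Cfsg.Agent.Block

set_option linter.unusedSectionVars false

universe u

variable {G : Type u} [Group G] [Finite G] {p : ℕ} {M : Ideal AlgInt}

theorem irr_isChar (χ : IrrCharacter G) : IsCharacter G (χ : G → ℂ) :=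
  Cfsg.Agent.Char.IsIrr.isCharacter χ.2

theorem irr_classFun (χ : IrrCharacter G) : IsClassFunction G (χ : G → ℂ) :=
  Cfsg.Agent.Char.IsIrr.classFun χ.2

theorem irr_one_ne_zero (χ : IrrCharacter G) : (χ : G → ℂ) 1 ≠ 0 :=
  Cfsg.Agent.Char.IsIrr.one_ne_zero χ.2

theorem irr_apply_inv (χ : IrrCharacter G) (g : G) : (χ : G → ℂ) g⁻¹ = conj ((χ : G → ℂ) g) :=
  Cfsg.Agent.Char.IsIrr.apply_inv χ.2 g

theorem irr_isIntegral (χ : IrrCharacter G) (g : G) : IsIntegral ℤ ((χ : G → ℂ) g) :=
  Cfsg.Agent.Char.IsChar.isIntegral (irr_isChar χ) g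

theorem irr_ring (hM : IsPModular p M) (χ : IrrCharacter G) (g : G) :
    MemLocalRing M ((χ : G → ℂ) g) := ring_of_integral hM (irr_isIntegral χ g)

theorem centralChar_isIntegral (χ : IrrCharacter G) (g : G) :
    IsIntegral ℤ (centralChar (χ : G → ℂ) g) :=
  Cfsg.Agent.Char.IsIrr.isIntegral_centralChar χ.2 g

theorem centralChar_ring (hM : IsPModular p M) (χ : IrrCharacter G) (g : G) :
    MemLocalRing M (centralChar (χ : G → ℂ) g) := ring_of_integral hM (centralChar_isIntegral χ g)

theorem centralizer_one_eq_top : Subgroup.centralizer ({(1 : G)} : Set G) = ⊤ :=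
  eq_top_iff.mpr fun x _ => by simp [Subgroup.mem_centralizer_singleton_iff]

theorem centralChar_one (χ : IrrCharacter G) : centralChar (χ : G → ℂ) 1 = 1 := by
  rw [centralChar, centralizer_one_eq_top, Subgroup.index_top, Nat.cast_one, one_mul,
    div_self (irr_one_ne_zero χ)]

/-- The trivial character, as a member of the set of irreducible characters. -/
def trivialIrr (G : Type u) [Group G] [Finite G] : IrrCharacter G :=
  ⟨fun _ => 1, Cfsg.Agent.Char.isIrr_one⟩

/-! ### Blocks -/

theorem sameBlock_refl (hM : IsPModular p M) (χ : G → ℂ) : SameBlock M χ χ := fun g => by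
  rw [sub_self]; exact ideal_zero hM

theorem sameBlock_symm {χ ψ : G → ℂ} (h : SameBlock M χ ψ) : SameBlock M ψ χ :=
  fun g => ideal_sub_comm (h g)

theorem sameBlock_trans (hM : IsPModular p M) {χ ψ φ : G → ℂ} (h : SameBlock M χ ψ)
    (h' : SameBlock M ψ φ) : SameBlock M χ φ := fun g => by
  simpa using ideal_add hM (h g) (h' g)

theorem mem_blockOf {χ : G → ℂ} {ψ : IrrCharacter G} :
    ψ ∈ blockOf M χ ↔ SameBlock M χ (ψ : G → ℂ) := Iff.rfl

theorem mem_blockOf_self (hM : IsPModular p M) (χ : IrrCharacter G) :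
    χ ∈ blockOf M (χ : G → ℂ) := sameBlock_refl hM _

theorem blockOf_eq (hM : IsPModular p M) {χ ψ : G → ℂ} (h : SameBlock M χ ψ) :
    blockOf M χ = blockOf M ψ :=
  Set.ext fun _ => ⟨sameBlock_trans hM (sameBlock_symm h), sameBlock_trans hM h⟩

theorem pblock_eq_blockOf (hM : IsPModular p M) {B : Set (IrrCharacter G)} (hB : IsPBlock M B)
    {χ : IrrCharacter G} (hχ : χ ∈ B) : B = blockOf M (χ : G → ℂ) := by
  obtain ⟨χ₀, rfl⟩ := hB
  exact blockOf_eq hM hχ

theorem pblock_sameBlock (hM : IsPModular p M) {B : Set (IrrCharacter G)} (hB : IsPBlock M B)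
    {χ ψ : IrrCharacter G} (hχ : χ ∈ B) (hψ : ψ ∈ B) :
    SameBlock M (χ : G → ℂ) (ψ : G → ℂ) := by
  rw [pblock_eq_blockOf hM hB hχ] at hψ
  exact hψ

theorem pblock_mem_of_sameBlock (hM : IsPModular p M) {B : Set (IrrCharacter G)}
    (hB : IsPBlock M B) {χ ψ : IrrCharacter G} (hχ : χ ∈ B)
    (h : SameBlock M (χ : G → ℂ) (ψ : G → ℂ)) : ψ ∈ B := by
  rw [pblock_eq_blockOf hM hB hχ]
  exact h

theorem pblock_nonempty (hM : IsPModular p M) {B : Set (IrrCharacter G)} (hB : IsPBlock M B) :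
    B.Nonempty := by
  obtain ⟨χ₀, rfl⟩ := hB
  exact ⟨χ₀, mem_blockOf_self hM χ₀⟩

theorem isPBlock_blockOf (χ : IrrCharacter G) : IsPBlock M (blockOf M (χ : G → ℂ)) := ⟨χ, rfl⟩

theorem principalBlock_eq :
    principalBlock M G = blockOf M ((trivialIrr G : IrrCharacter G) : G → ℂ) := rfl

theorem isPBlock_principalBlock : IsPBlock M (principalBlock M G) := ⟨trivialIrr G, rfl⟩

theorem trivial_mem_principalBlock (hM : IsPModular p M) :
    trivialIrr G ∈ principalBlock M G := mem_blockOf_self hM (trivialIrr G)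

/-! ### Central elements -/

/-- The central character of the central element with coefficient function `a`. -/
noncomputable def omegaFun [Fintype G] (χ : IrrCharacter G) (a : G → ℂ) : ℂ :=
  (∑ g : G, a g * (χ : G → ℂ) g) / (χ : G → ℂ) 1

/-- The coefficient function of the central element with prescribed central character values. -/
noncomputable def coeffFun (f : IrrCharacter G → ℂ) (g : G) : ℂ :=
  (Nat.card G : ℂ)⁻¹ * ∑ᶠ χ : IrrCharacter G, f χ * (χ : G → ℂ) 1 * (χ : G → ℂ) g⁻¹

theorem coeffFun_eq_sum [Fintype (IrrCharacter G)] (f : IrrCharacter G → ℂ) (g : G) :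
    coeffFun f g =
      (Nat.card G : ℂ)⁻¹ * ∑ χ : IrrCharacter G, f χ * (χ : G → ℂ) 1 * (χ : G → ℂ) g⁻¹ := by
  rw [coeffFun, finsum_eq_sum_of_fintype]

theorem coeffFun_classFun (f : IrrCharacter G → ℂ) : IsClassFunction G (coeffFun f) := by
  intro g h
  rw [coeffFun_eq_sum, coeffFun_eq_sum]
  congr 1
  refine Finset.sum_congr rfl fun χ _ => ?_
  rw [show (h * g * h⁻¹)⁻¹ = h * g⁻¹ * h⁻¹ by group, irr_classFun χ g⁻¹ h]

theorem omegaFun_coeffFun [Fintype G] (f : IrrCharacter G → ℂ) (χ : IrrCharacter G) :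
    omegaFun χ (coeffFun f) = f χ := by
  classical
  have hG : (Nat.card G : ℂ) ≠ 0 := Nat.cast_ne_zero.mpr Nat.card_pos.ne'
  rw [omegaFun, div_eq_iff (irr_one_ne_zero χ)]
  simp only [coeffFun_eq_sum, mul_assoc, Finset.sum_mul, Finset.mul_sum]
  rw [Finset.sum_comm]
  have h : ∀ ψ : IrrCharacter G,
      ∑ g : G, (Nat.card G : ℂ)⁻¹ * (f ψ * ((ψ : G → ℂ) 1 * ((ψ : G → ℂ) g⁻¹ * (χ : G → ℂ) g))) =
        if ψ = χ then f ψ * (ψ : G → ℂ) 1 else 0 := by
    intro ψ
    have hi : classInner (χ : G → ℂ) (ψ : G → ℂ) = if ψ = χ then 1 else 0 := by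
      split_ifs with h
      · rw [h]; exact Cfsg.Agent.Char.classInner_self_irr χ.2
      · exact Cfsg.Agent.Char.classInner_irr_ne χ.2 ψ.2 (fun he => h (Subtype.ext he.symm))
    calc _ = f ψ * (ψ : G → ℂ) 1 * classInner (χ : G → ℂ) (ψ : G → ℂ) := by
          rw [classInner, Finset.mul_sum, Finset.mul_sum]
          refine Finset.sum_congr rfl fun g _ => ?_
          rw [irr_apply_inv]; ring
      _ = _ := by rw [hi]; split_ifs <;> simp
  rw [Finset.sum_congr rfl fun ψ _ => h ψ, Finset.sum_ite_eq' Finset.univ χ]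
  simp

theorem coeffFun_omegaFun [Fintype G] {a : G → ℂ} (ha : IsClassFunction G a) :
    coeffFun (fun χ => omegaFun χ a) = a := by
  classical
  funext g
  have hG : (Nat.card G : ℂ) ≠ 0 := Nat.cast_ne_zero.mpr Nat.card_pos.ne'
  rw [coeffFun_eq_sum]
  have h1 : ∀ χ : IrrCharacter G, omegaFun χ a * (χ : G → ℂ) 1 * (χ : G → ℂ) g⁻¹ =
      ∑ h : G, a h * ((χ : G → ℂ) h * conj ((χ : G → ℂ) g)) := by
    intro χ
    rw [omegaFun, div_mul_cancel₀ _ (irr_one_ne_zero χ), Finset.sum_mul, irr_apply_inv]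
    exact Finset.sum_congr rfl fun h _ => by ring
  rw [Finset.sum_congr rfl fun χ _ => h1 χ, Finset.sum_comm]
  simp only [← Finset.mul_sum, Cfsg.Agent.Char.sum_irr_mul_conj, mul_ite, mul_zero]
  rw [← Finset.sum_filter]
  have h2 : ∀ h ∈ Finset.univ.filter (fun h => IsConj h g),
      a h * (Nat.card (Subgroup.centralizer ({g} : Set G)) : ℂ) =
      a g * (Nat.card (Subgroup.centralizer ({g} : Set G)) : ℂ) := by
    intro h hh
    rw [Cfsg.Agent.Char.IsClass.eq_of_isConj ha (Finset.mem_filter.1 hh).2]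
  rw [Finset.sum_congr rfl h2, Finset.sum_const, nsmul_eq_mul]
  have h3 : (Finset.univ.filter (fun h => IsConj h g)).card =
      (Subgroup.centralizer ({g} : Set G)).index := by
    rw [← Cfsg.Agent.Char.card_conjClass_finset g]
    congr 1
    ext x
    simp only [Finset.mem_filter, Finset.mem_univ, true_and]
    exact isConj_comm
  have h4 : ((Subgroup.centralizer ({g} : Set G)).index : ℂ) *
      (Nat.card (Subgroup.centralizer ({g} : Set G)) : ℂ) = (Nat.card G : ℂ) := by
    exact_mod_cast Subgroup.index_mul_card _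
  rw [h3, ← mul_assoc (((Subgroup.centralizer ({g} : Set G)).index : ℕ) : ℂ),
    mul_comm (((Subgroup.centralizer ({g} : Set G)).index : ℕ) : ℂ) (a g), mul_assoc (a g), h4]
  field_simp

/-- The central element with central character values `f` lies in the local group ring. -/
def CenInt (M : Ideal AlgInt) (f : IrrCharacter G → ℂ) : Prop :=
  ∀ g, MemLocalRing M (coeffFun f g)

theorem sum_classFun_conjClasses [Fintype G] [Fintype (ConjClasses G)] {F : G → ℂ}
    (hF : IsClassFunction G F) :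
    ∑ g : G, F g = ∑ C : ConjClasses G,
      ((Subgroup.centralizer ({C.out} : Set G)).index : ℂ) * F C.out := by
  classical
  rw [← Finset.sum_fiberwise Finset.univ (ConjClasses.mk : G → ConjClasses G)]
  refine Finset.sum_congr rfl fun C _ => ?_
  have hC : ConjClasses.mk C.out = C := Quotient.out_eq C
  conv_lhs => rw [← hC]
  rw [Cfsg.Agent.Char.conjClass_eq_fiber, Finset.sum_congr rfl (fun x hx =>
      (Cfsg.Agent.Char.IsClass.eq_of_isConj hF (Finset.mem_filter.1 hx).2).symm),
    Finset.sum_const, nsmul_eq_mul, Cfsg.Agent.Char.card_conjClass_finset]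

theorem omegaFun_eq_sum_classes [Fintype G] [Fintype (ConjClasses G)] (χ : IrrCharacter G)
    {a : G → ℂ} (ha : IsClassFunction G a) :
    omegaFun χ a = ∑ C : ConjClasses G, a C.out * centralChar (χ : G → ℂ) C.out := by
  rw [omegaFun, sum_classFun_conjClasses (F := fun g => a g * (χ : G → ℂ) g)
    (fun g h => by simp only [ha g h, irr_classFun χ g h]), Finset.sum_div]
  refine Finset.sum_congr rfl fun C _ => ?_
  rw [centralChar]
  ring

theorem eq_sum_centralChar [Fintype (ConjClasses G)] (f : IrrCharacter G → ℂ)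
    (χ : IrrCharacter G) :
    f χ = ∑ C : ConjClasses G, coeffFun f C.out * centralChar (χ : G → ℂ) C.out := by
  cases nonempty_fintype G
  conv_lhs => rw [← omegaFun_coeffFun f χ, omegaFun_eq_sum_classes χ (coeffFun_classFun f)]

theorem CenInt.ring (hM : IsPModular p M) {f : IrrCharacter G → ℂ} (hf : CenInt M f)
    (χ : IrrCharacter G) : MemLocalRing M (f χ) := by
  cases nonempty_fintype (ConjClasses G)
  rw [eq_sum_centralChar f χ]
  exact ring_sum hM fun C _ => ring_mul hM (hf _) (centralChar_ring hM χ _)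

theorem CenInt.congr_block (hM : IsPModular p M) {f : IrrCharacter G → ℂ} (hf : CenInt M f)
    {χ ψ : IrrCharacter G} (h : SameBlock M (χ : G → ℂ) (ψ : G → ℂ)) :
    MemLocalIdeal M (f χ - f ψ) := by
  cases nonempty_fintype (ConjClasses G)
  rw [eq_sum_centralChar f χ, eq_sum_centralChar f ψ, ← Finset.sum_sub_distrib]
  refine ideal_sum hM fun C _ => ?_
  rw [← mul_sub]
  exact ideal_mul_left hM (hf _) (h _)

theorem coeffFun_sub (f f' : IrrCharacter G → ℂ) (g : G) :
    coeffFun (f - f') g = coeffFun f g - coeffFun f' g := by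
  simp only [coeffFun_eq_sum, Pi.sub_apply, sub_mul, Finset.sum_sub_distrib, mul_sub]

theorem coeffFun_add (f f' : IrrCharacter G → ℂ) (g : G) :
    coeffFun (f + f') g = coeffFun f g + coeffFun f' g := by
  simp only [coeffFun_eq_sum, Pi.add_apply, add_mul, Finset.sum_add_distrib, mul_add]

theorem coeffFun_smul (c : ℂ) (f : IrrCharacter G → ℂ) (g : G) :
    coeffFun (fun χ => c * f χ) g = c * coeffFun f g := by
  simp only [coeffFun_eq_sum, Finset.mul_sum]
  exact Finset.sum_congr rfl fun χ _ => by ring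

/-- The convolution of two functions on the group. -/
noncomputable def convFun [Fintype G] (a b : G → ℂ) (z : G) : ℂ := ∑ h : G, a h * b (h⁻¹ * z)

theorem convFun_classFun [Fintype G] {a b : G → ℂ} (ha : IsClassFunction G a)
    (hb : IsClassFunction G b) : IsClassFunction G (convFun a b) := by
  intro z t
  refine (Fintype.sum_equiv (MulAut.conj t).toEquiv _ _ fun h => ?_).symm
  simp only [MulEquiv.toEquiv_eq_coe, MulEquiv.coe_toEquiv, MulAut.conj_apply]
  rw [ha h t, show (t * h * t⁻¹)⁻¹ * (t * z * t⁻¹) = t * (h⁻¹ * z) * t⁻¹ by group, hb]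

theorem omegaFun_convFun [Fintype G] {a b : G → ℂ}
    (hb : IsClassFunction G b) (χ : IrrCharacter G) :
    omegaFun χ (convFun a b) = omegaFun χ a * omegaFun χ b := by
  have hG : (Nat.card G : ℂ) ≠ 0 := Nat.cast_ne_zero.mpr Nat.card_pos.ne'
  have h1 : ∑ z : G, convFun a b z * (χ : G → ℂ) z =
      ∑ h : G, ∑ k : G, a h * b k * (χ : G → ℂ) (h * k) := by
    simp only [convFun, Finset.sum_mul]
    rw [Finset.sum_comm]
    refine Finset.sum_congr rfl fun h _ => ?_
    exact Fintype.sum_equiv (Equiv.mulLeft h⁻¹) _ _ fun z => by simp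
  have h2 : ∀ h : G, (Nat.card G : ℂ) * ∑ k : G, a h * b k * (χ : G → ℂ) (h * k) =
      ∑ k : G, a h * b k * ((Nat.card G : ℂ) * (χ : G → ℂ) h * (χ : G → ℂ) k / (χ : G → ℂ) 1) := by
    intro h
    calc (Nat.card G : ℂ) * ∑ k : G, a h * b k * (χ : G → ℂ) (h * k)
        = ∑ g : G, ∑ k : G, a h * b k * (χ : G → ℂ) (h * (g * k * g⁻¹)) := by
          rw [← Finset.card_univ.trans (Nat.card_eq_fintype_card (α := G)).symm, ← nsmul_eq_mul,
            ← Finset.sum_const]
          refine Finset.sum_congr rfl fun g _ => ?_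
          refine (Fintype.sum_equiv (MulAut.conj g).toEquiv _ _ fun k => ?_).symm
          simp only [MulEquiv.toEquiv_eq_coe, MulEquiv.coe_toEquiv, MulAut.conj_apply, hb k g]
      _ = _ := by
          rw [Finset.sum_comm]
          refine Finset.sum_congr rfl fun k _ => ?_
          rw [← Finset.mul_sum, sum_mul_conj]
  have h3 : (Nat.card G : ℂ) * ∑ z : G, convFun a b z * (χ : G → ℂ) z =
      (Nat.card G : ℂ) *
        ((∑ h : G, a h * (χ : G → ℂ) h) * (∑ k : G, b k * (χ : G → ℂ) k) / (χ : G → ℂ) 1) := by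
    rw [h1, Finset.mul_sum, Finset.sum_congr rfl fun h _ => h2 h, Finset.sum_mul_sum,
      Finset.sum_div, Finset.mul_sum]
    refine Finset.sum_congr rfl fun h _ => ?_
    rw [Finset.sum_div, Finset.mul_sum]
    exact Finset.sum_congr rfl fun k _ => by ring
  rw [omegaFun, omegaFun, omegaFun, mul_left_cancel₀ hG h3]
  ring

theorem coeffFun_mul [Fintype G] (f f' : IrrCharacter G → ℂ) :
    coeffFun (f * f') = convFun (coeffFun f) (coeffFun f') := by
  conv_rhs => rw [← coeffFun_omegaFun (convFun_classFun (coeffFun_classFun f) (coeffFun_classFun f'))]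
  congr 1
  funext χ
  rw [omegaFun_convFun (coeffFun_classFun f') χ, omegaFun_coeffFun, omegaFun_coeffFun,
    Pi.mul_apply]

theorem coeffFun_one (g : G) [Decidable (g = 1)] :
    coeffFun (1 : IrrCharacter G → ℂ) g = if g = 1 then 1 else 0 := by
  classical
  have hG : (Nat.card G : ℂ) ≠ 0 := Nat.cast_ne_zero.mpr Nat.card_pos.ne'
  rw [coeffFun_eq_sum]
  simp only [Pi.one_apply, one_mul]
  rw [Cfsg.Agent.Char.regular_expansion]
  simp only [inv_eq_one]
  split_ifs <;> simp [hG]

theorem cenInt_one (hM : IsPModular p M) : CenInt M (1 : IrrCharacter G → ℂ) := by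
  classical
  intro g
  rw [coeffFun_one]
  split_ifs
  · exact ring_one hM
  · exact ring_zero hM

theorem CenInt.const_mul (hM : IsPModular p M) {c : ℂ} (hc : MemLocalRing M c)
    {f : IrrCharacter G → ℂ} (hf : CenInt M f) : CenInt M (fun χ => c * f χ) := fun g => by
  rw [coeffFun_smul]
  exact ring_mul hM hc (hf g)

theorem cenInt_const (hM : IsPModular p M) {c : ℂ} (hc : MemLocalRing M c) :
    CenInt M (fun _ : IrrCharacter G => c) := by
  have := CenInt.const_mul hM hc (cenInt_one (G := G) hM)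
  simpa [Function.comp_def] using this

theorem CenInt.sub (hM : IsPModular p M) {f f' : IrrCharacter G → ℂ} (hf : CenInt M f)
    (hf' : CenInt M f') : CenInt M (f - f') := fun g => by
  rw [coeffFun_sub]; exact ring_sub hM (hf g) (hf' g)

theorem CenInt.add (hM : IsPModular p M) {f f' : IrrCharacter G → ℂ} (hf : CenInt M f)
    (hf' : CenInt M f') : CenInt M (f + f') := fun g => by
  rw [coeffFun_add]; exact ring_add hM (hf g) (hf' g)

theorem CenInt.mul (hM : IsPModular p M) {f f' : IrrCharacter G → ℂ} (hf : CenInt M f)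
    (hf' : CenInt M f') : CenInt M (f * f') := by
  cases nonempty_fintype G
  intro g
  rw [coeffFun_mul]
  exact ring_sum hM fun h _ => ring_mul hM (hf _) (hf' _)

theorem CenInt.prod (hM : IsPModular p M) {ι : Type*} {s : Finset ι}
    {f : ι → IrrCharacter G → ℂ} (h : ∀ i ∈ s, CenInt M (f i)) : CenInt M (∏ i ∈ s, f i) :=
  Finset.prod_induction f (CenInt M) (fun _ _ => CenInt.mul hM) (cenInt_one hM) h

theorem CenInt.pow (hM : IsPModular p M) {f : IrrCharacter G → ℂ} (hf : CenInt M f) :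
    ∀ n : ℕ, CenInt M (f ^ n)
  | 0 => by rw [pow_zero]; exact cenInt_one hM
  | n + 1 => by rw [pow_succ]; exact (CenInt.pow hM hf n).mul hM hf

/-- The indicator of the conjugacy class of `g`. -/
noncomputable def classInd (g : G) : G → ℂ :=
  fun x => open Classical in if IsConj g x then 1 else 0

theorem classInd_classFun (g : G) : IsClassFunction G (classInd g) := by
  intro x t
  simp only [classInd]
  have hc : IsConj x (t * x * t⁻¹) := isConj_iff.2 ⟨t, rfl⟩
  have : IsConj g (t * x * t⁻¹) ↔ IsConj g x :=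
    ⟨fun h => h.trans hc.symm, fun h => h.trans hc⟩
  classical
  exact if_congr this rfl rfl

theorem omegaFun_classInd [Fintype G] (g : G) (χ : IrrCharacter G) :
    omegaFun χ (classInd g) = centralChar (χ : G → ℂ) g := by
  classical
  simp only [omegaFun, classInd, ite_mul, one_mul, zero_mul]
  rw [← Finset.sum_filter, Finset.sum_congr rfl (fun x hx =>
      (Cfsg.Agent.Char.IsClass.eq_of_isConj (irr_classFun χ) (Finset.mem_filter.1 hx).2).symm),
    Finset.sum_const, nsmul_eq_mul, Cfsg.Agent.Char.card_conjClass_finset, centralChar]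

theorem coeffFun_centralChar (g : G) :
    coeffFun (fun χ : IrrCharacter G => centralChar (χ : G → ℂ) g) = classInd g := by
  cases nonempty_fintype G
  have := coeffFun_omegaFun (classInd_classFun g)
  simpa only [omegaFun_classInd] using this

theorem cenInt_centralChar (hM : IsPModular p M) (g : G) :
    CenInt M (fun χ : IrrCharacter G => centralChar (χ : G → ℂ) g) := by
  intro x
  rw [coeffFun_centralChar]
  simp only [classInd]
  split_ifs
  · exact ring_one hM
  · exact ring_zero hM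

/-- The indicator function of a set of irreducible characters. -/
noncomputable def blockInd (B : Set (IrrCharacter G)) : IrrCharacter G → ℂ :=
  B.indicator 1

theorem blockInd_of_mem {B : Set (IrrCharacter G)} {χ : IrrCharacter G} (h : χ ∈ B) :
    blockInd B χ = 1 := by simp [blockInd, h]

theorem blockInd_of_notMem {B : Set (IrrCharacter G)} {χ : IrrCharacter G} (h : χ ∉ B) :
    blockInd B χ = 0 := by simp [blockInd, h]

theorem blockInd_mul_self (B : Set (IrrCharacter G)) : blockInd B * blockInd B = blockInd B := by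
  funext χ
  by_cases h : χ ∈ B <;> simp [blockInd, h]

theorem blockCoeff_eq (B : Set (IrrCharacter G)) (g : G) :
    blockCoeff B g = coeffFun (blockInd B) g := by
  rw [blockCoeff, coeffFun, finsum_mem_def]
  congr 1
  refine finsum_congr fun χ => ?_
  by_cases h : χ ∈ B
  · simp [blockInd, h, irr_apply_inv]
  · simp [blockInd, h]

/-- Uniform exponent for finitely many elements of the local ring. -/
theorem exists_exponent_local (hM : IsPModular p M) {ι : Type*} [Finite ι] (x : ι → ℂ)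
    (hx : ∀ i, MemLocalRing M (x i)) (k : ℕ) :
    ∃ N : ℕ, 0 < N ∧ ∀ i,
      (MemLocalIdeal M (x i) → ∃ r, MemLocalRing M r ∧ x i ^ N = (p : ℂ) ^ k * r) ∧
      (¬ MemLocalIdeal M (x i) → ∃ r, MemLocalRing M r ∧ x i ^ N = 1 + (p : ℂ) ^ k * r) := by
  choose a b hb hab using hx
  obtain ⟨N, hN, h⟩ := exists_exponent hM
    (Set.range (fun i => (a i : ℂ)) ∪ Set.range (fun i => (b i : ℂ)))
    ((Set.finite_range _).union (Set.finite_range _))
    (by rintro z (⟨i, rfl⟩ | ⟨i, rfl⟩) <;> exact Subtype.prop _) k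
  refine ⟨N, hN, fun i => ?_⟩
  obtain ⟨h1, h2⟩ := h _ (Algebra.subset_adjoin (Or.inl ⟨i, rfl⟩))
  obtain ⟨-, hb2⟩ := h _ (Algebra.subset_adjoin (Or.inr ⟨i, rfl⟩))
  have hbi : ¬ MemLocalIdeal M (b i : ℂ) := fun hh => hb i ((ideal_coe_iff hM _).1 hh)
  have hb0 : (b i : ℂ) ≠ 0 := pmod_coe_ne_zero (hb i)
  obtain ⟨s, hs, hbs⟩ := hb2 hbi
  have hbN : ¬ MemLocalIdeal M ((b i : ℂ) ^ N) := fun hh =>
    hbi (ideal_of_pow hM (ring_coe hM _) N hh)
  have hinv : MemLocalRing M ((b i : ℂ) ^ N)⁻¹ :=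
    ring_inv hM (ring_pow hM (ring_coe hM _) N) hbN
  rw [← hab i, div_pow]
  constructor
  · intro hxi
    obtain ⟨r, hr, har⟩ := h1 (by
      have := ideal_mul_right hM hxi (ring_coe hM (b i))
      rwa [div_mul_cancel₀ _ hb0] at this)
    exact ⟨r * ((b i : ℂ) ^ N)⁻¹, ring_mul hM hr hinv, by rw [har]; ring⟩
  · intro hxi
    obtain ⟨r, hr, har⟩ := h2 (fun ha => hxi ⟨a i, b i, (ideal_coe_iff hM _).1 ha, hb i, rfl⟩)
    refine ⟨(r - s) * ((b i : ℂ) ^ N)⁻¹, ring_mul hM (ring_sub hM hr hs) hinv, ?_⟩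
    rw [har, div_eq_mul_inv]
    have h0 : (b i : ℂ) ^ N ≠ 0 := pow_ne_zero _ hb0
    field_simp
    linear_combination -hbs

/-- A central element close to the block idempotent. -/
theorem exists_cenInt_near_blockInd (hM : IsPModular p M) {B : Set (IrrCharacter G)}
    (hB : IsPBlock M B) (k : ℕ) :
    ∃ f : IrrCharacter G → ℂ, CenInt M f ∧
      ∀ χ, ∃ r, MemLocalRing M r ∧ f χ = blockInd B χ + (p : ℂ) ^ k * r := by
  classical
  obtain ⟨χ₀, rfl⟩ := hB
  have hsep : ∀ ψ : IrrCharacter G, ψ ∉ blockOf M (χ₀ : G → ℂ) →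
      ∃ g : G, ¬ MemLocalIdeal M (centralChar (χ₀ : G → ℂ) g - centralChar (ψ : G → ℂ) g) := by
    intro ψ hψ
    rw [mem_blockOf, SameBlock] at hψ
    push Not at hψ
    exact hψ
  choose g hg using hsep
  let fac : IrrCharacter G → IrrCharacter G → ℂ := fun ψ =>
    if h : ψ ∉ blockOf M (χ₀ : G → ℂ) then
      (fun χ : IrrCharacter G => centralChar (χ : G → ℂ) (g ψ h)) -
        (fun _ => centralChar (ψ : G → ℂ) (g ψ h))
    else 1
  have hfac : ∀ ψ, CenInt M (fac ψ) := by
    intro ψ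
    simp only [fac]
    split_ifs
    · exact cenInt_one hM
    · exact (cenInt_centralChar hM _).sub hM (cenInt_const hM (centralChar_ring hM _ _))
  let f₀ : IrrCharacter G → ℂ := ∏ ψ : IrrCharacter G, fac ψ
  have hf₀ : CenInt M f₀ := CenInt.prod hM fun ψ _ => hfac ψ
  have hout : ∀ χ : IrrCharacter G, χ ∉ blockOf M (χ₀ : G → ℂ) → f₀ χ = 0 := by
    intro χ hχ
    simp only [f₀, Finset.prod_apply]
    refine Finset.prod_eq_zero (Finset.mem_univ χ) ?_
    simp only [fac, dif_pos hχ, Pi.sub_apply, sub_self]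
  have hin : ∀ χ : IrrCharacter G, χ ∈ blockOf M (χ₀ : G → ℂ) → ¬ MemLocalIdeal M (f₀ χ) := by
    intro χ hχ
    simp only [f₀, Finset.prod_apply]
    refine ideal_notMem_prod hM fun ψ _ => ⟨(hfac ψ).ring hM χ, ?_⟩
    by_cases hψ : ψ ∉ blockOf M (χ₀ : G → ℂ)
    · simp only [fac, dif_pos hψ, Pi.sub_apply]
      intro h
      refine hg ψ hψ ?_
      simpa using ideal_add hM (hχ (g ψ hψ)) h
    · simp only [fac, dif_neg hψ, Pi.one_apply]
      exact ideal_one hM
  obtain ⟨N, hN, hpow⟩ := exists_exponent_local hM f₀ (fun χ => hf₀.ring hM χ) k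
  refine ⟨f₀ ^ N, hf₀.pow hM N, fun χ => ?_⟩
  by_cases hχ : χ ∈ blockOf M (χ₀ : G → ℂ)
  · rw [blockInd_of_mem hχ]
    exact (hpow χ).2 (hin χ hχ)
  · refine ⟨0, ring_zero hM, ?_⟩
    rw [blockInd_of_notMem hχ, Pi.pow_apply, hout χ hχ, zero_pow hN.ne']
    ring

/-- Coefficients of a central element whose values are divisible by a high power of `p`. -/
theorem coeffFun_ring_of_pow_dvd (hM : IsPModular p M) {f : IrrCharacter G → ℂ} {k : ℕ}
    (hk : (Nat.card G).factorization p ≤ k)
    (h : ∀ χ, ∃ r, MemLocalRing M r ∧ f χ = (p : ℂ) ^ k * r) : CenInt M f := by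
  intro g
  choose r hr hfr using h
  rw [coeffFun_eq_sum]
  simp only [hfr]
  rw [Finset.mul_sum]
  refine ring_sum hM fun χ _ => ?_
  have : (Nat.card G : ℂ)⁻¹ * ((p : ℂ) ^ k * r χ * (χ : G → ℂ) 1 * (χ : G → ℂ) g⁻¹) =
      (p : ℂ) ^ k * (r χ * ((χ : G → ℂ) 1 * (χ : G → ℂ) g⁻¹)) / (Nat.card G : ℕ) := by ring
  rw [this]
  exact ring_pow_mul_div hM Nat.card_pos.ne' hk
    (ring_mul hM (hr χ) (ring_mul hM (irr_ring hM χ 1) (irr_ring hM χ _)))

theorem coeffFun_ideal_of_pow_dvd (hM : IsPModular p M) {f : IrrCharacter G → ℂ} {k : ℕ}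
    (hk : (Nat.card G).factorization p < k)
    (h : ∀ χ, ∃ r, MemLocalRing M r ∧ f χ = (p : ℂ) ^ k * r) (g : G) :
    MemLocalIdeal M (coeffFun f g) := by
  choose r hr hfr using h
  rw [coeffFun_eq_sum]
  simp only [hfr]
  rw [Finset.mul_sum]
  refine ideal_sum hM fun χ _ => ?_
  have : (Nat.card G : ℂ)⁻¹ * ((p : ℂ) ^ k * r χ * (χ : G → ℂ) 1 * (χ : G → ℂ) g⁻¹) =
      (p : ℂ) ^ k * (r χ * ((χ : G → ℂ) 1 * (χ : G → ℂ) g⁻¹)) / (Nat.card G : ℕ) := by ring
  rw [this]
  exact ideal_pow_mul_div hM Nat.card_pos.ne' hk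
    (ring_mul hM (hr χ) (ring_mul hM (irr_ring hM χ 1) (irr_ring hM χ _)))

/-- Osima: the block idempotent has coefficients in the local ring. -/
theorem cenInt_blockInd (hM : IsPModular p M) {B : Set (IrrCharacter G)} (hB : IsPBlock M B) :
    CenInt M (blockInd B) := by
  obtain ⟨f, hf, hfB⟩ := exists_cenInt_near_blockInd hM hB ((Nat.card G).factorization p)
  have herr : CenInt M (f - blockInd B) :=
    coeffFun_ring_of_pow_dvd hM le_rfl fun χ => by
      obtain ⟨r, hr, h⟩ := hfB χ
      exact ⟨r, hr, by rw [Pi.sub_apply, h]; ring⟩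
  have := hf.sub hM herr
  simpa [Function.comp_def] using this

theorem blockCoeff_ring (hM : IsPModular p M) {B : Set (IrrCharacter G)} (hB : IsPBlock M B)
    (g : G) : MemLocalRing M (blockCoeff B g) := by
  rw [blockCoeff_eq]; exact cenInt_blockInd hM hB g

/-- A central element all whose central characters lie in the maximal ideal is nilpotent modulo
the maximal ideal. -/
theorem exists_pow_coeff_ideal (hM : IsPModular p M) {f : IrrCharacter G → ℂ}
    (hf : CenInt M f) (h : ∀ χ, MemLocalIdeal M (f χ)) :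
    ∃ N : ℕ, 0 < N ∧ ∀ g, MemLocalIdeal M (coeffFun (f ^ N) g) := by
  obtain ⟨N, hN, hpow⟩ :=
    exists_exponent_local hM f (fun χ => hf.ring hM χ) ((Nat.card G).factorization p + 1)
  exact ⟨N, hN, coeffFun_ideal_of_pow_dvd hM (Nat.lt_succ_self _) fun χ => (hpow χ).1 (h χ)⟩

end Cfsg.Agent.Block
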