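import Cfsg.Agent.Lib.Block.Principal
import Cfsg.Agent.Lib.Char.Galois
import Cfsg.Agent.Lib.Char.Quotient

/-!
Membership in the principal block by the sum over the regular elements; the column sums of the
principal block.
-/

open scoped ComplexConjugate

set_option autoImplicit false

namespace Cfsg.Agent.Block.PrinCol

open Cfsg Cfsg.Agent.Block

set_option linter.unusedSectionVars false

universe u

variable {G : Type u} [Group G] [Fintype G] {p : ℕ} [Fact p.Prime] {M : Ideal AlgInt}

/-- The sum of a function over the regular elements. -/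
noncomputable def regTot (p : ℕ) (f : G → ℂ) : ℂ :=
  ∑ x ∈ Finset.univ.filter (fun x : G => ¬ p ∣ orderOf x), f x

theorem regTot_eq_regSum (f : G → ℂ) : regTot p f = regSum p f (trivialIrr G : G → ℂ) := by
  rw [regSum_eq_sum, regTot]
  simp [trivialIrr]

/-- The principal block consists of the characters with nonzero sum over the regular elements. -/
theorem mem_principal_iff (hM : IsPModular p M) (χ : IrrCharacter G) :
    χ ∈ principalBlock M G ↔ regTot p (χ : G → ℂ) ≠ 0 := by
  rw [regTot_eq_regSum]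
  constructor
  · intro hχ h0
    refine regPair_unit hM isPBlock_principalBlock (trivial_mem_principalBlock hM) hχ ?_ ?_
    · show blockHeight p (principalBlock M G) (fun _ : G => (1 : ℂ)) = 0
      rw [blockHeight, charDeg_trivial, Nat.factorization_one]
      simp
    · rw [regPair, h0, zero_div]; exact ideal_zero hM
  · intro h
    by_contra hno
    exact h (reg_orth hM fun h' => hno (pblock_mem_of_sameBlock hM isPBlock_principalBlock
      (trivial_mem_principalBlock hM) (sameBlock_symm h')))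

/-- A field automorphism applied to an irreducible character. -/
noncomputable def galIrr (σ : ℂ ≃+* ℂ) (χ : IrrCharacter G) : IrrCharacter G :=
  ⟨fun g => σ ((χ : G → ℂ) g), Cfsg.Agent.Char.IsIrr.map_ringAut χ.2 σ⟩

theorem galIrr_mem (hM : IsPModular p M) (σ : ℂ ≃+* ℂ) {χ : IrrCharacter G}
    (hχ : χ ∈ principalBlock M G) : galIrr σ χ ∈ principalBlock M G := by
  rw [mem_principal_iff hM] at hχ ⊢
  intro h
  refine hχ (σ.injective ?_)
  rw [map_zero, ← h, regTot, regTot, map_sum]
  rfl

/-- The column sum of the principal block is a rational integer. -/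
theorem column_int (hM : IsPModular p M) (x : G) :
    ∃ m : ℤ, ∑ᶠ χ ∈ principalBlock M G, (χ : G → ℂ) x * conj ((χ : G → ℂ) x) = m := by
  classical
  rw [finsum_mem_block]
  set S := Finset.univ.filter (fun χ : IrrCharacter G => χ ∈ principalBlock M G) with hS
  set Φ : G → ℂ := ∑ χ ∈ S, (χ : G → ℂ) * fun g => conj ((χ : G → ℂ) g) with hΦ
  have hval : ∀ g, Φ g = ∑ χ ∈ S, (χ : G → ℂ) g * conj ((χ : G → ℂ) g) := fun g => by
    rw [hΦ, Finset.sum_apply]; rfl
  have hc : IsCharacter G Φ := Cfsg.Agent.Char.IsChar.sum fun χ _ =>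
    Cfsg.Agent.Char.IsChar.mul (irr_isChar χ) (Cfsg.Agent.Char.IsChar.conj (irr_isChar χ))
  obtain ⟨m, hm⟩ := Cfsg.Agent.Char.IsChar.exists_int_of_fixed hc x fun k hk => by
    obtain ⟨σ, hσ⟩ := Cfsg.Agent.Char.exists_ringAut_pow (orderOf x) k (orderOf_pos x) hk
    rw [hval, hval]
    refine Finset.sum_equiv
      ⟨galIrr σ, galIrr σ.symm, fun χ => Subtype.ext (funext fun g => σ.symm_apply_apply _),
        fun χ => Subtype.ext (funext fun g => σ.apply_symm_apply _)⟩ (fun χ => ?_) fun χ _ => ?_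
    · simp only [hS, Finset.mem_filter, Finset.mem_univ, true_and, Equiv.coe_fn_mk]
      refine ⟨galIrr_mem hM σ, fun h => ?_⟩
      have := galIrr_mem hM σ.symm h
      rwa [show galIrr σ.symm (galIrr σ χ) = χ from
        Subtype.ext (funext fun g => σ.symm_apply_apply _)] at this
    · have e := Cfsg.Agent.Char.ringAut_character_eq_pow (irr_isChar χ) σ hσ (dvd_refl (orderOf x))
      simp only [Equiv.coe_fn_mk, galIrr, e]
  exact ⟨m, (hval x).symm.trans hm⟩

variable {N : Subgroup G} [N.Normal]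

/-- Inflation from a quotient. -/
noncomputable def infl (ψ : IrrCharacter (G ⧸ N)) : IrrCharacter G :=
  ⟨fun g => (ψ : G ⧸ N → ℂ) (g : G ⧸ N),
    Cfsg.Agent.Char.IsIrr.comp_surjective (QuotientGroup.mk' N) (QuotientGroup.mk'_surjective N) ψ.2⟩

theorem infl_injective : Function.Injective (infl (N := N)) := fun a b h => by
  refine Subtype.ext (funext fun q => ?_)
  obtain ⟨g, rfl⟩ := QuotientGroup.mk'_surjective N q
  exact congrFun (congrArg Subtype.val h) g

theorem regTot_infl (hN : ¬ p ∣ Nat.card N) [Fintype (G ⧸ N)] (f : G ⧸ N → ℂ) :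
    regTot p (fun g : G => f (g : G ⧸ N)) = (Nat.card N : ℂ) * regTot p f := by
  classical
  have hreg : ∀ g : G, p ∣ orderOf g ↔ p ∣ orderOf (g : G ⧸ N) := by
    intro g
    refine ⟨fun h => ?_, fun h => h.trans (orderOf_map_dvd (QuotientGroup.mk' N) g)⟩
    have hmem : g ^ orderOf (g : G ⧸ N) ∈ N := by
      rw [← QuotientGroup.eq_one_iff, QuotientGroup.mk_pow]
      exact pow_orderOf_eq_one _
    have hdvd : orderOf g ∣ orderOf (g : G ⧸ N) * Nat.card N := by
      refine orderOf_dvd_of_pow_eq_one ?_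
      rw [pow_mul]
      exact congrArg Subtype.val (pow_card_eq_one' (x := (⟨_, hmem⟩ : N)))
    exact ((Fact.out : p.Prime).dvd_mul.1 (h.trans hdvd)).resolve_right hN
  rw [regTot, regTot, Finset.sum_filter, Finset.sum_filter]
  have := Cfsg.Agent.Char.sum_comp_surjective (QuotientGroup.mk' N) (QuotientGroup.mk'_surjective N)
    (fun q => if ¬ p ∣ orderOf q then f q else 0)
  rw [QuotientGroup.ker_mk'] at this
  rw [← this]
  refine Finset.sum_congr rfl fun g _ => ?_
  show _ = if ¬ p ∣ orderOf (g : G ⧸ N) then f (g : G ⧸ N) else 0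
  exact if_congr (not_congr (hreg g)) rfl rfl

theorem infl_mem_iff (hM : IsPModular p M) (hN : ¬ p ∣ Nat.card N) (ψ : IrrCharacter (G ⧸ N)) :
    infl ψ ∈ principalBlock M G ↔ ψ ∈ principalBlock M (G ⧸ N) := by
  letI := Fintype.ofFinite (G ⧸ N)
  rw [mem_principal_iff hM, mem_principal_iff hM]
  show regTot p (fun g : G => (ψ : G ⧸ N → ℂ) (g : G ⧸ N)) ≠ 0 ↔ _
  rw [regTot_infl hN, mul_ne_zero_iff, and_iff_right (Nat.cast_ne_zero.2 Nat.card_pos.ne')]

/-- A sum over the principal block is a sum over that of the quotient by a normal `p'`-subgroup. -/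
theorem finsum_quotient {A : Type*} [AddCommMonoid A] (hM : IsPModular p M) (hN : ¬ p ∣ Nat.card N)
    (F : IrrCharacter G → A) :
    ∑ᶠ χ ∈ principalBlock M G, F χ = ∑ᶠ ψ ∈ principalBlock M (G ⧸ N), F (infl ψ) := by
  classical
  letI := Fintype.ofFinite (G ⧸ N)
  rw [finsum_mem_block, finsum_mem_block]
  refine (Finset.sum_bij (fun ψ _ => infl ψ) (fun ψ hψ => ?_) (fun a _ b _ h => infl_injective h)
    (fun χ hχ => ?_) (fun ψ _ => rfl)).symm
  · simpa [infl_mem_iff hM hN] using hψ
  · have hχ' : χ ∈ principalBlock M G := (Finset.mem_filter.1 hχ).2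
    obtain ⟨ψ, hψ, hval⟩ := Cfsg.Agent.Char.IsIrr.exists_factor_quotient χ.2 N
      (fun k hk => principal_ker_of_coprime hM hN hχ' hk)
    have he : infl (⟨ψ, hψ⟩ : IrrCharacter (G ⧸ N)) = χ := Subtype.ext (funext hval)
    exact ⟨⟨ψ, hψ⟩, Finset.mem_filter.2 ⟨Finset.mem_univ _, (infl_mem_iff hM hN _).1 (by rwa [he])⟩, he⟩

end Cfsg.Agent.Block.PrinCol
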