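import Cfsg.Agent.Lib.Block.Brauer

/-!
Defect classes and defect groups: existence, conjugacy and the min-max theorem.
-/

namespace Cfsg.Agent.Block

set_option linter.unusedSectionVars false
set_option linter.style.haveILetI false

universe u

variable {G : Type u} [Group G] [Finite G] {p : ℕ} {M : Ideal AlgInt}

/-! ### Sylow subgroups of centralizers, as subgroups of the group -/

/-- A Sylow subgroup of a centralizer, as a subgroup of the group. -/
abbrev csyl {g : G} (Q : Sylow p (Subgroup.centralizer ({g} : Set G))) : Subgroup G :=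
  (Q : Subgroup (Subgroup.centralizer ({g} : Set G))).map
    (Subgroup.centralizer ({g} : Set G)).subtype

theorem isPGroup_csyl {g : G} (Q : Sylow p (Subgroup.centralizer ({g} : Set G))) :
    IsPGroup p (csyl Q) := Q.isPGroup'.map _

theorem csyl_le {g : G} (Q : Sylow p (Subgroup.centralizer ({g} : Set G))) :
    csyl Q ≤ Subgroup.centralizer ({g} : Set G) := Subgroup.map_subtype_le _

theorem mem_centralizer_csyl {g : G} (Q : Sylow p (Subgroup.centralizer ({g} : Set G))) :
    g ∈ Subgroup.centralizer (csyl Q : Set G) :=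
  Subgroup.mem_centralizer_iff.2 fun _ hu =>
    Subgroup.mem_centralizer_singleton_iff.1 (csyl_le Q hu)

theorem card_csyl [Fact p.Prime] {g : G} (Q : Sylow p (Subgroup.centralizer ({g} : Set G))) :
    Nat.card (csyl Q) =
      p ^ (Nat.card (Subgroup.centralizer ({g} : Set G))).factorization p := by
  rw [csyl, Subgroup.card_map_of_injective (Subgroup.subtype_injective _)]
  exact Q.card_eq_multiplicity

theorem exists_csyl_ge [Fact p.Prime] {g : G} {P : Subgroup G} (hP : IsPGroup p P)
    (hle : P ≤ Subgroup.centralizer ({g} : Set G)) :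
    ∃ Q : Sylow p (Subgroup.centralizer ({g} : Set G)), P ≤ csyl Q := by
  obtain ⟨Q, hQ⟩ :=
    (hP.of_equiv (Subgroup.subgroupOfEquivOfLe hle).symm).exists_le_sylow
  exact ⟨Q, fun u hu => ⟨⟨u, hle hu⟩, hQ (Subgroup.mem_subgroupOf.2 hu), rfl⟩⟩

theorem map_conj_le_iff {x : G} {P D : Subgroup G} :
    P.map (MulAut.conj x).toMonoidHom ≤ D ↔ ∀ u ∈ P, x * u * x⁻¹ ∈ D := by
  rw [Subgroup.map_le_iff_le_comap]
  exact ⟨fun h u hu => h hu, fun h u hu => h u hu⟩

theorem map_conj_trans {x y : G} {P D E : Subgroup G}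
    (h : P.map (MulAut.conj x).toMonoidHom ≤ D) (h' : D.map (MulAut.conj y).toMonoidHom ≤ E) :
    P.map (MulAut.conj (y * x)).toMonoidHom ≤ E := by
  rw [map_conj_le_iff] at h h' ⊢
  intro u hu
  rw [show y * x * u * (y * x)⁻¹ = y * (x * u * x⁻¹) * y⁻¹ by group]
  exact h' _ (h u hu)

theorem card_map_conj (x : G) (P : Subgroup G) :
    Nat.card (P.map (MulAut.conj x).toMonoidHom) = Nat.card P :=
  Subgroup.card_map_of_injective (MulAut.conj x).injective

theorem isPGroup_map_conj (x : G) {P : Subgroup G} (hP : IsPGroup p P) :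
    IsPGroup p (P.map (MulAut.conj x).toMonoidHom) := hP.map _

theorem exists_conj_csyl_le [Fact p.Prime] {g : G} {P : Subgroup G} (hP : IsPGroup p P)
    {c : G} (hgc : IsConj g c) (hc : c ∈ Subgroup.centralizer (P : Set G))
    (Q : Sylow p (Subgroup.centralizer ({g} : Set G))) :
    ∃ x : G, P.map (MulAut.conj x).toMonoidHom ≤ csyl Q := by
  obtain ⟨t, ht⟩ := isConj_iff.1 hgc.symm
  have hle : P.map (MulAut.conj t).toMonoidHom ≤ Subgroup.centralizer ({g} : Set G) := by
    rw [map_conj_le_iff]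
    intro u hu
    rw [Subgroup.mem_centralizer_singleton_iff, ← ht]
    have := Subgroup.mem_centralizer_iff.1 hc u hu
    calc t * u * t⁻¹ * (t * c * t⁻¹) = t * (u * c) * t⁻¹ := by group
      _ = t * (c * u) * t⁻¹ := by rw [this]
      _ = _ := by group
  obtain ⟨Q', hQ'⟩ := exists_csyl_ge (isPGroup_map_conj t hP) hle
  obtain ⟨s, hs⟩ := MulAction.exists_smul_eq (Subgroup.centralizer ({g} : Set G)) Q' Q
  refine ⟨(s : G) * t, map_conj_trans le_rfl ?_⟩
  rw [map_conj_le_iff]
  intro u hu
  obtain ⟨w, hw, rfl⟩ := hQ' hu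
  refine ⟨s * w * s⁻¹, ?_, rfl⟩
  rw [← hs, Sylow.coe_subgroup_smul]
  exact Subgroup.smul_mem_pointwise_smul w (MulAut.conj s) _ hw

theorem card_centralizer_conj (x g : G) :
    Nat.card (Subgroup.centralizer ({x * g * x⁻¹} : Set G)) =
      Nat.card (Subgroup.centralizer ({g} : Set G)) := by
  refine Nat.card_congr ((MulAut.conj x).toEquiv.subtypeEquiv fun u => ?_).symm
  simp only [SetLike.mem_coe, Subgroup.mem_centralizer_singleton_iff, MulEquiv.toEquiv_eq_coe,
    MulEquiv.coe_toEquiv, MulAut.conj_apply]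
  rw [show x * u * x⁻¹ * (x * g * x⁻¹) = x * (u * g) * x⁻¹ by group,
    show x * g * x⁻¹ * (x * u * x⁻¹) = x * (g * u) * x⁻¹ by group, mul_left_inj, mul_right_inj]

/-! ### Defect classes -/

theorem classInd_congr {g h : G} (hgh : IsConj g h) : classInd g = classInd h := by
  funext x
  simp only [classInd]
  classical
  exact if_congr ⟨hgh.symm.trans, hgh.trans⟩ rfl rfl

theorem centralChar_conj (χ : IrrCharacter G) {g h : G} (hgh : IsConj g h) :
    centralChar (χ : G → ℂ) g = centralChar (χ : G → ℂ) h := by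
  cases nonempty_fintype G
  rw [← omegaFun_classInd g χ, classInd_congr hgh, omegaFun_classInd]

theorem isDefectClass_conj {B : Set (IrrCharacter G)} {g h : G} (hgh : IsConj g h)
    (hg : IsDefectClass M B g) : IsDefectClass M B h := by
  have he : blockCoeff B g = blockCoeff B h :=
    Cfsg.Agent.Char.IsClass.eq_of_isConj (blockCoeff_classFun B) hgh
  refine ⟨he ▸ hg.1, he ▸ hg.2.1, fun χ hχ => ?_⟩
  rw [← centralChar_conj χ hgh]
  exact hg.2.2 χ hχ

theorem sum_blockCoeff_centralChar [Fintype (ConjClasses G)] {B : Set (IrrCharacter G)}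
    {χ : IrrCharacter G} (hχ : χ ∈ B) :
    ∑ C : ConjClasses G, blockCoeff B C.out * centralChar (χ : G → ℂ) C.out = 1 := by
  rw [← blockInd_of_mem hχ, eq_sum_centralChar (blockInd B) χ]
  simp only [blockCoeff_eq]

theorem exists_isDefectClass (hM : IsPModular p M) {B : Set (IrrCharacter G)}
    (hB : IsPBlock M B) : ∃ g : G, IsDefectClass M B g := by
  cases nonempty_fintype (ConjClasses G)
  obtain ⟨χ, hχ⟩ := pblock_nonempty hM hB
  by_contra hno
  simp only [IsDefectClass, not_exists, not_and, not_forall, not_not] at hno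
  refine ideal_one hM ?_
  rw [← sum_blockCoeff_centralChar hχ]
  refine ideal_sum hM fun C _ => ?_
  by_cases he : MemLocalIdeal M (blockCoeff B C.out)
  · exact ideal_mul_right hM he (centralChar_ring hM χ _)
  · obtain ⟨ψ, hψ, hω⟩ := hno C.out (blockCoeff_ring hM hB _) he
    refine ideal_mul_left hM (blockCoeff_ring hM hB _) ?_
    exact (ideal_congr hM (pblock_sameBlock hM hB hχ hψ C.out)).2 hω

theorem blockCoeff_singular (hM : IsPModular p M) {B : Set (IrrCharacter G)}
    (hB : IsPBlock M B) {g : G} (hg : p ∣ orderOf g) : blockCoeff B g = 0 := by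
  rw [blockCoeff, weak_orth hM hB (by simpa using (pmod_prime hM).not_dvd_one) hg, mul_zero]

theorem regular_of_unit (hM : IsPModular p M) {B : Set (IrrCharacter G)}
    (hB : IsPBlock M B) {g : G} (hg : ¬ MemLocalIdeal M (blockCoeff B g)) :
    ¬ p ∣ orderOf g := fun h => hg (blockCoeff_singular hM hB h ▸ ideal_zero hM)

/-! ### Defect groups -/

theorem exists_isDefectGroup (hM : IsPModular p M) {B : Set (IrrCharacter G)}
    (hB : IsPBlock M B) : ∃ D : Subgroup G, IsDefectGroup p M B D := by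
  obtain ⟨g, hg⟩ := exists_isDefectClass hM hB
  exact ⟨_, g, hg, Classical.arbitrary _, rfl⟩

theorem IsDefectGroup.isPGroup {B : Set (IrrCharacter G)} {D : Subgroup G}
    (hD : IsDefectGroup p M B D) : IsPGroup p D := by
  obtain ⟨g, -, Q, rfl⟩ := hD
  exact isPGroup_csyl Q

theorem not_brZero_of_unit {P : Subgroup G} {B : Set (IrrCharacter G)} {g : G}
    (hg : ¬ MemLocalIdeal M (blockCoeff B g)) (hgP : g ∈ Subgroup.centralizer (P : Set G)) :
    ¬ BrZero M P (blockInd B) := fun h => hg (blockCoeff_eq B g ▸ h g hgP)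

/-- The Brauer map at `P` does not kill the block exactly when `P` lies in a defect group. -/
theorem not_brZero_iff (hM : IsPModular p M) {B : Set (IrrCharacter G)} (hB : IsPBlock M B)
    {D : Subgroup G} (hD : IsDefectGroup p M B D) {P : Subgroup G} (hP : IsPGroup p P) :
    ¬ BrZero M P (blockInd B) ↔ ∃ x : G, P.map (MulAut.conj x).toMonoidHom ≤ D := by
  haveI := Fact.mk (pmod_prime hM)
  obtain ⟨g, hg, Q, rfl⟩ := hD
  constructor
  · intro he
    obtain ⟨χ, hχ⟩ := pblock_nonempty hM hB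
    obtain ⟨c, hgc, hc⟩ : ∃ c, IsConj g c ∧ c ∈ Subgroup.centralizer (P : Set G) := by
      by_contra h
      exact hg.2.2 χ hχ (ideal_of_mem_block_brZero hM hB hP he
        (fun c h1 h2 => h ⟨c, h1, h2⟩) hχ)
    exact exists_conj_csyl_le hP hgc hc Q
  · rintro ⟨x, hx⟩
    have hc : x⁻¹ * g * x ∈ Subgroup.centralizer (P : Set G) := by
      rw [Subgroup.mem_centralizer_iff]
      intro u hu
      have h := Subgroup.mem_centralizer_iff.1 (mem_centralizer_csyl Q) _
        ((map_conj_le_iff.1 hx) u hu)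
      calc u * (x⁻¹ * g * x) = x⁻¹ * ((x * u * x⁻¹) * g) * x := by group
        _ = x⁻¹ * (g * (x * u * x⁻¹)) * x := by rw [h]
        _ = _ := by group
    refine not_brZero_of_unit ?_ hc
    have hconj : IsConj g (x⁻¹ * g * x) := isConj_iff.2 ⟨x⁻¹, by group⟩
    exact (isDefectClass_conj hconj hg).2.1

theorem defectGroup_not_brZero (hM : IsPModular p M) {B : Set (IrrCharacter G)}
    (hB : IsPBlock M B) {D : Subgroup G} (hD : IsDefectGroup p M B D) :
    ¬ BrZero M D (blockInd B) :=
  (not_brZero_iff hM hB hD (IsDefectGroup.isPGroup hD)).2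
    ⟨1, map_conj_le_iff.2 fun u hu => by simpa using hu⟩

theorem exists_conj_le_of_unit (hM : IsPModular p M) {B : Set (IrrCharacter G)}
    (hB : IsPBlock M B) {D : Subgroup G} (hD : IsDefectGroup p M B D) {h : G}
    (hh : ¬ MemLocalIdeal M (blockCoeff B h))
    (Q : Sylow p (Subgroup.centralizer ({h} : Set G))) :
    ∃ x : G, (csyl Q).map (MulAut.conj x).toMonoidHom ≤ D :=
  (not_brZero_iff hM hB hD (isPGroup_csyl Q)).1
    (not_brZero_of_unit hh (mem_centralizer_csyl Q))

theorem exists_conj_le_centralizer_of_omega (hM : IsPModular p M) {B : Set (IrrCharacter G)}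
    (hB : IsPBlock M B) {D : Subgroup G} (hD : IsDefectGroup p M B D) {h : G}
    {χ : IrrCharacter G} (hχ : χ ∈ B)
    (hh : ¬ MemLocalIdeal M (centralChar (χ : G → ℂ) h))
    (Q : Sylow p (Subgroup.centralizer ({h} : Set G))) :
    ∃ x : G, D.map (MulAut.conj x).toMonoidHom ≤ csyl Q := by
  haveI := Fact.mk (pmod_prime hM)
  obtain ⟨c, hhc, hc⟩ : ∃ c, IsConj h c ∧ c ∈ Subgroup.centralizer (D : Set G) := by
    by_contra hno
    exact hh (ideal_of_mem_block_brZero hM hB (IsDefectGroup.isPGroup hD)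
      (defectGroup_not_brZero hM hB hD) (fun c h1 h2 => hno ⟨c, h1, h2⟩) hχ)
  exact exists_conj_csyl_le (IsDefectGroup.isPGroup hD) hhc hc Q

theorem defectGroup_conj (hM : IsPModular p M) {B : Set (IrrCharacter G)}
    (hB : IsPBlock M B) {D E : Subgroup G} (hD : IsDefectGroup p M B D)
    (hE : IsDefectGroup p M B E) : ∃ x : G, D.map (MulAut.conj x).toMonoidHom = E := by
  obtain ⟨x, hx⟩ := (not_brZero_iff hM hB hE (IsDefectGroup.isPGroup hD)).1
    (defectGroup_not_brZero hM hB hD)
  obtain ⟨y, hy⟩ := (not_brZero_iff hM hB hD (IsDefectGroup.isPGroup hE)).1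
    (defectGroup_not_brZero hM hB hE)
  refine ⟨x, Subgroup.eq_of_le_of_card_ge hx ?_⟩
  rw [card_map_conj]
  exact (card_map_conj y E).symm.trans_le (Subgroup.card_le_of_le hy)

theorem defectGroup_card_eq (hM : IsPModular p M) {B : Set (IrrCharacter G)}
    (hB : IsPBlock M B) {D E : Subgroup G} (hD : IsDefectGroup p M B D)
    (hE : IsDefectGroup p M B E) : Nat.card D = Nat.card E := by
  obtain ⟨x, rfl⟩ := defectGroup_conj hM hB hD hE
  exact (card_map_conj x D).symm

theorem isDefectGroup_map_conj (hM : IsPModular p M) {B : Set (IrrCharacter G)}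
    {D : Subgroup G} (hD : IsDefectGroup p M B D) (x : G) :
    IsDefectGroup p M B (D.map (MulAut.conj x).toMonoidHom) := by
  haveI := Fact.mk (pmod_prime hM)
  obtain ⟨g, hg, Q, rfl⟩ := hD
  have hle : (csyl Q).map (MulAut.conj x).toMonoidHom ≤
      Subgroup.centralizer ({x * g * x⁻¹} : Set G) := by
    rw [map_conj_le_iff]
    intro u hu
    have h := Subgroup.mem_centralizer_singleton_iff.1 (csyl_le Q hu)
    rw [Subgroup.mem_centralizer_singleton_iff]
    calc x * u * x⁻¹ * (x * g * x⁻¹) = x * (u * g) * x⁻¹ := by group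
      _ = x * (g * u) * x⁻¹ := by rw [h]
      _ = _ := by group
  obtain ⟨Q', hQ'⟩ := exists_csyl_ge (isPGroup_map_conj x (isPGroup_csyl Q)) hle
  refine ⟨x * g * x⁻¹, isDefectClass_conj (isConj_iff.2 ⟨x, rfl⟩) hg, Q',
    Subgroup.eq_of_le_of_card_ge hQ' ?_⟩
  rw [card_map_conj, card_csyl, card_csyl, card_centralizer_conj]

theorem exists_defectGroup_ge (hM : IsPModular p M) {B : Set (IrrCharacter G)}
    (hB : IsPBlock M B) {P : Subgroup G} (hP : IsPGroup p P)
    (he : ¬ BrZero M P (blockInd B)) : ∃ D : Subgroup G, IsDefectGroup p M B D ∧ P ≤ D := by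
  obtain ⟨D, hD⟩ := exists_isDefectGroup hM hB
  obtain ⟨x, hx⟩ := (not_brZero_iff hM hB hD hP).1 he
  refine ⟨D.map (MulAut.conj x⁻¹).toMonoidHom, isDefectGroup_map_conj hM hD x⁻¹, fun u hu => ?_⟩
  exact ⟨x * u * x⁻¹, (map_conj_le_iff.1 hx) u hu, by simp [mul_assoc]⟩

theorem normal_le_defectGroup (hM : IsPModular p M) {B : Set (IrrCharacter G)}
    (hB : IsPBlock M B) {D : Subgroup G} (hD : IsDefectGroup p M B D) {P : Subgroup G}
    [hPn : P.Normal] (hP : IsPGroup p P) : P ≤ D := by
  haveI := Fact.mk (pmod_prime hM)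
  obtain ⟨g, hg, Q, rfl⟩ := hD
  obtain ⟨χ, hχ⟩ := pblock_nonempty hM hB
  have hgC : g ∈ Subgroup.centralizer (P : Set G) := by
    by_contra h
    exact hg.2.2 χ hχ (centralChar_ideal_of_normal hM hP h χ)
  obtain ⟨x, hx⟩ := exists_conj_csyl_le hP (IsConj.refl g) hgC Q
  intro u hu
  have h := (map_conj_le_iff.1 hx) (x⁻¹ * u * x)
    (by simpa using hPn.conj_mem u hu x⁻¹)
  simpa [mul_assoc] using h

end Cfsg.Agent.Block
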