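import Cfsg.Agent.Lib.Block.Central

/-!
Reduction modulo the local ideal: sums over fixed points of a `p`-group, and central elements of
the modular group algebra which are killed by the sum of the elements of a `p`-subgroup.
-/

namespace Cfsg.Agent.Block

set_option linter.unusedSectionVars false
set_option linter.style.haveILetI false

universe u

/-- A sum invariant under a `p`-group reduces to its fixed points when `p` kills the summands. -/
theorem sum_eq_sum_fixed {A : Type*} [AddCommMonoid A] {p : ℕ} [Fact p.Prime]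
    (hp : ∀ x : A, p • x = 0) {α P : Type*} [Fintype α] [Group P] [Finite P] [MulAction P α]
    (hP : IsPGroup p P) (F : α → A) (hF : ∀ (u : P) (a : α), F (u • a) = F a) :
    ∑ a, F a = ∑ᶠ a ∈ MulAction.fixedPoints P α, F a := by
  classical
  rw [← Finset.sum_filter_add_sum_filter_not Finset.univ (· ∈ MulAction.fixedPoints P α) F,
    ← finsum_mem_coe_finset, Finset.coe_filter_univ]
  suffices h : ∑ a ∈ Finset.univ.filter (fun a => ¬ a ∈ MulAction.fixedPoints P α), F a = 0 by
    rw [h, add_zero]; rfl
  rw [← Finset.sum_fiberwise _ (fun a => (⟦a⟧ : MulAction.orbitRel.Quotient P α))]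
  refine Finset.sum_eq_zero fun q _ => ?_
  rcases Finset.eq_empty_or_nonempty ((Finset.univ.filter
    (fun a => ¬ a ∈ MulAction.fixedPoints P α)).filter
    (fun a => (⟦a⟧ : MulAction.orbitRel.Quotient P α) = q)) with h | ⟨a₀, ha₀⟩
  · rw [h, Finset.sum_empty]
  simp only [Finset.mem_filter, Finset.mem_univ, true_and] at ha₀
  have hset : ((Finset.univ.filter (fun a => ¬ a ∈ MulAction.fixedPoints P α)).filter
      (fun a => (⟦a⟧ : MulAction.orbitRel.Quotient P α) = q)) =
      Finset.univ.filter (fun a => a ∈ MulAction.orbit P a₀) := by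
    ext a
    simp only [Finset.mem_filter, Finset.mem_univ, true_and]
    constructor
    · rintro ⟨-, h⟩
      exact MulAction.orbitRel_apply.1 (Quotient.exact (h.trans ha₀.2.symm))
    · intro h
      refine ⟨fun hfix => ha₀.1 ?_,
        (Quotient.sound (MulAction.orbitRel_apply.2 h)).trans ha₀.2⟩
      obtain ⟨u, rfl⟩ := h
      have h1 : a₀ = u • a₀ := by simpa using hfix u⁻¹
      rw [h1]
      exact hfix
  rw [hset, Finset.sum_congr rfl (fun a ha => show F a = F a₀ by
    obtain ⟨u, rfl⟩ := (Finset.mem_filter.1 ha).2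
    exact hF u a₀), Finset.sum_const]
  obtain ⟨n, hn⟩ := hP.card_orbit a₀
  have hcard : (Finset.univ.filter (fun a => a ∈ MulAction.orbit P a₀)).card = p ^ n := by
    rw [← hn, Nat.card_eq_fintype_card, Fintype.card_subtype]
  rcases n with _ | n
  · refine absurd (fun u => ?_) ha₀.1
    rw [pow_zero, Finset.card_eq_one] at hcard
    obtain ⟨b, hb⟩ := hcard
    have h1 : ∀ c ∈ MulAction.orbit P a₀, c = b := fun c hc =>
      Finset.mem_singleton.1 (hb ▸ Finset.mem_filter.2 ⟨Finset.mem_univ c, hc⟩)
    exact (h1 _ (MulAction.mem_orbit a₀ u)).trans (h1 a₀ (MulAction.mem_orbit_self a₀)).symm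
  · rw [hcard, pow_succ, mul_nsmul', hp, nsmul_zero]

variable {G : Type u} [Group G] [Finite G] {p : ℕ} {M : Ideal AlgInt}

theorem localIdeal_isMaximal (hM : IsPModular p M) : (localIdeal hM).IsMaximal := by
  rw [Ideal.isMaximal_iff]
  refine ⟨fun h => ideal_one hM (by simpa using (mem_localIdeal hM).1 h),
    fun J x _ hx hxJ => ?_⟩
  have hx' : ¬ MemLocalIdeal M (x : ℂ) := fun h => hx ((mem_localIdeal hM).2 h)
  have h0 : (x : ℂ) ≠ 0 := fun h => hx' (h ▸ ideal_zero hM)
  have h1 : (1 : localRing hM) = ⟨(x : ℂ)⁻¹, ring_inv hM x.2 hx'⟩ * x :=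
    Subtype.ext (by simp [inv_mul_cancel₀ h0])
  rw [h1]
  exact J.mul_mem_left _ hxJ

/-- The residue field of the local ring. -/
abbrev ResField (hM : IsPModular p M) : Type := localRing hM ⧸ localIdeal hM

@[reducible] noncomputable def resInst (hM : IsPModular p M) : Field (ResField hM) :=
  haveI := localIdeal_isMaximal hM
  Ideal.Quotient.field _

/-- Reduction of a complex number, zero outside the local ring. -/
noncomputable def red (hM : IsPModular p M) (z : ℂ) : ResField hM :=
  open Classical in if h : MemLocalRing M z then Ideal.Quotient.mk _ ⟨z, h⟩ else 0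

theorem red_mk (hM : IsPModular p M) {z : ℂ} (h : MemLocalRing M z) :
    red hM z = Ideal.Quotient.mk _ ⟨z, h⟩ := dif_pos h

theorem red_eq_zero (hM : IsPModular p M) {z : ℂ} (h : MemLocalRing M z) :
    red hM z = 0 ↔ MemLocalIdeal M z := by
  rw [red_mk hM h, Ideal.Quotient.eq_zero_iff_mem, mem_localIdeal hM]

theorem red_eq_red (hM : IsPModular p M) {z w : ℂ} (hz : MemLocalRing M z)
    (hw : MemLocalRing M w) : red hM z = red hM w ↔ MemLocalIdeal M (z - w) := by
  rw [red_mk hM hz, red_mk hM hw, Ideal.Quotient.eq, mem_localIdeal hM]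
  rfl

theorem red_zero (hM : IsPModular p M) : red hM 0 = 0 :=
  (red_eq_zero hM (ring_zero hM)).2 (ideal_zero hM)

theorem red_one (hM : IsPModular p M) : red hM 1 = 1 := by
  rw [red_mk hM (ring_one hM)]; rfl

theorem red_add (hM : IsPModular p M) {z w : ℂ} (hz : MemLocalRing M z) (hw : MemLocalRing M w) :
    red hM (z + w) = red hM z + red hM w := by
  rw [red_mk hM hz, red_mk hM hw, red_mk hM (ring_add hM hz hw), ← map_add]; rfl

theorem red_mul (hM : IsPModular p M) {z w : ℂ} (hz : MemLocalRing M z) (hw : MemLocalRing M w) :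
    red hM (z * w) = red hM z * red hM w := by
  rw [red_mk hM hz, red_mk hM hw, red_mk hM (ring_mul hM hz hw), ← map_mul]; rfl

theorem red_sum (hM : IsPModular p M) {ι : Type*} {s : Finset ι} {f : ι → ℂ}
    (h : ∀ i ∈ s, MemLocalRing M (f i)) : red hM (∑ i ∈ s, f i) = ∑ i ∈ s, red hM (f i) := by
  classical
  induction s using Finset.induction with
  | empty => simpa using red_zero hM
  | insert i s hi ih =>
    rw [Finset.sum_insert hi, Finset.sum_insert hi,
      red_add hM (h i (Finset.mem_insert_self i s))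
        (ring_sum hM fun j hj => h j (Finset.mem_insert_of_mem hj)),
      ih fun j hj => h j (Finset.mem_insert_of_mem hj)]

theorem resField_p (hM : IsPModular p M) : ((p : ℕ) : ResField hM) = 0 := by
  rw [← map_natCast (Ideal.Quotient.mk (localIdeal hM)), Ideal.Quotient.eq_zero_iff_mem,
    mem_localIdeal hM]
  simpa using ideal_p hM

theorem resField_charP (hM : IsPModular p M) : CharP (ResField hM) p := by
  haveI := localIdeal_isMaximal hM
  haveI : Nontrivial (ResField hM) :=
    Ideal.Quotient.nontrivial_iff.2 (localIdeal_isMaximal hM).ne_top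
  exact ringChar.of_eq (CharP.ringChar_of_prime_eq_zero (pmod_prime hM) (resField_p hM))

/-- Sums invariant under a `p`-group are congruent to the sum over the fixed points. -/
theorem ideal_sum_sub_fixed (hM : IsPModular p M) {α P : Type*} [Fintype α] [Group P] [Finite P]
    [MulAction P α] (hP : IsPGroup p P) {F : α → ℂ} (hr : ∀ a, MemLocalRing M (F a))
    (hF : ∀ (u : P) (a : α), F (u • a) = F a) :
    MemLocalIdeal M (∑ a, F a - ∑ᶠ a ∈ MulAction.fixedPoints P α, F a) := by
  classical
  haveI := Fact.mk (pmod_prime hM)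
  have h := sum_eq_sum_fixed (A := ResField hM) (p := p)
    (fun x => by rw [nsmul_eq_mul, resField_p, zero_mul]) hP (fun a => red hM (F a))
    (fun u a => by rw [hF u a])
  rw [finsum_mem_eq_sum_of_inter_support_eq _
      (t := Finset.univ.filter (· ∈ MulAction.fixedPoints P α)) (by ext; simp),
    ← red_sum hM (fun a _ => hr a), ← red_sum hM (fun a _ => hr a),
    red_eq_red hM (ring_sum hM fun a _ => hr a) (ring_sum hM fun a _ => hr a)] at h
  rwa [finsum_mem_eq_sum_of_inter_support_eq _
    (t := Finset.univ.filter (· ∈ MulAction.fixedPoints P α)) (by ext; simp)]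

/-- In characteristic `p`, a nonzero vector in a subspace of the group algebra stable under right
multiplication by a `p`-group yields a nonzero fixed vector there. -/
theorem exists_fixed_ne_zero {k : Type*} [Field k] [CharP k p] [Fact p.Prime] (P : Subgroup G)
    (hP : IsPGroup p P) (W : Submodule k (MonoidAlgebra k G))
    (hW : ∀ u ∈ P, ∀ f ∈ W, f * MonoidAlgebra.single u (1 : k) ∈ W) (hW0 : W ≠ ⊥) :
    ∃ f ∈ W, f ≠ 0 ∧ ∀ u ∈ P, f * MonoidAlgebra.single u (1 : k) = f := by
  classical
  cases nonempty_fintype P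
  obtain ⟨v, hv, hv0⟩ := Submodule.exists_mem_ne_zero_of_ne_bot hW0
  let φ : (P → ZMod p) →+ MonoidAlgebra k G :=
    { toFun := fun c => ∑ u : P, (ZMod.castHom (dvd_refl p) k (c u)) •
        (v * MonoidAlgebra.single (u : G) (1 : k))
      map_zero' := by simp
      map_add' := fun a b => by simp [add_smul, Finset.sum_add_distrib] }
  have hφW : ∀ c, φ c ∈ W := fun c =>
    W.sum_mem fun u _ => W.smul_mem _ (hW u u.2 v hv)
  have hv' : v ∈ φ.range := by
    refine ⟨Pi.single 1 1, ?_⟩
    show ∑ u : P, _ = v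
    rw [Finset.sum_eq_single (1 : P)]
    · simp [← MonoidAlgebra.one_def]
    · intro u _ hu
      simp [hu]
    · exact fun h => absurd (Finset.mem_univ _) h
  have hshift : ∀ (c : P → ZMod p) (w : P),
      φ c * MonoidAlgebra.single (w : G) (1 : k) = φ (fun u => c (u * w⁻¹)) := by
    intro c w
    show (∑ u : P, _) * _ = ∑ u : P, _
    rw [Finset.sum_mul]
    refine Fintype.sum_equiv (Equiv.mulRight w) _ _ fun u => ?_
    simp [smul_mul_assoc, mul_assoc, MonoidAlgebra.single_mul_single]
  letI : MulAction P φ.range :=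
    { smul := fun w f => ⟨(f : MonoidAlgebra k G) * MonoidAlgebra.single ((w : G)⁻¹) (1 : k), by
        obtain ⟨c, hc⟩ := f.2
        exact ⟨fun u => c (u * w), by
          rw [← hc, ← Subgroup.coe_inv, hshift]
          simp⟩⟩
      one_smul := fun f => Subtype.ext (show (f : MonoidAlgebra k G) *
        MonoidAlgebra.single (((1 : P) : G)⁻¹) (1 : k) = f by simp [← MonoidAlgebra.one_def])
      mul_smul := fun a b f => Subtype.ext (show (f : MonoidAlgebra k G) *
          MonoidAlgebra.single (((a * b : P) : G)⁻¹) (1 : k) =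
          ((f : MonoidAlgebra k G) * MonoidAlgebra.single ((b : G)⁻¹) (1 : k)) *
            MonoidAlgebra.single ((a : G)⁻¹) (1 : k) by
        simp [mul_assoc, MonoidAlgebra.single_mul_single, mul_inv_rev]) }
  haveI : Finite φ.range := Finite.of_surjective φ.rangeRestrict φ.rangeRestrict_surjective
  have hdvd : p ∣ Nat.card φ.range := by
    have h1 : Nat.card φ.range ∣ Nat.card (P → ZMod p) := AddSubgroup.card_range_dvd φ
    rw [Nat.card_fun, Nat.card_zmod] at h1
    obtain ⟨j, -, hj⟩ := (Nat.dvd_prime_pow (Fact.out : p.Prime)).1 h1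
    rcases j with _ | j
    · rw [pow_zero, Nat.card_eq_one_iff_unique] at hj
      exact absurd (congrArg Subtype.val
        (hj.1.elim (⟨v, hv'⟩ : φ.range) ⟨0, zero_mem _⟩)) hv0
    · rw [hj, pow_succ]; exact dvd_mul_left _ _
  have h0 : (⟨0, zero_mem _⟩ : φ.range) ∈ MulAction.fixedPoints P φ.range := fun w =>
    Subtype.ext (show (0 : MonoidAlgebra k G) * _ = 0 from zero_mul _)
  obtain ⟨f, hf, hne⟩ := hP.exists_fixed_point_of_prime_dvd_card_of_fixed_point φ.range hdvd h0
  refine ⟨f, ?_, fun h => hne (Subtype.ext h.symm), fun u hu => ?_⟩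
  · obtain ⟨c, hc⟩ := f.2
    exact hc ▸ hφW c
  · have h2 : (f : MonoidAlgebra k G) * MonoidAlgebra.single (((⟨u⁻¹, inv_mem hu⟩ : P) : G)⁻¹)
        (1 : k) = f := congrArg Subtype.val (hf ⟨u⁻¹, inv_mem hu⟩)
    simpa using h2

/-- A sum over the group, coset by coset. -/
theorem sum_coset_mul {A : Type*} [AddCommMonoid A] [Fintype G] (U : Subgroup G) [Fintype U]
    [Fintype (G ⧸ U)] (f : G → A) :
    ∑ t : G ⧸ U, ∑ w : U, f (t.out * w) = ∑ g : G, f g := by
  rw [← Fintype.sum_prod_type']
  refine Fintype.sum_bijective (fun tw : (G ⧸ U) × U => tw.1.out * (tw.2 : G)) ⟨?_, ?_⟩ _ _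
    (fun _ => rfl)
  · intro a b hab
    obtain ⟨a1, a2⟩ := a
    obtain ⟨b1, b2⟩ := b
    simp only at hab
    have h1 : a1 = b1 := by
      have := congrArg (QuotientGroup.mk : G → G ⧸ U) hab
      rwa [QuotientGroup.mk_mul_of_mem _ a2.2, QuotientGroup.mk_mul_of_mem _ b2.2,
        QuotientGroup.out_eq', QuotientGroup.out_eq'] at this
    subst h1
    rw [Subtype.ext (mul_left_cancel hab)]
  · intro g
    refine ⟨(QuotientGroup.mk g, ⟨(QuotientGroup.mk g : G ⧸ U).out⁻¹ * g, ?_⟩), by simp⟩
    exact QuotientGroup.eq.1 (QuotientGroup.out_eq' _)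

/-- In characteristic `p`, a central element killed by the sum of the elements of a `p`-subgroup
is nilpotent. -/
theorem isNilpotent_of_mul_sum_eq_zero {k : Type*} [Field k] [CharP k p] [Fact p.Prime]
    (P : Subgroup G) [Fintype P] (hP : IsPGroup p P) (a : MonoidAlgebra k G)
    (hcen : ∀ f, a * f = f * a)
    (hsum : a * ∑ u : P, MonoidAlgebra.single (u : G) (1 : k) = 0) : IsNilpotent a := by
  classical
  cases nonempty_fintype G
  haveI : Module.Finite k (MonoidAlgebra k G) :=
    Module.Finite.equiv (MonoidAlgebra.coeffLinearEquiv k).symm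
  obtain ⟨n₀, hn⟩ := Filter.eventually_atTop.1
    (Module.End.eventually_disjoint_ker_pow_range_pow (LinearMap.mulLeft k a))
  by_contra hnil
  let W := LinearMap.range ((LinearMap.mulLeft k a) ^ (n₀ + 1))
  have hW : W ≠ ⊥ := by
    intro h
    refine hnil ⟨n₀ + 1, ?_⟩
    have h1 : ((LinearMap.mulLeft k a) ^ (n₀ + 1)) 1 ∈ W := LinearMap.mem_range_self _ 1
    rw [h, Submodule.mem_bot, LinearMap.pow_mulLeft, LinearMap.mulLeft_apply, mul_one] at h1
    exact h1
  obtain ⟨f, hfW, hf0, hfix⟩ := exists_fixed_ne_zero P hP W (by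
    rintro u - f ⟨g, rfl⟩
    exact ⟨g * MonoidAlgebra.single u (1 : k), by simp [LinearMap.pow_mulLeft, mul_assoc]⟩) hW
  have haf : a * f = 0 := by
    let Q : G → MonoidAlgebra k G := fun t =>
      MonoidAlgebra.single t (1 : k) * ∑ u : P, MonoidAlgebra.single (u : G) (1 : k)
    have hval : ∀ g : G, ∀ u : P, f.coeff (g * u) = f.coeff g := fun g u => by
      conv_lhs => rw [← hfix u u.2]
      rw [MonoidAlgebra.coeff_mul_single_apply]
      simp
    have hdec : f = ∑ t : G ⧸ P, f.coeff t.out • Q t.out := by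
      calc f = ∑ g : G, f.coeff g • MonoidAlgebra.single g (1 : k) := by
            ext g
            simp [Finsupp.single_apply, MonoidAlgebra.coeff_sum, MonoidAlgebra.coeff_smul]
        _ = ∑ g : G, (fun g => f.coeff g • MonoidAlgebra.single g (1 : k)) g := rfl
        _ = _ := by
            rw [← sum_coset_mul P]
            refine Finset.sum_congr rfl fun t _ => ?_
            simp only [Q, Finset.mul_sum, Finset.smul_sum, MonoidAlgebra.single_mul_single,
              mul_one]
            refine Finset.sum_congr rfl fun u _ => ?_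
            rw [hval t.out u]
    rw [hdec, Finset.mul_sum]
    refine Finset.sum_eq_zero fun t _ => ?_
    rw [mul_smul_comm, show a * Q t.out = 0 by
      simp only [Q]; rw [← mul_assoc, hcen, mul_assoc, hsum, mul_zero], smul_zero]
  refine hf0 (Submodule.disjoint_def.1 (hn (n₀ + 1) (Nat.le_succ _)) f ?_ hfW)
  rw [LinearMap.mem_ker, LinearMap.pow_mulLeft, LinearMap.mulLeft_apply, pow_succ, mul_assoc, haf,
    mul_zero]

end Cfsg.Agent.Block
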