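import Cfsg.Agent.Lib.Block.FirstMain
import Cfsg.Agent.Lib.Block.Residue
import Cfsg.Agent.Lib.Block.Defect
import Mathlib.GroupTheory.Nilpotent
import Mathlib.Algebra.CharP.Algebra

/-!
Green's theorem: a defect group is the intersection of two Sylow subgroups.

The reduced block idempotent cannot be supported on the double cosets `P x P` whose two-sided
stabiliser exceeds the defect group: projecting on these and multiplying by the idempotent
would push the idempotent into every term of the augmentation filtration.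
-/

namespace Cfsg.Agent.Block

set_option linter.unusedSectionVars false
set_option linter.style.haveILetI false

universe u v w

variable {G : Type u} [Group G] [Finite G] {p : ℕ} {M : Ideal AlgInt}

/-- A finite `p`-group acting on a nonzero space of characteristic `p` fixes a nonzero vector. -/
theorem exists_fixed_vector {k : Type v} [Field k] [CharP k p] [Fact p.Prime]
    {Q : Type u} [Group Q] [Finite Q] (hQ : IsPGroup p Q)
    {V : Type w} [AddCommGroup V] [Module k V] (ρ : Q →* (V →ₗ[k] V)) {v₀ : V} (hv₀ : v₀ ≠ 0) :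
    ∃ v : V, v ≠ 0 ∧ ∀ u, ρ u v = v := by
  classical
  cases nonempty_fintype Q
  let φ : (Q → ZMod p) →+ V :=
    { toFun := fun c => ∑ u : Q, (ZMod.castHom (dvd_refl p) k (c u)) • ρ u v₀
      map_zero' := by simp
      map_add' := fun a b => by simp [add_smul, Finset.sum_add_distrib] }
  have hv' : v₀ ∈ φ.range := by
    refine ⟨Pi.single 1 1, ?_⟩
    show ∑ u : Q, _ = v₀
    rw [Finset.sum_eq_single (1 : Q)]
    · simp
    · intro u _ hu
      simp [hu]
    · exact fun h => absurd (Finset.mem_univ _) h
  have hshift : ∀ (c : Q → ZMod p) (t : Q), ρ t (φ c) = φ (fun u => c (t⁻¹ * u)) := by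
    intro c t
    show ρ t (∑ u : Q, _) = ∑ u : Q, _
    rw [map_sum]
    refine Fintype.sum_equiv (Equiv.mulLeft t) _ _ fun u => ?_
    simp [map_mul]
  letI : MulAction Q φ.range :=
    { smul := fun t f => ⟨ρ t f, by
        obtain ⟨c, hc⟩ := f.2
        exact ⟨fun u => c (t⁻¹ * u), by rw [← hc, hshift]⟩⟩
      one_smul := fun f => Subtype.ext (show ρ 1 (f : V) = f by simp)
      mul_smul := fun a b f => Subtype.ext (show ρ (a * b) (f : V) = ρ a (ρ b f) by simp) }
  haveI : Finite φ.range := Finite.of_surjective φ.rangeRestrict φ.rangeRestrict_surjective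
  have hdvd : p ∣ Nat.card φ.range := by
    have h1 : Nat.card φ.range ∣ Nat.card (Q → ZMod p) := AddSubgroup.card_range_dvd φ
    rw [Nat.card_fun, Nat.card_zmod] at h1
    obtain ⟨j, -, hj⟩ := (Nat.dvd_prime_pow (Fact.out : p.Prime)).1 h1
    rcases j with _ | j
    · rw [pow_zero, Nat.card_eq_one_iff_unique] at hj
      exact absurd (congrArg Subtype.val
        (hj.1.elim (⟨v₀, hv'⟩ : φ.range) ⟨0, zero_mem _⟩)) hv₀
    · rw [hj, pow_succ]; exact dvd_mul_left _ _
  have h0 : (⟨0, zero_mem _⟩ : φ.range) ∈ MulAction.fixedPoints Q φ.range := fun t =>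
    Subtype.ext (show ρ t (0 : V) = 0 from map_zero _)
  obtain ⟨f, hf, hne⟩ := hQ.exists_fixed_point_of_prime_dvd_card_of_fixed_point φ.range hdvd h0
  exact ⟨f, fun h => hne (Subtype.ext h.symm), fun u => congrArg Subtype.val (hf u)⟩

theorem redAlg_central [Fintype G] (hM : IsPModular p M) {a : G → ℂ} (ha : IsClassFunction G a)
    (t : G) :
    redAlg hM a * MonoidAlgebra.single t (1 : ResField hM) =
      MonoidAlgebra.single t (1 : ResField hM) * redAlg hM a := by
  simp only [redAlg, Finset.sum_mul, Finset.mul_sum, MonoidAlgebra.single_mul_single, one_mul,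
    mul_one]
  refine Fintype.sum_equiv (MulAut.conj t⁻¹).toEquiv _ _ fun g => ?_
  simp only [MulEquiv.toEquiv_eq_coe, MulEquiv.coe_toEquiv, MulAut.conj_apply]
  rw [ha g t⁻¹]
  congr 1
  group

theorem redAlg_blockCoeff_idem [Fintype G] (hM : IsPModular p M) {B : Set (IrrCharacter G)}
    (hB : IsPBlock M B) :
    redAlg hM (blockCoeff B) * redAlg hM (blockCoeff B) = redAlg hM (blockCoeff B) := by
  rw [funext (blockCoeff_eq B), ← redAlg_mul hM (cenInt_blockInd hM hB) (cenInt_blockInd hM hB),
    blockInd_mul_self]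

theorem redAlg_blockCoeff_ne_zero [Fintype G] (hM : IsPModular p M) {B : Set (IrrCharacter G)}
    (hB : IsPBlock M B) : redAlg hM (blockCoeff B) ≠ 0 := by
  obtain ⟨g, hg, hg', -⟩ := exists_isDefectClass hM hB
  intro h
  have h1 := congrArg (fun e : MonoidAlgebra (ResField hM) G => e.coeff g) h
  simp only [redAlg_coeff, MonoidAlgebra.coeff_zero, Finsupp.zero_apply] at h1
  exact hg' ((red_eq_zero hM hg).1 h1)

/-- Some coefficient of a block idempotent off the ideal lies in a double coset of a `p`-subgroup
whose two-sided stabiliser is no larger than the defect group. -/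
theorem exists_small_double_coset [Fact p.Prime] (hM : IsPModular p M)
    {B : Set (IrrCharacter G)} (hB : IsPBlock M B) {D : Subgroup G} (hD : IsDefectGroup p M B D)
    (P : Subgroup G) (hP : IsPGroup p P) :
    ∃ x : G, ¬ MemLocalIdeal M (blockCoeff B x) ∧
      Nat.card (P ⊓ P.map (MulAut.conj x).toMonoidHom : Subgroup G) ≤ Nat.card D := by
  classical
  cases nonempty_fintype G
  haveI := localIdeal_isMaximal hM
  letI : Field (ResField hM) := Ideal.Quotient.field _
  haveI := resField_charP hM
  by_contra hcon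
  push Not at hcon
  let st : G → (MonoidAlgebra (ResField hM) G) := fun g => MonoidAlgebra.single g (1 : (ResField hM))
  set e : (MonoidAlgebra (ResField hM) G) := redAlg hM (blockCoeff B) with he
  set W : G → Prop := fun x =>
    Nat.card D < Nat.card (P ⊓ P.map (MulAut.conj x).toMonoidHom : Subgroup G) with hW
  have hcent : ∀ t, e * st t = st t * e := fun t => redAlg_central hM (blockCoeff_classFun B) t
  have hee : e * e = e := redAlg_blockCoeff_idem hM hB
  have hst : ∀ a b : G, st a * st b = st (a * b) := fun a b => by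
    simp [st, MonoidAlgebra.single_mul_single]
  -- invariance of the set of large double cosets
  have hWinv : ∀ (a b : G), a ∈ P → b ∈ P → ∀ x, W (a * x * b) ↔ W x := by
    intro a b ha hb x
    have hn : ∀ {c : G}, c ∈ P → P.map (MulAut.conj c).toMonoidHom = P := fun {c} hc => by
      ext y
      constructor
      · rintro ⟨y, hy, rfl⟩
        exact mul_mem (mul_mem hc hy) (inv_mem hc)
      · intro hy
        exact ⟨c⁻¹ * y * c, mul_mem (mul_mem (inv_mem hc) hy) hc, by simp [mul_assoc]⟩
    have hcomp : ∀ c d : G, P.map (MulAut.conj (c * d)).toMonoidHom =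
        (P.map (MulAut.conj d).toMonoidHom).map (MulAut.conj c).toMonoidHom := fun c d => by
      rw [Subgroup.map_map]
      congr 1
      ext y
      simp [mul_assoc]
    simp only [hW]
    rw [hcomp (a * x) b, hn hb, hcomp a x,
      show P ⊓ (P.map (MulAut.conj x).toMonoidHom).map (MulAut.conj a).toMonoidHom =
        (P ⊓ P.map (MulAut.conj x).toMonoidHom).map (MulAut.conj a).toMonoidHom by
        rw [Subgroup.map_inf _ _ _ (MulAut.conj a).injective, hn ha],
      card_map_conj]
  -- the projection followed by the idempotent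
  let T : (MonoidAlgebra (ResField hM) G) →ₗ[(ResField hM)] (MonoidAlgebra (ResField hM) G) :=
    { toFun := fun y => (∑ x : G, if W x then MonoidAlgebra.single x (y.coeff x) else 0) * e
      map_add' := fun y z => by
        rw [← add_mul, ← Finset.sum_add_distrib]
        congr 1
        refine Finset.sum_congr rfl fun x _ => ?_
        split_ifs <;> simp
      map_smul' := fun c y => by
        rw [RingHom.id_apply, ← smul_mul_assoc, Finset.smul_sum]
        congr 1
        refine Finset.sum_congr rfl fun x _ => ?_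
        split_ifs <;> simp }
  have hTst : ∀ x, T (st x) = if W x then st x * e else 0 := by
    intro x
    show (∑ y : G, if W y then MonoidAlgebra.single y ((st x).coeff y) else 0) * e = _
    rw [Finset.sum_eq_single x]
    · split_ifs <;> simp [st]
    · intro y _ hy
      simp [st, Ne.symm hy]
    · exact fun h => absurd (Finset.mem_univ _) h
  have hgen : ∀ y : (MonoidAlgebra (ResField hM) G), y = ∑ x : G, y.coeff x • st x := by
    intro y
    refine MonoidAlgebra.ext (Finsupp.ext fun g => ?_)
    simp [st, MonoidAlgebra.coeff_sum, Finsupp.single_apply]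
  have hTequiv : ∀ a b : G, a ∈ P → b ∈ P → ∀ y, T (st a * y * st b) = st a * T y * st b := by
    intro a b ha hb y
    have hpt : ∀ x, T (st a * st x * st b) = st a * T (st x) * st b := by
      intro x
      rw [hst, hst, hTst, hTst, if_congr (hWinv a b ha hb x) rfl rfl]
      split_ifs
      · rw [← hst, ← hst]
        simp only [mul_assoc, hcent]
      · simp
    rw [hgen y]
    simp only [Finset.mul_sum, Finset.sum_mul, map_sum, mul_smul_comm, smul_mul_assoc, map_smul]
    exact Finset.sum_congr rfl fun x _ => by rw [hpt]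
  -- the filtration
  let Δ : Submodule (ResField hM) (MonoidAlgebra (ResField hM) G) → Submodule (ResField hM) (MonoidAlgebra (ResField hM) G) := fun N =>
    Submodule.span (ResField hM) {z | ∃ a ∈ P, ∃ b ∈ P, ∃ y ∈ N, z = st a * y * st b - y}
  have hTtop : ∀ y, T y ∈ Δ ⊤ := by
    intro y
    rw [hgen y, map_sum]
    refine Submodule.sum_mem _ fun x _ => ?_
    rw [map_smul]
    refine Submodule.smul_mem _ _ ?_
    rw [hTst]
    split_ifs with hx
    swap
    · exact Submodule.zero_mem _
    set R : Subgroup G := P ⊓ P.map (MulAut.conj x).toMonoidHom with hR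
    cases nonempty_fintype R
    set z : (MonoidAlgebra (ResField hM) G) := st x * e with hz
    have hzfix : ∀ r : R, ∃ b ∈ P, ∀ w : G,
        st ((r : G) * w * (r : G)⁻¹) * z = st (r : G) * (st w * z) * st b := by
      intro r
      obtain ⟨s, hs, hsr⟩ := (r.2 : (r : G) ∈ P ⊓ P.map (MulAut.conj x).toMonoidHom).2
      simp only [MulEquiv.coe_toMonoidHom, MulAut.conj_apply] at hsr
      refine ⟨s⁻¹, inv_mem hs, fun w => ?_⟩
      rw [hz, mul_assoc (st (r : G)), mul_assoc (st w), mul_assoc (st x), hcent s⁻¹,
        ← mul_assoc (st x), ← mul_assoc (st w), hst, hst, ← mul_assoc (st (r : G)),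
        hst, ← mul_assoc (st ((r : G) * w * (r : G)⁻¹)), hst]
      congr 2
      rw [← hsr]
      group
    have hzz : z = ∑ w : G, red hM (blockCoeff B w) • (st w * z) := by
      conv_lhs => rw [hz, ← hee, ← mul_assoc, ← hcent x, mul_assoc, ← hz, he, redAlg]
      rw [Finset.sum_mul]
      refine Finset.sum_congr rfl fun w _ => ?_
      rw [← smul_mul_assoc]
      simp [st]
    rw [← Submodule.Quotient.mk_eq_zero, hzz]
    simp only [← Submodule.mkQ_apply, map_sum, map_smul]
    letI : MulAction R G := MulAction.compHom G (MulAut.conj.comp R.subtype)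
    have hsmul : ∀ (r : R) (w : G), r • w = (r : G) * w * (r : G)⁻¹ := fun r w => rfl
    rw [sum_eq_sum_fixed (A := (MonoidAlgebra (ResField hM) G) ⧸ Δ ⊤) (p := p) (fun q => by
        rw [← Nat.cast_smul_eq_nsmul (ResField hM), CharP.cast_eq_zero (ResField hM) p, zero_smul])
      (hP.to_le inf_le_left : IsPGroup p R) _ fun r w => ?_]
    · refine finsum_eq_zero_of_forall_eq_zero fun w => ?_
      rw [finsum_eq_if]
      split_ifs with hw
      swap
      · rfl
      have hzero : red hM (blockCoeff B w) = 0 := by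
        rw [red_eq_zero hM (blockCoeff_ring hM hB w)]
        by_contra hne
        have hwR : w ∈ Subgroup.centralizer (R : Set G) := by
          refine Subgroup.mem_centralizer_iff.2 fun r hr => ?_
          have := hw ⟨r, hr⟩
          rw [hsmul, mul_inv_eq_iff_eq_mul] at this
          exact this
        obtain ⟨g, hg⟩ := (not_brZero_iff hM hB hD (hP.to_le inf_le_left : IsPGroup p R)).1
          (not_brZero_of_unit hne hwR)
        exact absurd ((card_map_conj g R).symm ▸ Subgroup.card_le_of_le hg) (not_le.2 hx)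
      rw [hzero, zero_smul]
    · have hval : red hM (blockCoeff B (r • w)) = red hM (blockCoeff B w) := by
        rw [hsmul, blockCoeff_classFun B w (r : G)]
      simp only [hval]
      congr 1
      rw [Submodule.mkQ_apply, Submodule.mkQ_apply, Submodule.Quotient.eq]
      obtain ⟨b, hb, hb'⟩ := hzfix r
      rw [hsmul, hb' w]
      exact Submodule.subset_span ⟨r, r.2.1, b, hb, st w * z, Submodule.mem_top, rfl⟩
  let F : ℕ → Submodule (ResField hM) (MonoidAlgebra (ResField hM) G) := fun n => Δ^[n] ⊤
  have hFsucc : ∀ n, F (n + 1) = Δ (F n) := fun n => Function.iterate_succ_apply' Δ n ⊤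
  have hΔmono : ∀ {N N' : Submodule (ResField hM) (MonoidAlgebra (ResField hM) G)}, N ≤ N' → Δ N ≤ Δ N' := fun {N N'} h =>
    Submodule.span_mono (by rintro z ⟨a, ha, b, hb, y, hy, rfl⟩; exact ⟨a, ha, b, hb, y, h hy, rfl⟩)
  have hTF : ∀ n, ∀ y ∈ F n, T y ∈ F (n + 1) := by
    intro n
    induction n with
    | zero => intro y _; rw [hFsucc]; exact hTtop y
    | succ n ih =>
      intro y hy
      rw [hFsucc] at hy
      rw [hFsucc (n + 1)]
      refine Submodule.span_induction ?_ ?_ ?_ ?_ hy
      · rintro _ ⟨a, ha, b, hb, y', hy', rfl⟩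
        rw [map_sub, hTequiv a b ha hb]
        exact Submodule.subset_span ⟨a, ha, b, hb, T y', ih y' hy', rfl⟩
      · rw [map_zero]; exact Submodule.zero_mem _
      · intro x y _ _ hx hy; rw [map_add]; exact Submodule.add_mem _ hx hy
      · intro c x _ hx; rw [map_smul]; exact Submodule.smul_mem _ _ hx
  have hTe : T e = e := by
    show (∑ x : G, if W x then MonoidAlgebra.single x (e.coeff x) else 0) * e = e
    rw [show (∑ x : G, if W x then MonoidAlgebra.single x (e.coeff x) else 0) = e from ?_, hee]
    rw [he, redAlg]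
    refine Finset.sum_congr rfl fun x _ => ?_
    rw [← redAlg, redAlg_coeff]
    split_ifs with hx
    · rfl
    · have : MemLocalIdeal M (blockCoeff B x) := by
        by_contra hne
        exact hx (hcon x hne)
      rw [(red_eq_zero hM (blockCoeff_ring hM hB x)).2 this, MonoidAlgebra.single_zero]
  have heF : ∀ n, e ∈ F n := by
    intro n
    induction n with
    | zero => exact Submodule.mem_top
    | succ n ih => simpa [hTe] using hTF n e ih
  -- stabilisation
  have hanti : ∀ n, F (n + 1) ≤ F n := by
    intro n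
    induction n with
    | zero => exact le_top
    | succ n ih => rw [hFsucc (n + 1), hFsucc n]; exact hΔmono (hFsucc n ▸ ih)
  haveI : FiniteDimensional (ResField hM) (MonoidAlgebra (ResField hM) G) :=
    Module.Finite.equiv (MonoidAlgebra.coeffLinearEquiv (ResField hM) (S := ResField hM) (M := G)).symm
  obtain ⟨n, hn⟩ : ∃ n, F (n + 1) = F n := by
    by_contra hstab
    push Not at hstab
    have hlt : ∀ n, Module.finrank (ResField hM) (F n) + n ≤ Module.finrank (ResField hM) (MonoidAlgebra (ResField hM) G) := by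
      intro n
      induction n with
      | zero => simpa using Submodule.finrank_le (F 0)
      | succ n ih =>
        have := Submodule.finrank_lt_finrank_of_lt (lt_of_le_of_ne (hanti n) (hstab n))
        omega
    have := hlt (Module.finrank (ResField hM) (MonoidAlgebra (ResField hM) G) + 1)
    omega
  have hinv : ∀ a b : G, a ∈ P → b ∈ P → ∀ y ∈ F n, st a * y * st b ∈ F n := by
    intro a b ha hb y hy
    have h1 : st a * y * st b - y ∈ F n := hn ▸ (hFsucc n ▸
      Submodule.subset_span ⟨a, ha, b, hb, y, hy, rfl⟩)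
    simpa using Submodule.add_mem _ h1 hy
  -- a fixed functional
  let L : P → P → (F n →ₗ[(ResField hM)] F n) := fun a b =>
    { toFun := fun y => ⟨st (a : G) * y * st (b : G), hinv a b a.2 b.2 y y.2⟩
      map_add' := fun y z => Subtype.ext (by simp [mul_add, add_mul])
      map_smul' := fun c y => Subtype.ext (by simp) }
  let ρ : P × P →* (Module.Dual (ResField hM) (F n) →ₗ[(ResField hM)] Module.Dual (ResField hM) (F n)) :=
    { toFun := fun q => (L q.1⁻¹ q.2).dualMap
      map_one' := by
        refine LinearMap.ext fun f => LinearMap.ext fun y => ?_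
        simp [L, st, ← MonoidAlgebra.one_def]
      map_mul' := fun q q' => by
        refine LinearMap.ext fun f => LinearMap.ext fun y => ?_
        show f _ = f _
        congr 1
        refine Subtype.ext ?_
        show st ((q.1 * q'.1)⁻¹ : P) * (y : (MonoidAlgebra (ResField hM) G)) * st ((q.2 * q'.2 : P) : G) =
          st ((q'.1⁻¹ : P) : G) * (st ((q.1⁻¹ : P) : G) * (y : (MonoidAlgebra (ResField hM) G)) * st (q.2 : G)) * st (q'.2 : G)
        rw [mul_inv_rev, Subgroup.coe_mul, Subgroup.coe_mul, ← hst, ← hst]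
        simp only [mul_assoc] }
  have hFe : (⟨e, heF n⟩ : F n) ≠ 0 := fun h => redAlg_blockCoeff_ne_zero hM hB
    (congrArg Subtype.val h)
  obtain ⟨f₀, hf₀⟩ : ∃ f₀ : Module.Dual (ResField hM) (F n), f₀ ≠ 0 := by
    by_contra hall
    push Not at hall
    exact hFe ((Module.forall_dual_apply_eq_zero_iff (ResField hM) _).1 fun f => by rw [hall f]; rfl)
  have hQ : IsPGroup p (P × P) := by
    intro q
    obtain ⟨i, hi⟩ := hP q.1
    obtain ⟨j, hj⟩ := hP q.2
    refine ⟨i + j, Prod.ext ?_ ?_⟩
    · show q.1 ^ p ^ (i + j) = 1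
      rw [pow_add, pow_mul, hi, one_pow]
    · show q.2 ^ p ^ (i + j) = 1
      rw [add_comm i j, pow_add, pow_mul, hj, one_pow]
  obtain ⟨f, hf, hfix⟩ := exists_fixed_vector (k := ResField hM) hQ ρ hf₀
  refine hf (LinearMap.ext fun y => ?_)
  have hy : (y : (MonoidAlgebra (ResField hM) G)) ∈ Δ (F n) := by rw [← hFsucc, hn]; exact y.2
  suffices h : ∀ z ∈ Δ (F n), ∀ hz : z ∈ F n, f ⟨z, hz⟩ = 0 from h y hy y.2
  intro z hz
  refine Submodule.span_induction ?_ ?_ ?_ ?_ hz
  · rintro _ ⟨a, ha, b, hb, y', hy', rfl⟩ hmem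
    have h1 := LinearMap.congr_fun (hfix (⟨a, ha⟩⁻¹, ⟨b, hb⟩)) ⟨y', hy'⟩
    have h2 : (⟨st a * y' * st b - y', hmem⟩ : F n) =
        ⟨st a * y' * st b, hinv a b ha hb y' hy'⟩ - ⟨y', hy'⟩ := rfl
    rw [h2, map_sub, sub_eq_zero]
    refine Eq.trans (congrArg f (Subtype.ext ?_)) h1
    simp [L]
  · intro _; exact map_zero f
  · intro x y' hx hy' h1 h2 hmem
    have hx' : x ∈ F n := by rw [← hn, hFsucc]; exact hx
    have hy'' : y' ∈ F n := by rw [← hn, hFsucc]; exact hy'
    rw [show (⟨x + y', hmem⟩ : F n) = ⟨x, hx'⟩ + ⟨y', hy''⟩ from rfl, map_add, h1, h2, add_zero]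
  · intro c x hx h1 hmem
    have hx' : x ∈ F n := by rw [← hn, hFsucc]; exact hx
    rw [show (⟨c • x, hmem⟩ : F n) = c • ⟨x, hx'⟩ from rfl, map_smul, h1, smul_zero]

/-- The idempotent of a block is supported, modulo the ideal, on the centralizer of a normal
`p`-subgroup. -/
theorem blockCoeff_ideal_of_normal [Fact p.Prime] (hM : IsPModular p M)
    {B : Set (IrrCharacter G)} (hB : IsPBlock M B) {P : Subgroup G} [P.Normal] (hP : IsPGroup p P)
    {g : G} (hg : g ∉ Subgroup.centralizer (P : Set G)) : MemLocalIdeal M (blockCoeff B g) := by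
  classical
  cases nonempty_fintype G
  cases nonempty_fintype (ConjClasses G)
  haveI := localIdeal_isMaximal hM
  letI : Field (ResField hM) := Ideal.Quotient.field _
  haveI := resField_charP hM
  set C := Subgroup.centralizer (P : Set G)
  set o : G → ℂ := fun x => if x ∈ C then 0 else blockCoeff B x with ho
  have hocls : IsClassFunction G o := fun x t => by
    simp only [ho]
    refine if_congr ⟨fun h => ?_, fun h => Subgroup.Normal.conj_mem inferInstance x h t⟩ rfl
      (blockCoeff_classFun B x t)
    simpa [mul_assoc] using Subgroup.Normal.conj_mem (inferInstance : C.Normal) _ h t⁻¹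
  set f : IrrCharacter G → ℂ := fun χ => omegaFun χ o with hf
  have hfo : coeffFun f = o := coeffFun_omegaFun hocls
  have hfI : CenInt M f := fun x => by
    rw [hfo]
    simp only [ho]
    split_ifs
    · exact ring_zero hM
    · exact blockCoeff_ring hM hB x
  have hfval : ∀ χ, MemLocalIdeal M (f χ) := by
    intro χ
    rw [eq_sum_centralChar f χ, hfo]
    refine ideal_sum hM fun K _ => ?_
    simp only [ho]
    split_ifs with h
    · rw [zero_mul]; exact ideal_zero hM
    · exact ideal_mul_left hM (blockCoeff_ring hM hB _) (centralChar_ideal_of_normal hM hP h χ)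
  obtain ⟨N, hN, hpow⟩ := exists_pow_coeff_ideal hM hfI hfval
  have hopow : ∀ m, 0 < m → redAlg hM (coeffFun (f ^ m)) = redAlg hM o ^ m := by
    intro m hm
    induction m with
    | zero => omega
    | succ m ih =>
      rcases Nat.eq_zero_or_pos m with rfl | hm'
      · rw [pow_one, pow_one, hfo]
      · rw [pow_succ, redAlg_mul hM (hfI.pow hM m) hfI, ih hm', hfo, pow_succ]
  have hnil : redAlg hM o ^ N = 0 := by
    rw [← hopow N hN]
    refine MonoidAlgebra.ext (Finsupp.ext fun x => ?_)
    rw [redAlg_coeff, (red_eq_zero hM ((hfI.pow hM N) x)).2 (hpow x)]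
    rfl
  set e : (MonoidAlgebra (ResField hM) G) := redAlg hM (blockCoeff B) with he
  set i : (MonoidAlgebra (ResField hM) G) := redAlg hM (fun x => if x ∈ C then blockCoeff B x else 0) with hi
  have hsum : e = i + redAlg hM o := by
    refine MonoidAlgebra.ext (Finsupp.ext fun x => ?_)
    rw [MonoidAlgebra.coeff_add, Finsupp.add_apply, he, hi, redAlg_coeff, redAlg_coeff,
      redAlg_coeff]
    simp only [ho]
    split_ifs <;> simp [red_zero]
  have hcomm : Commute i (redAlg hM o) := by
    show i * _ = _ * i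
    rw [hi, redAlg, Finset.sum_mul, Finset.mul_sum]
    refine Finset.sum_congr rfl fun x _ => ?_
    rw [show MonoidAlgebra.single x (red hM (if x ∈ C then blockCoeff B x else 0)) =
      red hM (if x ∈ C then blockCoeff B x else 0) • MonoidAlgebra.single x (1 : (ResField hM)) by simp,
      smul_mul_assoc, mul_smul_comm, redAlg_central hM hocls x]
  haveI : CharP (MonoidAlgebra (ResField hM) G) p := charP_of_injective_algebraMap (algebraMap (ResField hM) (MonoidAlgebra (ResField hM) G)).injective p
  obtain ⟨m, hm⟩ : ∃ m, N ≤ p ^ m := ⟨N, (Nat.lt_pow_self (Fact.out : p.Prime).one_lt).le⟩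
  have heq : e = i ^ p ^ m := by
    have h1 : e ^ p ^ m = e := by
      have := redAlg_blockCoeff_idem hM hB
      exact IsIdempotentElem.pow_eq this (pow_ne_zero _ (Fact.out : p.Prime).ne_zero)
    conv_lhs => rw [← h1, hsum, add_pow_char_pow_of_commute _ _ hcomm,
      pow_eq_zero_of_le hm hnil, add_zero]
  have hsupp : ∀ x : G, x ∉ C → (i ^ p ^ m).coeff x = 0 := by
    let S : Submodule (ResField hM) (MonoidAlgebra (ResField hM) G) := Submodule.span (ResField hM) ((fun c : G => MonoidAlgebra.single c (1 : (ResField hM))) '' C)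
    have hS : ∀ y ∈ S, ∀ x : G, x ∉ C → y.coeff x = 0 := by
      intro y hy x hx
      refine Submodule.span_induction ?_ ?_ ?_ ?_ hy
      · rintro _ ⟨c, hc, rfl⟩
        rw [MonoidAlgebra.coeff_single, Finsupp.single_apply, if_neg fun h : c = x => hx (h ▸ hc)]
      · rfl
      · intro a b _ _ ha hb; simp [ha, hb]
      · intro c a _ ha; simp [ha]
    have hiS : i ∈ S := by
      rw [hi, redAlg]
      refine Submodule.sum_mem _ fun x _ => ?_
      by_cases hx : x ∈ C
      · rw [if_pos hx, show MonoidAlgebra.single x (red hM (blockCoeff B x)) =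
          red hM (blockCoeff B x) • MonoidAlgebra.single x (1 : (ResField hM)) by simp]
        exact Submodule.smul_mem _ _ (Submodule.subset_span ⟨x, hx, rfl⟩)
      · rw [if_neg hx, red_zero hM, MonoidAlgebra.single_zero]; exact Submodule.zero_mem _
    have hmulS : ∀ a ∈ S, ∀ b ∈ S, a * b ∈ S := by
      intro a ha b hb
      refine Submodule.span_induction ?_ ?_ ?_ ?_ ha
      · rintro _ ⟨c, hc, rfl⟩
        refine Submodule.span_induction ?_ ?_ ?_ ?_ hb
        · rintro _ ⟨d, hd, rfl⟩
          rw [MonoidAlgebra.single_mul_single, mul_one]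
          exact Submodule.subset_span ⟨c * d, mul_mem hc hd, rfl⟩
        · rw [mul_zero]; exact Submodule.zero_mem _
        · intro u v _ _ hu hv; rw [mul_add]; exact Submodule.add_mem _ hu hv
        · intro r u _ hu; rw [mul_smul_comm]; exact Submodule.smul_mem _ _ hu
      · rw [zero_mul]; exact Submodule.zero_mem _
      · intro u v _ _ hu hv; rw [add_mul]; exact Submodule.add_mem _ hu hv
      · intro r u _ hu; rw [smul_mul_assoc]; exact Submodule.smul_mem _ _ hu
    have hp : i ^ p ^ m ∈ S := by
      obtain ⟨j, hj⟩ := Nat.exists_eq_succ_of_ne_zero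
        (pow_ne_zero m (Fact.out : p.Prime).ne_zero)
      rw [hj]
      clear hj
      induction j with
      | zero => rwa [pow_one]
      | succ j ih => rw [pow_succ]; exact hmulS _ ih _ hiS
    exact fun x hx => hS _ hp x hx
  rw [← red_eq_zero hM (blockCoeff_ring hM hB g), ← redAlg_coeff hM (blockCoeff B) g, ← he, heq]
  exact hsupp g hg

/-- Green: a defect group is the intersection of a Sylow subgroup with one of its conjugates. -/
theorem green_intersection [Fact p.Prime] (hM : IsPModular p M) {B : Set (IrrCharacter G)}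
    (hB : IsPBlock M B) {D : Subgroup G} (hD : IsDefectGroup p M B D) (P : Sylow p G)
    (hDP : D ≤ P) :
    ∃ x : G, ¬ p ∣ orderOf x ∧
      (∃ S : Sylow p (Subgroup.centralizer ({x} : Set G)), csyl S = D) ∧
      (P : Subgroup G) ⊓ (P : Subgroup G).map (MulAut.conj x).toMonoidHom = D := by
  classical
  set N := Subgroup.normalizer (D : Set G) with hN
  have hDN : D ≤ N := Subgroup.le_normalizer
  have hDp := IsDefectGroup.isPGroup hD
  haveI := normal_subgroupOf_normalizer D
  obtain ⟨b, ⟨hb, hbD, -⟩, -⟩ := exists_unique_inducing hM hB hD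
  set D' := D.subgroupOf N
  have hD'p : IsPGroup p D' := hDp.of_equiv (Subgroup.subgroupOfEquivOfLe hDN).symm
  set P₀ := ((P : Subgroup G) ⊓ N).subgroupOf N with hP₀
  have hP₀p : IsPGroup p P₀ := (P.isPGroup'.to_le inf_le_left).of_equiv
    (Subgroup.subgroupOfEquivOfLe inf_le_right).symm
  obtain ⟨x, hx, hxcard⟩ := exists_small_double_coset hM hb hbD P₀ hP₀p
  have hxC : x ∈ Subgroup.centralizer (D' : Set N) := by
    by_contra h
    exact hx (blockCoeff_ideal_of_normal hM hb hD'p h)
  have hD'le : D' ≤ Subgroup.centralizer ({x} : Set N) := fun d hd =>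
    Subgroup.mem_centralizer_singleton_iff.2 (Subgroup.mem_centralizer_iff.1 hxC d hd)
  obtain ⟨Q, hQ⟩ := exists_csyl_ge hD'p hD'le
  obtain ⟨t, ht⟩ := exists_conj_le_of_unit hM hb hbD hx Q
  have hQeq : csyl Q = D' := (Subgroup.eq_of_le_of_card_ge hQ (by
    rw [← card_map_conj t (csyl Q)]; exact Subgroup.card_le_of_le ht)).symm
  obtain ⟨⟨S, hS⟩, -⟩ := classDefect_lift hDp x Q hQeq
  refine ⟨x, ?_, ⟨S, hS⟩, ?_⟩
  · rw [Subgroup.orderOf_coe]; exact regular_of_unit hM hb hx
  have hxD : ∀ d ∈ D, (x : G) * d * (x : G)⁻¹ = d := fun d hd => by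
    have h := congrArg Subtype.val (Subgroup.mem_centralizer_iff.1 hxC ⟨d, hDN hd⟩ hd)
    simp only [Subgroup.coe_mul] at h
    rw [← h, mul_inv_cancel_right]
  set I := (P : Subgroup G) ⊓ (P : Subgroup G).map (MulAut.conj (x : G)).toMonoidHom with hI
  have hDI : D ≤ I := le_inf hDP fun d hd => ⟨d, hDP hd, hxD d hd⟩
  have hR : P₀ ⊓ P₀.map (MulAut.conj x).toMonoidHom = D' := by
    refine (Subgroup.eq_of_le_of_card_ge ?_ hxcard).symm
    intro d hd
    refine ⟨⟨hDP hd, d.2⟩, d, ⟨hDP hd, d.2⟩, Subtype.ext ?_⟩
    exact hxD d hd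
  have hnorm : ∀ y ∈ I, y ∈ N → y ∈ D := by
    intro y hy hyN
    have : (⟨y, hyN⟩ : N) ∈ P₀ ⊓ P₀.map (MulAut.conj x).toMonoidHom := by
      refine ⟨⟨hy.1, hyN⟩, ?_⟩
      obtain ⟨s, hs, hsy⟩ := hy.2
      simp only [MulEquiv.coe_toMonoidHom, MulAut.conj_apply] at hsy
      have hsN : s ∈ N := by
        have e : s = (x : G)⁻¹ * y * x := by rw [← hsy]; group
        rw [e]
        exact mul_mem (mul_mem (inv_mem x.2) hyN) x.2
      exact ⟨⟨s, hsN⟩, ⟨hs, hsN⟩, Subtype.ext hsy⟩
    rw [hR] at this
    exact this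
  by_contra hne
  haveI : Group.IsNilpotent I := (P.isPGroup'.to_le inf_le_left).isNilpotent
  have hlt : D.subgroupOf I < ⊤ := lt_top_iff_ne_top.2 fun h =>
    hne (le_antisymm (fun y hy => Subgroup.mem_subgroupOf.1 (h ▸ Subgroup.mem_top (⟨y, hy⟩ : I))) hDI)
  obtain ⟨y, hy, hyD⟩ := SetLike.exists_of_lt (normalizerCondition_of_isNilpotent _ hlt)
  refine hyD (hnorm y y.2 ?_)
  refine Subgroup.mem_normalizer_iff.2 fun d => ?_
  constructor
  · intro hd
    exact (Subgroup.mem_normalizer_iff.1 hy ⟨d, hDI hd⟩).1 hd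
  · intro hd
    have hdI : d ∈ I := by
      have := I.mul_mem (I.mul_mem (I.inv_mem y.2) (hDI hd)) y.2
      simpa [mul_assoc] using this
    exact (Subgroup.mem_normalizer_iff.1 hy ⟨d, hdI⟩).2 hd

end Cfsg.Agent.Block
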