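import Cfsg.Agent.Lib.Block.Central

/-!
Weak block orthogonality. The block idempotent, composed with the projection onto an eigenspace
of a commuting group of order prime to `p`, gives a family of idempotent matrices over the local
ring, one for every character of a commuting `p`-group, all congruent modulo the maximal ideal.
They therefore have the same trace, and Fourier inversion gives the vanishing.
-/

open scoped ComplexConjugate

namespace Cfsg.Agent.Block

set_option linter.unusedSectionVars false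
set_option linter.style.haveILetI false

universe u

variable {G : Type u} [Group G] [Finite G] {p : ℕ} {M : Ideal AlgInt}

/-- Idempotent matrices over the local ring congruent modulo its maximal ideal have equal
traces. -/
theorem trace_eq_of_idem_congr (hM : IsPModular p M) {T : Type*} [Fintype T] [DecidableEq T]
    {P Q : Matrix T T ℂ} (hP : ∀ i j, MemLocalRing M (P i j))
    (hQ : ∀ i j, MemLocalRing M (Q i j)) (hPP : P * P = P) (hQQ : Q * Q = Q)
    (hc : ∀ i j, MemLocalIdeal M (P i j - Q i j)) : P.trace = Q.trace := by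
  let R := localRing hM
  let f : R →+* ℂ := R.subtype
  let P' : Matrix T T R := fun i j => ⟨P i j, hP i j⟩
  let Q' : Matrix T T R := fun i j => ⟨Q i j, hQ i j⟩
  let π : R →+* R ⧸ localIdeal hM := Ideal.Quotient.mk _
  have hfP : f.mapMatrix P' = P := rfl
  have hfQ : f.mapMatrix Q' = Q := rfl
  have hinj : Function.Injective (f.mapMatrix (m := T)) := fun A B h => by
    ext i j
    exact congrFun (congrFun h i) j
  have hPP' : P' * P' = P' := hinj (by rw [map_mul, hfP, hPP])
  have hπ : π.mapMatrix P' = π.mapMatrix Q' := by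
    ext i j
    exact Ideal.Quotient.eq.2 ((mem_localIdeal hM).2 (hc i j))
  let W' : Matrix T T R := P' * Q' + (1 - P') * (1 - Q')
  have hW1 : π.mapMatrix W' = 1 := by
    simp only [W', map_add, map_mul, map_sub, map_one, ← hπ]
    have h : π.mapMatrix P' * π.mapMatrix P' = π.mapMatrix P' := by rw [← map_mul, hPP']
    rw [sub_mul, one_mul, mul_sub, mul_one, h]
    abel
  have hdet : π W'.det = 1 := by rw [RingHom.map_det, hW1, Matrix.det_one]
  let W : Matrix T T ℂ := f.mapMatrix W'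
  have hWdef : W = P * Q + (1 - P) * (1 - Q) := by
    simp only [W, W', map_add, map_mul, map_sub, map_one, hfP, hfQ]
  have hWdet : IsUnit W.det := by
    rw [show W.det = f W'.det from (RingHom.map_det f W').symm, isUnit_iff_ne_zero]
    intro h0
    have h : MemLocalIdeal M ((W'.det : ℂ) - 1) :=
      (mem_localIdeal hM).1 (Ideal.Quotient.eq.1 (hdet.trans (map_one π).symm))
    rw [show (W'.det : ℂ) = 0 from h0, zero_sub] at h
    exact ideal_one hM (by simpa using ideal_neg h)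
  have hcomm : P * W = W * Q := by
    have hP0 : P * (1 - P) = 0 := by rw [mul_sub, mul_one, hPP, sub_self]
    have h1 : P * W = P * Q := by
      rw [hWdef, mul_add, ← mul_assoc P P Q, ← mul_assoc P (1 - P) (1 - Q), hPP, hP0, zero_mul,
        add_zero]
    have h2 : W * Q = P * Q := by
      rw [hWdef, add_mul, mul_assoc P Q Q, mul_assoc (1 - P) (1 - Q) Q, hQQ,
        sub_mul (1 : Matrix T T ℂ) Q Q, one_mul, hQQ, sub_self, mul_zero, add_zero]
    rw [h1, h2]
  calc P.trace = (P * W * W⁻¹).trace := by rw [mul_assoc, Matrix.mul_nonsing_inv W hWdet, mul_one]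
    _ = (W⁻¹ * (W * Q)).trace := by rw [hcomm, Matrix.trace_mul_comm]
    _ = Q.trace := by rw [← mul_assoc, Matrix.nonsing_inv_mul W hWdet, one_mul]

/-- Fourier inversion on a finite abelian group. -/
theorem eq_zero_of_forall_charSum {A : Type*} [CommGroup A] [Fintype A] (F : A → ℂ)
    (h : ∀ φ : A →* ℂˣ, ∑ a, (φ a : ℂ) * F a = 0) : F = 0 := by
  classical
  haveI : Finite (A →* ℂˣ) :=
    Finite.of_equiv A
      (CommGroup.monoidHom_mulEquiv_of_hasEnoughRootsOfUnity A ℂ).some.toEquiv.symm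
  haveI := Fintype.ofFinite (A →* ℂˣ)
  funext a₀
  have hsum : ∀ a : A, ∑ φ : A →* ℂˣ, (φ a : ℂ) =
      if a = 1 then (Fintype.card (A →* ℂˣ) : ℂ) else 0 := by
    intro a
    split_ifs with ha
    · subst ha; simp
    · obtain ⟨ψ, hψ⟩ := CommGroup.exists_apply_ne_one_of_hasEnoughRootsOfUnity A ℂ ha
      have h1 : (ψ a : ℂ) * ∑ φ : A →* ℂˣ, (φ a : ℂ) = ∑ φ : A →* ℂˣ, (φ a : ℂ) := by
        rw [Finset.mul_sum]
        exact Fintype.sum_equiv (Equiv.mulLeft ψ) _ _ fun φ => by simp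
      by_contra h0
      exact hψ (Units.ext ((mul_eq_right₀ h0).1 h1))
  have h2 : ∑ φ : A →* ℂˣ, (φ a₀⁻¹ : ℂ) * ∑ a, (φ a : ℂ) * F a = 0 :=
    Finset.sum_eq_zero fun φ _ => by rw [h φ, mul_zero]
  simp only [Finset.mul_sum, ← mul_assoc, ← Units.val_mul, ← map_mul] at h2
  rw [Finset.sum_comm] at h2
  simp only [← Finset.sum_mul, hsum, inv_mul_eq_one, ite_mul, zero_mul] at h2
  rw [Finset.sum_ite_eq Finset.univ a₀, if_pos (Finset.mem_univ _), mul_eq_zero] at h2
  exact h2.resolve_left (Nat.cast_ne_zero.mpr Fintype.card_ne_zero)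

theorem isIntegral_of_pow_eq_one {z : ℂ} {n : ℕ} (hn : 0 < n) (h : z ^ n = 1) :
    IsIntegral ℤ z :=
  IsIntegral.of_pow hn (by rw [h]; exact isIntegral_one)

/-- Roots of unity of `p`-power order are congruent to one. -/
theorem ideal_root_sub_one (hM : IsPModular p M) {z : ℂ} {k : ℕ} (h : z ^ p ^ k = 1) :
    MemLocalIdeal M (z - 1) := by
  haveI := Fact.mk (pmod_prime hM)
  have hz : MemLocalRing M z :=
    ring_of_integral hM (isIntegral_of_pow_eq_one (pow_pos (pmod_prime hM).pos k) h)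
  have hp0 : ((p : ℕ) : localRing hM ⧸ localIdeal hM) = 0 := by
    rw [← map_natCast (Ideal.Quotient.mk (localIdeal hM)), Ideal.Quotient.eq_zero_iff_mem,
      mem_localIdeal hM]
    simpa using ideal_p hM
  haveI : Nontrivial (localRing hM ⧸ localIdeal hM) :=
    Ideal.Quotient.nontrivial_iff.2 ((Ideal.ne_top_iff_one _).2 fun h1 =>
      ideal_one hM (by simpa using (mem_localIdeal hM).1 h1))
  haveI : CharP (localRing hM ⧸ localIdeal hM) p :=
    ringChar.of_eq (CharP.ringChar_of_prime_eq_zero (pmod_prime hM) hp0)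
  let zz : localRing hM := ⟨z, hz⟩
  have h1 : Ideal.Quotient.mk (localIdeal hM) (zz - 1) ^ p ^ k = 0 := by
    rw [map_sub, sub_pow_char_pow, map_one, one_pow, ← map_pow,
      show zz ^ p ^ k = 1 from Subtype.ext (by simpa [zz] using h), map_one, sub_self]
  have h2 : MemLocalIdeal M ((z - 1) ^ p ^ k) := by
    rw [← map_pow, Ideal.Quotient.eq_zero_iff_mem, mem_localIdeal hM] at h1
    simpa [zz] using h1
  exact ideal_of_pow hM (ring_sub hM hz (ring_one hM)) _ h2

/-- The block idempotent is a convolution idempotent. -/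
theorem convFun_blockCoeff [Fintype G] (B : Set (IrrCharacter G)) :
    convFun (blockCoeff B) (blockCoeff B) = blockCoeff B := by
  rw [funext (blockCoeff_eq B), ← coeffFun_mul, blockInd_mul_self]

theorem blockCoeff_classFun (B : Set (IrrCharacter G)) : IsClassFunction G (blockCoeff B) := by
  rw [funext (blockCoeff_eq B)]
  exact coeffFun_classFun _

theorem sum_out_mul [Fintype G] (U : Subgroup G) [Fintype U] [Fintype (G ⧸ U)] (f : G → ℂ) :
    ∑ t : G ⧸ U, ∑ w : U, f (t.out * w) = ∑ g : G, f g := by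
  rw [← Fintype.sum_prod_type']
  refine Fintype.sum_bijective (fun tw : (G ⧸ U) × U => tw.1.out * (tw.2 : G)) ⟨?_, ?_⟩ _ _
    (fun _ => rfl)
  · intro a b hab
    obtain ⟨a1, a2⟩ := a
    obtain ⟨b1, b2⟩ := b
    simp only at hab
    have h1 : a1 = b1 := by
      have := congrArg (QuotientGroup.mk : G → G ⧸ U) hab
      rwa [QuotientGroup.mk_mul_of_mem _ a2.2, QuotientGroup.mk_mul_of_mem _ b2.2,
        QuotientGroup.out_eq', QuotientGroup.out_eq'] at this
    subst h1
    rw [Subtype.ext (mul_left_cancel hab)]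
  · intro g
    refine ⟨(QuotientGroup.mk g, ⟨(QuotientGroup.mk g : G ⧸ U).out⁻¹ * g, ?_⟩), by simp⟩
    exact QuotientGroup.eq.1 (QuotientGroup.out_eq' _)

/-- The vanishing behind weak block orthogonality. -/
theorem sum_idem_conj_eq_zero [Fintype G] (hM : IsPModular p M) {e : G → ℂ}
    (he : IsClassFunction G e) (hee : convFun e e = e) (her : ∀ g, MemLocalRing M (e g))
    (U : Subgroup G) (hUc : ∀ a ∈ U, ∀ b ∈ U, a * b = b * a) (hUp : IsPGroup p U)
    (W : Subgroup (G × G)) (hWc : ∀ a ∈ W, ∀ b ∈ W, a * b = b * a)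
    (hWp : ¬ p ∣ Nat.card W) (hWU : ∀ c ∈ W, ∀ w ∈ U, Commute c.2 w)
    {c₀ : G × G} (hc₀ : c₀ ∈ W) {w₀ : G} (hw₀ : w₀ ∈ U) (hw1 : w₀ ≠ 1) :
    ∑ g : G, e (g * (w₀ * c₀.2) * g⁻¹ * c₀.1⁻¹) = 0 := by
  classical
  letI : CommGroup U := { (inferInstance : Group U) with
    mul_comm := fun a b => Subtype.ext (hUc a a.2 b b.2) }
  letI : CommGroup W := { (inferInstance : Group W) with
    mul_comm := fun a b => Subtype.ext (hWc a a.2 b b.2) }
  let E : (U →* ℂˣ) → (W →* ℂˣ) → Matrix (G ⧸ U) (G ⧸ U) ℂ := fun θ φ s t =>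
    (Nat.card W : ℂ)⁻¹ * ∑ c : W, (φ c : ℂ) *
      ∑ w : U, (θ w : ℂ) * e (s.out * (w : G) * (c : G × G).2 * t.out⁻¹ * (c : G × G).1⁻¹)
  let a : W → U → ℂ := fun c w =>
    ∑ t : G ⧸ U, e (t.out * (w : G) * (c : G × G).2 * t.out⁻¹ * (c : G × G).1⁻¹)
  have hW0 : (Nat.card W : ℂ) ≠ 0 := Nat.cast_ne_zero.mpr Nat.card_pos.ne'
  have hφr : ∀ (φ : W →* ℂˣ) (c : W), MemLocalRing M (φ c : ℂ) := fun φ c =>
    ring_of_integral hM (isIntegral_of_pow_eq_one (Nat.card_pos (α := W))
      (by rw [← Units.val_pow_eq_pow_val, ← map_pow, pow_card_eq_one', map_one, Units.val_one]))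
  have hθ1 : ∀ (θ : U →* ℂˣ) (w : U), MemLocalIdeal M ((θ w : ℂ) - 1) := fun θ w => by
    obtain ⟨k, hk⟩ := hUp w
    refine ideal_root_sub_one hM (k := k) ?_
    rw [← Units.val_pow_eq_pow_val, ← map_pow, hk, map_one, Units.val_one]
  have hθr : ∀ (θ : U →* ℂˣ) (w : U), MemLocalRing M (θ w : ℂ) := fun θ w => by
    simpa using ring_add hM (ring_of_ideal (hθ1 θ w)) (ring_one hM)
  have hEr : ∀ θ φ s t, MemLocalRing M (E θ φ s t) := fun θ φ s t =>
    ring_mul hM (ring_inv_natCast hM hWp) (ring_sum hM fun c _ =>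
      ring_mul hM (hφr φ c) (ring_sum hM fun w _ => ring_mul hM (hθr θ w) (her _)))
  have hEc : ∀ θ φ s t, MemLocalIdeal M (E θ φ s t - E 1 φ s t) := by
    intro θ φ s t
    simp only [E, ← mul_sub, ← Finset.sum_sub_distrib]
    refine ideal_mul_left hM (ring_inv_natCast hM hWp) (ideal_sum hM fun c _ => ?_)
    refine ideal_mul_left hM (hφr φ c) (ideal_sum hM fun w _ => ?_)
    rw [← sub_mul]
    exact ideal_mul_right hM (by simpa using hθ1 θ w) (her _)
  have hconv : ∀ A B : G, ∑ h : G, e (A * h⁻¹) * e (h * B) = e (A * B) := by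
    intro A B
    rw [← congrFun hee (A * B), convFun]
    refine Fintype.sum_bijective (fun h => A * h⁻¹)
      ((Group.mulLeft_bijective A).comp inv_bijective) _ _ fun h => ?_
    simp [mul_assoc]
  have hidem : ∀ θ φ, E θ φ * E θ φ = E θ φ := by
    intro θ φ
    ext s r
    have hinner : ∀ c c' : W,
        ∑ t : G ⧸ U, ((∑ w : U, (θ w : ℂ) *
            e (s.out * (w : G) * (c : G × G).2 * t.out⁻¹ * (c : G × G).1⁻¹)) *
          ∑ w : U, (θ w : ℂ) *
            e (t.out * (w : G) * (c' : G × G).2 * r.out⁻¹ * (c' : G × G).1⁻¹)) =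
        ∑ n : U, (θ n : ℂ) * e (s.out * (n : G) * ((c * c' : W) : G × G).2 * r.out⁻¹ *
          ((c * c' : W) : G × G).1⁻¹) := by
      intro c c'
      let P : G → ℂ := fun h => (∑ n : U, (θ n : ℂ) *
          e ((c : G × G).1⁻¹ * (s.out * (n : G) * (c : G × G).2) * h⁻¹)) *
        e (h * ((c' : G × G).2 * r.out⁻¹ * (c' : G × G).1⁻¹))
      calc _ = ∑ t : G ⧸ U, ∑ w' : U, P (t.out * w') := by
            refine Finset.sum_congr rfl fun t _ => ?_
            rw [Finset.mul_sum]
            refine Finset.sum_congr rfl fun w' _ => ?_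
            simp only [P, Finset.sum_mul]
            refine Fintype.sum_equiv (Equiv.mulRight w') _ _ fun w => ?_
            simp only [Equiv.coe_mulRight, map_mul, Units.val_mul, Subgroup.coe_mul]
            have hcw : (c : G × G).2 * (w' : G) = (w' : G) * (c : G × G).2 :=
              (hWU _ c.2 _ w'.2).eq
            rw [← he ((c : G × G).1⁻¹ * _ * _) (c : G × G).1,
              show (c : G × G).1 * ((c : G × G).1⁻¹ * (s.out * ((w : G) * (w' : G)) *
                  (c : G × G).2) * (t.out * (w' : G))⁻¹) * (c : G × G).1⁻¹ =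
                s.out * (w : G) * ((w' : G) * (c : G × G).2) * (w' : G)⁻¹ * t.out⁻¹ *
                  (c : G × G).1⁻¹ by group,
              ← hcw, show s.out * (w : G) * ((c : G × G).2 * (w' : G)) * (w' : G)⁻¹ * t.out⁻¹ *
                  (c : G × G).1⁻¹ =
                s.out * (w : G) * (c : G × G).2 * t.out⁻¹ * (c : G × G).1⁻¹ by group]
            simp only [mul_assoc]
            ring
        _ = ∑ h : G, P h := sum_out_mul U P
        _ = ∑ n : U, (θ n : ℂ) * ∑ h : G,
              e ((c : G × G).1⁻¹ * (s.out * (n : G) * (c : G × G).2) * h⁻¹) *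
                e (h * ((c' : G × G).2 * r.out⁻¹ * (c' : G × G).1⁻¹)) := by
            simp only [P, Finset.sum_mul, Finset.mul_sum]
            rw [Finset.sum_comm]
            simp only [mul_assoc]
        _ = _ := by
            refine Finset.sum_congr rfl fun n _ => ?_
            rw [hconv, ← he _ (c : G × G).1]
            simp only [Subgroup.coe_mul, Prod.snd_mul, Prod.fst_mul, mul_inv_rev, mul_assoc,
              mul_inv_cancel_left]
    let F : W → ℂ := fun c => (φ c : ℂ) * ∑ n : U, (θ n : ℂ) *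
      e (s.out * (n : G) * (c : G × G).2 * r.out⁻¹ * (c : G × G).1⁻¹)
    show (∑ t : G ⧸ U, E θ φ s t * E θ φ t r) = E θ φ s r
    calc (∑ t : G ⧸ U, E θ φ s t * E θ φ t r)
        = (Nat.card W : ℂ)⁻¹ * (Nat.card W : ℂ)⁻¹ * ∑ c : W, ∑ c' : W, F (c * c') := by
          simp only [F, ← hinner, map_mul, Units.val_mul, Finset.mul_sum (s := (Finset.univ :
            Finset (G ⧸ U)))]
          simp only [E]
          conv_rhs => rw [Finset.sum_congr rfl fun c (_ : c ∈ (Finset.univ : Finset W)) =>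
            Finset.sum_comm]
          conv_rhs => rw [Finset.sum_comm, Finset.mul_sum]
          refine Finset.sum_congr rfl fun t _ => ?_
          rw [mul_mul_mul_comm, Finset.sum_mul_sum]
          congr 1
          refine Finset.sum_congr rfl fun c _ => ?_
          refine Finset.sum_congr rfl fun c' _ => ?_
          ring
      _ = (Nat.card W : ℂ)⁻¹ * ∑ c : W, F c := by
          rw [Finset.sum_congr rfl fun c (_ : c ∈ (Finset.univ : Finset W)) =>
            Fintype.sum_equiv (Equiv.mulLeft c) (fun c' => F (c * c')) F fun _ => rfl,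
            Finset.sum_const, nsmul_eq_mul, Finset.card_univ, ← Nat.card_eq_fintype_card]
          field_simp
      _ = E θ φ s r := rfl
  have htr : ∀ θ φ, (E θ φ).trace =
      (Nat.card W : ℂ)⁻¹ * ∑ c : W, (φ c : ℂ) * ∑ w : U, (θ w : ℂ) * a c w := by
    intro θ φ
    show (∑ t : G ⧸ U, E θ φ t t) = _
    simp only [E, a, Finset.mul_sum]
    conv_lhs => rw [Finset.sum_comm]
    refine Finset.sum_congr rfl fun c _ => ?_
    conv_lhs => rw [Finset.sum_comm]
  have hD : ∀ (θ : U →* ℂˣ) (c : W), ∑ w : U, ((θ w : ℂ) - 1) * a c w = 0 := by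
    intro θ
    refine congrFun (eq_zero_of_forall_charSum _ fun φ => ?_)
    have h := trace_eq_of_idem_congr hM (hEr θ φ) (hEr 1 φ) (hidem θ φ) (hidem 1 φ) (hEc θ φ)
    rw [htr, htr] at h
    have h2 := mul_left_cancel₀ (inv_ne_zero hW0) h
    simp only [MonoidHom.one_apply, Units.val_one, one_mul] at h2
    simp only [sub_mul, one_mul, Finset.sum_sub_distrib, mul_sub]
    rw [h2, sub_self]
  let F : U → ℂ := fun w => (if w = 1 then ∑ x : U, a ⟨c₀, hc₀⟩ x else 0) - a ⟨c₀, hc₀⟩ w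
  have hF : F = 0 := eq_zero_of_forall_charSum F fun θ => by
    have h := hD θ ⟨c₀, hc₀⟩
    simp only [sub_mul, one_mul, Finset.sum_sub_distrib, sub_eq_zero] at h
    simp only [F, mul_sub, mul_ite, mul_zero, Finset.sum_sub_distrib, Finset.sum_ite_eq',
      Finset.mem_univ, if_true, map_one, Units.val_one, one_mul, h, sub_self]
  have ha0 : a ⟨c₀, hc₀⟩ ⟨w₀, hw₀⟩ = 0 := by
    have := congrFun hF ⟨w₀, hw₀⟩
    have hne : (⟨w₀, hw₀⟩ : U) ≠ 1 := fun h => hw1 (congrArg Subtype.val h)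
    simp only [F, Pi.zero_apply] at this
    rwa [if_neg hne, zero_sub, neg_eq_zero] at this
  rw [← sum_out_mul U]
  rw [Finset.sum_comm]
  refine Finset.sum_eq_zero fun w' _ => ?_
  refine (Finset.sum_congr rfl fun t _ => ?_).trans ha0
  have hc : Commute (w' : G) (w₀ * c₀.2) :=
    Commute.mul_right (hUc _ w'.2 _ hw₀) (hWU _ hc₀ _ w'.2).symm
  rw [show t.out * (w' : G) * (w₀ * c₀.2) * (t.out * (w' : G))⁻¹ =
      t.out * ((w' : G) * (w₀ * c₀.2) * (w' : G)⁻¹) * t.out⁻¹ by group,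
    hc.eq, mul_inv_cancel_right, ← mul_assoc t.out w₀ c₀.2]

/-- Every element has a `p`-part, and it is a power of the element. -/
theorem exists_pPart_zpowers [Fact p.Prime] (g : G) :
    ∃ u v : G, u * v = g ∧ Commute u v ∧ (∃ k : ℕ, orderOf u = p ^ k) ∧ ¬ p ∣ orderOf v ∧
      u ∈ Subgroup.zpowers g ∧ v ∈ Subgroup.zpowers g := by
  have hp : p.Prime := Fact.out
  have hg : orderOf g ≠ 0 := (orderOf_pos g).ne'
  set a := (orderOf g).factorization p with ha
  have hm : orderOf g = p ^ a * (orderOf g / p ^ a) :=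
    (Nat.ordProj_mul_ordCompl_eq_self (orderOf g) p).symm
  set m := orderOf g / p ^ a with hmdef
  have hpm : ¬ p ∣ m := Nat.not_dvd_ordCompl hp hg
  have hco : Nat.Coprime (p ^ a) m :=
    Nat.Coprime.pow_left _ (hp.coprime_iff_not_dvd.2 hpm)
  have hbez := Nat.gcd_eq_gcd_ab (p ^ a) m
  rw [hco.gcd_eq_one] at hbez
  refine ⟨g ^ ((m : ℤ) * Nat.gcdB (p ^ a) m), g ^ (((p ^ a : ℕ) : ℤ) * Nat.gcdA (p ^ a) m),
    ?_, ?_, ?_, ?_, Subgroup.zpow_mem_zpowers g _, Subgroup.zpow_mem_zpowers g _⟩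
  · rw [← zpow_add, add_comm, ← hbez, Nat.cast_one, zpow_one]
  · exact (Commute.refl g).zpow_zpow _ _
  · obtain ⟨k, -, hk⟩ := (Nat.dvd_prime_pow hp).1 (orderOf_dvd_of_pow_eq_one
      (show (g ^ ((m : ℤ) * Nat.gcdB (p ^ a) m)) ^ (p ^ a) = 1 by
        rw [← zpow_natCast, ← zpow_mul, show (m : ℤ) * Nat.gcdB (p ^ a) m * ((p ^ a : ℕ) : ℤ) =
            ((p ^ a * m : ℕ) : ℤ) * Nat.gcdB (p ^ a) m by push_cast; ring,
          zpow_mul, zpow_natCast, ← hm, pow_orderOf_eq_one, one_zpow]))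
    exact ⟨k, hk⟩
  · intro hdvd
    refine hpm (hdvd.trans (orderOf_dvd_of_pow_eq_one ?_))
    rw [← zpow_natCast, ← zpow_mul, show ((p ^ a : ℕ) : ℤ) * Nat.gcdA (p ^ a) m * (m : ℤ) =
        ((p ^ a * m : ℕ) : ℤ) * Nat.gcdA (p ^ a) m by push_cast; ring,
      zpow_mul, zpow_natCast, ← hm, pow_orderOf_eq_one, one_zpow]

/-- Weak block orthogonality. -/
theorem weak_orth (hM : IsPModular p M) {B : Set (IrrCharacter G)} (hB : IsPBlock M B)
    {x y : G} (hx : ¬ p ∣ orderOf x) (hy : p ∣ orderOf y) :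
    ∑ᶠ χ ∈ B, (χ : G → ℂ) x * conj ((χ : G → ℂ) y) = 0 := by
  classical
  haveI := Fact.mk (pmod_prime hM)
  cases nonempty_fintype G
  obtain ⟨u, v, huv, hcomm, ⟨k, hk⟩, hv, -, -⟩ := exists_pPart_zpowers (p := p) y
  have hu1 : u ≠ 1 := by
    rintro rfl
    rw [one_mul] at huv
    exact hv (huv ▸ hy)
  let W := Subgroup.zpowers ((x, v) : G × G)
  have hWp : ¬ p ∣ Nat.card W := by
    rw [Nat.card_zpowers, Prod.orderOf]
    intro h
    exact ((pmod_prime hM).dvd_mul.1 (h.trans (Nat.lcm_dvd_mul _ _))).elim hx hv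
  have key := sum_idem_conj_eq_zero hM (blockCoeff_classFun B) (convFun_blockCoeff B)
    (blockCoeff_ring hM hB) (Subgroup.zpowers u)
    (fun a ha b hb => by
      obtain ⟨i, rfl⟩ := Subgroup.mem_zpowers_iff.1 ha
      obtain ⟨j, rfl⟩ := Subgroup.mem_zpowers_iff.1 hb
      exact ((Commute.refl u).zpow_zpow i j).eq)
    (IsPGroup.of_card (n := k) (by rw [Nat.card_zpowers, hk])) W
    (fun a ha b hb => by
      obtain ⟨i, rfl⟩ := Subgroup.mem_zpowers_iff.1 ha
      obtain ⟨j, rfl⟩ := Subgroup.mem_zpowers_iff.1 hb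
      exact ((Commute.refl (x, v)).zpow_zpow i j).eq) hWp
    (fun c hc w hw => by
      obtain ⟨i, rfl⟩ := Subgroup.mem_zpowers_iff.1 hc
      obtain ⟨j, rfl⟩ := Subgroup.mem_zpowers_iff.1 hw
      simpa using hcomm.symm.zpow_zpow i j)
    (c₀ := (x, v)) (Subgroup.mem_zpowers _) (w₀ := u) (Subgroup.mem_zpowers _) hu1
  simp only [huv] at key
  have hval : ∀ g : G, blockCoeff B (g * y * g⁻¹ * x⁻¹) = (Nat.card G : ℂ)⁻¹ *
      ∑ χ ∈ Finset.univ.filter (fun χ : IrrCharacter G => χ ∈ B),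
        (χ : G → ℂ) 1 * conj ((χ : G → ℂ) (x⁻¹ * (g * y * g⁻¹))) := by
    intro g
    rw [blockCoeff, ← finsum_mem_coe_finset, Finset.coe_filter_univ]
    congr 1
    refine finsum_mem_congr rfl fun χ _ => ?_
    rw [← irr_classFun χ (g * y * g⁻¹ * x⁻¹) x⁻¹,
      show x⁻¹ * (g * y * g⁻¹ * x⁻¹) * x⁻¹⁻¹ = x⁻¹ * (g * y * g⁻¹) by group]
  rw [Finset.sum_congr rfl fun g _ => hval g, ← Finset.mul_sum, Finset.sum_comm] at key
  simp only [← Finset.mul_sum, ← map_sum, sum_mul_conj, map_div₀, map_mul, map_natCast] at key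
  have hG : (Nat.card G : ℂ) ≠ 0 := Nat.cast_ne_zero.mpr Nat.card_pos.ne'
  rw [← finsum_mem_coe_finset, Finset.coe_filter_univ] at key
  rw [← key, mul_finsum_mem]
  refine finsum_mem_congr rfl fun χ _ => ?_
  have h1 : conj ((χ : G → ℂ) 1) = (χ : G → ℂ) 1 := by rw [charDeg_spec' χ, map_natCast]
  have h2 : conj ((χ : G → ℂ) x⁻¹) = (χ : G → ℂ) x := by rw [irr_apply_inv, Complex.conj_conj]
  rw [h1, h2]
  field_simp [irr_one_ne_zero χ]

end Cfsg.Agent.Block
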