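import Cfsg.Agent.Lib.Block.FirstMain
import Cfsg.Agent.Lib.Block.GreenIntersection
import Cfsg.Agent.Lib.Block.Orth
import Cfsg.Agent.Lib.Char.Quotient

/-!
# Blocks of a quotient by a normal `p`-subgroup
-/

set_option autoImplicit false

namespace Cfsg.Agent.Block

open Cfsg
open scoped ComplexConjugate

universe u

variable {G : Type u} [Group G] [Finite G] {p : ℕ} {M : Ideal AlgInt}

/-- The central characters at the regular elements determine the block. -/
theorem sameBlock_of_regular (hM : IsPModular p M) {χ ψ : IrrCharacter G}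
    (h : ∀ g : G, ¬ p ∣ orderOf g →
      MemLocalIdeal M (centralChar (χ : G → ℂ) g - centralChar (ψ : G → ℂ) g)) :
    SameBlock M (χ : G → ℂ) (ψ : G → ℂ) := by
  classical
  cases nonempty_fintype (ConjClasses G)
  cases nonempty_fintype G
  by_contra hne
  set B := blockOf M (χ : G → ℂ) with hB
  have hBb : IsPBlock M B := isPBlock_blockOf χ
  have h1 : blockInd B χ - blockInd B ψ = 1 := by
    rw [blockInd_of_mem (mem_blockOf_self hM χ), blockInd_of_notMem fun hm => hne (mem_blockOf.1 hm),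
      sub_zero]
  refine ideal_one hM (h1 ▸ ?_)
  rw [eq_sum_centralChar (blockInd B) χ, eq_sum_centralChar (blockInd B) ψ, ← Finset.sum_sub_distrib]
  refine ideal_sum hM fun C _ => ?_
  rw [← mul_sub, ← blockCoeff_eq]
  by_cases hC : p ∣ orderOf C.out
  · rw [blockCoeff_singular hM hBb hC, zero_mul]
    exact ideal_zero hM
  · exact ideal_mul_left hM (blockCoeff_ring hM hBb _) (h _ hC)

variable (N : Subgroup G) [N.Normal]

/-- The preimage of the centralizer of an image. -/
def centralizerPre (g : G) : Subgroup G :=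
  (Subgroup.centralizer ({(g : G ⧸ N)} : Set (G ⧸ N))).comap (QuotientGroup.mk' N)

theorem centralizer_le_pre (g : G) : Subgroup.centralizer ({g} : Set G) ≤ centralizerPre N g := by
  intro y hy
  refine Subgroup.mem_centralizer_singleton_iff.mpr ?_
  show (y : G ⧸ N) * (g : G ⧸ N) = (g : G ⧸ N) * (y : G ⧸ N)
  rw [← QuotientGroup.mk_mul, ← QuotientGroup.mk_mul, Subgroup.mem_centralizer_singleton_iff.mp hy]

/-- Central characters of inflated characters. -/
theorem centralChar_inflate (χ : G ⧸ N → ℂ) (g : G) :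
    centralChar (χ ∘ QuotientGroup.mk) g =
      ((Subgroup.centralizer ({g} : Set G)).relIndex (centralizerPre N g) : ℂ) *
        centralChar χ (g : G ⧸ N) := by
  rw [centralChar, centralChar, ← Subgroup.relIndex_mul_index (centralizer_le_pre N g),
    centralizerPre, Subgroup.index_comap_of_surjective _ (QuotientGroup.mk'_surjective N),
    Nat.cast_mul, Function.comp_apply, Function.comp_apply, QuotientGroup.mk_one]
  ring

/-- For a regular element centralizing a normal `p`-subgroup the class maps bijectively. -/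
theorem relIndex_pre_eq_one [Fact p.Prime] (hN : IsPGroup p N) {g : G} (hg : ¬ p ∣ orderOf g)
    (hc : g ∈ Subgroup.centralizer (N : Set G)) :
    (Subgroup.centralizer ({g} : Set G)).relIndex (centralizerPre N g) = 1 := by
  rw [Subgroup.relIndex_eq_one]
  intro y hy
  have h1 : (y : G ⧸ N) * (g : G ⧸ N) = (g : G ⧸ N) * (y : G ⧸ N) :=
    Subgroup.mem_centralizer_singleton_iff.mp hy
  have h2 : ((g⁻¹ * (y * g * y⁻¹) : G) : G ⧸ N) = 1 := by
    simp only [QuotientGroup.mk_mul, QuotientGroup.mk_inv, h1]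
    group
  set n := g⁻¹ * (y * g * y⁻¹) with hn
  have hnN : n ∈ N := (QuotientGroup.eq_one_iff n).mp h2
  have hcn : Commute g n := (Subgroup.mem_centralizer_iff.mp hc n hnN).symm
  have hgn : g * n = y * g * y⁻¹ := by rw [hn]; group
  have h3 : n ^ orderOf g = 1 := by
    have h4 : (g * n) ^ orderOf g = 1 := by
      rw [hgn, conj_pow, pow_orderOf_eq_one]; group
    rwa [hcn.mul_pow, pow_orderOf_eq_one, one_mul] at h4
  obtain ⟨k, hk⟩ := hN ⟨n, hnN⟩
  have h5 : n ^ p ^ k = 1 := congrArg Subtype.val hk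
  have h6 : orderOf n ∣ Nat.gcd (orderOf g) (p ^ k) :=
    Nat.dvd_gcd (orderOf_dvd_of_pow_eq_one h3) (orderOf_dvd_of_pow_eq_one h5)
  have h7 : Nat.gcd (orderOf g) (p ^ k) = 1 :=
    (((Fact.out : p.Prime).coprime_iff_not_dvd.mpr hg).symm).pow_right k
  rw [h7, Nat.dvd_one, orderOf_eq_one_iff] at h6
  rw [h6, mul_one] at hgn
  exact Subgroup.mem_centralizer_singleton_iff.mpr (eq_mul_inv_iff_mul_eq.mp hgn).symm

/-- An element of the quotient of order prime to `p` lifts to one. -/
theorem exists_regular_lift [Fact p.Prime] {x : G ⧸ N} (hx : ¬ p ∣ orderOf x) :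
    ∃ g : G, (g : G ⧸ N) = x ∧ ¬ p ∣ orderOf g := by
  have hp : p.Prime := Fact.out
  obtain ⟨g, rfl⟩ := QuotientGroup.mk_surjective x
  obtain ⟨m, hm, hm2⟩ := Nat.exists_eq_pow_mul_and_not_dvd (orderOf_pos g).ne' p hp.ne_one
  have hcop : (p ^ m).Coprime (orderOf (g : G ⧸ N)) := (hp.coprime_iff_not_dvd.mpr hx).pow_left m
  obtain ⟨l, hl⟩ := exists_pow_eq_self_of_coprime (x := (g : G ⧸ N)) hcop
  refine ⟨(g ^ p ^ m) ^ l, by rw [QuotientGroup.mk_pow, QuotientGroup.mk_pow, hl], fun h => hm2.1 ?_⟩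
  refine h.trans (orderOf_pow_dvd l |>.trans ?_)
  have hdvd : p ^ m ∣ orderOf g := hm2.2 ▸ dvd_mul_right _ _
  rw [orderOf_pow_of_dvd (pow_ne_zero m hp.ne_zero) hdvd, hm2.2,
    Nat.mul_div_cancel_left _ (pow_pos hp.pos m)]

/-- Inflation along a normal `p`-subgroup respects and reflects blocks when the regular elements
outside its centralizer are invisible in the quotient. -/
theorem sameBlock_inflate (hM : IsPModular p M) (hN : IsPGroup p N)
    (hinv : ∀ g : G, ¬ p ∣ orderOf g → g ∉ Subgroup.centralizer (N : Set G) →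
      ∀ χ : IrrCharacter (G ⧸ N), MemLocalIdeal M (centralChar (χ : G ⧸ N → ℂ) (g : G ⧸ N)))
    (χ ψ : IrrCharacter (G ⧸ N)) :
    SameBlock M (χ : G ⧸ N → ℂ) (ψ : G ⧸ N → ℂ) ↔
      SameBlock M ((χ : G ⧸ N → ℂ) ∘ QuotientGroup.mk) ((ψ : G ⧸ N → ℂ) ∘ QuotientGroup.mk) := by
  haveI := Fact.mk (pmod_prime hM)
  constructor
  · intro h g
    rw [centralChar_inflate, centralChar_inflate, ← mul_sub]
    exact ideal_mul_left hM (ring_natCast hM _) (h _)
  · intro h
    refine sameBlock_of_regular hM fun x hx => ?_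
    obtain ⟨g, rfl, hg⟩ := exists_regular_lift N hx
    by_cases hc : g ∈ Subgroup.centralizer (N : Set G)
    · have h1 := h g
      rwa [centralChar_inflate, centralChar_inflate, relIndex_pre_eq_one N hN hg hc, Nat.cast_one,
        one_mul, one_mul] at h1
    · exact ideal_sub hM (hinv g hg hc χ) (hinv g hg hc ψ)

/-- Every block contains an inflated character. -/
theorem exists_inflated (hM : IsPModular p M) (hN : IsPGroup p N) {B : Set (IrrCharacter G)}
    (hB : IsPBlock M B) :
    ∃ χ : IrrCharacter (G ⧸ N), ∃ θ ∈ B, (θ : G → ℂ) = (χ : G ⧸ N → ℂ) ∘ QuotientGroup.mk := by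
  obtain ⟨θ, hθ, hker⟩ := exists_member_ker hM hB N hN
  obtain ⟨ψ, hψ, e⟩ := Char.IsIrr.exists_factor_quotient θ.2 N hker
  exact ⟨⟨ψ, hψ⟩, θ, hθ, funext fun g => (e g).symm⟩

end Cfsg.Agent.Block
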