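import Cfsg.Agent.Lib.Block.Residue
import Cfsg.Agent.Lib.Block.Orth

/-!
The Brauer map at a `p`-subgroup, on central elements given by their central character values,
and the vanishing of central characters outside the centralizer of a normal `p`-subgroup.
-/

namespace Cfsg.Agent.Block

set_option linter.unusedSectionVars false
set_option linter.style.haveILetI false

universe u

variable {G : Type u} [Group G] [Finite G] {p : ℕ} {M : Ideal AlgInt}

theorem coeffFun_neg (f : IrrCharacter G → ℂ) (g : G) : coeffFun (-f) g = -coeffFun f g := by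
  have := coeffFun_smul (-1) f g
  simp only [neg_one_mul] at this
  exact this

theorem CenInt.neg (hM : IsPModular p M) {f : IrrCharacter G → ℂ} (hf : CenInt M f) :
    CenInt M (-f) := fun g => by
  rw [coeffFun_neg]; exact ring_neg (hf g)

/-- The Brauer map at `P` sends the product to the product, modulo the local ideal. -/
theorem coeff_mul_congr [Fintype G] (hM : IsPModular p M) {f f' : IrrCharacter G → ℂ}
    (hf : CenInt M f) (hf' : CenInt M f') {P : Subgroup G} (hP : IsPGroup p P) {c : G}
    (hc : c ∈ Subgroup.centralizer (P : Set G)) :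
    MemLocalIdeal M (coeffFun (f * f') c -
      ∑ᶠ h ∈ (Subgroup.centralizer (P : Set G) : Set G),
        coeffFun f h * coeffFun f' (h⁻¹ * c)) := by
  letI : MulAction P G := MulAction.compHom G ((MulAut.conj (G := G)).comp P.subtype)
  have hsmul : ∀ (u : P) (g : G), u • g = (u : G) * g * (u : G)⁻¹ := fun u g => rfl
  have hfix : MulAction.fixedPoints P G = (Subgroup.centralizer (P : Set G) : Set G) := by
    ext g
    rw [MulAction.mem_fixedPoints, SetLike.mem_coe, Subgroup.mem_centralizer_iff]
    exact ⟨fun h u hu => mul_inv_eq_iff_eq_mul.1 ((hsmul ⟨u, hu⟩ g).symm.trans (h ⟨u, hu⟩)),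
      fun h u => by rw [hsmul, mul_inv_eq_iff_eq_mul]; exact h u u.2⟩
  have h := ideal_sum_sub_fixed hM hP (F := fun h => coeffFun f h * coeffFun f' (h⁻¹ * c))
    (fun h => ring_mul hM (hf _) (hf' _)) (fun u h => by
      have hcu : (u : G) * c = c * (u : G) := Subgroup.mem_centralizer_iff.1 hc u u.2
      simp only [hsmul]
      rw [coeffFun_classFun f h (u : G),
        show ((u : G) * h * (u : G)⁻¹)⁻¹ * c = (u : G) * h⁻¹ * (u : G)⁻¹ * c by group,
        show (u : G) * h⁻¹ * (u : G)⁻¹ * c = (u : G) * (h⁻¹ * c) * (u : G)⁻¹ by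
          have h2 : (u : G)⁻¹ * c = c * (u : G)⁻¹ :=
            inv_mul_eq_iff_eq_mul.2 (by rw [← mul_assoc, hcu, mul_inv_cancel_right])
          rw [mul_assoc _ (u : G)⁻¹ c, h2]
          group,
        coeffFun_classFun f' (h⁻¹ * c) (u : G)])
  rw [hfix] at h
  rwa [coeffFun_mul]

/-- The central element lies in the kernel of the Brauer map at `P`. -/
def BrZero (M : Ideal AlgInt) (P : Subgroup G) (f : IrrCharacter G → ℂ) : Prop :=
  ∀ c ∈ Subgroup.centralizer (P : Set G), MemLocalIdeal M (coeffFun f c)

theorem BrZero.of_coeff {P : Subgroup G} {f : IrrCharacter G → ℂ}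
    (h : ∀ g, MemLocalIdeal M (coeffFun f g)) : BrZero M P f := fun c _ => h c

theorem BrZero.add (hM : IsPModular p M) {P : Subgroup G} {f f' : IrrCharacter G → ℂ}
    (hf : BrZero M P f) (hf' : BrZero M P f') : BrZero M P (f + f') := fun c hc => by
  rw [coeffFun_add]; exact ideal_add hM (hf c hc) (hf' c hc)

theorem BrZero.sub (hM : IsPModular p M) {P : Subgroup G} {f f' : IrrCharacter G → ℂ}
    (hf : BrZero M P f) (hf' : BrZero M P f') : BrZero M P (f - f') := fun c hc => by
  rw [coeffFun_sub]; exact ideal_sub hM (hf c hc) (hf' c hc)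

theorem BrZero.const_mul (hM : IsPModular p M) {P : Subgroup G} {a : ℂ} (ha : MemLocalRing M a)
    {f : IrrCharacter G → ℂ} (hf : BrZero M P f) : BrZero M P (fun χ => a * f χ) := fun c hc => by
  rw [coeffFun_smul]; exact ideal_mul_left hM ha (hf c hc)

theorem BrZero.mul_left (hM : IsPModular p M) {P : Subgroup G} (hP : IsPGroup p P)
    {f f' : IrrCharacter G → ℂ} (hf : CenInt M f) (hf' : CenInt M f') (h : BrZero M P f') :
    BrZero M P (f * f') := by
  classical
  cases nonempty_fintype G
  intro c hc
  have h1 := coeff_mul_congr hM hf hf' hP hc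
  rw [finsum_mem_eq_sum_of_inter_support_eq _
    (t := Finset.univ.filter (· ∈ Subgroup.centralizer (P : Set G))) (by ext; simp)] at h1
  have h2 : MemLocalIdeal M (∑ x ∈ Finset.univ.filter (· ∈ Subgroup.centralizer (P : Set G)),
      coeffFun f x * coeffFun f' (x⁻¹ * c)) := ideal_sum hM fun x hx =>
    ideal_mul_left hM (hf x) (h _ (mul_mem (inv_mem (Finset.mem_filter.1 hx).2) hc))
  simpa using ideal_add hM h1 h2

theorem BrZero.mul_right (hM : IsPModular p M) {P : Subgroup G} (hP : IsPGroup p P)
    {f f' : IrrCharacter G → ℂ} (hf : CenInt M f) (hf' : CenInt M f') (h : BrZero M P f) :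
    BrZero M P (f * f') := by
  rw [mul_comm]; exact BrZero.mul_left hM hP hf' hf h

theorem blockInd_pow (B : Set (IrrCharacter G)) :
    ∀ n : ℕ, 0 < n → blockInd B ^ n = blockInd B
  | 1, _ => pow_one _
  | n + 2, _ => by rw [pow_succ, blockInd_pow B (n + 1) (Nat.succ_pos n), blockInd_mul_self]

/-- The kernel of the Brauer map at `P` is annihilated by every block it does not kill. -/
theorem brZero_omega_ideal (hM : IsPModular p M) {B : Set (IrrCharacter G)} (hB : IsPBlock M B)
    {P : Subgroup G} (hP : IsPGroup p P) (he : ¬ BrZero M P (blockInd B))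
    {f : IrrCharacter G → ℂ} (hf : CenInt M f) (hf0 : BrZero M P f) {χ : IrrCharacter G}
    (hχ : χ ∈ B) : MemLocalIdeal M (f χ) := by
  by_contra hne
  have heI := cenInt_blockInd hM hB
  have hcr : MemLocalRing M (f χ)⁻¹ := ring_inv hM (hf.ring hM χ) hne
  set k : IrrCharacter G → ℂ := fun ψ => (f χ)⁻¹ * (f * blockInd B) ψ with hk
  have hkI : CenInt M k := (hf.mul hM heI).const_mul hM hcr
  have hk0 : BrZero M P k := (hf0.mul_right hM hP hf heI).const_mul hM hcr
  have hh : CenInt M (k - blockInd B) := hkI.sub hM heI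
  have hval : ∀ ψ, MemLocalIdeal M ((k - blockInd B) ψ) := by
    intro ψ
    have h0 : f χ ≠ 0 := fun h => hne (h ▸ ideal_zero hM)
    by_cases hψ : ψ ∈ B
    · simp only [hk, Pi.sub_apply, Pi.mul_apply, blockInd_of_mem hψ, mul_one]
      have := ideal_mul_left hM hcr (hf.congr_block hM (pblock_sameBlock hM hB hψ hχ))
      rwa [mul_sub, inv_mul_cancel₀ h0] at this
    · simp only [hk, Pi.sub_apply, Pi.mul_apply, blockInd_of_notMem hψ, mul_zero, sub_zero]
      exact ideal_zero hM
  obtain ⟨N, hN, hpow⟩ := exists_pow_coeff_ideal hM hh hval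
  have hdiff : ∀ n : ℕ, BrZero M P ((k - blockInd B) ^ n - (-blockInd B) ^ n) := by
    intro n
    induction n with
    | zero =>
      intro c _
      rw [pow_zero, pow_zero, coeffFun_sub, sub_self]
      exact ideal_zero hM
    | succ n ih =>
      rw [show (k - blockInd B) ^ (n + 1) - (-blockInd B) ^ (n + 1) =
          ((k - blockInd B) ^ n - (-blockInd B) ^ n) * (k - blockInd B) +
            (-blockInd B) ^ n * k by rw [pow_succ, pow_succ]; ring]
      exact (ih.mul_right hM hP ((hh.pow hM n).sub hM ((heI.neg hM).pow hM n)) hh).add hM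
        (hk0.mul_left hM hP ((heI.neg hM).pow hM n) hkI)
  apply he
  have h1 : BrZero M P ((-blockInd B) ^ N) := by
    simpa using (BrZero.of_coeff (P := P) hpow).sub hM (hdiff N)
  rw [neg_pow, blockInd_pow B N hN] at h1
  have h2 := h1.const_mul hM (ring_pow hM (ring_neg (ring_one hM)) N)
  intro c hc
  convert h2 c hc using 2
  funext ψ
  simp [← mul_assoc, ← mul_pow]

theorem ideal_of_mem_block_brZero (hM : IsPModular p M) {B : Set (IrrCharacter G)}
    (hB : IsPBlock M B) {P : Subgroup G} (hP : IsPGroup p P) (he : ¬ BrZero M P (blockInd B))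
    {g : G} (hg : ∀ c, IsConj g c → c ∉ Subgroup.centralizer (P : Set G)) {χ : IrrCharacter G}
    (hχ : χ ∈ B) : MemLocalIdeal M (centralChar (χ : G → ℂ) g) :=
  brZero_omega_ideal hM hB hP he (cenInt_centralChar hM g) (fun c hc => by
    rw [coeffFun_centralChar]
    simp only [classInd]
    rw [if_neg fun h => hg c h hc]
    exact ideal_zero hM) hχ

/-- The modular group algebra element of a coefficient function. -/
noncomputable def redAlg [Fintype G] (hM : IsPModular p M) (a : G → ℂ) :
    MonoidAlgebra (ResField hM) G :=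
  ∑ g : G, MonoidAlgebra.single g (red hM (a g))

theorem redAlg_coeff [Fintype G] (hM : IsPModular p M) (a : G → ℂ) (x : G) :
    (redAlg hM a).coeff x = red hM (a x) := by
  classical
  simp [redAlg, MonoidAlgebra.coeff_sum, Finsupp.single_apply]

theorem redAlg_mul [Fintype G] (hM : IsPModular p M) {f f' : IrrCharacter G → ℂ}
    (hf : CenInt M f) (hf' : CenInt M f') :
    redAlg hM (coeffFun (f * f')) = redAlg hM (coeffFun f) * redAlg hM (coeffFun f') := by
  simp only [redAlg, Finset.sum_mul, Finset.mul_sum, MonoidAlgebra.single_mul_single]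
  conv_lhs => enter [2, g]; rw [coeffFun_mul, convFun,
    red_sum hM (fun h _ => ring_mul hM (hf h) (hf' _)), ← MonoidAlgebra.singleAddHom_apply, map_sum]
  rw [Finset.sum_comm]
  conv_rhs => rw [Finset.sum_comm]
  refine Finset.sum_congr rfl fun h _ => ?_
  refine Fintype.sum_equiv (Equiv.mulLeft h⁻¹) _ _ fun z => ?_
  simp [red_mul hM (hf h) (hf' _)]

/-- A central element whose coefficient sums over the cosets of a `p`-subgroup lie in the ideal
has all central character values in the ideal. -/
theorem omega_ideal_of_coset_sum [Fintype G] (hM : IsPModular p M) {f : IrrCharacter G → ℂ}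
    (hf : CenInt M f) (P : Subgroup G) [Fintype P] (hP : IsPGroup p P)
    (hsum : ∀ x, MemLocalIdeal M (∑ u : P, coeffFun f (x * u))) (χ : IrrCharacter G) :
    MemLocalIdeal M (f χ) := by
  classical
  haveI := Fact.mk (pmod_prime hM)
  letI := resInst hM
  haveI : CharP (ResField hM) p := resField_charP hM
  cases nonempty_fintype (ConjClasses G)
  set A := redAlg hM (coeffFun f) with hA
  have hcen : ∀ b, A * b = b * A := by
    intro b
    induction b using MonoidAlgebra.induction_on with
    | of g =>
      ext x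
      rw [MonoidAlgebra.of_apply, MonoidAlgebra.coeff_mul_single_apply,
        MonoidAlgebra.coeff_single_mul_apply, hA, redAlg_coeff, redAlg_coeff, mul_one, one_mul,
        show g⁻¹ * x = g⁻¹ * (x * g⁻¹) * (g⁻¹)⁻¹ by group, coeffFun_classFun f]
    | add a b ha hb => rw [mul_add, add_mul, ha, hb]
    | smul r a ha => rw [mul_smul_comm, smul_mul_assoc, ha]
  have hAU : A * ∑ u : P, MonoidAlgebra.single (u : G) (1 : ResField hM) = 0 := by
    ext x
    simp only [Finset.mul_sum, MonoidAlgebra.coeff_sum, Finsupp.coe_finsetSum,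
      Finset.sum_apply, MonoidAlgebra.coeff_mul_single_apply, mul_one, hA, redAlg_coeff]
    rw [← red_sum hM (fun u _ => hf _)]
    have h : ∑ u : P, coeffFun f (x * (u : G)⁻¹) = ∑ u : P, coeffFun f (x * u) :=
      Fintype.sum_equiv (Equiv.inv P) _ _ fun u => by simp
    rw [h]
    exact (red_eq_zero hM (ring_sum hM fun u _ => hf _)).2 (hsum x)
  obtain ⟨N, hN⟩ := isNilpotent_of_mul_sum_eq_zero P hP A hcen hAU
  have hN1 : A ^ (N + 1) = 0 := by rw [pow_succ, hN, zero_mul]
  have hpow : ∀ n : ℕ, redAlg hM (coeffFun (f ^ (n + 1))) = A ^ (n + 1) := by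
    intro n
    induction n with
    | zero => simp [hA]
    | succ n ih => rw [pow_succ f, redAlg_mul hM (hf.pow hM _) hf, ih, pow_succ A (n + 1), hA]
  have hcoef : ∀ g, MemLocalIdeal M (coeffFun (f ^ (N + 1)) g) := fun g => by
    rw [← red_eq_zero hM (hf.pow hM _ g), ← redAlg_coeff hM, hpow, hN1]
    simp
  refine ideal_of_pow hM (hf.ring hM χ) (N + 1) ?_
  have := eq_sum_centralChar (f ^ (N + 1)) χ
  rw [Pi.pow_apply] at this
  rw [this]
  exact ideal_sum hM fun C _ => ideal_mul_right hM (hcoef _) (centralChar_ring hM χ _)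

/-- Central characters vanish modulo the ideal outside the centralizer of a normal
`p`-subgroup. -/
theorem centralChar_ideal_of_normal (hM : IsPModular p M) {P : Subgroup G} [P.Normal]
    (hP : IsPGroup p P) {g : G} (hg : g ∉ Subgroup.centralizer (P : Set G))
    (χ : IrrCharacter G) : MemLocalIdeal M (centralChar (χ : G → ℂ) g) := by
  classical
  cases nonempty_fintype G
  cases nonempty_fintype P
  refine omega_ideal_of_coset_sum hM (cenInt_centralChar hM g) P hP (fun x => ?_) χ
  let S := {y : G // x⁻¹ * y ∈ P}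
  have hsum : ∑ u : P, coeffFun (fun χ : IrrCharacter G => centralChar (χ : G → ℂ) g) (x * u) =
      ∑ y : S, classInd g (y : G) := by
    rw [coeffFun_centralChar]
    exact Fintype.sum_equiv
      { toFun := fun (u : P) => (⟨x * u, by simp⟩ : S)
        invFun := fun y => ⟨x⁻¹ * y, y.2⟩
        left_inv := fun u => by simp
        right_inv := fun y => by simp [S] }
      _ _ fun u => rfl
  rw [hsum]
  have hmem : ∀ (w : P) (y : S), x⁻¹ * ((w : G) * y * (w : G)⁻¹) ∈ P := fun w y => by
    rw [show x⁻¹ * ((w : G) * y * (w : G)⁻¹) =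
      x⁻¹ * (w : G) * x⁻¹⁻¹ * (x⁻¹ * y) * (w : G)⁻¹ by group]
    exact mul_mem (mul_mem (Subgroup.Normal.conj_mem inferInstance _ w.2 _) y.2) (inv_mem w.2)
  letI : MulAction P S :=
    { smul := fun w y => ⟨(w : G) * y * (w : G)⁻¹, hmem w y⟩
      one_smul := fun y => Subtype.ext
        (show ((1 : P) : G) * (y : G) * ((1 : P) : G)⁻¹ = y by simp)
      mul_smul := fun a b y => Subtype.ext (show ((a * b : P) : G) * (y : G) * ((a * b : P) : G)⁻¹ =
        (a : G) * ((b : G) * y * (b : G)⁻¹) * (a : G)⁻¹ by push_cast; group) }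
  have h := ideal_sum_sub_fixed hM hP (F := fun y : S => classInd g (y : G))
    (fun y => by simp only [classInd]; split_ifs <;> [exact ring_one hM; exact ring_zero hM])
    (fun w y => classInd_classFun g y (w : G))
  have h0 : ∀ y ∈ MulAction.fixedPoints P S, classInd g (y : G) = 0 := by
    intro y hy
    simp only [classInd]
    refine if_neg fun hconj => hg ?_
    obtain ⟨t, ht⟩ := isConj_iff.1 hconj.symm
    have hyc : (y : G) ∈ Subgroup.centralizer (P : Set G) :=
      Subgroup.mem_centralizer_iff.2 fun u hu =>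
        mul_inv_eq_iff_eq_mul.1 (congrArg Subtype.val (hy ⟨u, hu⟩) : u * (y : G) * u⁻¹ = y)
    rw [← ht, Subgroup.mem_centralizer_iff]
    intro u hu
    have h1 : t⁻¹ * u * t ∈ P := by
      simpa using Subgroup.Normal.conj_mem (inferInstance : P.Normal) u hu t⁻¹
    have h2 := congrArg (fun z => t * z * t⁻¹) (Subgroup.mem_centralizer_iff.1 hyc _ h1)
    simpa [mul_assoc] using h2
  rw [finsum_mem_congr rfl h0, finsum_mem_zero, sub_zero] at h
  exact h

end Cfsg.Agent.Block
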