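import Cfsg.Agent.Lib.Block.Defect

/-!
Degrees in a block: the defect, heights, and the pairing of a character of height zero with its
block through the `p`-regular elements.
-/

open scoped ComplexConjugate

namespace Cfsg.Agent.Block

set_option linter.unusedSectionVars false
set_option linter.style.haveILetI false

universe u

variable {G : Type u} [Group G] [Finite G] {p : ℕ} {M : Ideal AlgInt}

theorem finsum_mem_block {A : Type*} [AddCommMonoid A] (B : Set (IrrCharacter G))
    [DecidablePred (· ∈ B)] [Fintype (IrrCharacter G)] (f : IrrCharacter G → A) :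
    ∑ᶠ χ ∈ B, f χ = ∑ χ ∈ Finset.univ.filter (· ∈ B), f χ :=
  finsum_mem_eq_sum_of_inter_support_eq _ (by ext; simp)

/-! ### Orthogonality on the regular elements -/

/-- The pairing of two functions over the `p`-regular elements. -/
noncomputable def regSum (p : ℕ) (φ ψ : G → ℂ) : ℂ :=
  ∑ᶠ x ∈ {x : G | ¬ p ∣ orderOf x}, φ x * conj (ψ x)

theorem regSum_eq_sum [Fintype G] (p : ℕ) (φ ψ : G → ℂ) :
    regSum p φ ψ =
      ∑ x ∈ Finset.univ.filter (fun x : G => ¬ p ∣ orderOf x), φ x * conj (ψ x) := by
  exact finsum_mem_eq_sum_of_inter_support_eq _ (by ext; simp)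

/-- If a set of characters satisfies weak orthogonality, the pairings of one of its members with
its members already exhaust the whole square sum. -/
theorem sum_sq_regSum [Fintype G] (A : Finset (IrrCharacter G))
    (horth : ∀ x y : G, ¬ p ∣ orderOf x → p ∣ orderOf y →
      ∑ η ∈ A, (η : G → ℂ) x * conj ((η : G → ℂ) y) = 0)
    {χ : IrrCharacter G} (hχ : χ ∈ A) :
    ∑ η ∈ A, regSum p (χ : G → ℂ) (η : G → ℂ) * conj (regSum p (χ : G → ℂ) (η : G → ℂ)) =
      (Nat.card G : ℂ) * regSum p (χ : G → ℂ) (χ : G → ℂ) := by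
  classical
  set R := Finset.univ.filter (fun x : G => ¬ p ∣ orderOf x)
  have hkey : ∀ x ∈ R, ∑ η ∈ A, conj ((η : G → ℂ) x) *
      (∑ y ∈ R, conj ((χ : G → ℂ) y) * (η : G → ℂ) y) =
      (Nat.card G : ℂ) * conj ((χ : G → ℂ) x) := by
    intro x hx
    have hswap : ∀ y : G, p ∣ orderOf y →
        ∑ η ∈ A, conj ((η : G → ℂ) x) * (η : G → ℂ) y = 0 := fun y hy => by
      have h := congrArg conj (horth x y (Finset.mem_filter.1 hx).2 hy)
      simpa [map_sum, map_mul] using h
    have hfull : ∑ η ∈ A, conj ((η : G → ℂ) x) *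
        (∑ y ∈ R, conj ((χ : G → ℂ) y) * (η : G → ℂ) y) =
        ∑ η ∈ A, conj ((η : G → ℂ) x) * (∑ y : G, conj ((χ : G → ℂ) y) * (η : G → ℂ) y) := by
      simp only [Finset.mul_sum]
      rw [Finset.sum_comm]
      conv_rhs => rw [Finset.sum_comm]
      refine Finset.sum_subset (Finset.subset_univ R) fun y _ hy => ?_
      have hys : p ∣ orderOf y := by simpa [R] using hy
      have h1 : ∀ η ∈ A, conj ((η : G → ℂ) x) * (conj ((χ : G → ℂ) y) * (η : G → ℂ) y) =
          conj ((χ : G → ℂ) y) * (conj ((η : G → ℂ) x) * (η : G → ℂ) y) := fun η _ => by ring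
      rw [Finset.sum_congr rfl h1, ← Finset.mul_sum, hswap y hys, mul_zero]
    have hG : (Nat.card G : ℂ) ≠ 0 := Nat.cast_ne_zero.mpr Nat.card_pos.ne'
    have hinner : ∀ η : IrrCharacter G, ∑ y : G, conj ((χ : G → ℂ) y) * (η : G → ℂ) y =
        if η = χ then (Nat.card G : ℂ) else 0 := by
      intro η
      have h := Cfsg.Agent.Char.classInner_irr_eq_ite η.2 χ.2
      rw [classInner, inv_mul_eq_iff_eq_mul₀ hG] at h
      rw [Finset.sum_congr rfl fun y _ => mul_comm (conj ((χ : G → ℂ) y)) ((η : G → ℂ) y), h]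
      by_cases hη : η = χ
      · subst hη; simp
      · rw [if_neg (fun h' => hη (Subtype.ext h')), if_neg hη, mul_zero]
    rw [hfull, Finset.sum_congr rfl fun η _ => by rw [hinner η]]
    simp [hχ, mul_comm]
  simp only [regSum_eq_sum, map_sum, map_mul, Complex.conj_conj]
  simp only [Finset.sum_mul]
  rw [Finset.sum_comm, Finset.mul_sum]
  refine Finset.sum_congr rfl fun x hx => ?_
  rw [show ∑ η ∈ A, (χ : G → ℂ) x * conj ((η : G → ℂ) x) *
      ∑ y ∈ R, conj ((χ : G → ℂ) y) * (η : G → ℂ) y =
      (χ : G → ℂ) x * ∑ η ∈ A, conj ((η : G → ℂ) x) *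
        ∑ y ∈ R, conj ((χ : G → ℂ) y) * (η : G → ℂ) y by
    rw [Finset.mul_sum]; exact Finset.sum_congr rfl fun η _ => by ring, hkey x hx]
  ring

/-- Characters in different blocks are orthogonal on the regular elements. -/
theorem reg_orth (hM : IsPModular p M) {χ ψ : IrrCharacter G}
    (h : ¬ SameBlock M (χ : G → ℂ) (ψ : G → ℂ)) :
    regSum p (χ : G → ℂ) (ψ : G → ℂ) = 0 := by
  classical
  cases nonempty_fintype G
  set B := blockOf M (χ : G → ℂ)
  set T : IrrCharacter G → ℂ := fun η => regSum p (χ : G → ℂ) (η : G → ℂ)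
  have h1 := sum_sq_regSum (p := p) (Finset.univ.filter (· ∈ B)) (fun x y hx hy => by
    rw [← finsum_mem_block B]
    exact weak_orth hM (isPBlock_blockOf χ) hx hy) (χ := χ) (by simp [B, mem_blockOf_self hM χ])
  have h2 := sum_sq_regSum (p := p) (Finset.univ : Finset (IrrCharacter G)) (fun x y hx hy => by
    rw [Cfsg.Agent.Char.sum_irr_mul_conj, if_neg]
    intro hc
    obtain ⟨c, rfl⟩ := isConj_iff.1 hc
    rw [← MulAut.conj_apply, MulEquiv.orderOf_eq] at hy
    exact hx hy)
    (χ := χ) (Finset.mem_univ χ)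
  have h3 : ∑ η ∈ Finset.univ.filter (fun η => ¬ η ∈ B), T η * conj (T η) = 0 := by
    have h := Finset.sum_filter_add_sum_filter_not Finset.univ (· ∈ B) (fun η => T η * conj (T η))
    rw [h1, h2] at h
    simpa using h
  have h4 : ∑ η ∈ Finset.univ.filter (fun η => ¬ η ∈ B), Complex.normSq (T η) = 0 := by
    have h5 := congrArg Complex.re h3
    simpa [Complex.mul_conj] using h5
  have h6 := (Finset.sum_eq_zero_iff_of_nonneg (fun η _ => Complex.normSq_nonneg _)).1 h4 ψ
    (Finset.mem_filter.2 ⟨Finset.mem_univ _, fun hm => h hm⟩)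
  exact Complex.normSq_eq_zero.1 h6

/-! ### Valuations -/

theorem ring_natDiv (hM : IsPModular p M) {a n : ℕ} (hn : n ≠ 0) (ha : a ≠ 0)
    (h : n.factorization p ≤ a.factorization p) : MemLocalRing M ((a : ℂ) / n) := by
  rw [show (a : ℂ) = (p : ℂ) ^ a.factorization p * ((a / p ^ a.factorization p : ℕ) : ℂ) by
    exact_mod_cast (Nat.ordProj_mul_ordCompl_eq_self a p).symm]
  exact ring_pow_mul_div hM hn h (ring_natCast hM _)

theorem ideal_natDiv (hM : IsPModular p M) {a n : ℕ} (hn : n ≠ 0) (ha : a ≠ 0)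
    (h : n.factorization p < a.factorization p) : MemLocalIdeal M ((a : ℂ) / n) := by
  rw [show (a : ℂ) = (p : ℂ) ^ a.factorization p * ((a / p ^ a.factorization p : ℕ) : ℂ) by
    exact_mod_cast (Nat.ordProj_mul_ordCompl_eq_self a p).symm]
  exact ideal_pow_mul_div hM hn h (ring_natCast hM _)

theorem natDiv_notMem (hM : IsPModular p M) {a n : ℕ} (hn : n ≠ 0) (ha : a ≠ 0)
    (h : n.factorization p = a.factorization p) : ¬ MemLocalIdeal M ((a : ℂ) / n) := fun hi => by
  have := ideal_mul_right hM hi (ring_natDiv hM ha hn h.ge)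
  rw [div_mul_div_cancel₀ (Nat.cast_ne_zero.mpr hn), div_self (Nat.cast_ne_zero.mpr ha)] at this
  exact ideal_one hM this

theorem centralizer_inv (g : G) :
    Subgroup.centralizer ({g⁻¹} : Set G) = Subgroup.centralizer ({g} : Set G) := by
  ext u
  simp only [Subgroup.mem_centralizer_singleton_iff]
  exact ⟨fun h => (Commute.inv_right_iff.1 (h : Commute u g⁻¹)).eq,
    fun h => (Commute.inv_right (a := u) (b := g) h).eq⟩

theorem value_eq (χ : IrrCharacter G) (g : G) :
    (χ : G → ℂ) g = centralChar (χ : G → ℂ) g *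
      (((Nat.card (Subgroup.centralizer ({g} : Set G)) * charDegree (χ : G → ℂ) : ℕ) : ℂ) /
        (Nat.card G : ℕ)) := by
  have hG : (Nat.card G : ℂ) ≠ 0 := Nat.cast_ne_zero.mpr Nat.card_pos.ne'
  have h : ((Subgroup.centralizer ({g} : Set G)).index : ℂ) *
      (Nat.card (Subgroup.centralizer ({g} : Set G)) : ℂ) = (Nat.card G : ℂ) := by
    exact_mod_cast Subgroup.index_mul_card _
  have hd := irr_one_ne_zero χ
  rw [charDeg_spec' χ] at hd
  rw [centralChar, charDeg_spec' χ]
  push_cast
  field_simp
  linear_combination -(χ : G → ℂ) g * h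

variable [hp : Fact p.Prime]

theorem factorization_centralizer_mul (χ : IrrCharacter G) (g : G) :
    (Nat.card (Subgroup.centralizer ({g} : Set G)) * charDegree (χ : G → ℂ)).factorization p =
      (Nat.card (Subgroup.centralizer ({g} : Set G))).factorization p +
        (charDegree (χ : G → ℂ)).factorization p := by
  rw [Nat.factorization_mul Nat.card_pos.ne' (charDeg_pos χ).ne']
  rfl

theorem value_ideal (hM : IsPModular p M) (χ : IrrCharacter G) {g : G}
    (h : (Nat.card G).factorization p < (Nat.card (Subgroup.centralizer ({g} : Set G))).factorization p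
      + (charDegree (χ : G → ℂ)).factorization p) : MemLocalIdeal M ((χ : G → ℂ) g) := by
  rw [value_eq χ g]
  exact ideal_mul_left hM (centralChar_ring hM χ g)
    (ideal_natDiv hM Nat.card_pos.ne' (mul_pos Nat.card_pos (charDeg_pos χ)).ne'
      (by rwa [factorization_centralizer_mul]))

theorem omega_ideal (hM : IsPModular p M) (χ : IrrCharacter G) {g : G}
    (h : (Nat.card (Subgroup.centralizer ({g} : Set G))).factorization p +
      (charDegree (χ : G → ℂ)).factorization p < (Nat.card G).factorization p) :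
    MemLocalIdeal M (centralChar (χ : G → ℂ) g) := by
  have hpos := (mul_pos (Nat.card_pos (α := Subgroup.centralizer ({g} : Set G))) (charDeg_pos χ)).ne'
  have h1 : centralChar (χ : G → ℂ) g = (χ : G → ℂ) g * ((Nat.card G : ℕ) /
      ((Nat.card (Subgroup.centralizer ({g} : Set G)) * charDegree (χ : G → ℂ) : ℕ) : ℂ)) := by
    conv_rhs => rw [value_eq χ g]
    rw [mul_assoc, div_mul_div_cancel₀ (Nat.cast_ne_zero.mpr Nat.card_pos.ne'),
      div_self (Nat.cast_ne_zero.mpr hpos), mul_one]
  rw [h1]
  exact ideal_mul_left hM (irr_ring hM χ g)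
    (ideal_natDiv hM hpos Nat.card_pos.ne' (by rwa [factorization_centralizer_mul]))

theorem value_notMem (hM : IsPModular p M) (χ : IrrCharacter G) {g : G}
    (hω : ¬ MemLocalIdeal M (centralChar (χ : G → ℂ) g))
    (h : (Nat.card (Subgroup.centralizer ({g} : Set G))).factorization p +
      (charDegree (χ : G → ℂ)).factorization p = (Nat.card G).factorization p) :
    ¬ MemLocalIdeal M ((χ : G → ℂ) g) := by
  rw [value_eq χ g]
  have hpos := (mul_pos (Nat.card_pos (α := Subgroup.centralizer ({g} : Set G))) (charDeg_pos χ)).ne'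
  exact ideal_notMem_mul hM (centralChar_ring hM χ g)
    (ring_natDiv hM Nat.card_pos.ne' hpos (by rw [factorization_centralizer_mul, h]))
    hω (natDiv_notMem hM Nat.card_pos.ne' hpos (by rw [factorization_centralizer_mul, h]))

theorem centralizer_factorization_le (g : G) :
    (Nat.card (Subgroup.centralizer ({g} : Set G))).factorization p ≤
      (Nat.card G).factorization p :=
  (Nat.factorization_le_iff_dvd Nat.card_pos.ne' Nat.card_pos.ne').2
    (Subgroup.card_subgroup_dvd_card _) p

/-- The idempotent coefficient at a regular element, times the `p'`-part of the order, is an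
integral combination of the character values. -/
theorem blockCoeff_mul_index (hM : IsPModular p M) {B : Set (IrrCharacter G)}
    (hB : IsPBlock M B) (P : Sylow p G) :
    ∃ n : IrrCharacter G → ℕ, ∀ g : G, ¬ p ∣ orderOf g →
      ((P : Subgroup G).index : ℂ) * blockCoeff B g =
        ∑ᶠ χ ∈ B, (n χ : ℂ) * (χ : G → ℂ) g⁻¹ := by
  classical
  cases nonempty_fintype G
  have hn : ∀ χ : IrrCharacter G, ∃ n : ℕ,
      classInner (fun u : (P : Subgroup G) => (χ : G → ℂ) u) (fun _ => 1) = n := fun χ =>
    Cfsg.Agent.Char.IsChar.classInner_nat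
      (Cfsg.Agent.Char.IsChar.res (irr_isChar χ) _) Cfsg.Agent.Char.IsChar.one
  choose n hn using hn
  refine ⟨n, fun g hg => ?_⟩
  set A := Finset.univ.filter (fun χ : IrrCharacter G => χ ∈ B)
  have hG : (Nat.card G : ℂ) ≠ 0 := Nat.cast_ne_zero.mpr Nat.card_pos.ne'
  have hP0 : (Nat.card (P : Subgroup G) : ℂ) ≠ 0 := Nat.cast_ne_zero.mpr Nat.card_pos.ne'
  have hzero : ∀ u : (P : Subgroup G), u ≠ 1 →
      ∑ χ ∈ A, (χ : G → ℂ) u * (χ : G → ℂ) g⁻¹ = 0 := by
    intro u hu
    have hus : p ∣ orderOf (u : G) := by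
      obtain ⟨k, hk⟩ := P.isPGroup' u
      rw [Subgroup.orderOf_coe]
      obtain ⟨j, -, hj⟩ := (Nat.dvd_prime_pow hp.out).1 (orderOf_dvd_of_pow_eq_one hk)
      rcases j with _ | j
      · exact absurd (orderOf_eq_one_iff.1 (hj.trans (pow_zero p))) hu
      · rw [hj, pow_succ]; exact dvd_mul_left _ _
    have h := congrArg conj (weak_orth hM hB hg hus)
    rw [finsum_mem_block B, map_sum, map_zero] at h
    rw [← h]
    refine Finset.sum_congr rfl fun χ _ => ?_
    rw [map_mul, Complex.conj_conj, irr_apply_inv, mul_comm]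
  have h1 : (Nat.card G : ℂ) * blockCoeff B g =
      ∑ u : (P : Subgroup G), ∑ χ ∈ A, (χ : G → ℂ) u * (χ : G → ℂ) g⁻¹ := by
    rw [Finset.sum_eq_single (1 : (P : Subgroup G)) (fun u _ hu => hzero u hu)
      (fun h => absurd (Finset.mem_univ _) h), blockCoeff, ← mul_assoc,
      mul_inv_cancel₀ hG, one_mul, finsum_mem_block B]
    exact Finset.sum_congr rfl fun χ _ => by rw [irr_apply_inv]; rfl
  have h2 : ∀ χ : IrrCharacter G, ∑ u : (P : Subgroup G), (χ : G → ℂ) u =
      (Nat.card (P : Subgroup G) : ℂ) * n χ := by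
    intro χ
    rw [← hn χ, classInner, ← mul_assoc, mul_inv_cancel₀ hP0, one_mul]
    simp
  rw [Finset.sum_comm, show (Nat.card G : ℂ) =
    (Nat.card (P : Subgroup G) : ℂ) * ((P : Subgroup G).index : ℂ) by
      exact_mod_cast (Subgroup.card_mul_index _).symm, mul_assoc] at h1
  simp only [← Finset.sum_mul, h2, mul_assoc, ← Finset.mul_sum] at h1
  rw [finsum_mem_block B]
  exact mul_left_cancel₀ hP0 h1

theorem defectClass_le_add (hM : IsPModular p M) {B : Set (IrrCharacter G)} {y : G}
    (hy : IsDefectClass M B y) {χ : IrrCharacter G} (hχ : χ ∈ B) :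
    (Nat.card G).factorization p ≤ (Nat.card (Subgroup.centralizer ({y} : Set G))).factorization p
      + (charDegree (χ : G → ℂ)).factorization p := by
  by_contra h
  exact hy.2.2 χ hχ (omega_ideal hM χ (not_le.1 h))

theorem exists_minimal_degree (hM : IsPModular p M) {B : Set (IrrCharacter G)}
    (hB : IsPBlock M B) {y : G} (hy : IsDefectClass M B y) :
    ∃ χ ∈ B, (Nat.card (Subgroup.centralizer ({y} : Set G))).factorization p +
      (charDegree (χ : G → ℂ)).factorization p = (Nat.card G).factorization p := by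
  classical
  obtain ⟨P⟩ : Nonempty (Sylow p G) := inferInstance
  obtain ⟨n, hn⟩ := blockCoeff_mul_index hM hB P
  by_contra hno
  have hid : MemLocalIdeal M (((P : Subgroup G).index : ℂ) * blockCoeff B y) := by
    rw [hn y (regular_of_unit hM hB hy.2.1), finsum_mem_block B]
    refine ideal_sum hM fun χ hχ => ideal_mul_left hM (ring_natCast hM _) ?_
    have hle := defectClass_le_add hM hy (Finset.mem_filter.1 hχ).2
    refine value_ideal hM χ ?_
    rw [centralizer_inv]
    exact lt_of_le_of_ne hle fun he => hno ⟨χ, (Finset.mem_filter.1 hχ).2, he.symm⟩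
  have := ideal_mul_left hM (ring_inv_natCast hM P.not_dvd_index) hid
  rw [← mul_assoc, inv_mul_cancel₀ (Nat.cast_ne_zero.mpr Subgroup.index_ne_zero_of_finite),
    one_mul] at this
  exact hy.2.1 this

/-- The defect of a block is the exponent of a centralizer of a defect class. -/
theorem blockDefect_eq (hM : IsPModular p M) {B : Set (IrrCharacter G)} (hB : IsPBlock M B)
    {y : G} (hy : IsDefectClass M B y) :
    blockDefect p B = (Nat.card (Subgroup.centralizer ({y} : Set G))).factorization p := by
  obtain ⟨χ, hχ, he⟩ := exists_minimal_degree hM hB hy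
  have h : sInf ((fun χ : IrrCharacter G => (charDegree (χ : G → ℂ)).factorization p) '' B) =
      (charDegree (χ : G → ℂ)).factorization p := by
    refine le_antisymm (Nat.sInf_le ⟨χ, hχ, rfl⟩) (le_csInf ⟨_, χ, hχ, rfl⟩ ?_)
    rintro _ ⟨ψ, hψ, rfl⟩
    have := defectClass_le_add hM hy hψ
    dsimp only
    omega
  rw [blockDefect, h]
  omega

theorem card_defectGroup (hM : IsPModular p M) {B : Set (IrrCharacter G)} (hB : IsPBlock M B)
    {D : Subgroup G} (hD : IsDefectGroup p M B D) : Nat.card D = p ^ blockDefect p B := by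
  obtain ⟨g, hg, Q, rfl⟩ := hD
  rw [card_csyl, blockDefect_eq hM hB hg]

theorem blockDefect_le (B : Set (IrrCharacter G)) :
    blockDefect p B ≤ (Nat.card G).factorization p := Nat.sub_le _ _

theorem le_defect_add (hM : IsPModular p M) {B : Set (IrrCharacter G)} (hB : IsPBlock M B)
    {χ : IrrCharacter G} (hχ : χ ∈ B) :
    (Nat.card G).factorization p ≤ blockDefect p B + (charDegree (χ : G → ℂ)).factorization p := by
  obtain ⟨y, hy⟩ := exists_isDefectClass hM hB
  rw [blockDefect_eq hM hB hy]
  exact defectClass_le_add hM hy hχ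

theorem blockHeight_eq (hM : IsPModular p M) {B : Set (IrrCharacter G)} (hB : IsPBlock M B)
    {χ : IrrCharacter G} (hχ : χ ∈ B) :
    blockHeight p B (χ : G → ℂ) =
      blockDefect p B + (charDegree (χ : G → ℂ)).factorization p - (Nat.card G).factorization p := by
  obtain ⟨y, hy⟩ := exists_isDefectClass hM hB
  obtain ⟨χ₀, hχ₀, he⟩ := exists_minimal_degree hM hB hy
  rw [← blockDefect_eq hM hB hy] at he
  have hle : sInf ((fun χ : IrrCharacter G => (charDegree (χ : G → ℂ)).factorization p) '' B) ≤
      (charDegree (χ₀ : G → ℂ)).factorization p := Nat.sInf_le ⟨χ₀, hχ₀, rfl⟩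
  have hle' : sInf ((fun χ : IrrCharacter G => (charDegree (χ : G → ℂ)).factorization p) '' B) ≤
      (charDegree (χ : G → ℂ)).factorization p := Nat.sInf_le ⟨χ, hχ, rfl⟩
  have hd : blockDefect p B = (Nat.card G).factorization p -
      sInf ((fun χ : IrrCharacter G => (charDegree (χ : G → ℂ)).factorization p) '' B) := rfl
  rw [blockHeight]
  omega

theorem blockHeight_zero_iff (hM : IsPModular p M) {B : Set (IrrCharacter G)} (hB : IsPBlock M B)
    {χ : IrrCharacter G} (hχ : χ ∈ B) :
    blockHeight p B (χ : G → ℂ) = 0 ↔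
      blockDefect p B + (charDegree (χ : G → ℂ)).factorization p = (Nat.card G).factorization p := by
  rw [blockHeight_eq hM hB hχ]
  have := le_defect_add hM hB hχ
  omega

theorem exists_height_zero (hM : IsPModular p M) {B : Set (IrrCharacter G)} (hB : IsPBlock M B) :
    ∃ χ ∈ B, blockHeight p B (χ : G → ℂ) = 0 := by
  obtain ⟨y, hy⟩ := exists_isDefectClass hM hB
  obtain ⟨χ, hχ, he⟩ := exists_minimal_degree hM hB hy
  exact ⟨χ, hχ, (blockHeight_zero_iff hM hB hχ).2 (by rw [blockDefect_eq hM hB hy]; exact he)⟩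

theorem omega_ideal_of_small (hM : IsPModular p M) {B : Set (IrrCharacter G)} (hB : IsPBlock M B)
    {χ : IrrCharacter G} (hχ : χ ∈ B) {g : G}
    (hg : (Nat.card (Subgroup.centralizer ({g} : Set G))).factorization p < blockDefect p B) :
    MemLocalIdeal M (centralChar (χ : G → ℂ) g) := by
  obtain ⟨χ₀, hχ₀, h0⟩ := exists_height_zero hM hB
  rw [blockHeight_zero_iff hM hB hχ₀] at h0
  exact (ideal_congr hM (pblock_sameBlock hM hB hχ hχ₀ g)).2 (omega_ideal hM χ₀ (by omega))

/-- Values of the members of a block, at an element with large centralizer, are proportional to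
those of a character of height zero. -/
theorem value_proportional (hM : IsPModular p M) {B : Set (IrrCharacter G)} (hB : IsPBlock M B)
    {χ η : IrrCharacter G} (hχ : χ ∈ B) (hη : η ∈ B) {g : G}
    (hg : blockDefect p B ≤ (Nat.card (Subgroup.centralizer ({g} : Set G))).factorization p) :
    MemLocalIdeal M ((η : G → ℂ) g -
      ((charDegree (η : G → ℂ) : ℕ) : ℂ) / ((charDegree (χ : G → ℂ) : ℕ) : ℂ) * (χ : G → ℂ) g) := by
  have hd : ((charDegree (χ : G → ℂ) : ℕ) : ℂ) ≠ 0 := Nat.cast_ne_zero.mpr (charDeg_pos χ).ne'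
  have heq : (η : G → ℂ) g -
      ((charDegree (η : G → ℂ) : ℕ) : ℂ) / ((charDegree (χ : G → ℂ) : ℕ) : ℂ) * (χ : G → ℂ) g =
      (centralChar (η : G → ℂ) g - centralChar (χ : G → ℂ) g) *
        (((Nat.card (Subgroup.centralizer ({g} : Set G)) * charDegree (η : G → ℂ) : ℕ) : ℂ) /
          (Nat.card G : ℕ)) := by
    conv_lhs => rw [value_eq η g, value_eq χ g]
    push_cast
    field_simp
  rw [heq]
  refine ideal_mul_right hM (pblock_sameBlock hM hB hη hχ g)
    (ring_natDiv hM Nat.card_pos.ne' (mul_pos Nat.card_pos (charDeg_pos η)).ne' ?_)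
  rw [factorization_centralizer_mul]
  have := le_defect_add hM hB hη
  omega

/-! ### The regular part of a character as a central element -/

/-- The complex conjugate of a character on the regular elements, zero elsewhere. -/
noncomputable def regConj (p : ℕ) (χ : IrrCharacter G) (g : G) : ℂ :=
  open Classical in if p ∣ orderOf g then 0 else (χ : G → ℂ) g⁻¹

/-- The central character values of the central element with coefficients `regConj p χ`. -/
noncomputable def regPair (p : ℕ) (χ η : IrrCharacter G) : ℂ :=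
  regSum p (η : G → ℂ) (χ : G → ℂ) / (η : G → ℂ) 1

theorem regConj_classFun (χ : IrrCharacter G) : IsClassFunction G (regConj p χ) := by
  classical
  intro g h
  simp only [regConj]
  rw [show (h * g * h⁻¹)⁻¹ = h * g⁻¹ * h⁻¹ by group, irr_classFun χ g⁻¹ h]
  exact if_congr (by rw [← MulAut.conj_apply, MulEquiv.orderOf_eq]) rfl rfl

theorem omegaFun_regConj [Fintype G] (χ η : IrrCharacter G) :
    omegaFun η (regConj p χ) = regPair p χ η := by
  classical
  rw [omegaFun, regPair, regSum_eq_sum, Finset.sum_filter]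
  congr 1
  refine Finset.sum_congr rfl fun g _ => ?_
  simp only [regConj]
  by_cases h : p ∣ orderOf g
  · simp [h]
  · simp [h, irr_apply_inv, mul_comm]

theorem coeffFun_regPair (χ : IrrCharacter G) : coeffFun (regPair p χ) = regConj p χ := by
  cases nonempty_fintype G
  conv_rhs => rw [← coeffFun_omegaFun (regConj_classFun (p := p) χ)]
  congr 1
  funext η
  rw [omegaFun_regConj]

theorem cenInt_regPair (hM : IsPModular p M) (χ : IrrCharacter G) : CenInt M (regPair p χ) := by
  intro g
  rw [coeffFun_regPair]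
  simp only [regConj]
  split_ifs
  · exact ring_zero hM
  · exact irr_ring hM χ _

theorem regPair_outside (hM : IsPModular p M) {χ η : IrrCharacter G}
    (h : ¬ SameBlock M (χ : G → ℂ) (η : G → ℂ)) : regPair p χ η = 0 := by
  rw [regPair, reg_orth hM fun h' => h (sameBlock_symm h'), zero_div]

theorem regPair_ideal (hM : IsPModular p M) {B : Set (IrrCharacter G)} (hB : IsPBlock M B)
    {χ ξ : IrrCharacter G} (hχ : χ ∈ B) (hξ : ξ ∈ B)
    (hpos : blockHeight p B (χ : G → ℂ) ≠ 0) : MemLocalIdeal M (regPair p χ ξ) := by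
  cases nonempty_fintype (ConjClasses G)
  rw [eq_sum_centralChar (regPair p χ) ξ, coeffFun_regPair]
  refine ideal_sum hM fun C _ => ?_
  simp only [regConj]
  split_ifs with hs
  · rw [zero_mul]; exact ideal_zero hM
  rcases lt_or_ge ((Nat.card (Subgroup.centralizer ({C.out} : Set G))).factorization p)
    (blockDefect p B) with hlt | hge
  · exact ideal_mul_left hM (irr_ring hM χ _) (omega_ideal_of_small hM hB hξ hlt)
  · refine ideal_mul_right hM (value_ideal hM χ ?_) (centralChar_ring hM ξ _)
    rw [centralizer_inv]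
    have h1 := le_defect_add hM hB hχ
    rw [Ne, blockHeight_zero_iff hM hB hχ] at hpos
    omega

theorem regPair_unit (hM : IsPModular p M) {B : Set (IrrCharacter G)} (hB : IsPBlock M B)
    {χ ξ : IrrCharacter G} (hχ : χ ∈ B) (hξ : ξ ∈ B)
    (h0 : blockHeight p B (χ : G → ℂ) = 0) : ¬ MemLocalIdeal M (regPair p χ ξ) := by
  classical
  cases nonempty_fintype (ConjClasses G)
  rw [blockHeight_zero_iff hM hB hχ] at h0
  obtain ⟨P⟩ : Nonempty (Sylow p G) := inferInstance
  have hm0 : ((P : Subgroup G).index : ℂ) ≠ 0 :=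
    Nat.cast_ne_zero.mpr Subgroup.index_ne_zero_of_finite
  obtain ⟨n, hn⟩ := blockCoeff_mul_index hM hB P
  intro hideal
  refine ideal_one hM ?_
  rw [← sum_blockCoeff_centralChar hξ]
  have hK : ∃ K : ℂ, MemLocalRing M K ∧ ∀ g : G,
      MemLocalIdeal M ((blockCoeff B g - K * regConj p χ g) * centralChar (ξ : G → ℂ) g) := by
    refine ⟨((P : Subgroup G).index : ℂ)⁻¹ * ∑ η ∈ Finset.univ.filter (· ∈ B),
      (n η : ℂ) * (((charDegree (η : G → ℂ) : ℕ) : ℂ) / ((charDegree (χ : G → ℂ) : ℕ) : ℂ)),
      ring_mul hM (ring_inv_natCast hM P.not_dvd_index) (ring_sum hM fun η hη =>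
        ring_mul hM (ring_natCast hM _) (ring_natDiv hM (charDeg_pos χ).ne' (charDeg_pos η).ne' (by
          have := le_defect_add hM hB (Finset.mem_filter.1 hη).2
          omega))), fun g => ?_⟩
    by_cases hs : p ∣ orderOf g
    · rw [blockCoeff_singular hM hB hs]
      simp only [regConj, hs, if_true, mul_zero, sub_zero, zero_mul]
      exact ideal_zero hM
    rcases lt_or_ge ((Nat.card (Subgroup.centralizer ({g} : Set G))).factorization p)
      (blockDefect p B) with hlt | hge
    · exact ideal_mul_left hM (ring_sub hM (blockCoeff_ring hM hB g) (ring_mul hM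
        (ring_mul hM (ring_inv_natCast hM P.not_dvd_index) (ring_sum hM fun η hη =>
          ring_mul hM (ring_natCast hM _) (ring_natDiv hM (charDeg_pos χ).ne' (charDeg_pos η).ne'
            (by
              have := le_defect_add hM hB (Finset.mem_filter.1 hη).2
              omega))))
        (by simp only [regConj, hs, if_false]; exact irr_ring hM χ _)))
        (omega_ideal_of_small hM hB hξ hlt)
    · refine ideal_mul_right hM ?_ (centralChar_ring hM ξ g)
      simp only [regConj, hs, if_false]
      have h := hn g hs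
      rw [finsum_mem_block B] at h
      rw [show blockCoeff B g = ((P : Subgroup G).index : ℂ)⁻¹ *
        (((P : Subgroup G).index : ℂ) * blockCoeff B g) by field_simp, h, mul_assoc, ← mul_sub,
        Finset.sum_mul, ← Finset.sum_sub_distrib]
      refine ideal_mul_left hM (ring_inv_natCast hM P.not_dvd_index)
        (ideal_sum hM fun η hη => ?_)
      rw [mul_assoc, ← mul_sub]
      exact ideal_mul_left hM (ring_natCast hM _) (value_proportional hM hB hχ
        (Finset.mem_filter.1 hη).2 (by rwa [centralizer_inv]))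
  obtain ⟨K, hKr, hK⟩ := hK
  have hsplit : ∀ C : ConjClasses G, blockCoeff B C.out * centralChar (ξ : G → ℂ) C.out =
      (blockCoeff B C.out - K * regConj p χ C.out) * centralChar (ξ : G → ℂ) C.out +
        K * (regConj p χ C.out * centralChar (ξ : G → ℂ) C.out) := fun C => by ring
  rw [Finset.sum_congr rfl fun C _ => hsplit C, Finset.sum_add_distrib, ← Finset.mul_sum]
  refine ideal_add hM (ideal_sum hM fun C _ => hK _) (ideal_mul_left hM hKr ?_)
  rwa [← coeffFun_regPair, ← eq_sum_centralChar (regPair p χ) ξ]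

end Cfsg.Agent.Block
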