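import Cfsg.Agent.Lib.Block.SecondMain
import Cfsg.Agent.Lib.Block.FirstMain
import Cfsg.Agent.Lib.Grp.Cores

/-!
The principal block: kernels, the third main theorem at a centralizer, and column sums.
-/

open scoped ComplexConjugate

namespace Cfsg.Agent.Block

set_option linter.unusedSectionVars false
set_option linter.style.haveILetI false

universe u

variable {G : Type u} [Group G] [Finite G] {p : ℕ} {M : Ideal AlgInt}

theorem principal_third_main [Fact p.Prime] (hM : IsPModular p M) {H : Subgroup G}
    {b : Set (IrrCharacter H)} (hdef : InducedBlockDefined M H b) :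
    IsInducedBlock M H b (principalBlock M G) ↔ b = principalBlock M H := by
  have hdeg : ∀ {K : Type u} [Group K] [Finite K],
      blockHeight p (blockOf M (fun _ : K => (1 : ℂ))) (fun _ : K => (1 : ℂ)) = 0 := by
    intro K _ _
    rw [blockHeight, charDeg_trivial, Nat.factorization_one]
    simp
  exact induced_blockOf_res_iff hM H (trivialIrr G) Cfsg.Agent.Char.isIrr_one hdeg hdeg hdef

/-- A normal `p'`-subgroup lies in the kernel of every character of the principal block. -/
theorem principal_ker_of_coprime (hM : IsPModular p M) {K : Subgroup G} [K.Normal]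
    (hK : ¬ p ∣ Nat.card K) {χ : IrrCharacter G} (hχ : χ ∈ principalBlock M G) {k : G}
    (hk : k ∈ K) : (χ : G → ℂ) k = (χ : G → ℂ) 1 := by
  classical
  cases nonempty_fintype G
  cases nonempty_fintype K
  by_contra hne
  set a : G → ℂ := fun g => if g ∈ K then 1 else 0 with ha
  have hcls : IsClassFunction G a := fun g t => by
    simp only [ha]
    refine if_congr ⟨fun h => ?_, fun h => Subgroup.Normal.conj_mem inferInstance g h t⟩ rfl rfl
    simpa [mul_assoc] using Subgroup.Normal.conj_mem (inferInstance : K.Normal) _ h t⁻¹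
  have hf : CenInt M (fun ξ : IrrCharacter G => omegaFun ξ a) := fun g => by
    rw [coeffFun_omegaFun hcls]
    simp only [ha]
    split_ifs
    · exact ring_one hM
    · exact ring_zero hM
  have hsum : ∀ ξ : IrrCharacter G, omegaFun ξ a = (∑ u : K, (ξ : G → ℂ) u) / (ξ : G → ℂ) 1 := by
    intro ξ
    rw [omegaFun]
    congr 1
    simp only [ha, ite_mul, one_mul, zero_mul]
    rw [← Finset.sum_filter]
    exact Finset.sum_subtype (Finset.univ.filter (· ∈ K)) (fun g => by simp)
      (fun g => (ξ : G → ℂ) g)
  have h := hf.congr_block hM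
    (pblock_sameBlock hM isPBlock_principalBlock (trivial_mem_principalBlock hM) hχ)
  have h0 : ∑ u : K, (χ : G → ℂ) u = 0 := by
    simpa using sum_normal_mul_eq_zero K χ (fun hh => hne (hh k hk)) 1
  simp only [hsum, h0, zero_div, sub_zero] at h
  rw [show ∑ u : K, (trivialIrr G : G → ℂ) u = (Nat.card K : ℂ) by
    simp [trivialIrr, Nat.card_eq_fintype_card],
    show (trivialIrr G : G → ℂ) 1 = 1 from rfl, div_one] at h
  exact hK ((ideal_natCast_iff hM _).1 h)

theorem regular_mem_of_index_pPow [Fact p.Prime] {K : Subgroup G} [K.Normal] {k : ℕ}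
    (hidx : K.index = p ^ k) {y : G} (hy : ¬ p ∣ orderOf y) : y ∈ K := by
  rw [← QuotientGroup.eq_one_iff, ← orderOf_eq_one_iff]
  refine Nat.eq_one_of_dvd_coprimes (a := orderOf y) (b := p ^ k) ?_
    (orderOf_map_dvd (QuotientGroup.mk' K) y) ?_
  · exact Nat.Coprime.pow_right _ ((Fact.out : p.Prime).coprime_iff_not_dvd.2 hy).symm
  · rw [← hidx]
    exact orderOf_dvd_natCard _

theorem mem_principal_of_ker [Fact p.Prime] (hM : IsPModular p M) {K : Subgroup G}
    (hreg : ∀ y : G, ¬ p ∣ orderOf y → y ∈ K) {χ : IrrCharacter G}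
    (hker : ∀ k ∈ K, (χ : G → ℂ) k = (χ : G → ℂ) 1) : χ ∈ principalBlock M G := by
  classical
  cases nonempty_fintype G
  by_contra hno
  have h := reg_orth hM (χ := χ) (ψ := trivialIrr G) fun h =>
    hno (pblock_mem_of_sameBlock hM isPBlock_principalBlock (trivial_mem_principalBlock hM)
      (sameBlock_symm h))
  rw [regSum_eq_sum, Finset.sum_congr rfl (g := fun _ => (χ : G → ℂ) 1) fun x hx => by
    rw [hker x (hreg x (Finset.mem_filter.1 hx).2)]; simp [trivialIrr],
    Finset.sum_const, nsmul_eq_mul, mul_eq_zero] at h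
  rcases h with h | h
  · rw [Nat.cast_eq_zero, Finset.card_eq_zero] at h
    refine (Finset.eq_empty_iff_forall_notMem.1 h 1) ?_
    simp only [Finset.mem_filter, Finset.mem_univ, true_and, orderOf_one]
    exact (Fact.out : p.Prime).not_dvd_one
  · exact irr_one_ne_zero χ h

/-- In a group with a normal `p`-complement the column sum of the principal block at a regular
element is the `p`-part of the order. -/
theorem principal_column_complement [Fact p.Prime] (hM : IsPModular p M) {K : Subgroup G}
    [K.Normal] (hK : ¬ p ∣ Nat.card K) {k : ℕ} (hidx : K.index = p ^ k) {y : G}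
    (hy : ¬ p ∣ orderOf y) :
    ∑ᶠ χ ∈ principalBlock M G, (χ : G → ℂ) y * conj ((χ : G → ℂ) y) =
      ((p ^ (Nat.card G).factorization p : ℕ) : ℂ) := by
  classical
  cases nonempty_fintype G
  cases nonempty_fintype K
  have hp : p.Prime := Fact.out
  have hcard : Nat.card G = Nat.card K * p ^ k := by rw [← hidx, Subgroup.card_mul_index]
  have hk : (Nat.card G).factorization p = k := by
    rw [hcard, Nat.factorization_mul Nat.card_pos.ne' (pow_ne_zero _ hp.ne_zero),
      Finsupp.add_apply, Nat.factorization_eq_zero_of_not_dvd hK, Nat.Prime.factorization_pow hp,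
      Finsupp.single_eq_same, zero_add]
  set a : G → ℂ := fun g => if g ∈ K then (Nat.card K : ℂ)⁻¹ else 0 with ha
  have hcls : IsClassFunction G a := fun g t => by
    simp only [ha]
    refine if_congr ⟨fun h => ?_, fun h => Subgroup.Normal.conj_mem inferInstance g h t⟩ rfl rfl
    simpa [mul_assoc] using Subgroup.Normal.conj_mem (inferInstance : K.Normal) _ h t⁻¹
  have hker : ∀ χ ∈ principalBlock M G, ∀ u ∈ K, (χ : G → ℂ) u = (χ : G → ℂ) 1 :=
    fun χ hχ u hu => principal_ker_of_coprime hM hK hχ hu
  have hind : blockInd (principalBlock M G) = fun χ => omegaFun χ a := by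
    funext χ
    have hs : omegaFun χ a =
        (Nat.card K : ℂ)⁻¹ * (∑ u : K, (χ : G → ℂ) u) / (χ : G → ℂ) 1 := by
      rw [omegaFun]
      congr 1
      simp only [ha, ite_mul, zero_mul]
      rw [← Finset.sum_filter, Finset.mul_sum]
      exact Finset.sum_subtype (Finset.univ.filter (· ∈ K)) (fun g => by simp)
        (fun g => (Nat.card K : ℂ)⁻¹ * (χ : G → ℂ) g)
    rw [hs]
    by_cases hχ : χ ∈ principalBlock M G
    · rw [blockInd_of_mem hχ, Finset.sum_congr rfl (g := fun _ => (χ : G → ℂ) 1)
        fun (u : K) _ => hker χ hχ (u : G) u.2, Finset.sum_const, Finset.card_univ, nsmul_eq_mul,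
        ← Nat.card_eq_fintype_card, inv_mul_cancel_left₀ (Nat.cast_ne_zero.2 Nat.card_pos.ne'),
        div_self (irr_one_ne_zero χ)]
    · have h0 : ∑ u : K, (χ : G → ℂ) u = 0 := by
        simpa using sum_normal_mul_eq_zero K χ (fun hh => hχ (mem_principal_of_ker hM
          (fun x hx => regular_mem_of_index_pPow hidx hx) hh)) 1
      rw [blockInd_of_notMem hχ, h0, mul_zero, zero_div]
  have h1 : blockCoeff (principalBlock M G) 1 = (Nat.card K : ℂ)⁻¹ := by
    rw [blockCoeff_eq, hind, coeffFun_omegaFun hcls]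
    simp [ha, K.one_mem]
  rw [blockCoeff, finsum_mem_block] at h1
  have hyK : y ∈ K := regular_mem_of_index_pPow hidx hy
  rw [finsum_mem_block, hk]
  have hG : (Nat.card G : ℂ) ≠ 0 := Nat.cast_ne_zero.2 Nat.card_pos.ne'
  have hKc : (Nat.card K : ℂ) ≠ 0 := Nat.cast_ne_zero.2 Nat.card_pos.ne'
  have h2 : ∑ χ ∈ Finset.univ.filter (· ∈ principalBlock M G),
      (χ : G → ℂ) y * conj ((χ : G → ℂ) y) = (Nat.card G : ℂ) * (Nat.card K : ℂ)⁻¹ := by
    rw [← h1]
    simp only [Finset.mul_sum]
    refine Finset.sum_congr rfl fun χ hχ => ?_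
    rw [hker χ (Finset.mem_filter.1 hχ).2 y hyK]
    field_simp
  rw [h2, hcard]
  push_cast
  field_simp

/-- The column of the principal block at `z * y` against its centralizer. -/
theorem principal_column [Fact p.Prime] (hM : IsPModular p M) {z : G}
    (hz : ∃ k : ℕ, orderOf z = p ^ k) {y : Subgroup.centralizer ({z} : Set G)}
    (hy : ¬ p ∣ orderOf y) :
    ∑ᶠ ζ ∈ principalBlock M G, (ζ : G → ℂ) (z * (y : G)) * conj ((ζ : G → ℂ) (z * (y : G))) =
      ∑ᶠ ξ ∈ principalBlock M (Subgroup.centralizer ({z} : Set G)),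
        (ξ : Subgroup.centralizer ({z} : Set G) → ℂ) y *
          conj ((ξ : Subgroup.centralizer ({z} : Set G) → ℂ) y) := by
  classical
  cases nonempty_fintype G
  cases nonempty_fintype (Subgroup.centralizer ({z} : Set G))
  obtain ⟨k, hk⟩ := hz
  have hP : IsPGroup p (Subgroup.zpowers z) :=
    IsPGroup.of_card (n := k) (by rw [Nat.card_zpowers, hk])
  have hdef : ∀ ξ : IrrCharacter (Subgroup.centralizer ({z} : Set G)), InducedBlockDefined M (Subgroup.centralizer ({z} : Set G)) (blockOf M (ξ : (Subgroup.centralizer ({z} : Set G)) → ℂ)) := fun ξ => by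
    refine inducedBlockDefined_brauer hM hP (Subgroup.zpowers_le.2 (centralizer_self_mem z)) ?_ ?_
      (isPBlock_blockOf ξ)
    · exact Subgroup.centralizer_le (Set.singleton_subset_iff.2 (Subgroup.mem_zpowers z))
    · intro c hc
      rw [Subgroup.mem_normalizer_iff]
      intro w
      have hcz : Commute c z := Subgroup.mem_centralizer_singleton_iff.1 hc
      constructor
      · intro hw
        obtain ⟨i, rfl⟩ := Subgroup.mem_zpowers_iff.1 hw
        rw [(hcz.zpow_right i).eq, mul_inv_cancel_right]
        exact hw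
      · intro hw
        obtain ⟨i, hi⟩ := Subgroup.mem_zpowers_iff.1 hw
        have : w = z ^ i := by
          have h2 := congrArg (fun t => c⁻¹ * t * c) hi
          simp only [← mul_assoc, inv_mul_cancel, one_mul, inv_mul_cancel_right] at h2
          rw [← h2, mul_assoc, ← (hcz.zpow_right i).eq, inv_mul_cancel_left]
        exact this ▸ Subgroup.zpow_mem _ (Subgroup.mem_zpowers z) i
  have hfilter : (Finset.univ.filter fun ξ : IrrCharacter (Subgroup.centralizer ({z} : Set G)) =>
      IsInducedBlock M (Subgroup.centralizer ({z} : Set G)) (blockOf M (ξ : (Subgroup.centralizer ({z} : Set G)) → ℂ)) (principalBlock M G)) =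
      Finset.univ.filter (fun ξ : IrrCharacter (Subgroup.centralizer ({z} : Set G)) => ξ ∈ principalBlock M (Subgroup.centralizer ({z} : Set G))) := by
    ext ξ
    simp only [Finset.mem_filter, Finset.mem_univ, true_and]
    rw [principal_third_main hM (hdef ξ)]
    exact ⟨fun h => h ▸ mem_blockOf_self hM ξ,
      fun h => (pblock_eq_blockOf hM isPBlock_principalBlock h).symm⟩
  have hexp : ∀ χ : IrrCharacter G,
      ∑ ξ ∈ Finset.univ.filter (fun ξ : IrrCharacter (Subgroup.centralizer ({z} : Set G)) => ξ ∈ principalBlock M (Subgroup.centralizer ({z} : Set G))),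
        classInner (fun c : (Subgroup.centralizer ({z} : Set G)) => (χ : G → ℂ) (z * (c : G))) (ξ : (Subgroup.centralizer ({z} : Set G)) → ℂ) * (ξ : (Subgroup.centralizer ({z} : Set G)) → ℂ) y =
      if χ ∈ principalBlock M G then (χ : G → ℂ) (z * (y : G)) else 0 := fun χ => by
    rw [← hfilter]
    exact value_eq_sum_inducing hM ⟨k, hk⟩ isPBlock_principalBlock hy χ
  rw [finsum_mem_block, finsum_mem_block, Finset.sum_filter]
  calc ∑ χ : IrrCharacter G, (if χ ∈ principalBlock M G then
          (χ : G → ℂ) (z * (y : G)) * conj ((χ : G → ℂ) (z * (y : G))) else 0)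
      = ∑ χ : IrrCharacter G,
          (∑ ξ ∈ Finset.univ.filter (fun ξ : IrrCharacter (Subgroup.centralizer ({z} : Set G)) => ξ ∈ principalBlock M (Subgroup.centralizer ({z} : Set G))),
            classInner (fun c : (Subgroup.centralizer ({z} : Set G)) => (χ : G → ℂ) (z * (c : G))) (ξ : (Subgroup.centralizer ({z} : Set G)) → ℂ) * (ξ : (Subgroup.centralizer ({z} : Set G)) → ℂ) y) *
              conj ((χ : G → ℂ) (z * (y : G))) := by
        refine Finset.sum_congr rfl fun χ _ => ?_
        rw [hexp χ, ite_mul, zero_mul]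
    _ = (Nat.card (Subgroup.centralizer ({z} : Set G)) : ℂ)⁻¹ * ∑ c : (Subgroup.centralizer ({z} : Set G)),
          (∑ χ : IrrCharacter G, (χ : G → ℂ) (z * (c : G)) * conj ((χ : G → ℂ) (z * (y : G)))) *
          ∑ ξ ∈ Finset.univ.filter (fun ξ : IrrCharacter (Subgroup.centralizer ({z} : Set G)) => ξ ∈ principalBlock M (Subgroup.centralizer ({z} : Set G))),
            (ξ : (Subgroup.centralizer ({z} : Set G)) → ℂ) y * conj ((ξ : (Subgroup.centralizer ({z} : Set G)) → ℂ) c) := by
        simp only [classInner, Finset.sum_mul]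
        simp only [Finset.mul_sum, Finset.sum_mul]
        rw [Finset.sum_comm_cycle]
        refine Finset.sum_congr rfl fun c _ => ?_
        refine Finset.sum_congr rfl fun χ _ => Finset.sum_congr rfl fun ξ _ => ?_
        ring
    _ = _ := ?_
  set R := ∑ ξ ∈ Finset.univ.filter (fun ξ : IrrCharacter (Subgroup.centralizer ({z} : Set G)) => ξ ∈ principalBlock M (Subgroup.centralizer ({z} : Set G))),
    (ξ : (Subgroup.centralizer ({z} : Set G)) → ℂ) y * conj ((ξ : (Subgroup.centralizer ({z} : Set G)) → ℂ) y) with hR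
  have hcardeq : Nat.card (Subgroup.centralizer ({z * (y : G)} : Set G)) =
      Nat.card (Subgroup.centralizer ({y} : Set (Subgroup.centralizer ({z} : Set G)))) := by
    have hcomm : Commute z (y : G) := (Subgroup.mem_centralizer_singleton_iff.1 y.2 : (y : G) * z = z * y).symm
    have hzmem : z ∈ Subgroup.zpowers (z * (y : G)) := mem_zpowers_of_pPart (p := p)
      ⟨(y : G), rfl, hcomm, ⟨k, hk⟩, by rwa [Subgroup.orderOf_coe]⟩
    have hfwd : ∀ g : G, g ∈ Subgroup.centralizer ({z * (y : G)} : Set G) →
        g * z = z * g ∧ g * y = y * g := fun g hg => by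
      have hg' : Commute g (z * (y : G)) := Subgroup.mem_centralizer_singleton_iff.1 hg
      obtain ⟨i, hi⟩ := Subgroup.mem_zpowers_iff.1 hzmem
      have h1 : Commute g z := hi ▸ hg'.zpow_right i
      refine ⟨h1.eq, ?_⟩
      have := (h1.inv_right.mul_right hg').eq
      simpa using this
    exact Nat.card_congr
      { toFun := fun g => ⟨⟨g.1, Subgroup.mem_centralizer_singleton_iff.2 (hfwd g.1 g.2).1⟩,
          Subgroup.mem_centralizer_singleton_iff.2 (Subtype.ext (hfwd g.1 g.2).2)⟩
        invFun := fun t => ⟨(t.1 : G), Subgroup.mem_centralizer_singleton_iff.2 (by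
          have h1 : Commute (t.1 : G) z := Subgroup.mem_centralizer_singleton_iff.1 t.1.2
          have h2 : Commute (t.1 : G) (y : G) :=
            congrArg Subtype.val (Subgroup.mem_centralizer_singleton_iff.1 t.2)
          exact (h1.mul_right h2).eq)⟩
        left_inv := fun g => rfl
        right_inv := fun t => rfl }
  have hcol : ∀ c : (Subgroup.centralizer ({z} : Set G)),
      (∑ χ : IrrCharacter G, (χ : G → ℂ) (z * (c : G)) * conj ((χ : G → ℂ) (z * (y : G)))) *
        ∑ ξ ∈ Finset.univ.filter (fun ξ : IrrCharacter (Subgroup.centralizer ({z} : Set G)) => ξ ∈ principalBlock M (Subgroup.centralizer ({z} : Set G))),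
          (ξ : (Subgroup.centralizer ({z} : Set G)) → ℂ) y * conj ((ξ : (Subgroup.centralizer ({z} : Set G)) → ℂ) c) =
      (∑ η : IrrCharacter (Subgroup.centralizer ({z} : Set G)), (η : (Subgroup.centralizer ({z} : Set G)) → ℂ) c * conj ((η : (Subgroup.centralizer ({z} : Set G)) → ℂ) y)) * R := by
    intro c
    rw [Cfsg.Agent.Char.sum_irr_mul_conj, Cfsg.Agent.Char.sum_irr_mul_conj]
    by_cases hc : IsConj c y
    · have : IsConj (z * (c : G)) (z * (y : G)) := by
        obtain ⟨t, ht⟩ := isConj_iff.1 hc
        refine isConj_iff.2 ⟨(t : G), ?_⟩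
        have htz : (t : G) * z = z * t := Subgroup.mem_centralizer_singleton_iff.1 t.2
        rw [← ht, Subgroup.coe_mul, Subgroup.coe_mul, Subgroup.coe_inv, ← mul_assoc, htz]
        simp only [mul_assoc]
      rw [if_pos hc, if_pos this, hcardeq]
      congr 1
      refine Finset.sum_congr rfl fun ξ _ => ?_
      rw [Cfsg.Agent.Char.IsClass.eq_of_isConj (irr_classFun ξ) hc]
    · rw [if_neg hc, zero_mul]
      by_cases hcreg : p ∣ orderOf c
      · have := weak_orth hM (isPBlock_principalBlock (G := (Subgroup.centralizer ({z} : Set G)))) hy hcreg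
        rw [finsum_mem_block] at this
        rw [this, mul_zero]
      · rw [if_neg, zero_mul]
        intro hconj
        obtain ⟨g, hg⟩ := isConj_iff.1 hconj
        have hcomm : ∀ t : (Subgroup.centralizer ({z} : Set G)), Commute z (t : G) := fun t =>
          (Subgroup.mem_centralizer_singleton_iff.1 t.2 : (t : G) * z = z * t).symm
        have h1 : IsPPart p (z * (y : G)) (g * z * g⁻¹) := by
          refine ⟨g * c * g⁻¹, by rw [← hg]; group, ?_, ⟨k, ?_⟩, ?_⟩
          · exact (hcomm c).map (MulAut.conj g).toMonoidHom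
          · rw [show g * z * g⁻¹ = MulAut.conj g z from rfl, MulEquiv.orderOf_eq, hk]
          · rw [show g * (c : G) * g⁻¹ = MulAut.conj g (c : G) from rfl, MulEquiv.orderOf_eq,
              Subgroup.orderOf_coe]
            exact hcreg
        have h2 : IsPPart p (z * (y : G)) z :=
          ⟨y, rfl, hcomm y, ⟨k, hk⟩, by rwa [Subgroup.orderOf_coe]⟩
        have hgz := pPart_unique h1 h2
        have hgC : g ∈ (Subgroup.centralizer ({z} : Set G)) := Subgroup.mem_centralizer_singleton_iff.2 (mul_inv_eq_iff_eq_mul.1 hgz)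
        refine hc (isConj_iff.2 ⟨⟨g, hgC⟩, Subtype.ext ?_⟩)
        show g * (c : G) * g⁻¹ = y
        refine mul_left_cancel (a := z) (Eq.trans ?_ hg)
        calc z * (g * (c : G) * g⁻¹) = g * z * g⁻¹ * (g * c * g⁻¹) := by rw [hgz]
          _ = g * (z * c) * g⁻¹ := by group
  rw [Finset.sum_congr rfl fun c _ => hcol c, ← Finset.sum_mul, Finset.sum_comm,
    Finset.sum_eq_single (trivialIrr (Subgroup.centralizer ({z} : Set G)))]
  · simp only [trivialIrr, map_one, mul_one, Finset.sum_const, Finset.card_univ, nsmul_eq_mul,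
      ← Nat.card_eq_fintype_card]
    rw [← mul_assoc, inv_mul_cancel₀ (Nat.cast_ne_zero.2 Nat.card_pos.ne'), one_mul]
  · intro η _ hη
    have h := Cfsg.Agent.Char.classInner_irr_ne η.2 Cfsg.Agent.Char.isIrr_one
      fun h => hη (Subtype.ext h)
    rw [classInner, mul_eq_zero] at h
    rcases h with h | h
    · simp [Nat.card_pos.ne'] at h
    · rw [← Finset.sum_mul]
      simp only [map_one, mul_one] at h
      rw [h, zero_mul]
  · exact fun h => absurd (Finset.mem_univ _) h

end Cfsg.Agent.Block
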