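import Mathlib
import Cfsg.Agent.Lib.Block.ClassMul
import Cfsg.Agent.Lib.Block.Principal
import Cfsg.Agent.Lib.Block.FirstMain
import Cfsg.Agent.Lib.Char.Det
import Cfsg.Agent.Lib.Char.Eigen

/-!
Characters of simple groups: kernels, determinants, and the spectrum of an element of prime order
whose character values are congruent to a sign.
-/

namespace Cfsg.Agent.Block.OrdP

open scoped ComplexConjugate
open Cfsg Cfsg.Agent.Block Cfsg.Agent.Char Module

universe u

variable {G : Type u} [Group G] [Finite G] [IsSimpleGroup G]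

theorem hom_trivial (hna : ¬ IsMulCommutative G) {H : Type*} [CommGroup H] (f : G →* H) (g : G) :
    f g = 1 := by
  rcases IsSimpleGroup.eq_bot_or_eq_top_of_normal f.ker inferInstance with h | h
  · exact absurd ⟨⟨fun a b => (MonoidHom.ker_eq_bot_iff f).mp h
      (by rw [map_mul, map_mul, mul_comm])⟩⟩ hna
  · exact MonoidHom.mem_ker.mp (h ▸ Subgroup.mem_top g)

theorem det_one (hna : ¬ IsMulCommutative G) {n : ℕ} (ρ : Representation ℂ G (Fin n → ℂ)) (g : G) :
    LinearMap.det (ρ g) = 1 := by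
  rw [← detUnits_apply ρ g, hom_trivial hna (detUnits ρ) g, Units.val_one]

theorem eq_trivial_of_deg (hna : ¬ IsMulCommutative G) {χ : IrrCharacter G}
    (h : charDegree (χ : G → ℂ) = 1) : χ = trivialIrr G := by
  obtain ⟨l, hl⟩ := linearHom_of_isCharacter (irr_isChar χ)
    (by rw [charDeg_spec', h, Nat.cast_one])
  refine Subtype.ext (funext fun g => ?_)
  rw [hl]
  show (l g : ℂ) = 1
  rw [hom_trivial hna l g, Units.val_one]

theorem two_le_deg (hna : ¬ IsMulCommutative G) {χ : IrrCharacter G} (h : χ ≠ trivialIrr G) :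
    2 ≤ charDegree (χ : G → ℂ) := by
  have h1 := charDeg_pos χ
  have h2 : charDegree (χ : G → ℂ) ≠ 1 := fun e => h (eq_trivial_of_deg hna e)
  omega

theorem eq_one_of_value {χ : IrrCharacter G} (hne : χ ≠ trivialIrr G)
    {g : G} (h : (χ : G → ℂ) g = (χ : G → ℂ) 1) : g = 1 := by
  classical
  haveI := Fintype.ofFinite G
  obtain ⟨n, ρ, hρ, hχ, hn, -⟩ := IsIrr.exists_rep χ.2
  have hfix : ρ g = 1 := by
    have h1 := eq_one_of_trace_eq (ρ g) (orderOf_pos g)
      (by rw [← map_pow, pow_orderOf_eq_one, map_one])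
      (by rw [Module.finrank_fin_fun, ← hn, ← h, ← hχ]; rfl)
    exact h1
  rcases IsSimpleGroup.eq_bot_or_eq_top_of_normal (MonoidHom.ker ρ) inferInstance with hk | hk
  · exact Subgroup.mem_bot.mp (hk ▸ (show g ∈ MonoidHom.ker ρ from hfix))
  exfalso
  have hconst : ∀ x : G, (χ : G → ℂ) x = (n : ℂ) := fun x => by
    have hx : ρ x = 1 := (show x ∈ MonoidHom.ker ρ from hk ▸ Subgroup.mem_top x)
    rw [← hχ]
    show LinearMap.trace ℂ _ (ρ x) = _
    rw [hx, LinearMap.trace_one, Module.finrank_fin_fun]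
  have h0 := classInner_irr_ne χ.2 (trivialIrr G).2 (fun e => hne (Subtype.ext e))
  rw [classInner] at h0
  simp only [hconst, trivialIrr, map_one, mul_one, Finset.sum_const, Finset.card_univ,
    nsmul_eq_mul] at h0
  rcases mul_eq_zero.1 h0 with h1 | h1
  · exact inv_ne_zero (Nat.cast_ne_zero.2 Nat.card_pos.ne') h1
  rcases mul_eq_zero.1 h1 with h2 | h2
  · exact Nat.cast_ne_zero.2 Fintype.card_ne_zero h2
  · exact irr_one_ne_zero χ (hconst 1 ▸ h2)

theorem norm_value_le (χ : IrrCharacter G) (g : G) :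
    ‖(χ : G → ℂ) g‖ ≤ (charDegree (χ : G → ℂ) : ℝ) := by
  obtain ⟨n, ρ, hρ, hχ, hn, -⟩ := IsIrr.exists_rep χ.2
  have h := norm_trace_le (ρ g) (orderOf_pos g) (by rw [← map_pow, pow_orderOf_eq_one, map_one])
  have hd : n = charDegree (χ : G → ℂ) :=
    Nat.cast_injective (R := ℂ) (hn.symm.trans (charDeg_spec' χ))
  rw [Module.finrank_fin_fun] at h
  rw [← hd, ← hχ]
  exact h

theorem geom_root {q : ℕ} {z : ℂ} (hz : z ^ q = 1) :
    ∑ k ∈ Finset.range q, z ^ k = if z = 1 then (q : ℂ) else 0 := by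
  split_ifs with h
  · simp [h]
  · rw [geom_sum_eq h, hz, sub_self, zero_div]

variable {p : ℕ} [Fact p.Prime] {M : Ideal AlgInt}

/-- The eigenvalue multiplicities of an element of prime order `q ≠ p` whose character values are
congruent to `δ`: they are congruent to `0` outside the fixed space, and their weighted sum
vanishes because the determinant is trivial. -/
theorem spectrum (hna : ¬ IsMulCommutative G) (hM : IsPModular p M) (χ : IrrCharacter G)
    {v : G} {q : ℕ} [hq : Fact q.Prime] (hqp : q ≠ p) (hv : v ^ q = 1) {δ : ℤ}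
    (hcong : ∀ k : ℕ, MemLocalIdeal M ((χ : G → ℂ) (v ^ k) - (δ : ℂ))) :
    ∃ (a : ZMod q → ℕ) (ω : ℂ), IsPrimitiveRoot ω q ∧ ∑ j, a j = charDegree (χ : G → ℂ) ∧
      (∀ j : ZMod q, (a j : ℤ) ≡ (if j = 0 then δ else 0) [ZMOD p]) ∧
      ∑ j, (a j : ZMod q) * j = 0 ∧
      (χ : G → ℂ) v = ∑ j : ZMod q, (a j : ℂ) * ω ^ j.val := by
  classical
  haveI : NeZero q := ⟨hq.out.ne_zero⟩
  obtain ⟨n, ρ, hρ, hχ, hn, -⟩ := IsIrr.exists_rep χ.2
  have hd : n = charDegree (χ : G → ℂ) :=
    Nat.cast_injective (R := ℂ) (hn.symm.trans (charDeg_spec' χ))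
  obtain ⟨b, c, hb, hc⟩ := exists_eigenbasis (ρ v) hq.out.pos (by rw [← map_pow, hv, map_one])
  set ω : ℂ := Complex.exp (2 * Real.pi * Complex.I / q)
  have hω : IsPrimitiveRoot ω q := Complex.isPrimitiveRoot_exp q hq.out.ne_zero
  choose m hm hmc using fun i => hω.eq_pow_of_pow_eq_one (hc i)
  set a : ZMod q → ℕ := fun j => (Finset.univ.filter fun i => ((m i : ℕ) : ZMod q) = j).card
  have hval : ∀ k : ℕ, (χ : G → ℂ) (v ^ k) = ∑ i, (ω ^ m i) ^ k := by
    intro k
    rw [← hχ]
    show LinearMap.trace ℂ _ (ρ (v ^ k)) = _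
    rw [map_pow, trace_of_eigenbasis (ρ v ^ k) b (fun i => c i ^ k)
      (fun i => apply_pow_of_eigen (hb i) k)]
    exact Finset.sum_congr rfl fun i _ => by rw [hmc i]
  refine ⟨a, ω, hω, ?_, fun j => ?_, ?_, ?_⟩
  · rw [← hd]
    simp only [a]
    rw [← Finset.card_eq_sum_card_fiberwise (fun i _ => Finset.mem_univ _)]
    simp
  · set s := (-j).val
    set η := ω ^ s with hη
    have hηq : η ^ q = 1 := by rw [hη, ← pow_mul, mul_comm, pow_mul, hω.pow_eq_one, one_pow]
    have hiff : ∀ t : ℕ, ω ^ t * η = 1 ↔ (t : ZMod q) = j := by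
      intro t
      rw [hη, ← pow_add, hω.pow_eq_one_iff_dvd, ← ZMod.natCast_eq_zero_iff, Nat.cast_add,
        ZMod.natCast_zmod_val, ← sub_eq_add_neg, sub_eq_zero]
    have h1 : ∑ k ∈ Finset.range q, η ^ k * (χ : G → ℂ) (v ^ k) = ((q * a j : ℕ) : ℂ) := by
      simp only [hval, Finset.mul_sum, ← mul_pow]
      rw [Finset.sum_comm, Finset.sum_congr rfl fun i _ => geom_root (z := η * ω ^ m i)
        (by rw [mul_pow, hηq, ← pow_mul, mul_comm (m i), pow_mul, hω.pow_eq_one, one_pow, one_mul])]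
      rw [← Finset.sum_filter, Finset.sum_const, nsmul_eq_mul, Nat.cast_mul, mul_comm]
      congr 2
      refine congrArg Finset.card (Finset.filter_congr fun i _ => ?_)
      rw [mul_comm η, hiff]
    have h2 : ∑ k ∈ Finset.range q, η ^ k * (δ : ℂ) =
        (((q : ℤ) * (if j = 0 then δ else 0) : ℤ) : ℂ) := by
      rw [← Finset.sum_mul, geom_root hηq]
      have h3 : η = 1 ↔ j = 0 := by simpa [eq_comm] using hiff 0
      by_cases hj : j = 0
      · rw [if_pos (h3.2 hj), if_pos hj]; push_cast; rfl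
      · rw [if_neg (fun h => hj (h3.1 h)), if_neg hj]; simp
    have h4 : MemLocalIdeal M ((((q : ℤ) * ((a j : ℤ) - (if j = 0 then δ else 0))) : ℤ) : ℂ) := by
      have h5 := ideal_sum hM (s := Finset.range q) (f := fun k => η ^ k *
        ((χ : G → ℂ) (v ^ k) - (δ : ℂ))) fun k _ => ideal_mul_left hM
          (ring_of_integral hM ((isIntegral_of_pow_eq_one hq.out.pos hηq).pow k)) (hcong k)
      rw [Finset.sum_congr rfl fun k _ => mul_sub (η ^ k) _ _, Finset.sum_sub_distrib, h1, h2] at h5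
      convert h5 using 1
      push_cast
      ring
    rw [ideal_intCast_iff hM] at h4
    refine (Int.modEq_iff_dvd.2 ?_).symm
    refine (Int.Prime.dvd_mul' (Fact.out : p.Prime) h4).resolve_left fun h => hqp ?_
    exact ((Nat.prime_dvd_prime_iff_eq Fact.out hq.out).1 (Int.natCast_dvd_natCast.1 h)).symm
  · have hdet : LinearMap.det (ρ v) = ∏ i, c i := by
      rw [← LinearMap.det_toMatrix b]
      have : LinearMap.toMatrix b b (ρ v) = Matrix.diagonal c := by
        ext i k
        rw [LinearMap.toMatrix_apply, hb, map_smul, Finsupp.smul_apply, Basis.repr_self,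
          Matrix.diagonal_apply, Finsupp.single_apply]
        by_cases h : i = k <;> simp [h, eq_comm]
      rw [this, Matrix.det_diagonal]
    rw [det_one hna ρ v, ← Finset.prod_congr rfl fun i _ => hmc i, Finset.prod_pow_eq_pow_sum] at hdet
    have h1 := (hω.pow_eq_one_iff_dvd _).1 hdet.symm
    rw [← ZMod.natCast_eq_zero_iff, Nat.cast_sum] at h1
    rw [← h1]
    rw [← Finset.sum_fiberwise Finset.univ (fun i => ((m i : ℕ) : ZMod q))]
    refine Finset.sum_congr rfl fun j _ => ?_
    rw [Finset.sum_congr rfl (g := fun _ => j) fun i hi => (Finset.mem_filter.1 hi).2,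
      Finset.sum_const, nsmul_eq_mul]
  · have h1 := hval 1
    simp only [pow_one] at h1
    rw [h1, ← Finset.sum_fiberwise Finset.univ (fun i => ((m i : ℕ) : ZMod q))]
    refine Finset.sum_congr rfl fun j _ => ?_
    rw [Finset.sum_congr rfl (g := fun _ => ω ^ j.val) fun i hi => by
      rw [← (Finset.mem_filter.1 hi).2, ZMod.val_natCast, Nat.mod_eq_of_lt (hm i)],
      Finset.sum_const, nsmul_eq_mul]

/-- With all multiplicity at zero the element is the identity. -/
theorem eq_one_of_spectrum {χ : IrrCharacter G} (hne : χ ≠ trivialIrr G) {v : G} {q : ℕ} [NeZero q]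
    {a : ZMod q → ℕ} {ω : ℂ} (hsum : ∑ j, a j = charDegree (χ : G → ℂ))
    (hval : (χ : G → ℂ) v = ∑ j : ZMod q, (a j : ℂ) * ω ^ j.val)
    (h0 : ∀ j ≠ 0, a j = 0) : v = 1 := by
  refine eq_one_of_value hne ?_
  rw [hval, charDeg_spec', ← hsum,
    Finset.sum_eq_single (0 : ZMod q) (fun j _ hj => by simp [h0 j hj]) (by simp),
    Finset.sum_eq_single (0 : ZMod q) (fun j _ hj => h0 j hj) (by simp)]
  simp

/-- An element of prime order `q ≠ p` with values congruent to `δ` forces the degree to be large: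
at least `2 p + 1`, or `3 p - 1` when `δ = -1`. -/
theorem no_small (hna : ¬ IsMulCommutative G) (hM : IsPModular p M) {χ : IrrCharacter G}
    (hne : χ ≠ trivialIrr G) {v : G} (hv1 : v ≠ 1) {q : ℕ} [hq : Fact q.Prime] (hqp : q ≠ p)
    (hv : v ^ q = 1) {δ : ℤ}
    (hcong : ∀ k : ℕ, MemLocalIdeal M ((χ : G → ℂ) (v ^ k) - (δ : ℂ)))
    (hd : (δ = 1 ∧ charDegree (χ : G → ℂ) ≤ p + 1) ∨
      (δ = -1 ∧ charDegree (χ : G → ℂ) ≤ 2 * p - 1)) : False := by
  classical
  haveI : NeZero q := ⟨hq.out.ne_zero⟩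
  have hp2 := (Fact.out : p.Prime).two_le
  obtain ⟨a, ω, -, hsum, hcg, hdet, hval⟩ := spectrum hna hM χ hqp hv hcong
  set R := ∑ j ∈ Finset.univ.erase (0 : ZMod q), a j with hR
  have hsplit : a 0 + R = charDegree (χ : G → ℂ) := by
    rw [hR, Finset.add_sum_erase _ _ (Finset.mem_univ _), hsum]
  have hR2 : R < 2 * p := by
    have h0 := hcg 0
    rw [if_pos rfl, Int.modEq_iff_dvd] at h0
    rcases hd with ⟨rfl, hd⟩ | ⟨rfl, hd⟩
    · rcases Nat.eq_zero_or_pos (a 0) with hz | hz
      · rw [hz, Nat.cast_zero, sub_zero] at h0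
        have := Int.le_of_dvd one_pos h0
        omega
      · omega
    · by_cases hz : p - 1 ≤ a 0
      · omega
      · push Not at hz
        have h1 : (p : ℤ) ∣ (a 0 : ℤ) + 1 := by
          have := dvd_neg.2 h0
          simpa [add_comm] using this
        have := Int.le_of_dvd (by positivity) h1
        omega
  have hdvd : ∀ j : ZMod q, j ≠ 0 → p ∣ a j := by
    intro j hj
    have := hcg j
    rw [if_neg hj, Int.modEq_zero_iff_dvd, Int.natCast_dvd_natCast] at this
    exact this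
  by_cases hall : ∀ j ≠ 0, a j = 0
  · exact hv1 (eq_one_of_spectrum hne hsum hval hall)
  push Not at hall
  obtain ⟨j, hj, haj⟩ := hall
  have hle : ∀ k ∈ Finset.univ.erase (0 : ZMod q), k ≠ j → a k = 0 := by
    intro k hk hkj
    by_contra hak
    have h1 := Nat.le_of_dvd (Nat.pos_of_ne_zero haj) (hdvd j hj)
    have h2 := Nat.le_of_dvd (Nat.pos_of_ne_zero hak) (hdvd k (Finset.ne_of_mem_erase hk))
    have h3 : a j + a k ≤ R := by
      rw [hR, ← Finset.sum_pair (Ne.symm hkj)]
      exact Finset.sum_le_sum_of_subset fun x hx => by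
        rcases Finset.mem_insert.1 hx with rfl | hx
        · exact Finset.mem_erase.2 ⟨hj, Finset.mem_univ _⟩
        · rw [Finset.mem_singleton.1 hx]; exact hk
    omega
  have hjp : a j = p := by
    obtain ⟨t, ht⟩ := hdvd j hj
    have h3 : a j ≤ R := Finset.single_le_sum (fun k _ => Nat.zero_le _)
      (Finset.mem_erase.2 ⟨hj, Finset.mem_univ _⟩)
    rcases Nat.lt_or_ge t 2 with h | h
    · interval_cases t
      · exact absurd ht (by simpa using haj)
      · simpa using ht
    · have := Nat.mul_le_mul_left p h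
      omega
  rw [← Finset.add_sum_erase _ _ (Finset.mem_univ (0 : ZMod q)), mul_zero, zero_add,
    Finset.sum_eq_single_of_mem j (Finset.mem_erase.2 ⟨hj, Finset.mem_univ _⟩)
      (fun k hk hkj => by rw [hle k hk hkj, Nat.cast_zero, zero_mul]), hjp, mul_eq_zero] at hdet
  refine hdet.elim (fun h => hqp ?_) hj
  rw [ZMod.natCast_eq_zero_iff] at h
  exact (Nat.prime_dvd_prime_iff_eq hq.out Fact.out).1 h

end Cfsg.Agent.Block.OrdP
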