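import Mathlib
import Cfsg.Agent.Lib.Fus.SmallSimple
import Cfsg.Agent.S0991
import Cfsg.Agent.S0989
import Cfsg.Agent.S0990

/-!
Index arguments for simple groups of small order: embeddings into alternating groups.
-/

set_option autoImplicit false

namespace Cfsg.Agent.Block

universe u

variable {G : Type u} [Group G] [Finite G] [IsSimpleGroup G]

/-- A simple group whose order is not prime is non-abelian. -/
theorem small_not_comm (h : ¬ (Nat.card G).Prime) : ¬ IsMulCommutative G := fun hc => by
  letI : CommGroup G := { ‹Group G› with mul_comm := hc.is_comm.comm }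
  exact h IsSimpleGroup.prime_card

/-- The order of a non-abelian simple group divides half the factorial of the index of a proper subgroup. -/
theorem small_two_card_dvd (hG : ¬ IsMulCommutative G) (H : Subgroup G) (hH : H ≠ ⊤) :
    2 * Nat.card G ∣ H.index.factorial := by
  obtain ⟨f, hf⟩ := Cfsg.Agent.S0991.result hG H hH
  have h2 : 2 ≤ H.index := by
    have h0 : H.index ≠ 0 := Subgroup.index_ne_zero_of_finite
    have h1 : H.index ≠ 1 := fun h => hH (Subgroup.index_eq_one.1 h)
    omega
  haveI : Nontrivial (Fin H.index) := Fintype.one_lt_card_iff_nontrivial.1 (by rw [Fintype.card_fin]; omega)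
  have h3 := Subgroup.card_dvd_of_injective f hf
  have h4 : 2 * Nat.card (alternatingGroup (Fin H.index)) = H.index.factorial := by
    rw [two_mul_nat_card_alternatingGroup, Nat.card_perm, Nat.card_fin]
  rw [← h4]
  exact Nat.mul_dvd_mul_left 2 h3

/-- A non-abelian simple group with `p + 1` Sylow `p`-subgroups, `p` an odd prime dividing its order
exactly: the normalizer of a Sylow `p`-subgroup has order dividing `p (p - 1) / 2`. -/
theorem small_sylow_succ {p : ℕ} [Fact p.Prime] (hp2 : p ≠ 2) (hG : ¬ IsMulCommutative G) (P : Sylow p G)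
    (hn : Nat.card (Sylow p G) = p + 1) :
    2 * Nat.card (Subgroup.normalizer ((P : Subgroup G) : Set G)) ∣ p * (p - 1) := by
  classical
  have hp : p.Prime := Fact.out
  set N := Subgroup.normalizer ((P : Subgroup G) : Set G) with hNdef
  have hidx : N.index = p + 1 := by rw [← hn, Sylow.card_eq_index_normalizer P]; rfl
  have hN : N ≠ ⊤ := fun h => by rw [h, Subgroup.index_top] at hidx; have := hp.two_le; omega
  obtain ⟨f, hf⟩ := Cfsg.Agent.S0991.result hG N hN
  haveI : Nontrivial (Fin N.index) := Fintype.one_lt_card_iff_nontrivial.1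
    (by rw [Fintype.card_fin, hidx]; have := hp.two_le; omega)
  let g : G →* Equiv.Perm (Fin N.index) := (alternatingGroup (Fin N.index)).subtype.comp f
  have hg : Function.Injective g := (Subgroup.subtype_injective _).comp hf
  have hPp : IsPGroup p ((P : Subgroup G).map g) := P.isPGroup'.map g
  obtain ⟨Q, hQ⟩ := hPp.exists_le_sylow
  have hdvd : p ∣ Nat.card G := by
    by_contra h
    have hP1 : (P : Subgroup G) = ⊥ := by
      rw [← Subgroup.card_eq_one, P.card_eq_multiplicity, Nat.factorization_eq_zero_of_not_dvd h, pow_zero]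
    apply hN
    rw [hNdef, hP1, eq_top_iff]
    intro x _
    rw [Subgroup.mem_normalizer_iff]
    intro y
    simp
  have hQc : Nat.card (Q : Subgroup (Equiv.Perm (Fin N.index))) ∣ p := by
    rw [Q.card_eq_multiplicity, Nat.card_perm, Nat.card_fin, hidx, Nat.factorial_succ,
      Nat.factorization_mul (by omega) (Nat.factorial_ne_zero _), Finsupp.add_apply,
      ← Nat.mul_factorial_pred hp.ne_zero, Nat.factorization_mul hp.ne_zero (Nat.factorial_ne_zero _),
      Finsupp.add_apply, hp.factorization_self,
      Nat.factorization_eq_zero_of_not_dvd (n := p + 1)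
        (fun hd => hp.one_lt.ne' (Nat.dvd_one.1 ((Nat.dvd_add_right (dvd_refl p)).1 hd))),
      Nat.factorization_eq_zero_of_not_dvd (n := (p - 1).factorial)
        (fun hd => by rw [hp.dvd_factorial] at hd; have := hp.pos; omega)]
    simp
  have hmap : (P : Subgroup G).map g = (Q : Subgroup (Equiv.Perm (Fin N.index))) := by
    refine Subgroup.eq_of_le_of_card_ge hQ (le_trans (Nat.le_of_dvd hp.pos hQc) ?_)
    rw [Subgroup.card_map_of_injective hg]
    exact Nat.le_of_dvd Nat.card_pos (P.dvd_card_of_dvd_card hdvd)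
  have hle : N.map g ≤ Subgroup.normalizer ((Q : Subgroup (Equiv.Perm (Fin N.index))) : Set (Equiv.Perm (Fin N.index))) := by
    rw [← hmap]
    exact Subgroup.le_normalizer_map g
  have hA : N.map g ≤ alternatingGroup (Fin N.index) := by
    rintro x ⟨y, -, rfl⟩
    exact (f y).2
  obtain ⟨hQA, hhalf⟩ := Cfsg.Agent.S0990.result (α := Fin N.index)
    (by rw [Fintype.card_fin, hidx]; have := hp.two_le; omega) p hp2 Q
  rw [Cfsg.Agent.S0989.result p (Or.inr (by rw [Fintype.card_fin, hidx])) Q] at hhalf
  rw [← hhalf]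
  refine Nat.mul_dvd_mul_left 2 ?_
  rw [← Subgroup.subgroupOf_normalizer_eq hQA]
  have h1 := Subgroup.card_dvd_of_le (Subgroup.subgroupOf_mono (alternatingGroup (Fin N.index)) hle)
  rwa [Nat.card_congr (Subgroup.subgroupOfEquivOfLe hA).toEquiv, Subgroup.card_map_of_injective hg] at h1

/-- Sylow normalizers in a non-abelian simple group are proper. -/
theorem small_sylow_proper {p : ℕ} [Fact p.Prime] (hG : ¬ IsMulCommutative G) (P : Sylow p G)
    (hd : p ∣ Nat.card G) :
    Subgroup.normalizer ((P : Subgroup G) : Set G) ≠ ⊤ := by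
  intro h
  rw [Subgroup.normalizer_eq_top_iff] at h
  rcases h.eq_bot_or_eq_top with e | e
  · have h1 := P.dvd_card_of_dvd_card hd
    rw [e, Subgroup.card_bot] at h1
    exact (Fact.out : p.Prime).one_lt.ne' (Nat.dvd_one.1 h1)
  · have hp : IsPGroup p G := fun g => by
      obtain ⟨k, hk⟩ := P.isPGroup' ⟨g, e ▸ Subgroup.mem_top g⟩
      exact ⟨k, congrArg Subtype.val hk⟩
    haveI := hp.isNilpotent
    exact hG ⟨⟨fun a b => IsSimpleGroup.comm_iff_isSolvable.mpr (inferInstance : Group.IsSolvable G) a b⟩⟩

/-- The Sylow number of a non-abelian simple group: congruent to one, a proper `p`-free divisor, at least `p + 1`. -/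
theorem small_sylow_number {p : ℕ} [hp : Fact p.Prime] (hG : ¬ IsMulCommutative G) (P : Sylow p G)
    {a m : ℕ} (hcard : Nat.card G = p ^ a * m) (ha : a ≠ 0) :
    ∃ k : ℕ, 0 < k ∧ Nat.card (Sylow p G) = p * k + 1 ∧ p * k + 1 ∣ m ∧
      (Subgroup.normalizer ((P : Subgroup G) : Set G)).index = p * k + 1 ∧
      Nat.card (Subgroup.normalizer ((P : Subgroup G) : Set G)) * (p * k + 1) = Nat.card G ∧
      2 * Nat.card G ∣ (p * k + 1).factorial := by
  have hd : p ∣ Nat.card G := hcard ▸ Dvd.dvd.mul_right (dvd_pow_self p ha) m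
  set N := Subgroup.normalizer ((P : Subgroup G) : Set G) with hN
  have hidx : Nat.card (Sylow p G) = N.index := Sylow.card_eq_index_normalizer P
  have hne : N.index ≠ 1 := fun h => small_sylow_proper hG P hd (Subgroup.index_eq_one.1 h)
  have hm : Nat.card (Sylow p G) % p = 1 := by
    have := card_sylow_modEq_one p G
    rwa [Nat.ModEq, Nat.one_mod_eq_one.2 hp.out.one_lt.ne'] at this
  have hk : Nat.card (Sylow p G) = p * (Nat.card (Sylow p G) / p) + 1 := by
    conv_lhs => rw [← Nat.div_add_mod (Nat.card (Sylow p G)) p, hm]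
  refine ⟨Nat.card (Sylow p G) / p, ?_, hk, ?_, hidx ▸ hk, ?_, ?_⟩
  · by_contra h0
    push Not at h0
    rw [Nat.le_zero.1 h0, mul_zero, zero_add, hidx] at hk
    exact hne hk
  · rw [← hk, hidx]
    have h1 : N.index ∣ p ^ a * m := hcard ▸ Subgroup.index_dvd_card N
    refine Nat.Coprime.dvd_of_dvd_mul_left (Nat.Coprime.pow_right a ?_) h1
    rw [Nat.coprime_comm, hp.out.coprime_iff_not_dvd, ← hidx, Nat.dvd_iff_mod_eq_zero, hm]
    exact one_ne_zero
  · rw [← hk, hidx, Subgroup.card_mul_index]
  · rw [← hk, hidx]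
    exact small_two_card_dvd hG N (small_sylow_proper hG P hd)

/-- `p + 1` is impossible as a Sylow number when the order does not fit. -/
theorem small_sylow_ne_succ {p : ℕ} [Fact p.Prime] (hp2 : p ≠ 2) (hG : ¬ IsMulCommutative G) (P : Sylow p G)
    {c : ℕ} (hc : Nat.card (Subgroup.normalizer ((P : Subgroup G) : Set G)) = c) (hndvd : ¬ 2 * c ∣ p * (p - 1)) :
    Nat.card (Sylow p G) ≠ p + 1 := fun h => hndvd (hc ▸ small_sylow_succ hp2 hG P h)

end Cfsg.Agent.Block
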