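import Mathlib
import Cfsg.Agent.S4441
import Cfsg.Agent.Lib.Block.OrderPrimeBase
import Cfsg.Agent.Lib.Block.SmallIndex
import Cfsg.Agent.Lib.Block.Height
import Cfsg.Agent.Lib.Char.ModP

/-!
A non-abelian simple group whose order is exactly divisible by an odd prime `p`: the principal
block gives degrees, signs, congruences and bounds.
-/

namespace Cfsg.Agent.Block.OrdP

open scoped ComplexConjugate
open Cfsg Cfsg.Agent.Block Cfsg.Agent.Char Module

universe u

variable {G : Type u} [Group G] [Finite G] [IsSimpleGroup G] {p : ℕ} [Fact p.Prime] {M : Ideal AlgInt}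

theorem card_sylow_eq {m : ℕ} (hcard : Nat.card G = p * m) (hpm : ¬ p ∣ m) (P : Sylow p G) :
    Nat.card P = p := by
  have hp : p.Prime := Fact.out
  have hm0 : m ≠ 0 := fun h => hpm (by rw [h]; exact dvd_zero p)
  rw [P.card_eq_multiplicity, hcard, Nat.factorization_mul hp.ne_zero hm0, Finsupp.add_apply, hp.factorization_self,
    Nat.factorization_eq_zero_of_not_dvd hpm, add_zero, pow_one]

/-- The index of the centralizer in the normalizer. -/
theorem exists_e (hna : ¬ IsMulCommutative G) {m : ℕ} (hcard : Nat.card G = p * m) (hpm : ¬ p ∣ m)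
    (P : Sylow p G) :
    ∃ e k : ℕ, 0 < k ∧ p * k + 1 ∣ m ∧
      (Subgroup.centralizer ((P : Subgroup G) : Set G)).relIndex
        (Subgroup.normalizer ((P : Subgroup G) : Set G)) = e ∧ 1 < e ∧ e ∣ p - 1 ∧
      p ∣ Nat.card (Subgroup.centralizer ((P : Subgroup G) : Set G)) ∧
      Nat.card (Subgroup.centralizer ((P : Subgroup G) : Set G)) * e * (p * k + 1) = p * m := by
  classical
  have hp : p.Prime := Fact.out
  have hP := card_sylow_eq hcard hpm P
  obtain ⟨k, hk0, -, hkm, -, hprod, -⟩ :=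
    small_sylow_number hna P (a := 1) (m := m) (by rw [pow_one, hcard]) one_ne_zero
  set N := Subgroup.normalizer ((P : Subgroup G) : Set G) with hN
  set C := Subgroup.centralizer ((P : Subgroup G) : Set G) with hC
  have hCN : C ≤ N := Subgroup.centralizer_le_normalizer _
  have hcN : Nat.card C * C.relIndex N = Nat.card N := by
    rw [Subgroup.relIndex, ← Subgroup.card_mul_index (C.subgroupOf N),
      Nat.card_congr (Subgroup.subgroupOfEquivOfLe hCN).toEquiv]
  haveI : IsCyclic (P : Subgroup G) := isCyclic_of_prime_card hP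
  have hdvd : C.relIndex N ∣ p - 1 := by
    have key := Subgroup.card_dvd_of_injective _
      (QuotientGroup.kerLift_injective (P : Subgroup G).normalizerMonoidHom)
    rw [Subgroup.normalizerMonoidHom_ker, ← Subgroup.index, ← Subgroup.relIndex] at key
    rw [IsCyclic.card_mulAut, show Nat.card (P : Subgroup G) = p from hP, Nat.totient_prime hp] at key
    exact key
  have hne1 : C.relIndex N ≠ 1 := fun h => by
    have hle : N ≤ C := Subgroup.relIndex_eq_one.1 h
    exact Fus.simple_no_complement hna (p := p) (hcard ▸ dvd_mul_right p m)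
      ⟨P, _, inferInstance, MonoidHom.ker_transferSylow_isComplement' P hle⟩
  have hne0 : C.relIndex N ≠ 0 := fun h => by
    rw [h, zero_dvd_iff] at hdvd
    have := hp.two_le
    omega
  refine ⟨C.relIndex N, k, hk0, hkm, rfl, by omega, hdvd, ?_, ?_⟩
  · have hPC : (P : Subgroup G) ≤ C := fun x hx => Subgroup.mem_centralizer_iff.2 fun y hy =>
      congrArg Subtype.val (mul_comm' (⟨y, hy⟩ : (P : Subgroup G)) ⟨x, hx⟩)
    have := Subgroup.card_dvd_of_le hPC
    rwa [show Nat.card (P : Subgroup G) = p from hP] at this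
  · rw [hcN, hprod, hcard]

omit [IsSimpleGroup G] in
theorem congr_of_value (hM : IsPModular p M) (χ : IrrCharacter G) {u v : G} (hu : u ^ p = 1)
    (huv : Commute u v) (hv : ¬ p ∣ orderOf v) {s : ℤ} (hval : (χ : G → ℂ) (u * v) = (s : ℂ)) :
    MemLocalIdeal M ((χ : G → ℂ) v - (s : ℂ)) := by
  have hcop : p.Coprime (orderOf v) := ((Fact.out : p.Prime).coprime_iff_not_dvd).2 hv
  obtain ⟨l, hl⟩ := exists_pow_eq_self_of_coprime hcop
  have hmem : v ∈ Subgroup.zpowers (u * v) := by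
    have h1 : ((u * v) ^ p) ^ l ∈ Subgroup.zpowers (u * v) :=
      pow_mem (pow_mem (Subgroup.mem_zpowers _) _) _
    rwa [huv.mul_pow, hu, one_mul, hl] at h1
  have h := value_pPart_congr hM (irr_isChar χ) (g := u * v) (u := u) (v := v) rfl huv (k := 1)
    (by rw [pow_one, hu]) hmem
  rw [hval] at h
  have := ideal_neg h
  rwa [neg_sub] at this

omit [IsSimpleGroup G] in
theorem normSq_column [Fintype G] (S : Finset (IrrCharacter G)) (g : G) :
    ∑ χ ∈ S, Complex.normSq ((χ : G → ℂ) g) ≤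
      (Nat.card (Subgroup.centralizer ({g} : Set G)) : ℝ) := by
  classical
  refine le_trans (Finset.sum_le_sum_of_subset_of_nonneg (Finset.subset_univ _)
    (fun _ _ _ => Complex.normSq_nonneg _)) (le_of_eq ?_)
  have h := Cfsg.Agent.Char.sum_irr_mul_conj g g
  rw [if_pos (IsConj.refl _)] at h
  simp only [Complex.mul_conj] at h
  exact_mod_cast h

/-- The principal block for `1 < e < p - 1`. -/
theorem data (hna : ¬ IsMulCommutative G) (hM : IsPModular p M) (hodd : p ≠ 2) (P : Sylow p G)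
    (hP : Nat.card P = p) {e : ℕ}
    (he : (Subgroup.centralizer ((P : Subgroup G) : Set G)).relIndex
      (Subgroup.normalizer ((P : Subgroup G) : Set G)) = e)
    (he1 : 1 < e) (hep : e ∣ p - 1) (hne : e ≠ p - 1) :
    ∃ (X : Finset (IrrCharacter G)) (y : IrrCharacter G) (s : IrrCharacter G → ℤ) (ε : ℤ),
      X.card + 1 = e ∧
      (∀ χ ∈ X, χ ≠ trivialIrr G ∧ (s χ = 1 ∨ s χ = -1) ∧
        (charDegree (χ : G → ℂ) : ℤ) ≡ s χ [ZMOD p] ∧
        ∀ v ∈ Subgroup.centralizer ((P : Subgroup G) : Set G), ¬ p ∣ orderOf v →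
          MemLocalIdeal M ((χ : G → ℂ) v - (s χ : ℂ))) ∧
      y ≠ trivialIrr G ∧ (ε = 1 ∨ ε = -1) ∧
      (charDegree (y : G → ℂ) : ℤ) ≡ ε * (e : ℤ) [ZMOD p] ∧
      (∀ g : G, ¬ p ∣ orderOf g →
        (ε : ℂ) * (y : G → ℂ) g = 1 + ∑ χ ∈ X, (s χ : ℂ) * (χ : G → ℂ) g) ∧
      ∀ g : G, ¬ p ∣ orderOf g → 1 + ∑ χ ∈ X, Complex.normSq ((χ : G → ℂ) g) +
        (((p - 1) / e : ℕ) : ℝ) * Complex.normSq ((y : G → ℂ) g) ≤
          (Nat.card (Subgroup.centralizer ({g} : Set G)) : ℝ) := by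
  classical
  have hp : p.Prime := Fact.out
  haveI := Fintype.ofFinite G
  obtain ⟨X, Y, hXY, hdisj, hX, hY, s, ε, hdX, hε, hdY, hagree, hreg⟩ :=
    Cfsg.Agent.S4441.result p M hM hodd P hP e he
  set τ := trivialIrr G with hτ
  have hτB : τ ∈ principalBlock M G := trivial_mem_principalBlock hM
  have hτd : charDegree (τ : G → ℂ) = 1 := charDeg_trivial
  have hp3 : 3 ≤ p := by have := hp.two_le; omega
  have hτX : τ ∈ X := by
    rw [hXY] at hτB
    refine hτB.resolve_right fun h => ?_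
    have h1 := hdY τ h
    rw [hτd, Nat.cast_one] at h1
    have he' : e + 1 ≤ p - 1 := by
      have := Nat.le_of_dvd (by omega) hep
      omega
    rcases hε with rfl | rfl
    · rw [one_mul, Int.modEq_iff_dvd] at h1
      have := Int.le_of_dvd (by omega) h1
      omega
    · rw [Int.modEq_iff_dvd] at h1
      have h2 : (p : ℤ) ∣ (e : ℤ) + 1 := by
        have := dvd_neg.2 h1
        simpa [add_comm] using this
      have := Int.le_of_dvd (by omega) h2
      omega
  obtain ⟨hsτ, hsτd, -⟩ := hdX τ hτX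
  have hsτ1 : s τ = 1 := by
    refine hsτ.resolve_right fun h => ?_
    rw [hτd, h, Nat.cast_one, Int.modEq_iff_dvd] at hsτd
    have := Int.le_of_dvd (by omega) (dvd_neg.2 hsτd)
    omega
  obtain ⟨u₀, hu₀, hu₁⟩ : ∃ u ∈ (P : Subgroup G), u ≠ 1 := by
    refine (Subgroup.bot_or_exists_ne_one (P : Subgroup G)).resolve_left fun h => hp.one_lt.ne ?_
    rw [← hP, show Nat.card P = Nat.card (P : Subgroup G) from rfl, h, Subgroup.card_bot]
  have ht0 : 0 < (p - 1) / e := Nat.div_pos (Nat.le_of_dvd (by omega) hep) (by omega)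
  rw [← hY, Nat.card_coe_set_eq, Set.ncard_eq_toFinset_card' Y] at ht0
  obtain ⟨y, hy⟩ := Finset.card_pos.1 ht0
  rw [Set.mem_toFinset] at hy
  refine ⟨X.toFinset.erase τ, y, s, ε, ?_, fun χ hχ => ?_, ?_, hε, hdY y hy, fun g hg => ?_,
    fun g hg => ?_⟩
  · rw [Finset.card_erase_of_mem (Set.mem_toFinset.2 hτX), ← Set.ncard_eq_toFinset_card',
      ← Nat.card_coe_set_eq, hX]
    omega
  · have hχX : χ ∈ X := Set.mem_toFinset.1 (Finset.mem_of_mem_erase hχ)
    obtain ⟨h1, h2, h3⟩ := hdX χ hχX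
    refine ⟨Finset.ne_of_mem_erase hχ, h1, h2, fun v hv hvr => ?_⟩
    refine congr_of_value hM χ (u := u₀) ?_ (Subgroup.mem_centralizer_iff.1 hv u₀ hu₀) hvr
      (h3 u₀ hu₀ hu₁ v hv hvr)
    have := pow_card_eq_one' (x := (⟨u₀, hu₀⟩ : (P : Subgroup G)))
    rw [show Nat.card (P : Subgroup G) = p from hP] at this
    exact congrArg Subtype.val this
  · intro h
    exact Set.disjoint_left.1 hdisj hτX (h ▸ hy)
  · have h := hreg y hy g hg
    rw [finsum_mem_eq_toFinset_sum, ← Finset.add_sum_erase _ _ (Set.mem_toFinset.2 hτX), hsτ1] at h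
    rw [h]
    simp [hτ, trivialIrr]
  · have hd : Disjoint X.toFinset Y.toFinset := Set.disjoint_toFinset.2 hdisj
    refine le_trans (le_of_eq ?_) (normSq_column (X.toFinset ∪ Y.toFinset) g)
    rw [Finset.sum_union hd, ← Finset.add_sum_erase _ _ (Set.mem_toFinset.2 hτX),
      Finset.sum_congr rfl (g := fun _ => Complex.normSq ((y : G → ℂ) g))
        fun χ (hχ : χ ∈ Y.toFinset) => by rw [hagree χ (Set.mem_toFinset.1 hχ) y hy g hg],
      Finset.sum_const, nsmul_eq_mul, ← Set.ncard_eq_toFinset_card', ← Nat.card_coe_set_eq, hY]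
    simp [hτ, trivialIrr]

/-- The principal block for `e = p - 1`. -/
theorem full (hna : ¬ IsMulCommutative G) (hM : IsPModular p M) (hodd : p ≠ 2) (P : Sylow p G)
    (hP : Nat.card P = p)
    (he : (Subgroup.centralizer ((P : Subgroup G) : Set G)).relIndex
      (Subgroup.normalizer ((P : Subgroup G) : Set G)) = p - 1) :
    ∃ (Z : Finset (IrrCharacter G)) (s : IrrCharacter G → ℤ),
      Z.card + 1 = p ∧ trivialIrr G ∉ Z ∧
      (∀ χ, χ ∈ principalBlock M G ↔ χ = trivialIrr G ∨ χ ∈ Z) ∧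
      (∀ χ ∈ Z, (s χ = 1 ∨ s χ = -1) ∧ (charDegree (χ : G → ℂ) : ℤ) ≡ s χ [ZMOD p] ∧
        ∀ u ∈ (P : Subgroup G), u ≠ 1 → ∀ v ∈ Subgroup.centralizer ((P : Subgroup G) : Set G),
          ¬ p ∣ orderOf v → (χ : G → ℂ) (u * v) = (s χ : ℂ) ∧
            MemLocalIdeal M ((χ : G → ℂ) v - (s χ : ℂ))) ∧
      (∀ g : G, ¬ p ∣ orderOf g → 1 + ∑ χ ∈ Z, (s χ : ℂ) * (χ : G → ℂ) g = 0) ∧
      ∀ g : G, 1 + ∑ χ ∈ Z, Complex.normSq ((χ : G → ℂ) g) ≤
          (Nat.card (Subgroup.centralizer ({g} : Set G)) : ℝ) := by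
  classical
  have hp : p.Prime := Fact.out
  haveI := Fintype.ofFinite G
  obtain ⟨X, Y, hXY, hdisj, hX, hY, sX, ε, hdX, hε, hdY, hagree, hreg⟩ :=
    Cfsg.Agent.S4441.result p M hM hodd P hP (p - 1) he
  set τ := trivialIrr G with hτ
  have hτd : charDegree (τ : G → ℂ) = 1 := charDeg_trivial
  have hp3 : 3 ≤ p := by have := hp.two_le; omega
  rw [Nat.div_self (by omega), Nat.card_coe_set_eq, Set.ncard_eq_one] at hY
  obtain ⟨y, rfl⟩ := hY
  have hyX : y ∉ X.toFinset := fun h =>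
    Set.disjoint_left.1 hdisj (Set.mem_toFinset.1 h) rfl
  -- the sign is read off the degree
  set s : IrrCharacter G → ℤ := fun χ => if χ = y then -ε else sX χ with hs
  have hB : ∀ χ, χ ∈ principalBlock M G ↔ χ ∈ insert y X.toFinset := fun χ => by
    rw [hXY]; simp [or_comm]
  have hsX : ∀ χ ∈ X.toFinset, s χ = sX χ := fun χ hχ => if_neg fun h : χ = y => hyX (h ▸ hχ)
  have hsy : s y = -ε := if_pos rfl
  have hsgn : ∀ χ ∈ insert y X.toFinset, (s χ = 1 ∨ s χ = -1) ∧
      (charDegree (χ : G → ℂ) : ℤ) ≡ s χ [ZMOD p] := by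
    intro χ hχ
    rcases Finset.mem_insert.1 hχ with rfl | h
    · refine ⟨by rcases hε with rfl | rfl <;> simp [hsy], (hdY χ rfl).trans ?_⟩
      rw [hsy, Int.modEq_iff_dvd]
      refine ⟨-ε, ?_⟩
      push_cast [Nat.cast_sub hp.one_le]
      ring
    · obtain ⟨h1, h2, -⟩ := hdX χ (Set.mem_toFinset.1 h)
      exact ⟨hsX χ h ▸ h1, hsX χ h ▸ h2⟩
  have hrel : ∀ g : G, ¬ p ∣ orderOf g →
      ∑ χ ∈ insert y X.toFinset, (s χ : ℂ) * (χ : G → ℂ) g = 0 := by
    intro g hg
    have h := hreg y rfl g hg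
    rw [finsum_mem_eq_toFinset_sum] at h
    rw [Finset.sum_insert hyX, hsy, Finset.sum_congr rfl (g := fun χ => (sX χ : ℂ) * (χ : G → ℂ) g)
      (fun χ hχ => by rw [hsX χ hχ]), ← h]
    push_cast
    ring
  have hval : ∀ χ ∈ insert y X.toFinset, ∀ u ∈ (P : Subgroup G), u ≠ 1 →
      ∀ v ∈ Subgroup.centralizer ((P : Subgroup G) : Set G),
        ¬ p ∣ orderOf v → (χ : G → ℂ) (u * v) = (s χ : ℂ) := by
    intro χ hχ u hu hu1 v hv hvr
    rcases Finset.mem_insert.1 hχ with rfl | h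
    swap
    · rw [hsX χ h]
      exact (hdX χ (Set.mem_toFinset.1 h)).2.2 u hu hu1 v hv hvr
    have hou : orderOf u = p := by
      have h1 := Subgroup.orderOf_dvd_natCard _ hu
      rw [show Nat.card (P : Subgroup G) = p from hP] at h1
      exact ((Nat.dvd_prime hp).1 h1).resolve_left fun h => hu1 (orderOf_eq_one_iff.1 h)
    have hc : Commute u v := Subgroup.mem_centralizer_iff.1 hv u hu
    have hcop : (orderOf u).Coprime (orderOf v) := by
      rw [hou]; exact (hp.coprime_iff_not_dvd).2 hvr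
    have h0 := weak_orth hM (isPBlock_principalBlock (G := G) (M := M)) (x := 1) (y := u * v)
      (by rw [orderOf_one]; exact hp.not_dvd_one)
      (by rw [hc.orderOf_mul_eq_mul_orderOf_of_coprime hcop, hou]; exact dvd_mul_right _ _)
    rw [finsum_mem_block, show (Finset.univ.filter fun ξ => ξ ∈ principalBlock M G) =
      insert χ X.toFinset by ext ξ; simp only [Finset.mem_filter, Finset.mem_univ, true_and, hB],
      Finset.sum_insert hyX, Finset.sum_congr rfl (g := fun ξ : IrrCharacter G =>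
        (sX ξ : ℂ) * (ξ : G → ℂ) 1) fun ξ hξ => by
          rw [(hdX ξ (Set.mem_toFinset.1 hξ)).2.2 u hu hu1 v hv hvr, map_intCast, mul_comm]]
      at h0
    have h := hreg χ rfl 1 (by rw [orderOf_one]; exact hp.not_dvd_one)
    rw [finsum_mem_eq_toFinset_sum] at h
    rw [← h] at h0
    have h2 : (χ : G → ℂ) 1 * (conj ((χ : G → ℂ) (u * v)) + (ε : ℂ)) = 0 := by
      linear_combination h0
    have h3 := (mul_eq_zero.1 h2).resolve_left (irr_one_ne_zero χ)
    have h4 := congrArg conj (eq_neg_of_add_eq_zero_left h3)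
    rw [Complex.conj_conj, map_neg, map_intCast] at h4
    rw [h4, hsy, Int.cast_neg]
  have hτmem : τ ∈ insert y X.toFinset := (hB τ).1 (trivial_mem_principalBlock hM)
  have hsτ : s τ = 1 := by
    obtain ⟨h1, h2⟩ := hsgn τ hτmem
    refine h1.resolve_right fun h => ?_
    rw [hτd, h, Nat.cast_one, Int.modEq_iff_dvd] at h2
    have := Int.le_of_dvd (by omega) (dvd_neg.2 h2)
    omega
  refine ⟨(insert y X.toFinset).erase τ, s, ?_, by simp [hτ], fun χ => ?_, fun χ hχ => ?_,
    fun g hg => ?_, fun g => ?_⟩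
  · rw [Finset.card_erase_of_mem hτmem, Finset.card_insert_of_notMem hyX,
      ← Set.ncard_eq_toFinset_card', ← Nat.card_coe_set_eq, hX]
    omega
  · rw [hB χ, Finset.mem_erase]
    by_cases h : χ = τ
    · subst h; simp [hτmem]
    · simp [h]
  · have hχ' := Finset.mem_of_mem_erase hχ
    refine ⟨(hsgn χ hχ').1, (hsgn χ hχ').2, fun u hu hu1 v hv hvr => ?_⟩
    refine ⟨hval χ hχ' u hu hu1 v hv hvr, congr_of_value hM χ (u := u) ?_
      (Subgroup.mem_centralizer_iff.1 hv u hu) hvr (hval χ hχ' u hu hu1 v hv hvr)⟩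
    have := pow_card_eq_one' (x := (⟨u, hu⟩ : (P : Subgroup G)))
    rw [show Nat.card (P : Subgroup G) = p from hP] at this
    exact congrArg Subtype.val this
  · have h := hrel g hg
    rw [← Finset.add_sum_erase _ _ hτmem, hsτ] at h
    rw [← h]
    simp [hτ, trivialIrr]
  · refine le_trans (le_of_eq ?_) (normSq_column (insert y X.toFinset) g)
    rw [← Finset.add_sum_erase _ _ hτmem]
    simp [hτ, trivialIrr]

omit [IsSimpleGroup G] in
theorem normSq_one (χ : IrrCharacter G) :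
    Complex.normSq ((χ : G → ℂ) 1) = ((charDegree (χ : G → ℂ) ^ 2 : ℕ) : ℝ) := by
  rw [charDeg_spec', Complex.normSq_natCast]
  push_cast
  ring

/-- The degrees in the principal block for `1 < e < p - 1`. -/
theorem degree_data {X : Finset (IrrCharacter G)} {y : IrrCharacter G} {s : IrrCharacter G → ℤ}
    {ε : ℤ} {t : ℕ}
    (hrel : ∀ g : G, ¬ p ∣ orderOf g →
      (ε : ℂ) * (y : G → ℂ) g = 1 + ∑ χ ∈ X, (s χ : ℂ) * (χ : G → ℂ) g)
    (hcol : ∀ g : G, ¬ p ∣ orderOf g → 1 + ∑ χ ∈ X, Complex.normSq ((χ : G → ℂ) g) +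
        (t : ℝ) * Complex.normSq ((y : G → ℂ) g) ≤
          (Nat.card (Subgroup.centralizer ({g} : Set G)) : ℝ)) :
    ε * (charDegree (y : G → ℂ) : ℤ) = 1 + ∑ χ ∈ X, s χ * (charDegree (χ : G → ℂ) : ℤ) ∧
    1 + ∑ χ ∈ X, charDegree (χ : G → ℂ) ^ 2 + t * charDegree (y : G → ℂ) ^ 2 ≤ Nat.card G := by
  have h1 : ¬ p ∣ orderOf (1 : G) := by rw [orderOf_one]; exact (Fact.out : p.Prime).not_dvd_one
  constructor
  · apply Int.cast_injective (α := ℂ)
    have h := hrel 1 h1
    simp only [charDeg_spec'] at h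
    push_cast
    exact h
  · have h := hcol 1 h1
    rw [centralizer_one_eq_top, Subgroup.card_top] at h
    simp only [normSq_one] at h
    exact_mod_cast h

end Cfsg.Agent.Block.OrdP
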