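import Mathlib
import Cfsg.Agent.Lib.Block.OrderPrime

/-!
Consequences for small orders: a Sylow centralizer with a `p'`-part forces large degrees.
-/

namespace Cfsg.Agent.Block.OrdP

open scoped ComplexConjugate
open Cfsg Cfsg.Agent.Block Cfsg.Agent.Char Module

universe u

variable {G : Type u} [Group G] [Finite G] [IsSimpleGroup G] {p : ℕ} [Fact p.Prime] {M : Ideal AlgInt}

/-- The normalizer index, excluding `p + 1` by a factorial. -/
theorem exists_e' (hna : ¬ IsMulCommutative G) {m : ℕ} (hcard : Nat.card G = p * m) (hpm : ¬ p ∣ m)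
    (hp2 : p ≠ 2) (hfac : ¬ 2 * (p * m) ∣ p * (p - 1) * (p + 1)) (P : Sylow p G) :
    ∃ e k c : ℕ, 1 < k ∧ p * k + 1 ∣ m ∧
      (Subgroup.centralizer ((P : Subgroup G) : Set G)).relIndex
        (Subgroup.normalizer ((P : Subgroup G) : Set G)) = e ∧ 1 < e ∧ e ∣ p - 1 ∧
      Nat.card (Subgroup.centralizer ((P : Subgroup G) : Set G)) = p * c ∧
      c * e * (p * k + 1) = m := by
  have hp : p.Prime := Fact.out
  obtain ⟨e, k, hk0, hkm, he, he1, hep, ⟨c, hc⟩, hprod⟩ := exists_e hna hcard hpm P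
  refine ⟨e, k, c, ?_, hkm, he, he1, hep, hc, ?_⟩
  · by_contra hk
    have hk1 : k = 1 := by omega
    obtain ⟨k', -, hn', -, -, hprod', -⟩ :=
      small_sylow_number hna P (a := 1) (m := m) (by rw [pow_one, hcard]) one_ne_zero
    have hCN := Subgroup.centralizer_le_normalizer ((P : Subgroup G) : Set G)
    have h1 : Nat.card (Subgroup.centralizer ((P : Subgroup G) : Set G)) * e =
        Nat.card (Subgroup.normalizer ((P : Subgroup G) : Set G)) := by
      rw [← he, Subgroup.relIndex, ← Nat.card_congr (Subgroup.subgroupOfEquivOfLe hCN).toEquiv,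
        Subgroup.card_mul_index]
    rw [h1, ← hcard, ← hprod'] at hprod
    have h2 := Nat.eq_of_mul_eq_mul_left Nat.card_pos hprod
    rw [← h2, hk1, mul_one] at hn' hprod'
    have h3 := Nat.mul_dvd_mul_right (small_sylow_succ hp2 hna P hn') (p + 1)
    rw [mul_assoc 2, hprod', hcard] at h3
    exact hfac h3
  · rw [hc] at hprod
    refine Nat.eq_of_mul_eq_mul_left hp.pos ?_
    rw [← hprod]; ring

omit [IsSimpleGroup G] in
theorem exists_prime_elem {m : ℕ} (hpm : ¬ p ∣ m) {C : Subgroup G} {c : ℕ}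
    (hC : Nat.card C = p * c) (hcm : c ∣ m) (hc : c ≠ 1) :
    ∃ (q : ℕ) (v : G), q.Prime ∧ q ≠ p ∧ v ∈ C ∧ orderOf v = q := by
  obtain ⟨q, hq, hqc⟩ := Nat.exists_prime_and_dvd hc
  haveI := Fact.mk hq
  obtain ⟨v, hv⟩ := exists_prime_orderOf_dvd_card' (G := C) q (hC ▸ hqc.mul_left p)
  exact ⟨q, v, hq, fun h => hpm (h ▸ hqc.trans hcm), v.2, by rw [Subgroup.orderOf_coe, hv]⟩

/-- Degrees are large as soon as the centralizer has an element of another prime order. -/
theorem deg_large (hna : ¬ IsMulCommutative G) (hM : IsPModular p M) {χ : IrrCharacter G}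
    (hne : χ ≠ trivialIrr G) {s : ℤ} (hs : s = 1 ∨ s = -1)
    (hd : (charDegree (χ : G → ℂ) : ℤ) ≡ s [ZMOD p]) {C : Subgroup G}
    (hcong : ∀ v ∈ C, ¬ p ∣ orderOf v → MemLocalIdeal M ((χ : G → ℂ) v - (s : ℂ)))
    {q : ℕ} {v : G} (hq : q.Prime) (hqp : q ≠ p) (hv : v ∈ C) (hov : orderOf v = q) :
    (charDegree (χ : G → ℂ) % p = 1 ∧ 2 * p + 1 ≤ charDegree (χ : G → ℂ)) ∨
      (charDegree (χ : G → ℂ) % p = p - 1 ∧ 3 * p - 1 ≤ charDegree (χ : G → ℂ)) := by
  have hp : p.Prime := Fact.out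
  haveI := Fact.mk hq
  have hp2 := hp.two_le
  have hv1 : v ≠ 1 := fun h => by rw [h, orderOf_one] at hov; exact hq.ne_one hov.symm
  have hns := no_small hna hM hne hv1 hqp (δ := s) (by rw [← hov]; exact pow_orderOf_eq_one v)
    fun k => hcong _ (pow_mem hv k) fun h => hqp ?_
  · set d := charDegree (χ : G → ℂ)
    have hdiv := Nat.div_add_mod d p
    rcases hs with rfl | rfl
    · left
      have hmod : d % p = 1 := by
        rw [show (1 : ℤ) = ((1 : ℕ) : ℤ) from rfl, Int.natCast_modEq_iff] at hd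
        exact (show d % p = 1 % p from hd).trans (Nat.mod_eq_of_lt hp.one_lt)
      refine ⟨hmod, ?_⟩
      rw [hmod] at hdiv
      by_contra hlt
      push Not at hlt
      refine hns (Or.inl ⟨rfl, ?_⟩)
      by_contra hgt
      push Not at hgt
      have h1 : 1 < d / p := by
        by_contra h
        push Not at h
        have := Nat.mul_le_mul_left p h
        omega
      have := Nat.mul_le_mul_left p h1
      omega
    · right
      have hmod : d % p = p - 1 := by
        have h1 : (d : ℤ) ≡ ((p - 1 : ℕ) : ℤ) [ZMOD p] := by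
          refine hd.trans (Int.modEq_iff_dvd.2 ⟨1, ?_⟩)
          push_cast [Nat.cast_sub hp.one_le]
          ring
        rw [Int.natCast_modEq_iff] at h1
        exact (show d % p = (p - 1) % p from h1).trans (Nat.mod_eq_of_lt (by omega))
      refine ⟨hmod, ?_⟩
      rw [hmod] at hdiv
      by_contra hlt
      push Not at hlt
      refine hns (Or.inr ⟨rfl, ?_⟩)
      by_contra hgt
      push Not at hgt
      have h1 : 1 < d / p := by
        by_contra h
        push Not at h
        have := Nat.mul_le_mul_left p h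
        omega
      have := Nat.mul_le_mul_left p h1
      omega
  · have h2 := h.trans (orderOf_pow_dvd k)
    rw [hov] at h2
    exact ((Nat.prime_dvd_prime_iff_eq hp hq).1 h2).symm

/-- With `e = 2`: a degree next to a divisor of the order. -/
theorem two_false (hna : ¬ IsMulCommutative G) (hM : IsPModular p M) (hp3 : 3 < p) (P : Sylow p G)
    (hP : Nat.card P = p)
    (he : (Subgroup.centralizer ((P : Subgroup G) : Set G)).relIndex
      (Subgroup.normalizer ((P : Subgroup G) : Set G)) = 2)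
    {q : ℕ} {v : G} (hq : q.Prime) (hqp : q ≠ p)
    (hv : v ∈ Subgroup.centralizer ((P : Subgroup G) : Set G)) (hov : orderOf v = q)
    (hdeg : ∀ d : ℕ, d ∣ Nat.card G → d * d < Nat.card G →
      ((d % p = 1 ∧ 2 * p + 1 ≤ d) ∨ (d % p = p - 1 ∧ 3 * p - 1 ≤ d)) →
      ∀ d' : ℕ, d' ∣ Nat.card G → (d' + 1 = d ∨ d' = d + 1) → ¬ p ∣ d' → False) : False := by
  classical
  have hp : p.Prime := Fact.out
  have h2p : 2 ∣ p - 1 := (Nat.Prime.even_sub_one hp (by omega)).two_dvd
  obtain ⟨X, y, s, ε, hX, hXd, -, hε, hdy, hrel, hcol⟩ := data hna hM (by omega) P hP he one_lt_two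
    h2p (by omega)
  obtain ⟨hsum, hsz⟩ := degree_data hrel hcol
  obtain ⟨χ, rfl⟩ := Finset.card_eq_one.1 (show X.card = 1 by omega)
  obtain ⟨hne, hs, hd, hcong⟩ := hXd χ (Finset.mem_singleton_self χ)
  rw [Finset.sum_singleton] at hsum hsz
  refine hdeg _ (charDeg_dvd χ) ?_ (deg_large hna hM hne hs hd hcong hq hqp hv hov) _ (charDeg_dvd y)
    ?_ fun hdv => ?_
  · rw [← sq]
    omega
  · have := charDeg_pos y
    have := charDeg_pos χ
    rcases hε with rfl | rfl <;> rcases hs with h | h <;> rw [h] at hsum <;> omega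
  · have h1 : (p : ℤ) ∣ ε * (2 : ℕ) := (Int.modEq_zero_iff_dvd).1
      (hdy.symm.trans (Int.modEq_zero_iff_dvd.2 (Int.natCast_dvd_natCast.2 hdv)))
    rcases hε with rfl | rfl
    · have := Int.le_of_dvd (by norm_num) h1
      omega
    · have := Int.le_of_dvd (by norm_num) (dvd_neg.2 h1)
      omega

/-- With `e = p - 1`: not all degrees can be even. -/
theorem full_even_false (hna : ¬ IsMulCommutative G) (hM : IsPModular p M) (hodd : p ≠ 2)
    (P : Sylow p G) (hP : Nat.card P = p)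
    (he : (Subgroup.centralizer ((P : Subgroup G) : Set G)).relIndex
      (Subgroup.normalizer ((P : Subgroup G) : Set G)) = p - 1)
    {q : ℕ} {v : G} (hq : q.Prime) (hqp : q ≠ p)
    (hv : v ∈ Subgroup.centralizer ((P : Subgroup G) : Set G)) (hov : orderOf v = q)
    (hdeg : ∀ d : ℕ, d ∣ Nat.card G → d * d < Nat.card G →
      ((d % p = 1 ∧ 2 * p + 1 ≤ d) ∨ (d % p = p - 1 ∧ 3 * p - 1 ≤ d)) → Even d) : False := by
  classical
  have hp : p.Prime := Fact.out
  obtain ⟨Z, s, -, htZ, -, hZ, hrel, hcol⟩ := full hna hM hodd P hP he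
  obtain ⟨u, hu, hu1⟩ : ∃ u ∈ (P : Subgroup G), u ≠ 1 := by
    refine (Subgroup.bot_or_exists_ne_one (P : Subgroup G)).resolve_left fun h => hp.one_lt.ne ?_
    rw [← hP, show Nat.card P = Nat.card (P : Subgroup G) from rfl, h, Subgroup.card_bot]
  have h1 := hrel 1 (by rw [orderOf_one]; exact hp.not_dvd_one)
  simp only [charDeg_spec'] at h1
  have h2 : (1 : ℤ) + ∑ χ ∈ Z, s χ * (charDegree (χ : G → ℂ) : ℤ) = 0 := by exact_mod_cast h1
  have heven : (2 : ℤ) ∣ ∑ χ ∈ Z, s χ * (charDegree (χ : G → ℂ) : ℤ) := by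
    refine Finset.dvd_sum fun χ hχ => Dvd.dvd.mul_left ?_ _
    have hne : χ ≠ trivialIrr G := fun h => htZ (h ▸ hχ)
    obtain ⟨hs, hd, hv'⟩ := hZ χ hχ
    refine Int.natCast_dvd_natCast.2 (hdeg _ (charDeg_dvd χ) ?_ (deg_large hna hM hne hs hd
      (fun w hw hwr => (hv' u hu hu1 w hw hwr).2) hq hqp hv hov)).two_dvd
    have h3 := hcol 1
    rw [centralizer_one_eq_top, Subgroup.card_top] at h3
    simp only [normSq_one] at h3
    have h4 : 1 + ∑ χ ∈ Z, charDegree (χ : G → ℂ) ^ 2 ≤ Nat.card G := by exact_mod_cast h3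
    have h5 : charDegree (χ : G → ℂ) ^ 2 ≤ ∑ ξ ∈ Z, charDegree (ξ : G → ℂ) ^ 2 :=
      Finset.single_le_sum (f := fun ξ : IrrCharacter G => charDegree (ξ : G → ℂ) ^ 2)
        (fun ξ _ => Nat.zero_le _) hχ
    rw [← sq]
    omega
  omega

end Cfsg.Agent.Block.OrdP
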