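import Mathlib
import Cfsg.Agent.Lib.Block.OrderPrime
import Cfsg.Agent.Lib.Invol.Basic

/-!
A self-centralizing Sylow subgroup of order `p` inverted by an involution: the class equation.
-/

namespace Cfsg.Agent.Block.OrdP

open scoped ComplexConjugate
open Cfsg Cfsg.Agent.Block Cfsg.Agent.Char

universe u

variable {G : Type u} [Group G] [Finite G] {p : ℕ} [Fact p.Prime] {M : Ideal AlgInt}

theorem card_fiber (a x : G) [Decidable (IsConj a x)] :
    Nat.card {h : G // h * a * h⁻¹ = x} =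
      if IsConj a x then Nat.card (Subgroup.centralizer ({a} : Set G)) else 0 := by
  split_ifs with hc
  · obtain ⟨h₀, hh₀⟩ := isConj_iff.1 hc
    refine (Nat.card_congr (Equiv.subtypeEquiv (Equiv.mulLeft h₀) fun h => ?_)).symm
    simp only [Equiv.coe_mulLeft, Subgroup.mem_centralizer_singleton_iff]
    constructor
    · intro hh
      rw [← hh₀]
      calc h₀ * h * a * (h₀ * h)⁻¹ = h₀ * (h * a) * h⁻¹ * h₀⁻¹ := by group
        _ = h₀ * a * h₀⁻¹ := by rw [hh]; group
    · intro hh
      rw [← hh₀] at hh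
      have : h * a * h⁻¹ = a := by
        have h2 := congrArg (fun z => h₀⁻¹ * z * h₀) hh
        simpa [mul_assoc] using h2
      calc h * a = h * a * h⁻¹ * h := by group
        _ = a * h := by rw [this]
  · rw [Nat.card_eq_zero]
    exact Or.inl ⟨fun h => hc (isConj_iff.2 ⟨h.1, h.2⟩)⟩

/-- Setting: `u` generates a self-centralizing group of order `p` and `t` is an involution inverting
it. -/
structure Self (G : Type u) [Group G] (p : ℕ) where
  u : G
  t : G
  hu : orderOf u = p
  hC : Nat.card (Subgroup.centralizer ({u} : Set G)) = p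
  ht : orderOf t = 2
  hinv : t * u * t⁻¹ = u⁻¹

variable (S : Self G p)

theorem Self.u_ne : S.u ≠ 1 := fun h => by
  have := S.hu
  rw [h, orderOf_one] at this
  exact (Fact.out : p.Prime).one_lt.ne this

theorem Self.centralizer_eq : Subgroup.centralizer ({S.u} : Set G) = Subgroup.zpowers S.u :=
  (Subgroup.eq_of_le_of_card_ge (Subgroup.zpowers_le.2 (Subgroup.mem_centralizer_singleton_iff.2 rfl))
    (by rw [S.hC, Nat.card_zpowers, S.hu])).symm

theorem Self.inverters (x : G) (hx : x * S.u * x⁻¹ = S.u⁻¹) : ∃ i : ℤ, x = S.t * S.u ^ i := by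
  have hmem : S.t⁻¹ * x ∈ Subgroup.centralizer ({S.u} : Set G) := by
    rw [Subgroup.mem_centralizer_singleton_iff]
    have h1 : S.t⁻¹ * S.u⁻¹ * S.t = S.u := by
      rw [← S.hinv]; group
    have h2 : x * S.u = S.u⁻¹ * x := by
      rw [← hx]; group
    calc S.t⁻¹ * x * S.u = S.t⁻¹ * (x * S.u) := by group
      _ = S.t⁻¹ * S.u⁻¹ * S.t * (S.t⁻¹ * x) := by rw [h2]; group
      _ = S.u * (S.t⁻¹ * x) := by rw [h1]
  rw [S.centralizer_eq] at hmem
  obtain ⟨i, hi⟩ := Subgroup.mem_zpowers_iff.1 hmem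
  exact ⟨i, by rw [hi]; group⟩

theorem Self.tpow (i : ℤ) : S.t * S.u ^ i * S.t⁻¹ = S.u ^ (-i) := by
  rw [← conj_zpow, S.hinv, inv_zpow, zpow_neg]

theorem Self.conj_t (hp2 : p ≠ 2) (i : ℤ) : IsConj S.t (S.t * S.u ^ i) := by
  obtain ⟨k, hk⟩ := (Fact.out : p.Prime).odd_of_ne_two hp2
  refine isConj_iff.2 ⟨S.u ^ ((k : ℤ) * i), ?_⟩
  have h1 : S.u ^ ((k : ℤ) * i) * S.t = S.t * S.u ^ (-((k : ℤ) * i)) := by
    rw [← S.tpow ((k : ℤ) * i)]
    simp [← mul_assoc, Invol.mul_self_of_orderOf_two S.ht, Invol.inv_of_orderOf_two S.ht]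
  rw [h1, mul_assoc, ← zpow_neg, ← zpow_add]
  congr 1
  rw [show -((k : ℤ) * i) + -((k : ℤ) * i) = i + (p : ℤ) * (-i) by rw [hk]; push_cast; ring,
    zpow_add, zpow_mul, zpow_natCast,
    show S.u ^ p = 1 by rw [← orderOf_dvd_iff_pow_eq_one, S.hu], one_zpow, mul_one]

theorem Self.inverts_of_pair {z : G} (hz : orderOf z = 2) {g h : G}
    (hgh : g * z * g⁻¹ = z * (h * S.u * h⁻¹)) : (h⁻¹ * z * h) * S.u * (h⁻¹ * z * h)⁻¹ = S.u⁻¹ := by
  have hsq : (g * z * g⁻¹) * (g * z * g⁻¹) = 1 := by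
    rw [show g * z * g⁻¹ * (g * z * g⁻¹) = g * (z * z) * g⁻¹ by group,
      Invol.mul_self_of_orderOf_two hz]
    group
  rw [hgh] at hsq
  have h2 : h⁻¹ * (z * (h * S.u * h⁻¹) * (z * (h * S.u * h⁻¹))) * h = 1 := by rw [hsq]; group
  have h3 : (h⁻¹ * z * h) * S.u * (h⁻¹ * z * h) * S.u = 1 := by rw [← h2]; group
  have h4 : h⁻¹ * z * h = (h⁻¹ * z * h)⁻¹ := by
    simp [mul_inv_rev, mul_assoc, Invol.inv_of_orderOf_two hz]
  calc (h⁻¹ * z * h) * S.u * (h⁻¹ * z * h)⁻¹ = (h⁻¹ * z * h) * S.u * (h⁻¹ * z * h) := by rw [← h4]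
    _ = S.u⁻¹ := eq_inv_of_mul_eq_one_left h3

/-- The count of products of two conjugates of `t` falling in the class of `u`. -/
theorem Self.count (hp2 : p ≠ 2) :
    Nat.card {g : G // IsConj S.u (S.t * (g * S.t * g⁻¹))} =
      Nat.card (Subgroup.centralizer ({S.t} : Set G)) ^ 2 := by
  classical
  haveI := Fintype.ofFinite G
  set c := Nat.card (Subgroup.centralizer ({S.t} : Set G)) with hc
  have hp : p.Prime := Fact.out
  have key : p * Nat.card {g : G // IsConj S.u (S.t * (g * S.t * g⁻¹))} = p * c ^ 2 := by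
    set T : Finset G := (Finset.univ : Finset (Fin p)).image fun i : Fin p => S.t * S.u ^ ((i : ℕ) : ℤ) with hT
    have hTcard : T.card = p := by
      rw [Finset.card_image_of_injective _ (fun i j hij => by
        have h1 : S.u ^ (i : ℕ) = S.u ^ (j : ℕ) := by simpa using mul_left_cancel hij
        exact Fin.ext (pow_injOn_Iio_orderOf (by simp [S.hu]) (by simp [S.hu]) h1)),
        Finset.card_univ, Fintype.card_fin]
    have hTmem : ∀ x : G, x ∈ T ↔ x * S.u * x⁻¹ = S.u⁻¹ := by
      intro x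
      constructor
      · intro hx
        obtain ⟨i, -, rfl⟩ := Finset.mem_image.1 hx
        have hcomm : S.u ^ ((i : ℕ) : ℤ) * S.u * (S.u ^ ((i : ℕ) : ℤ))⁻¹ = S.u := by
          rw [(Commute.zpow_self S.u ((i : ℕ) : ℤ)).eq, mul_inv_cancel_right]
        calc S.t * S.u ^ ((i : ℕ) : ℤ) * S.u * (S.t * S.u ^ ((i : ℕ) : ℤ))⁻¹
            = S.t * (S.u ^ ((i : ℕ) : ℤ) * S.u * (S.u ^ ((i : ℕ) : ℤ))⁻¹) * S.t⁻¹ := by group
          _ = S.u⁻¹ := by rw [hcomm, S.hinv]
      · intro hx
        obtain ⟨i, rfl⟩ := S.inverters x hx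
        have h0 : (0 : ℤ) ≤ i % p := Int.emod_nonneg _ (by exact_mod_cast hp.ne_zero)
        have h1 : i % p < p := Int.emod_lt_of_pos _ (by exact_mod_cast hp.pos)
        refine Finset.mem_image.2 ⟨⟨(i % p).toNat, by omega⟩, Finset.mem_univ _, ?_⟩
        congr 1
        simp only [Int.toNat_of_nonneg h0]
        conv_rhs => rw [← zpow_mod_orderOf, S.hu]
    -- by the pairs, summed in the other order
    have h1 : ∀ g : G, (Finset.univ.filter fun h : G => h * S.u * h⁻¹ = S.t * (g * S.t * g⁻¹)).card =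
        if IsConj S.u (S.t * (g * S.t * g⁻¹)) then p else 0 := fun g => by
      rw [← Fintype.card_subtype, ← Nat.card_eq_fintype_card, card_fiber, S.hC]
    have h2 : ∀ h : G, (Finset.univ.filter fun g : G => h * S.u * h⁻¹ = S.t * (g * S.t * g⁻¹)).card =
        if h⁻¹ * S.t * h ∈ T then c else 0 := by
      intro h
      have hfilter : (Finset.univ.filter fun g : G => h * S.u * h⁻¹ = S.t * (g * S.t * g⁻¹)) =
          Finset.univ.filter fun g : G => g * S.t * g⁻¹ = S.t * (h * S.u * h⁻¹) :=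
        Finset.filter_congr fun g _ => by
          constructor
          · intro e
            rw [e, ← mul_assoc S.t, Invol.mul_self_of_orderOf_two S.ht, one_mul]
          · intro e
            rw [e, ← mul_assoc S.t, Invol.mul_self_of_orderOf_two S.ht, one_mul]
      rw [hfilter, ← Fintype.card_subtype, ← Nat.card_eq_fintype_card, card_fiber]
      refine if_congr ⟨fun hh => ?_, fun hh => ?_⟩ rfl rfl
      · obtain ⟨g, hg⟩ := isConj_iff.1 hh
        exact (hTmem _).2 (S.inverts_of_pair S.ht hg)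
      · obtain ⟨i, -, hi⟩ := Finset.mem_image.1 hh
        have h3 : S.t * (h * S.u * h⁻¹) = h * (S.t * S.u ^ (((i : ℕ) : ℤ) + 1)) * h⁻¹ := by
          rw [zpow_add_one, ← mul_assoc S.t (S.u ^ ((i : ℕ) : ℤ)), hi]
          group
        rw [h3]
        exact (S.conj_t hp2 _).trans (isConj_iff.2 ⟨h, rfl⟩)
    have h3 : ∀ x ∈ T, (Finset.univ.filter fun h : G => h⁻¹ * S.t * h = x).card = c := by
      intro x hx
      obtain ⟨i, -, rfl⟩ := Finset.mem_image.1 hx
      rw [← Fintype.card_subtype, ← Nat.card_eq_fintype_card,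
        Nat.card_congr (Equiv.subtypeEquiv (Equiv.inv G)
          (q := fun h : G => h * S.t * h⁻¹ = S.t * S.u ^ ((i : ℕ) : ℤ)) fun h => by simp),
        card_fiber, if_pos (S.conj_t hp2 _)]
    have hsum : ∑ g : G, (if IsConj S.u (S.t * (g * S.t * g⁻¹)) then p else 0) =
        ∑ h : G, (if h⁻¹ * S.t * h ∈ T then c else 0) := by
      simp only [← h1, ← h2, Finset.card_filter]
      exact Finset.sum_comm
    have hfib : (Finset.univ.filter fun h : G => h⁻¹ * S.t * h ∈ T).card = p * c := by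
      have hmaps : Set.MapsTo (fun h : G => h⁻¹ * S.t * h)
          ↑(Finset.univ.filter fun h : G => h⁻¹ * S.t * h ∈ T) ↑T :=
        fun h hh => (Finset.mem_filter.1 hh).2
      rw [Finset.card_eq_sum_card_fiberwise hmaps]
      rw [Finset.sum_congr rfl (g := fun _ => c) fun x hx => by
        rw [← h3 x hx, Finset.filter_filter]
        refine congrArg Finset.card (Finset.filter_congr fun h _ => ?_)
        exact ⟨fun e => e.2, fun e => ⟨e ▸ hx, e⟩⟩]
      rw [Finset.sum_const, hTcard, smul_eq_mul]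
    rw [← Finset.sum_filter, ← Finset.sum_filter, Finset.sum_const, Finset.sum_const, smul_eq_mul,
      smul_eq_mul, hfib, ← Fintype.card_subtype, ← Nat.card_eq_fintype_card] at hsum
    rw [mul_comm, hsum]
    ring
  exact Nat.eq_of_mul_eq_mul_left hp.pos key

theorem Self.count_zero {z : G} (hz : orderOf z = 2) (hp2 : p ≠ 2) (hnc : ¬ IsConj S.t z) (g : G) :
    ¬ IsConj S.u (z * (g * z * g⁻¹)) := by
  intro hg
  obtain ⟨h, hh⟩ := isConj_iff.1 hg
  have hgh : g * z * g⁻¹ = z * (h * S.u * h⁻¹) := by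
    rw [hh, ← mul_assoc z, Invol.mul_self_of_orderOf_two hz, one_mul]
  obtain ⟨i, hi⟩ := S.inverters _ (S.inverts_of_pair hz hgh)
  refine hnc ((S.conj_t hp2 i).trans (isConj_iff.2 ⟨h, ?_⟩))
  rw [← hi]
  group

/-- The class equation. -/
theorem Self.formula [Fintype G] (x : G) :
    (p : ℂ) * (Nat.card {g : G // IsConj S.u (x * (g * x * g⁻¹))} : ℂ) =
      (Nat.card G : ℂ) * ∑ χ : IrrCharacter G,
        conj ((χ : G → ℂ) S.u) * (χ : G → ℂ) x * (χ : G → ℂ) x / (χ : G → ℂ) 1 := by
  classical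
  set f : G → ℂ := fun g => if IsConj S.u g then 1 else 0 with hfdef
  have hf : IsClassFunction G f := fun g k => by
    refine if_congr ⟨fun h => h.trans (isConj_iff.2 ⟨k, rfl⟩).symm,
      fun h => h.trans (isConj_iff.2 ⟨k, rfl⟩)⟩ rfl rfl
  have hG : (Nat.card G : ℂ) ≠ 0 := Nat.cast_ne_zero.2 Nat.card_pos.ne'
  have hclass : (Finset.univ.filter fun g : G => IsConj S.u g).card * p = Nat.card G := by
    have h1 := Finset.card_eq_sum_card_fiberwise (f := fun h : G => h * S.u * h⁻¹)
      (s := Finset.univ) (t := Finset.univ.filter fun g : G => IsConj S.u g)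
      fun h _ => Finset.mem_filter.2 ⟨Finset.mem_univ _, isConj_iff.2 ⟨h, rfl⟩⟩
    rw [Finset.sum_congr rfl (g := fun _ => p) fun g hg => by
        rw [← Fintype.card_subtype, ← Nat.card_eq_fintype_card, card_fiber,
          if_pos (Finset.mem_filter.1 hg).2, S.hC],
      Finset.sum_const, smul_eq_mul, Finset.card_univ] at h1
    rw [Nat.card_eq_fintype_card, h1]
  have hinner : ∀ χ : IrrCharacter G, (p : ℂ) * classInner f χ = conj ((χ : G → ℂ) S.u) := by
    intro χ
    rw [classInner]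
    simp only [hfdef, ite_mul, one_mul, zero_mul, ← Finset.sum_filter]
    rw [Finset.sum_congr rfl (g := fun _ => conj ((χ : G → ℂ) S.u)) fun g hg => by
        obtain ⟨k, rfl⟩ := isConj_iff.1 (Finset.mem_filter.1 hg).2
        rw [irr_classFun χ],
      Finset.sum_const, nsmul_eq_mul, ← mul_assoc, ← mul_assoc, mul_comm (p : ℂ), mul_assoc _ (p : ℂ),
      mul_comm (p : ℂ) _, ← Nat.cast_mul, hclass, inv_mul_cancel₀ hG, one_mul]
  have h := sum_classFun_mul_conj hf x x
  rw [inv_mul_eq_iff_eq_mul₀ hG] at h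
  have hlhs : ∑ g : G, f (x * (g * x * g⁻¹)) =
      (Nat.card {g : G // IsConj S.u (x * (g * x * g⁻¹))} : ℂ) := by
    simp only [hfdef, Finset.sum_boole]
    rw [Nat.card_eq_fintype_card, Fintype.card_subtype]
  rw [hlhs] at h
  rw [h, mul_left_comm, Finset.mul_sum]
  refine congrArg _ (Finset.sum_congr rfl fun χ _ => ?_)
  rw [← hinner χ]
  ring

/-- All the characters nonzero at `u` lie in the principal block. -/
theorem Self.vanish [Fintype G] (hM : IsPModular p M) (χ : IrrCharacter G)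
    (hχ : χ ∉ principalBlock M G) : (χ : G → ℂ) S.u = 0 := by
  classical
  have hp : p.Prime := Fact.out
  set C := Subgroup.centralizer ({S.u} : Set G) with hC
  have hcol := principal_column hM (z := S.u) ⟨1, by rw [S.hu, pow_one]⟩ (y := (1 : C))
    (by rw [orderOf_one]; exact hp.not_dvd_one)
  haveI : (⊥ : Subgroup C).Normal := inferInstance
  rw [principal_column_complement hM (K := (⊥ : Subgroup C))
      (by rw [Subgroup.card_bot]; exact hp.not_dvd_one) (k := 1)
      (by rw [Subgroup.index_bot, S.hC, pow_one])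
      (by rw [orderOf_one]; exact hp.not_dvd_one),
    OneMemClass.coe_one, mul_one, S.hC, hp.factorization_self, pow_one, finsum_mem_block] at hcol
  have hall := Cfsg.Agent.Char.sum_irr_mul_conj S.u S.u
  rw [if_pos (IsConj.refl _), S.hC, ← hcol,
    ← Finset.sum_filter_add_sum_filter_not Finset.univ (fun ξ => ξ ∈ principalBlock M G),
    add_eq_left] at hall
  simp only [Complex.mul_conj] at hall
  have hall' : ∑ ξ ∈ Finset.univ.filter (fun ξ => ξ ∉ principalBlock M G),
      Complex.normSq ((ξ : G → ℂ) S.u) = 0 := by exact_mod_cast hall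
  have := (Finset.sum_eq_zero_iff_of_nonneg fun ξ _ => Complex.normSq_nonneg _).1 hall' χ
    (Finset.mem_filter.2 ⟨Finset.mem_univ _, hχ⟩)
  exact Complex.normSq_eq_zero.1 this

end Cfsg.Agent.Block.OrdP
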