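import Mathlib
import Cfsg.Agent.Lib.Block.OrderPrimeSelfTwo

/-!
Values at involutions, and the class equation for `e = p - 1` with a self-centralizing Sylow subgroup.
-/

namespace Cfsg.Agent.Block.OrdP

open scoped ComplexConjugate
open Cfsg Cfsg.Agent.Block Cfsg.Agent.Char Module

universe u

variable {G : Type u} [Group G] [Finite G] [IsSimpleGroup G] {p : ℕ} [Fact p.Prime] {M : Ideal AlgInt}

theorem involution_value (hna : ¬ IsMulCommutative G) (χ : IrrCharacter G) {x : G} (hx : x ^ 2 = 1) :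
    ∃ a : ℤ, (χ : G → ℂ) x = (a : ℂ) ∧ (4 : ℤ) ∣ (charDegree (χ : G → ℂ) : ℤ) - a := by
  classical
  obtain ⟨n, ρ, hρ, hχ, hn, -⟩ := IsIrr.exists_rep χ.2
  have hd : n = charDegree (χ : G → ℂ) :=
    Nat.cast_injective (R := ℂ) (hn.symm.trans (charDeg_spec' χ))
  obtain ⟨b, c, hb, hc⟩ := exists_eigenbasis (ρ x) two_pos (by rw [← map_pow, hx, map_one])
  have hc' : ∀ i, c i = 1 ∨ c i = -1 := fun i => mul_self_eq_one_iff.1 (by rw [← sq]; exact hc i)
  set m := (Finset.univ.filter fun i => ¬ c i = 1).card with hm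
  have hval : (χ : G → ℂ) x = ((n : ℤ) - 2 * (m : ℤ) : ℤ) := by
    rw [← hχ]
    show LinearMap.trace ℂ _ (ρ x) = _
    rw [trace_of_eigenbasis (ρ x) b c hb,
      Finset.sum_congr rfl (g := fun i => (1 : ℂ) - 2 * (if ¬ c i = 1 then 1 else 0)) fun i _ => by
        rcases hc' i with h | h <;> simp [h] <;> norm_num,
      Finset.sum_sub_distrib, ← Finset.mul_sum, Finset.sum_boole, ← hm, Finset.sum_const,
      Finset.card_univ, Fintype.card_fin, finrank_fin_fun, nsmul_eq_mul, mul_one]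
    push_cast
    ring
  have hdet : LinearMap.det (ρ x) = ∏ i, c i := by
    rw [← LinearMap.det_toMatrix b]
    have : LinearMap.toMatrix b b (ρ x) = Matrix.diagonal c := by
      ext i k
      rw [LinearMap.toMatrix_apply, hb, map_smul, Finsupp.smul_apply, Basis.repr_self,
        Matrix.diagonal_apply, Finsupp.single_apply]
      by_cases h : i = k <;> simp [h, eq_comm]
    rw [this, Matrix.det_diagonal]
  have hev : Even m := by
    by_contra hodd
    rw [det_one hna ρ x, Finset.prod_congr rfl (g := fun i => if ¬ c i = 1 then (-1 : ℂ) else 1)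
      (fun i _ => by rcases hc' i with h | h <;> simp [h] <;> norm_num), Finset.prod_ite,
      Finset.prod_const, Finset.prod_const, one_pow, mul_one, ← hm,
      (Nat.not_even_iff_odd.1 hodd).neg_one_pow] at hdet
    norm_num at hdet
  refine ⟨_, hval, ?_⟩
  obtain ⟨k, hk⟩ := hev
  exact ⟨(k : ℤ), by rw [← hd, hk]; push_cast; ring⟩

omit [IsSimpleGroup G] in
theorem index_dvd (χ : IrrCharacter G) {g : G} {z : ℤ} (hz : (χ : G → ℂ) g = (z : ℂ)) :
    (charDegree (χ : G → ℂ) : ℤ) ∣ ((Subgroup.centralizer ({g} : Set G)).index : ℤ) * z := by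
  have h := centralChar_isIntegral χ g
  rw [centralChar, charDeg_spec', hz] at h
  have hd := (charDeg_pos χ).ne'
  rcases z.eq_nat_or_neg with ⟨k, rfl | rfl⟩
  · rw [Int.cast_natCast, ← Nat.cast_mul] at h
    exact_mod_cast nat_dvd_of_isIntegral_div hd h
  · rw [Int.cast_neg, Int.cast_natCast, mul_neg, neg_div, ← Nat.cast_mul] at h
    have h' := h.neg
    rw [neg_neg] at h'
    rw [mul_neg, dvd_neg]
    exact_mod_cast nat_dvd_of_isIntegral_div hd h'

/-- The value at an involution of `C` of a character of degree below `4 p`. -/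
theorem value_two (hna : ¬ IsMulCommutative G) (hM : IsPModular p M) (hodd : p ≠ 2)
    {χ : IrrCharacter G} (hne : χ ≠ trivialIrr G) {v : G} (hv : orderOf v = 2) {δ : ℤ}
    (hcong : ∀ k : ℕ, MemLocalIdeal M ((χ : G → ℂ) (v ^ k) - (δ : ℂ)))
    (hlt : charDegree (χ : G → ℂ) < 4 * p) :
    (χ : G → ℂ) v = (((charDegree (χ : G → ℂ) : ℤ) - 4 * (p : ℤ) : ℤ) : ℂ) := by
  classical
  haveI : Fact (Nat.Prime 2) := ⟨Nat.prime_two⟩
  obtain ⟨a, ω, hω, hsum, hcg, hdet, hval⟩ := spectrum hna hM χ (Ne.symm hodd)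
    (by rw [← hv]; exact pow_orderOf_eq_one v) hcong
  have hω1 : ω = -1 := hω.eq_neg_one_of_two_right
  have hu : (Finset.univ : Finset (ZMod 2)) = {0, 1} :=
    (Finset.eq_univ_of_card _ (by rw [Finset.card_pair zero_ne_one, ZMod.card])).symm
  rw [hu, Finset.sum_pair zero_ne_one] at hsum hdet hval
  have h1 : p ∣ a 1 := by
    have := hcg 1
    rwa [if_neg one_ne_zero, Int.modEq_zero_iff_dvd, Int.natCast_dvd_natCast] at this
  have h2 : 2 ∣ a 1 := by
    rw [mul_zero, zero_add, mul_one, ZMod.natCast_eq_zero_iff] at hdet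
    exact hdet
  have h0 : a 1 ≠ 0 := fun h => by
    have hv1 : v = 1 := eq_one_of_value hne (by
      rw [hval, charDeg_spec', ← hsum, h]; simp)
    rw [hv1, orderOf_one] at hv
    omega
  obtain ⟨t, ht⟩ := Nat.Coprime.mul_dvd_of_dvd_of_dvd
    ((Nat.coprime_primes Nat.prime_two Fact.out).2 (Ne.symm hodd)) h2 h1
  have ht1 : t = 1 := by
    rcases t with _ | _ | t
    · exact absurd (by simpa using ht) h0
    · rfl
    · have h3 : 2 * p * 2 ≤ 2 * p * (t + 1 + 1) := Nat.mul_le_mul_left _ (by omega)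
      omega
  subst ht1
  rw [hval, hω1, show (0 : ZMod 2).val = 0 from rfl, show (1 : ZMod 2).val = 1 from rfl, ← hsum, ht]
  push_cast
  ring

omit [IsSimpleGroup G] in
/-- An involution inverting `u` has small trace: it only sees the fixed space. -/
theorem inverted_bound (S : Self G p) (hp2 : p ≠ 2) (χ : IrrCharacter G) {s a : ℤ}
    (hs : ∀ i : ℤ, S.u ^ i ≠ 1 → (χ : G → ℂ) (S.u ^ i) = (s : ℂ))
    (ha : (χ : G → ℂ) S.t = (a : ℂ)) :
    0 ≤ (charDegree (χ : G → ℂ) : ℤ) + ((p : ℤ) - 1) * s + (p : ℤ) * a ∧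
      0 ≤ (charDegree (χ : G → ℂ) : ℤ) + ((p : ℤ) - 1) * s - (p : ℤ) * a := by
  classical
  obtain ⟨n, ρ, hρ, hχ, hn, -⟩ := IsIrr.exists_rep χ.2
  set H := Subgroup.zpowers S.u with hH
  letI := Fintype.ofFinite H
  have hHcard : Fintype.card H = p := by
    rw [← Nat.card_eq_fintype_card, Nat.card_zpowers, S.hu]
  set E : (Fin n → ℂ) →ₗ[ℂ] (Fin n → ℂ) := ∑ h : H, ρ (h : G) with hE
  set T : (Fin n → ℂ) →ₗ[ℂ] (Fin n → ℂ) := ρ S.t with hT
  have hEE : E * E = (p : ℂ) • E := by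
    conv_lhs => rw [hE]
    rw [Finset.mul_sum, Finset.sum_congr rfl (g := fun _ => E) fun h _ => by
      rw [Finset.sum_mul]
      refine Fintype.sum_equiv (Equiv.mulRight h) _ _ fun k => ?_
      rw [← map_mul]
      rfl, Finset.sum_const, Finset.card_univ, hHcard, ← Nat.cast_smul_eq_nsmul ℂ]
  have hTT : T * T = 1 := by
    rw [hT, ← map_mul, Invol.mul_self_of_orderOf_two S.ht, map_one]
  have hswap : ∀ h : H, S.t * (h : G) = (h : G)⁻¹ * S.t := by
    intro h
    obtain ⟨i, hi⟩ := Subgroup.mem_zpowers_iff.1 h.2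
    rw [← hi, ← zpow_neg, ← S.tpow i]
    group
  have hTE : T * E = E * T := by
    rw [hE, hT, Finset.mul_sum, Finset.sum_mul]
    refine Fintype.sum_equiv (Equiv.inv H) _ _ fun h => ?_
    rw [← map_mul, ← map_mul, hswap h]
    rfl
  have htrE : LinearMap.trace ℂ _ E =
      (((charDegree (χ : G → ℂ) : ℤ) + ((p : ℤ) - 1) * s : ℤ) : ℂ) := by
    rw [hE, map_sum]
    have hterm : ∀ h : H, LinearMap.trace ℂ _ (ρ (h : G)) = (χ : G → ℂ) h := fun h => by
      rw [← hχ]; rfl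
    rw [Finset.sum_congr rfl fun h _ => hterm h, ← Finset.add_sum_erase _ _ (Finset.mem_univ (1 : H)),
      Finset.sum_congr rfl (g := fun _ => (s : ℂ)) fun h hh => by
        obtain ⟨i, hi⟩ := Subgroup.mem_zpowers_iff.1 h.2
        rw [← hi]
        refine hs i fun e => Finset.ne_of_mem_erase hh (Subtype.ext ?_)
        rw [← hi, e]; rfl,
      Finset.sum_const, Finset.card_erase_of_mem (Finset.mem_univ _), Finset.card_univ, hHcard,
      OneMemClass.coe_one, charDeg_spec', nsmul_eq_mul,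
      Nat.cast_sub (Fact.out : p.Prime).one_le]
    push_cast
    ring
  have htrTE : LinearMap.trace ℂ _ (T * E) = (((p : ℤ) * a : ℤ) : ℂ) := by
    rw [hE, Finset.mul_sum, map_sum, Finset.sum_congr rfl (g := fun _ => (a : ℂ)) fun h _ => by
      rw [hT, ← map_mul, ← ha]
      obtain ⟨i, hi⟩ := Subgroup.mem_zpowers_iff.1 h.2
      obtain ⟨k, hk⟩ := isConj_iff.1 (S.conj_t hp2 i)
      show LinearMap.trace ℂ _ (ρ (S.t * (h : G))) = _
      rw [← hi, ← hk, ← irr_classFun χ S.t k, ← hχ]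
      rfl,
      Finset.sum_const, Finset.card_univ, hHcard, nsmul_eq_mul]
    push_cast
    ring
  have h2p : (2 * p : ℂ) ≠ 0 :=
    mul_ne_zero two_ne_zero (Nat.cast_ne_zero.2 (Fact.out : p.Prime).ne_zero)
  have key : ∀ σ : ℂ, σ * σ = 1 → ∃ r : ℕ,
      LinearMap.trace ℂ _ E + σ * LinearMap.trace ℂ _ (T * E) = (2 * p : ℂ) * r := by
    intro σ hσ
    set X := E + σ • (T * E) with hX
    have hTETE : T * E * (T * E) = (p : ℂ) • E := by
      rw [mul_assoc, ← mul_assoc E, ← hTE, mul_assoc T E E, hEE, ← mul_assoc, hTT, one_mul]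
    have hETE : E * (T * E) = (p : ℂ) • (T * E) := by
      rw [← mul_assoc, ← hTE, mul_assoc, hEE, mul_smul_comm]
    have hXX : X * X = (2 * p : ℂ) • X := by
      rw [hX, add_mul, mul_add, mul_add, smul_mul_assoc, mul_smul_comm, smul_mul_assoc,
        mul_smul_comm, hEE, hETE, hTETE, mul_assoc T E E, hEE, mul_smul_comm]
      simp only [smul_add, smul_smul, hσ, one_mul, ← mul_assoc]
      module
    have hidem : IsIdempotentElem ((2 * p : ℂ)⁻¹ • X) := by
      show ((2 * p : ℂ)⁻¹ • X) * ((2 * p : ℂ)⁻¹ • X) = _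
      rw [smul_mul_assoc, mul_smul_comm, hXX, smul_smul, smul_smul]
      congr 1
      field_simp
    have h := (LinearMap.IsIdempotentElem.isProj_range _ hidem).trace
    refine ⟨finrank ℂ (LinearMap.range ((2 * p : ℂ)⁻¹ • X)), ?_⟩
    rw [← h, hX, map_smul, map_add, map_smul, smul_eq_mul, smul_eq_mul, ← mul_assoc,
      mul_inv_cancel₀ h2p, one_mul]
  obtain ⟨r, hr⟩ := key 1 (one_mul 1)
  obtain ⟨r', hr'⟩ := key (-1) (by norm_num)
  rw [htrE, htrTE] at hr hr'
  constructor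
  · have h : (((charDegree (χ : G → ℂ) : ℤ) + ((p : ℤ) - 1) * s + (p : ℤ) * a : ℤ) : ℂ) =
        ((2 * (p : ℤ) * (r : ℤ) : ℤ) : ℂ) := by
      push_cast at hr ⊢
      linear_combination hr
    rw [Int.cast_inj] at h
    rw [h]; positivity
  · have h : (((charDegree (χ : G → ℂ) : ℤ) + ((p : ℤ) - 1) * s - (p : ℤ) * a : ℤ) : ℂ) =
        ((2 * (p : ℤ) * (r' : ℤ) : ℤ) : ℂ) := by
      push_cast at hr' ⊢
      linear_combination hr'
    rw [Int.cast_inj] at h
    rw [h]; positivity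

/-- The class equation for `e = p - 1`. -/
theorem full_self (hna : ¬ IsMulCommutative G) (hM : IsPModular p M) (hodd : p ≠ 2) (P : Sylow p G)
    (hP : Nat.card P = p)
    (hC : Nat.card (Subgroup.centralizer ((P : Subgroup G) : Set G)) = p)
    (he : (Subgroup.centralizer ((P : Subgroup G) : Set G)).relIndex
      (Subgroup.normalizer ((P : Subgroup G) : Set G)) = p - 1) :
    ∃ (Z : Finset (IrrCharacter G)) (s a : IrrCharacter G → ℤ) (c : ℕ),
      Z.card + 1 = p ∧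
      (∀ χ ∈ Z, 2 ≤ charDegree (χ : G → ℂ) ∧ charDegree (χ : G → ℂ) ∣ Nat.card G ∧
        charDegree (χ : G → ℂ) * charDegree (χ : G → ℂ) < Nat.card G ∧
        (s χ = 1 ∨ s χ = -1) ∧ (charDegree (χ : G → ℂ) : ℤ) ≡ s χ [ZMOD p] ∧
        (4 : ℤ) ∣ (charDegree (χ : G → ℂ) : ℤ) - a χ ∧
        0 ≤ (charDegree (χ : G → ℂ) : ℤ) + ((p : ℤ) - 1) * s χ + (p : ℤ) * a χ ∧
        0 ≤ (charDegree (χ : G → ℂ) : ℤ) + ((p : ℤ) - 1) * s χ - (p : ℤ) * a χ) ∧
      1 + ∑ χ ∈ Z, s χ * (charDegree (χ : G → ℂ) : ℤ) = 0 ∧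
      1 + ∑ χ ∈ Z, s χ * a χ = 0 ∧
      1 + ∑ χ ∈ Z, charDegree (χ : G → ℂ) ^ 2 ≤ Nat.card G ∧
      1 + ∑ χ ∈ Z, a χ ^ 2 ≤ (c : ℤ) ∧
      (p : ℚ) * (c : ℚ) ^ 2 = (Nat.card G : ℚ) *
        (1 + ∑ χ ∈ Z, ((s χ * a χ ^ 2 : ℤ) : ℚ) / (charDegree (χ : G → ℂ) : ℚ)) := by
  classical
  have hp : p.Prime := Fact.out
  haveI := Fintype.ofFinite G
  obtain ⟨Z, s, hcard, hτZ, hB, hZ, hrel, hcol⟩ := full hna hM hodd P hP he
  obtain ⟨S, hSu⟩ := exists_self P hP hodd hC he (Nat.Prime.even_sub_one hp hodd).two_dvd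
  have hr1 : ¬ p ∣ orderOf (1 : G) := by rw [orderOf_one]; exact hp.not_dvd_one
  have hrt : ¬ p ∣ orderOf S.t := by
    rw [S.ht]; exact fun h => hodd ((Nat.prime_dvd_prime_iff_eq hp Nat.prime_two).1 h)
  choose A hA hA4 using fun χ : IrrCharacter G =>
    involution_value hna χ (x := S.t) (by rw [← S.ht]; exact pow_orderOf_eq_one _)
  have hval : ∀ χ ∈ Z, ∀ i : ℤ, S.u ^ i ≠ 1 → (χ : G → ℂ) (S.u ^ i) = (s χ : ℂ) := by
    intro χ hχ i hi
    have h := ((hZ χ hχ).2.2 (S.u ^ i) ((P : Subgroup G).zpow_mem hSu i) hi 1 (one_mem _) hr1).1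
    rwa [mul_one] at h
  have hsz : 1 + ∑ χ ∈ Z, charDegree (χ : G → ℂ) ^ 2 ≤ Nat.card G := by
    have h := hcol 1
    rw [centralizer_one_eq_top, Subgroup.card_top] at h
    simp only [normSq_one] at h
    exact_mod_cast h
  have hat : 1 + ∑ χ ∈ Z, A χ ^ 2 ≤ (Nat.card (Subgroup.centralizer ({S.t} : Set G)) : ℤ) := by
    have h := hcol S.t
    simp only [hA, Complex.normSq_intCast] at h
    have h' : ((1 + ∑ χ ∈ Z, A χ ^ 2 : ℤ) : ℝ) ≤
        (((Nat.card (Subgroup.centralizer ({S.t} : Set G)) : ℕ) : ℤ) : ℝ) := by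
      push_cast
      refine le_trans (le_of_eq ?_) h
      simp [sq]
    exact Int.cast_le.1 h'
  refine ⟨Z, s, A, Nat.card (Subgroup.centralizer ({S.t} : Set G)), hcard, fun χ hχ => ?_, ?_, ?_,
    hsz, hat, ?_⟩
  · obtain ⟨hs, hd, -⟩ := hZ χ hχ
    obtain ⟨h1, h2⟩ := inverted_bound S hodd χ (hval χ hχ) (hA χ)
    refine ⟨two_le_deg hna (fun h => hτZ (h ▸ hχ)), charDeg_dvd χ, ?_, hs, hd, hA4 χ, h1, h2⟩
    have h3 : charDegree (χ : G → ℂ) ^ 2 ≤ ∑ ξ ∈ Z, charDegree (ξ : G → ℂ) ^ 2 :=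
      Finset.single_le_sum (f := fun ξ : IrrCharacter G => charDegree (ξ : G → ℂ) ^ 2)
        (fun ξ _ => Nat.zero_le _) hχ
    rw [← sq]
    omega
  · have h := hrel 1 hr1
    simp only [charDeg_spec'] at h
    exact_mod_cast h
  · have h := hrel S.t hrt
    simp only [hA] at h
    exact_mod_cast h
  · have h := S.formula S.t
    rw [S.count hodd, ← Finset.sum_filter_add_sum_filter_not Finset.univ
      (fun ξ => ξ ∈ principalBlock M G),
      Finset.sum_eq_zero (s := Finset.univ.filter fun ξ => ξ ∉ principalBlock M G) (fun ξ hξ => by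
        rw [S.vanish hM ξ (Finset.mem_filter.1 hξ).2, map_zero, zero_mul, zero_mul, zero_div]),
      add_zero, show (Finset.univ.filter fun ξ => ξ ∈ principalBlock M G) =
        insert (trivialIrr G) Z by
          ext ξ; simp only [Finset.mem_filter, Finset.mem_univ, true_and, hB, Finset.mem_insert],
      Finset.sum_insert hτZ,
      Finset.sum_congr rfl (g := fun ξ : IrrCharacter G =>
        ((s ξ * A ξ ^ 2 : ℤ) : ℂ) / (charDegree (ξ : G → ℂ) : ℂ)) fun ξ hξ => by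
          rw [show (ξ : G → ℂ) S.u = (s ξ : ℂ) by
              simpa using hval ξ hξ 1 (by simpa using S.u_ne),
            map_intCast, hA, charDeg_spec']
          push_cast; ring] at h
    simp only [trivialIrr, map_one, mul_one, div_one] at h
    apply Rat.cast_injective (α := ℂ)
    push_cast
    rw [Nat.cast_pow] at h
    push_cast at h
    exact h

end Cfsg.Agent.Block.OrdP
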