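import Mathlib
import Cfsg.Prelude.Def_Perm
import Cfsg.Prelude.Def_Characters
import Cfsg.Agent.Lib.Char.Schur
import Cfsg.Agent.Lib.Char.Constituent
import Cfsg.Agent.Lib.Char.Complete
import Cfsg.Agent.S0668

/-!
Permutation characters and the centraliser ring of a permutation representation.
-/

set_option autoImplicit false

namespace Cfsg.Agent.Block.PermChar

open scoped ComplexConjugate
open Module Cfsg Matrix

universe u v

variable (G : Type u) [Group G] (Ω : Type v) [Fintype Ω] [MulAction G Ω]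

/-- The permutation character. -/
noncomputable def piFun : G → ℂ := fun g => (Nat.card (MulAction.fixedBy Ω g) : ℂ)

/-- The multiplicity of a class function in the permutation character. -/
noncomputable def mult [Fintype G] (χ : G → ℂ) : ℂ := classInner (piFun G Ω) χ

variable [DecidableEq Ω]

/-- The permutation matrices. -/
def pmat : G →* Matrix Ω Ω ℂ where
  toFun g := Matrix.of fun x y => if g • y = x then 1 else 0
  map_one' := by
    ext x y
    simp [Matrix.one_apply, eq_comm]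
  map_mul' g h := by
    ext x y
    simp [Matrix.mul_apply, mul_smul]

theorem pmat_apply (g : G) (x y : Ω) : pmat G Ω g x y = if g • y = x then 1 else 0 := rfl

/-- A matrix invariant under the group. -/
def Inv (M : Matrix Ω Ω ℂ) : Prop := ∀ (g : G) (x y : Ω), M (g • x) (g • y) = M x y

variable {G Ω}

theorem toMatrix_permRep (g : G) : LinearMap.toMatrix' (permRep ℂ G Ω g) = pmat G Ω g := by
  ext x y
  rw [LinearMap.toMatrix'_apply]
  show Pi.single (M := fun _ : Ω => ℂ) y 1 (g⁻¹ • x) = _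
  rw [pmat_apply, Pi.single_apply]
  refine if_congr ⟨fun h => ?_, fun h => ?_⟩ rfl rfl
  · rw [← h, smul_inv_smul]
  · rw [← h, inv_smul_smul]

theorem inv_iff_commute (M : Matrix Ω Ω ℂ) : Inv G Ω M ↔ ∀ g : G, pmat G Ω g * M = M * pmat G Ω g := by
  have hl : ∀ g x y, (pmat G Ω g * M) x y = M (g⁻¹ • x) y := by
    intro g x y
    simp [Matrix.mul_apply, pmat_apply, ← eq_inv_smul_iff]
  have hr : ∀ g x y, (M * pmat G Ω g) x y = M x (g • y) := by
    intro g x y
    simp [Matrix.mul_apply, pmat_apply]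
  constructor
  · intro h g
    ext x y
    rw [hl, hr, ← h g (g⁻¹ • x) y, smul_inv_smul]
  · intro h g x y
    have := congrFun (congrFun (h g) (g • x)) y
    rw [hl, hr, inv_smul_smul] at this
    exact this.symm

theorem Inv.mul {M N : Matrix Ω Ω ℂ} (hM : Inv G Ω M) (hN : Inv G Ω N) : Inv G Ω (M * N) := by
  rw [inv_iff_commute] at *
  intro g
  rw [← Matrix.mul_assoc, hM g, Matrix.mul_assoc, hN g, Matrix.mul_assoc]

theorem trace_pmat (g : G) : (pmat G Ω g).trace = piFun G Ω g := by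
  simp only [Matrix.trace, Matrix.diag, pmat_apply, piFun]
  rw [Finset.sum_boole, Nat.card_eq_fintype_card, Fintype.card_of_finset' ]
  intro x
  simp

theorem permRep_character : (permRep ℂ G Ω).character = piFun G Ω := by
  funext g
  rw [Representation.character, LinearMap.trace_eq_matrix_trace ℂ (Pi.basisFun ℂ Ω),
    LinearMap.toMatrix_eq_toMatrix', toMatrix_permRep, trace_pmat]

variable [Fintype G]

theorem isCharacter_piFun : IsCharacter G (piFun G Ω) :=
  permRep_character (G := G) (Ω := Ω) ▸ Cfsg.Agent.Char.isCharacter_character _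

theorem exists_mult (χ : IrrCharacter G) : ∃ a : ℕ, mult G Ω (χ : G → ℂ) = a :=
  Cfsg.Agent.Char.IsChar.classInner_nat isCharacter_piFun (Cfsg.Agent.Char.IsIrr.isCharacter χ.2)

theorem piFun_decomp :
    piFun G Ω = ∑ χ : IrrCharacter G, mult G Ω (χ : G → ℂ) • (χ : G → ℂ) := by
  obtain ⟨a, ha⟩ := Cfsg.Agent.Char.IsChar.exists_decomp (isCharacter_piFun (G := G) (Ω := Ω))
  conv_lhs => rw [ha]
  refine Finset.sum_congr rfl fun χ _ => ?_
  rw [mult, ha, Cfsg.Agent.Char.classInner_sum_irr]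

/-- The norm of the permutation character is the number of orbitals. -/
theorem norm_piFun :
    classInner (piFun G Ω) (piFun G Ω) = (Nat.card (MulAction.orbitRel.Quotient G (Ω × Ω)) : ℂ) := by
  rw [← permRep_character, Cfsg.Agent.Char.classInner_character,
    ← (Representation.invariantsEquivIntertwiningMap (permRep ℂ G Ω) (permRep ℂ G Ω)).finrank_eq,
    Cfsg.Agent.S0668.result]

theorem sum_mult_sq :
    ∑ χ : IrrCharacter G, mult G Ω (χ : G → ℂ) * conj (mult G Ω (χ : G → ℂ)) =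
      (Nat.card (MulAction.orbitRel.Quotient G (Ω × Ω)) : ℂ) := by
  rw [← norm_piFun, ← Cfsg.Agent.Char.classInner_sum_sum, ← piFun_decomp]

variable (G Ω)

/-- The centraliser ring as a space of matrices. -/
noncomputable def invSpace : Submodule ℂ (Matrix Ω Ω ℂ) :=
  ((permRep ℂ G Ω).linHom (permRep ℂ G Ω)).invariants.map
    (LinearMap.toMatrix' : ((Ω → ℂ) →ₗ[ℂ] (Ω → ℂ)) ≃ₗ[ℂ] Matrix Ω Ω ℂ).toLinearMap

variable {G Ω}

omit [Fintype G] in
theorem mem_linHom_invariants_iff (S : (Ω → ℂ) →ₗ[ℂ] (Ω → ℂ)) :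
    S ∈ ((permRep ℂ G Ω).linHom (permRep ℂ G Ω)).invariants ↔ Inv G Ω (LinearMap.toMatrix' S) := by
  rw [inv_iff_commute]
  constructor
  · intro h g
    have h1 := h g
    rw [Representation.linHom_apply] at h1
    rw [← toMatrix_permRep, ← LinearMap.toMatrix'_comp, ← LinearMap.toMatrix'_comp]
    congr 1
    conv_rhs => rw [← h1]
    rw [LinearMap.comp_assoc, LinearMap.comp_assoc, ← Module.End.mul_eq_comp (permRep ℂ G Ω g⁻¹),
      ← map_mul, inv_mul_cancel, map_one, Module.End.one_eq_id, LinearMap.comp_id]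
  · intro h g
    rw [Representation.linHom_apply]
    apply LinearMap.toMatrix'.injective
    rw [LinearMap.toMatrix'_comp, LinearMap.toMatrix'_comp, toMatrix_permRep, toMatrix_permRep,
      ← Matrix.mul_assoc, h g, Matrix.mul_assoc, ← map_mul, mul_inv_cancel, map_one, Matrix.mul_one]

omit [Fintype G] in
theorem mem_invSpace (M : Matrix Ω Ω ℂ) : M ∈ invSpace G Ω ↔ Inv G Ω M := by
  rw [invSpace, Submodule.mem_map]
  constructor
  · rintro ⟨S, hS, rfl⟩
    exact (mem_linHom_invariants_iff S).1 hS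
  · intro h
    exact ⟨Matrix.toLin' M, (mem_linHom_invariants_iff _).2 (by rwa [LinearMap.toMatrix'_toLin']),
      LinearMap.toMatrix'_toLin' M⟩

omit [Fintype G] in
theorem finrank_invSpace :
    finrank ℂ (invSpace G Ω) = Nat.card (MulAction.orbitRel.Quotient G (Ω × Ω)) := by
  rw [invSpace, LinearEquiv.finrank_map_eq]
  exact Cfsg.Agent.S0668.result

variable (G Ω)

/-- The projection belonging to a class function. -/
noncomputable def proj (χ : G → ℂ) : Matrix Ω Ω ℂ :=
  (χ 1 / (Nat.card G : ℂ)) • ∑ g : G, conj (χ g) • pmat G Ω g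

variable {G Ω}

theorem proj_inv (χ : IrrCharacter G) : Inv G Ω (proj G Ω (χ : G → ℂ)) := by
  rw [inv_iff_commute]
  intro x
  rw [proj, Matrix.mul_smul, Matrix.smul_mul, Finset.mul_sum, Finset.sum_mul]
  congr 1
  refine Fintype.sum_equiv (MulAut.conj x).toEquiv _ _ fun g => ?_
  rw [Matrix.mul_smul, Matrix.smul_mul, ← map_mul, ← map_mul]
  show conj ((χ : G → ℂ) g) • _ = conj ((χ : G → ℂ) (x * g * x⁻¹)) • _
  rw [Cfsg.Agent.Char.IsIrr.classFun χ.2 g x]
  congr 2
  show x * g = x * g * x⁻¹ * x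
  group

theorem proj_mul (χ ψ : IrrCharacter G) [Decidable (χ = ψ)] :
    proj G Ω (χ : G → ℂ) * proj G Ω (ψ : G → ℂ) = if χ = ψ then proj G Ω (χ : G → ℂ) else 0 := by
  classical
  have hG : (Nat.card G : ℂ) ≠ 0 := Nat.cast_ne_zero.mpr Nat.card_pos.ne'
  have key : ∀ z : G, ∑ g : G, conj ((χ : G → ℂ) g) * conj ((ψ : G → ℂ) (g⁻¹ * z)) =
      if χ = ψ then (Nat.card G : ℂ) * conj ((χ : G → ℂ) z) / conj ((χ : G → ℂ) 1) else 0 := by
    intro z
    have h1 := Cfsg.Agent.Char.sum_classFun_mul_apply ψ.2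
      (Cfsg.Agent.Char.IsIrr.classFun (Cfsg.Agent.Char.IsIrr.conj χ.2)) z
    have h2 : ∑ g : G, conj ((χ : G → ℂ) g) * (ψ : G → ℂ) g =
        if χ = ψ then (Nat.card G : ℂ) else 0 := by
      have h := Cfsg.Agent.Char.classInner_irr_eq_ite ψ.2 χ.2
      rw [classInner, inv_mul_eq_iff_eq_mul₀ hG] at h
      rw [Finset.sum_congr rfl (fun g _ => mul_comm (conj ((χ : G → ℂ) g)) ((ψ : G → ℂ) g)), h]
      by_cases e : χ = ψ
      · rw [if_pos e, if_pos (congrArg Subtype.val e).symm, mul_one]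
      · rw [if_neg e, if_neg (fun h' => e (Subtype.ext h'.symm)), mul_zero]
    have h3 : ∑ g : G, conj ((χ : G → ℂ) g) * conj ((ψ : G → ℂ) (g⁻¹ * z)) =
        conj (∑ g : G, conj ((χ : G → ℂ) g) * (ψ : G → ℂ) (g * z)) := by
      rw [map_sum]
      refine Fintype.sum_equiv (Equiv.inv G) _ _ fun g => ?_
      rw [map_mul, Complex.conj_conj, Equiv.inv_apply, Cfsg.Agent.Char.IsIrr.apply_inv χ.2]
    rw [h3, h1, h2]
    by_cases e : χ = ψ
    · subst e
      simp only [if_true, map_mul, map_div₀, Complex.conj_natCast]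
      ring
    · simp [if_neg e]
  have hprod : (∑ g : G, conj ((χ : G → ℂ) g) • pmat G Ω g) * (∑ h : G, conj ((ψ : G → ℂ) h) • pmat G Ω h) =
      ∑ z : G, (∑ g : G, conj ((χ : G → ℂ) g) * conj ((ψ : G → ℂ) (g⁻¹ * z))) • pmat G Ω z := by
    rw [Finset.sum_mul_sum]
    simp only [Finset.sum_smul]
    rw [Finset.sum_comm (s := (Finset.univ : Finset G)) (γ := G)
      (f := fun z g => (conj ((χ : G → ℂ) g) * conj ((ψ : G → ℂ) (g⁻¹ * z))) • pmat G Ω z)]
    refine Finset.sum_congr rfl fun g _ => ?_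
    refine Fintype.sum_equiv (Equiv.mulLeft g) _ _ fun h => ?_
    rw [Matrix.smul_mul, Matrix.mul_smul, smul_smul, ← (pmat G Ω).map_mul, Equiv.coe_mulLeft, inv_mul_cancel_left]
  rw [proj, proj, Matrix.smul_mul, Matrix.mul_smul, smul_smul, hprod, Finset.sum_congr rfl (fun z _ => by rw [key z])]
  by_cases e : χ = ψ
  · subst e
    simp only [if_true]
    obtain ⟨d, hd, hd'⟩ := Cfsg.Agent.Char.IsIrr.one_eq_pos χ.2
    have hd0 : (d : ℂ) ≠ 0 := Nat.cast_ne_zero.mpr hd.ne'
    rw [hd', Complex.conj_natCast, Finset.smul_sum, Finset.smul_sum]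
    refine Finset.sum_congr rfl fun z _ => ?_
    rw [smul_smul, smul_smul]
    congr 1
    field_simp
  · simp [if_neg e]

theorem trace_proj (χ : IrrCharacter G) :
    (proj G Ω (χ : G → ℂ)).trace = (χ : G → ℂ) 1 * mult G Ω (χ : G → ℂ) := by
  rw [proj, Matrix.trace_smul, Matrix.trace_sum, mult, classInner, smul_eq_mul]
  simp only [Matrix.trace_smul, trace_pmat, smul_eq_mul]
  rw [Finset.sum_congr rfl (fun g _ => mul_comm (conj ((χ : G → ℂ) g)) (piFun G Ω g))]
  ring

theorem proj_ne_zero {χ : IrrCharacter G} (h : mult G Ω (χ : G → ℂ) ≠ 0) : proj G Ω (χ : G → ℂ) ≠ 0 := by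
  intro e
  have := trace_proj (Ω := Ω) χ
  rw [e, Matrix.trace_zero] at this
  exact h ((mul_eq_zero.1 this.symm).resolve_left (Cfsg.Agent.Char.IsIrr.one_ne_zero χ.2))

omit [Fintype G] in
theorem pmat_transpose (g : G) : (pmat G Ω g)ᵀ = pmat G Ω g⁻¹ := by
  ext x y
  rw [Matrix.transpose_apply, pmat_apply, pmat_apply]
  refine if_congr ⟨fun h => ?_, fun h => ?_⟩ rfl rfl
  · rw [← h, inv_smul_smul]
  · rw [← h, smul_inv_smul]

theorem proj_transpose (χ : IrrCharacter G) :
    (proj G Ω (χ : G → ℂ))ᵀ = proj G Ω (fun g => conj ((χ : G → ℂ) g)) := by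
  obtain ⟨d, -, hd'⟩ := Cfsg.Agent.Char.IsIrr.one_eq_pos χ.2
  rw [proj, proj, Matrix.transpose_smul, Matrix.transpose_sum]
  simp only [hd', Complex.conj_natCast, Matrix.transpose_smul, pmat_transpose]
  congr 1
  refine Fintype.sum_equiv (Equiv.inv G) _ _ fun g => ?_
  rw [Equiv.inv_apply, Cfsg.Agent.Char.IsIrr.apply_inv χ.2]
  simp

/-- For a multiplicity free permutation character the projections span the centraliser ring. -/
theorem inv_mem_span (hfree : ∀ χ : IrrCharacter G, mult G Ω (χ : G → ℂ) = 0 ∨ mult G Ω (χ : G → ℂ) = 1)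
    {M : Matrix Ω Ω ℂ} (hM : Inv G Ω M) :
    M ∈ Submodule.span ℂ (Set.range fun χ : {χ : IrrCharacter G // mult G Ω (χ : G → ℂ) ≠ 0} =>
      proj G Ω (χ.1 : G → ℂ)) := by
  classical
  set b := fun χ : {χ : IrrCharacter G // mult G Ω (χ : G → ℂ) ≠ 0} => proj G Ω (χ.1 : G → ℂ)
  have hli : LinearIndependent ℂ b := by
    rw [linearIndependent_iff']
    intro s c hc χ hχ
    have h := congrArg (fun X => proj G Ω (χ.1 : G → ℂ) * X) hc
    simp only [b, Finset.mul_sum, Matrix.mul_smul, Matrix.mul_zero] at h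
    rw [Finset.sum_eq_single χ (fun ψ _ hne => by
      rw [proj_mul, if_neg (fun e => hne (Subtype.ext e.symm)), smul_zero]) (fun h' => absurd hχ h'),
      proj_mul, if_pos rfl] at h
    exact (smul_eq_zero.1 h).resolve_right (proj_ne_zero χ.2)
  have hle : Submodule.span ℂ (Set.range b) ≤ invSpace G Ω := by
    rw [Submodule.span_le]
    rintro _ ⟨χ, rfl⟩
    exact (mem_invSpace _).2 (proj_inv χ.1)
  have hcard : finrank ℂ (invSpace G Ω) = finrank ℂ (Submodule.span ℂ (Set.range b)) := by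
    rw [finrank_invSpace, finrank_span_eq_card hli]
    have h1 := sum_mult_sq (G := G) (Ω := Ω)
    rw [Finset.sum_congr rfl (fun (χ : IrrCharacter G) _ => show mult G Ω (χ : G → ℂ) * conj (mult G Ω (χ : G → ℂ)) =
      if mult G Ω (χ : G → ℂ) ≠ 0 then 1 else 0 by rcases hfree χ with e | e <;> simp [e]),
      Finset.sum_boole] at h1
    rw [Fintype.card_subtype]
    exact (Nat.cast_injective h1).symm
  rw [Submodule.eq_of_le_of_finrank_eq hle hcard.symm]
  exact (mem_invSpace M).2 hM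

theorem comm_of_free (hfree : ∀ χ : IrrCharacter G, mult G Ω (χ : G → ℂ) = 0 ∨ mult G Ω (χ : G → ℂ) = 1)
    {M N : Matrix Ω Ω ℂ} (hM : Inv G Ω M) (hN : Inv G Ω N) : M * N = N * M := by
  classical
  have h1 := inv_mem_span hfree hM
  have h2 := inv_mem_span hfree hN
  clear hM hN
  induction h1 using Submodule.span_induction with
  | mem x hx =>
    obtain ⟨χ, rfl⟩ := hx
    induction h2 using Submodule.span_induction with
    | mem y hy =>
      obtain ⟨ψ, rfl⟩ := hy
      show proj G Ω (χ.1 : G → ℂ) * proj G Ω (ψ.1 : G → ℂ) = proj G Ω (ψ.1 : G → ℂ) * proj G Ω (χ.1 : G → ℂ)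
      rw [proj_mul, proj_mul]
      by_cases e : χ.1 = ψ.1
      · rw [if_pos e, if_pos e.symm, e]
      · rw [if_neg e, if_neg (Ne.symm e)]
    | zero => simp
    | add a b _ _ ha hb => rw [Matrix.mul_add, Matrix.add_mul, ha, hb]
    | smul r a _ ha => rw [Matrix.mul_smul, Matrix.smul_mul, ha]
  | zero => simp
  | add a b _ _ ha hb => rw [Matrix.add_mul, Matrix.mul_add, ha, hb]
  | smul r a _ ha => rw [Matrix.smul_mul, Matrix.mul_smul, ha]

theorem symm_of_free_real (hfree : ∀ χ : IrrCharacter G, mult G Ω (χ : G → ℂ) = 0 ∨ mult G Ω (χ : G → ℂ) = 1)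
    (hreal : ∀ χ : IrrCharacter G, mult G Ω (χ : G → ℂ) ≠ 0 → ∀ g, conj ((χ : G → ℂ) g) = (χ : G → ℂ) g)
    {M : Matrix Ω Ω ℂ} (hM : Inv G Ω M) : Mᵀ = M := by
  have h1 := inv_mem_span hfree hM
  clear hM
  induction h1 using Submodule.span_induction with
  | mem x hx =>
    obtain ⟨χ, rfl⟩ := hx
    show (proj G Ω (χ.1 : G → ℂ))ᵀ = proj G Ω (χ.1 : G → ℂ)
    rw [proj_transpose, show (fun g => conj ((χ.1 : G → ℂ) g)) = (χ.1 : G → ℂ) from funext (hreal χ.1 χ.2)]
  | zero => simp
  | add a b _ _ ha hb => rw [Matrix.transpose_add, ha, hb]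
  | smul r a _ ha => rw [Matrix.transpose_smul, ha]

/-- A commutative centraliser ring forces a multiplicity free character. -/
theorem free_of_comm (hcomm : ∀ M N : Matrix Ω Ω ℂ, Inv G Ω M → Inv G Ω N → M * N = N * M)
    (χ : IrrCharacter G) : mult G Ω (χ : G → ℂ) = 0 ∨ mult G Ω (χ : G → ℂ) = 1 := by
  classical
  obtain ⟨a, ha⟩ := exists_mult (Ω := Ω) χ
  rw [ha]
  by_contra hcon
  push Not at hcon
  have ha2 : 2 ≤ a := by
    have h0 : a ≠ 0 := fun e => hcon.1 (by rw [e, Nat.cast_zero])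
    have h1 : a ≠ 1 := fun e => hcon.2 (by rw [e, Nat.cast_one])
    omega
  obtain ⟨n, σ, hσ, hσc⟩ := χ.2
  set ρ := permRep ℂ G Ω
  have hdim : finrank ℂ (Representation.IntertwiningMap σ ρ) = a := by
    have := Cfsg.Agent.Char.classInner_character ρ σ
    rw [permRep_character, hσc] at this
    exact Nat.cast_injective (this.symm.trans ha)
  haveI : NeZero (Nat.card G : ℂ) := ⟨Nat.cast_ne_zero.mpr Nat.card_pos.ne'⟩
  -- two independent embeddings
  obtain ⟨f₁, f₂, hind⟩ : ∃ f₁ f₂ : Representation.IntertwiningMap σ ρ, f₁ ≠ 0 ∧ ∀ c : ℂ, f₂ ≠ c • f₁ := by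
    haveI : Nontrivial (Representation.IntertwiningMap σ ρ) :=
      Module.nontrivial_of_finrank_pos (R := ℂ) (by omega)
    obtain ⟨f₁, hf₁⟩ := exists_ne (0 : Representation.IntertwiningMap σ ρ)
    by_contra h
    push Not at h
    have := finrank_le_one f₁ (fun f => by
      obtain ⟨c, hc⟩ := h f₁ f hf₁
      exact ⟨c, hc.symm⟩)
    omega
  -- a left inverse of a non-zero embedding
  have hleft : ∀ f : Representation.IntertwiningMap σ ρ, f ≠ 0 →
      ∃ q : (Ω → ℂ) →ₗ[ℂ] (Fin n → ℂ), (∀ g, q ∘ₗ ρ g = σ g ∘ₗ q) ∧ q ∘ₗ f.toLinearMap = LinearMap.id := by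
    intro f hf
    have hcom : ∀ g v, f.toLinearMap (σ g v) = ρ g (f.toLinearMap v) :=
      fun g v => LinearMap.congr_fun (f.isIntertwining' g) v
    let R : Subrepresentation ρ :=
      { toSubmodule := LinearMap.range f.toLinearMap
        apply_mem_toSubmodule := fun g v hv => by
          obtain ⟨w, rfl⟩ := LinearMap.mem_range.1 hv
          exact ⟨σ g w, hcom g w⟩ }
    have hinj : LinearMap.ker f.toLinearMap = ⊥ := by
      let K : Subrepresentation σ :=
        { toSubmodule := LinearMap.ker f.toLinearMap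
          apply_mem_toSubmodule := fun g v hv => by
            rw [LinearMap.mem_ker] at hv ⊢
            rw [hcom, hv, map_zero] }
      rcases IsSimpleOrder.eq_bot_or_eq_top K with h | h
      · exact congrArg Subrepresentation.toSubmodule h
      · exfalso
        apply hf
        apply Representation.IntertwiningMap.ext_iff.mpr
        have hk : LinearMap.ker f.toLinearMap = ⊤ := congrArg Subrepresentation.toSubmodule h
        exact LinearMap.ker_eq_top.1 hk
    obtain ⟨T, hT⟩ := exists_isCompl R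
    have hcompl : IsCompl (LinearMap.range f.toLinearMap) T.toSubmodule :=
      ⟨disjoint_iff.mpr (congrArg Subrepresentation.toSubmodule hT.inf_eq_bot),
        codisjoint_iff.mpr (congrArg Subrepresentation.toSubmodule hT.sup_eq_top)⟩
    let e := LinearEquiv.ofInjective f.toLinearMap (LinearMap.ker_eq_bot.1 hinj)
    let q : (Ω → ℂ) →ₗ[ℂ] (Fin n → ℂ) :=
      e.symm.toLinearMap ∘ₗ Submodule.projectionOnto _ _ hcompl
    have hqf : ∀ w, q (f.toLinearMap w) = w := by
      intro w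
      show e.symm (Submodule.projectionOnto _ _ hcompl ((e w : Ω → ℂ))) = w
      rw [Submodule.projectionOnto_apply_left, LinearEquiv.symm_apply_apply]
    have hqT : ∀ v ∈ T.toSubmodule, q v = 0 := by
      intro v hv
      show e.symm (Submodule.projectionOnto _ _ hcompl v) = 0
      rw [(Submodule.projectionOnto_apply_eq_zero_iff hcompl).2 hv, map_zero]
    refine ⟨q, fun g => LinearMap.ext fun v => ?_, LinearMap.ext hqf⟩
    obtain ⟨x, hx, y, hy, rfl⟩ := Submodule.mem_sup.1
      (show v ∈ LinearMap.range f.toLinearMap ⊔ T.toSubmodule by rw [hcompl.sup_eq_top]; trivial)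
    obtain ⟨w, rfl⟩ := LinearMap.mem_range.1 hx
    show q (ρ g (f.toLinearMap w + y)) = σ g (q (f.toLinearMap w + y))
    rw [map_add, map_add, ← hcom, hqf, hqT _ (T.apply_mem_toSubmodule g hy), map_add, hqf, hqT y hy, add_zero, add_zero]
  obtain ⟨q, hq, hqf⟩ := hleft f₁ hind.1
  have hc₁ : ∀ g, f₁.toLinearMap ∘ₗ σ g = ρ g ∘ₗ f₁.toLinearMap := f₁.isIntertwining'
  have hc₂ : ∀ g, f₂.toLinearMap ∘ₗ σ g = ρ g ∘ₗ f₂.toLinearMap := f₂.isIntertwining'
  obtain ⟨c, hc⟩ := Cfsg.Agent.Char.schur_scalar σ (q ∘ₗ f₂.toLinearMap) (fun g => by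
    rw [LinearMap.comp_assoc, hc₂ g, ← LinearMap.comp_assoc, hq g, LinearMap.comp_assoc])
  set h₂ := f₂.toLinearMap - c • f₁.toLinearMap with hh
  have hh0 : h₂ ≠ 0 := by
    intro e
    refine hind.2 c (Representation.IntertwiningMap.ext_iff.mpr ?_)
    exact sub_eq_zero.1 e
  have hqh : q ∘ₗ h₂ = 0 := by
    rw [hh, LinearMap.comp_sub, LinearMap.comp_smul, hqf, hc, sub_self]
  have hmem : ∀ f : (Fin n → ℂ) →ₗ[ℂ] (Ω → ℂ), (∀ g, f ∘ₗ σ g = ρ g ∘ₗ f) →
      Inv G Ω (LinearMap.toMatrix' (f ∘ₗ q)) := by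
    intro f hf
    rw [inv_iff_commute]
    intro g
    rw [← toMatrix_permRep, ← LinearMap.toMatrix'_comp, ← LinearMap.toMatrix'_comp]
    congr 1
    rw [← LinearMap.comp_assoc, ← hf g, LinearMap.comp_assoc, ← hq g, LinearMap.comp_assoc]
  have h2c : ∀ g, h₂ ∘ₗ σ g = ρ g ∘ₗ h₂ := by
    intro g
    rw [hh, LinearMap.sub_comp, LinearMap.smul_comp, LinearMap.comp_sub, LinearMap.comp_smul, hc₁, hc₂]
  have h := hcomm _ _ (hmem _ hc₁) (hmem _ h2c)
  rw [← LinearMap.toMatrix'_comp, ← LinearMap.toMatrix'_comp] at h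
  have h' := LinearMap.toMatrix'.injective h
  apply hh0
  refine LinearMap.ext fun w => ?_
  have := LinearMap.congr_fun h' (f₁.toLinearMap w)
  simp only [LinearMap.comp_apply] at this
  rw [show q (f₁.toLinearMap w) = w from LinearMap.congr_fun hqf w,
    show q (h₂ w) = 0 from LinearMap.congr_fun hqh w, map_zero] at this
  have hw : q (f₁.toLinearMap w) = w := LinearMap.congr_fun hqf w
  rw [hw] at this
  exact this.symm

/-- If all invariant matrices are symmetric then the constituents are real. -/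
theorem real_of_symm (hsymm : ∀ M : Matrix Ω Ω ℂ, Inv G Ω M → Mᵀ = M)
    {χ : IrrCharacter G} (hχ : mult G Ω (χ : G → ℂ) ≠ 0) (g : G) :
    conj ((χ : G → ℂ) g) = (χ : G → ℂ) g := by
  classical
  by_contra hne
  let χ' : IrrCharacter G := ⟨fun x => conj ((χ : G → ℂ) x), Cfsg.Agent.Char.IsIrr.conj χ.2⟩
  have hne' : χ ≠ χ' := fun e => hne (congrFun (congrArg Subtype.val e) g).symm
  apply proj_ne_zero (Ω := Ω) hχ
  have h1 : proj G Ω (χ' : G → ℂ) = proj G Ω (χ : G → ℂ) := by
    rw [← proj_transpose χ]; exact hsymm _ (proj_inv χ)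
  have h2 := proj_mul (Ω := Ω) χ χ'
  rw [if_neg hne', h1, proj_mul, if_pos rfl] at h2
  exact h2

end Cfsg.Agent.Block.PermChar
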