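import Mathlib
import Cfsg.Agent.Lib.Block.PermChar

/-!
Common divisors of the degrees of constituents divide the subdegrees (Frame, Wielandt).
-/

set_option autoImplicit false

namespace Cfsg.Agent.Block.PermChar

open scoped ComplexConjugate
open Module Cfsg Matrix

universe u v

variable {G : Type u} [Group G] [Fintype G] {Ω : Type v} [Fintype Ω] [MulAction G Ω]

/-- The trivial character. -/
noncomputable def one₀ (G : Type u) [Group G] : IrrCharacter G :=
  ⟨fun _ => 1, Cfsg.Agent.Char.isIrr_one⟩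

theorem mult_one [MulAction.IsPretransitive G Ω] [Nonempty Ω] : mult G Ω (one₀ G : G → ℂ) = 1 := by
  classical
  have h := MulAction.sum_card_fixedBy_eq_card_orbits_mul_card_group G Ω
  have hq : Fintype.card (Quotient (MulAction.orbitRel G Ω)) = 1 := by
    rw [Fintype.card_eq_one_iff]
    obtain ⟨a⟩ := ‹Nonempty Ω›
    refine ⟨Quotient.mk'' a, fun y => ?_⟩
    induction y using Quotient.inductionOn' with
    | h x => exact Quotient.sound' (MulAction.exists_smul_eq G a x)
  rw [hq, one_mul] at h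
  have hG : (Nat.card G : ℂ) ≠ 0 := Nat.cast_ne_zero.mpr Nat.card_pos.ne'
  show (Nat.card G : ℂ)⁻¹ * ∑ g : G, piFun G Ω g * conj (1 : ℂ) = 1
  simp only [map_one, mul_one, piFun, Nat.card_eq_fintype_card (α := MulAction.fixedBy Ω _)]
  rw [← Nat.cast_sum, h, ← Nat.card_eq_fintype_card, inv_mul_cancel₀ hG]

theorem sub_one_inner {V : Type v} [AddCommGroup V] [Module ℂ V] [FiniteDimensional ℂ V]
    (ρ : Representation ℂ G V) :
    classInner ρ.character (one₀ G : G → ℂ) = (finrank ℂ ρ.invariants : ℂ) := by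
  haveI : Invertible (Nat.card G : ℂ) :=
    invertibleOfNonzero (Nat.cast_ne_zero.mpr Nat.card_pos.ne')
  rw [← Representation.card_inv_mul_sum_char_eq_finrank]
  show (Nat.card G : ℂ)⁻¹ * ∑ g : G, ρ.character g * conj (1 : ℂ) = _
  simp

variable [DecidableEq Ω]

/-- The degree of a subrepresentation of the permutation representation. -/
theorem subrep_degree (R : Subrepresentation (permRep ℂ G Ω)) (f : ℕ)
    (hf : ∀ χ : IrrCharacter G, χ ≠ one₀ G → mult G Ω (χ : G → ℂ) ≠ 0 → ∃ m : ℕ, (χ : G → ℂ) 1 = (f : ℂ) * m) :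
    ∃ N : ℕ, finrank ℂ R.toSubmodule = finrank ℂ R.toRepresentation.invariants + f * N := by
  classical
  haveI : NeZero (Nat.card G : ℂ) := ⟨Nat.cast_ne_zero.mpr Nat.card_pos.ne'⟩
  obtain ⟨T, hT⟩ := exists_isCompl R
  have hcompl : IsCompl R.toSubmodule T.toSubmodule :=
    ⟨disjoint_iff.mpr (congrArg Subrepresentation.toSubmodule hT.inf_eq_bot),
      codisjoint_iff.mpr (congrArg Subrepresentation.toSubmodule hT.sup_eq_top)⟩
  have hsplit : piFun G Ω = R.toRepresentation.character + T.toRepresentation.character := by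
    rw [← permRep_character]
    exact funext fun g => Cfsg.Agent.Char.trace_eq_add_of_isCompl hcompl (permRep ℂ G Ω g)
      (fun _ hx => R.apply_mem_toSubmodule g hx) (fun _ hx => T.apply_mem_toSubmodule g hx)
  have hchR : IsCharacter G R.toRepresentation.character := Cfsg.Agent.Char.isCharacter_character _
  obtain ⟨b, hb⟩ := Cfsg.Agent.Char.IsChar.exists_decomp hchR
  have hb' : ∀ ψ : IrrCharacter G, classInner R.toRepresentation.character (ψ : G → ℂ) = b ψ := by
    intro ψ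
    rw [hb, Cfsg.Agent.Char.classInner_sum_irr]
  have hm : ∀ ψ : IrrCharacter G, ∃ m : ℕ, ψ ≠ one₀ G → (b ψ : ℂ) * (ψ : G → ℂ) 1 = (f : ℂ) * m := by
    intro ψ
    by_cases h : ψ = one₀ G ∨ b ψ = 0
    · exact ⟨0, fun hne => by rw [h.resolve_left hne]; simp⟩
    push Not at h
    obtain ⟨t, ht⟩ := Cfsg.Agent.Char.IsChar.classInner_nat
      (Cfsg.Agent.Char.isCharacter_character T.toRepresentation) (Cfsg.Agent.Char.IsIrr.isCharacter ψ.2)
    obtain ⟨m, hm⟩ := hf ψ h.1 (by
      rw [mult, hsplit, Cfsg.Agent.Char.classInner_add_left, hb', ht, ← Nat.cast_add, Nat.cast_ne_zero]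
      omega)
    exact ⟨b ψ * m, fun _ => by rw [hm, Nat.cast_mul]; ring⟩
  choose m hm using hm
  refine ⟨∑ ψ ∈ Finset.univ.erase (one₀ G), m ψ, ?_⟩
  have h1 := congrFun hb 1
  rw [Representation.char_one, Finset.sum_apply, ← Finset.add_sum_erase _ _ (Finset.mem_univ (one₀ G))] at h1
  have h0 : (b (one₀ G) : ℂ) = (finrank ℂ R.toRepresentation.invariants : ℂ) := by
    rw [← hb', sub_one_inner]
  apply Nat.cast_injective (R := ℂ)
  rw [Nat.cast_add, Nat.cast_mul, Nat.cast_sum, Finset.mul_sum, h1]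
  congr 1
  · rw [Pi.smul_apply, smul_eq_mul, h0]
    exact mul_one _
  · exact Finset.sum_congr rfl fun ψ hψ => by
      rw [Pi.smul_apply, smul_eq_mul, hm ψ (Finset.mem_erase.1 hψ).1]

/-- The subdegree divisibility. -/
theorem dvd_subdegree [MulAction.IsPretransitive G Ω] (f : ℕ)
    (hf : ∀ χ : IrrCharacter G, χ ≠ one₀ G → mult G Ω (χ : G → ℂ) ≠ 0 → ∃ m : ℕ, (χ : G → ℂ) 1 = (f : ℂ) * m)
    {a b : Ω} (hab : b ≠ a) : f ∣ Nat.card (MulAction.orbit (MulAction.stabilizer G a) b) := by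
  classical
  let A₀ : Matrix Ω Ω ℤ := Matrix.of fun x y => if ∃ g : G, g • a = x ∧ g • b = y then 1 else 0
  let A : Matrix Ω Ω ℂ := A₀.map (Int.castRingHom ℂ)
  have hA : ∀ x y, A x y = if ∃ g : G, g • a = x ∧ g • b = y then 1 else 0 := by
    intro x y
    show (Int.castRingHom ℂ) (A₀ x y) = _
    simp only [A₀, Matrix.of_apply]
    split_ifs <;> simp
  have hAinv : Inv G Ω A := by
    intro k x y
    rw [hA, hA]
    refine if_congr ⟨?_, ?_⟩ rfl rfl
    · rintro ⟨g, h1, h2⟩
      exact ⟨k⁻¹ * g, by rw [mul_smul, h1, inv_smul_smul], by rw [mul_smul, h2, inv_smul_smul]⟩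
    · rintro ⟨g, h1, h2⟩
      exact ⟨k * g, by rw [mul_smul, h1], by rw [mul_smul, h2]⟩
  set k := Nat.card (MulAction.orbit (MulAction.stabilizer G a) b) with hk
  have hrowa : ∑ y, A a y = (k : ℂ) := by
    rw [hk, Nat.card_eq_fintype_card, Fintype.card_subtype, ← Finset.sum_boole]
    refine Finset.sum_congr rfl fun y _ => ?_
    rw [hA]
    refine if_congr ⟨?_, ?_⟩ rfl rfl
    · rintro ⟨g, h1, h2⟩; exact ⟨⟨g, h1⟩, h2⟩
    · rintro ⟨⟨g, h1⟩, h2⟩; exact ⟨g, h1, h2⟩
  have hrow : ∀ x, ∑ y, A x y = (k : ℂ) := by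
    intro x
    obtain ⟨g, rfl⟩ := MulAction.exists_smul_eq G a x
    rw [← hrowa]
    exact (Fintype.sum_equiv (MulAction.toPerm g) _ _ fun y => (hAinv g a y).symm).symm
  have htr : A.trace = 0 := by
    refine Finset.sum_eq_zero fun x _ => ?_
    show A x x = 0
    rw [hA, if_neg]
    rintro ⟨g, h1, h2⟩
    exact hab (MulAction.injective g (h2.trans h1.symm))
  set T : Module.End ℂ (Ω → ℂ) := Matrix.toLin' A with hT
  have hcomm : ∀ g : G, Commute T (permRep ℂ G Ω g) := by
    intro g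
    show T ∘ₗ permRep ℂ G Ω g = permRep ℂ G Ω g ∘ₗ T
    apply LinearMap.toMatrix'.injective
    rw [LinearMap.toMatrix'_comp, LinearMap.toMatrix'_comp, hT, LinearMap.toMatrix'_toLin', toMatrix_permRep]
    exact ((inv_iff_commute A).1 hAinv g).symm
  let R : ℂ → Subrepresentation (permRep ℂ G Ω) := fun μ =>
    { toSubmodule := T.maxGenEigenspace μ
      apply_mem_toSubmodule := fun g v hv => Module.End.mapsTo_maxGenEigenspace_of_comm (hcomm g) μ hv }
  have hTone : T (fun _ => 1) = (k : ℂ) • (fun _ : Ω => (1 : ℂ)) := by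
    funext x
    simp only [hT, Matrix.toLin'_apply, Matrix.mulVec, dotProduct, mul_one, Pi.smul_apply, smul_eq_mul, hrow]
  haveI : Nonempty Ω := ⟨a⟩
  have honefix : ∀ μ (v : (R μ).toSubmodule), v ∈ (R μ).toRepresentation.invariants →
      ∃ c : ℂ, (v : Ω → ℂ) = c • (fun _ : Ω => (1 : ℂ)) := by
    intro μ v hv
    refine ⟨(v : Ω → ℂ) a, funext fun x => ?_⟩
    obtain ⟨g, rfl⟩ := MulAction.exists_smul_eq G a x
    have h1 : permRep ℂ G Ω g (v : Ω → ℂ) = (v : Ω → ℂ) := congrArg Subtype.val (hv g)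
    have h2 := congrFun h1 (g • a)
    have h3 : (v : Ω → ℂ) (g⁻¹ • g • a) = (v : Ω → ℂ) (g • a) := h2
    rw [inv_smul_smul] at h3
    rw [Pi.smul_apply, smul_eq_mul, mul_one, h3]
  have hone_mem : (fun _ : Ω => (1 : ℂ)) ∈ T.maxGenEigenspace (k : ℂ) := by
    rw [Module.End.mem_maxGenEigenspace]
    exact ⟨1, by rw [pow_one, LinearMap.sub_apply, LinearMap.smul_apply, Module.End.one_apply, hTone, sub_self]⟩
  have hinv : ∀ μ, finrank ℂ (R μ).toRepresentation.invariants = if μ = (k : ℂ) then 1 else 0 := by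
    intro μ
    by_cases h : μ = (k : ℂ)
    · subst h
      rw [if_pos rfl]
      refine finrank_eq_one
        (⟨⟨fun _ => 1, hone_mem⟩, fun g => Subtype.ext rfl⟩ : (R (k : ℂ)).toRepresentation.invariants) ?_ ?_
      · intro e
        have e' : (fun _ : Ω => (1 : ℂ)) = 0 := congrArg (fun z : (R (k : ℂ)).toRepresentation.invariants => ((z : (R (k : ℂ)).toSubmodule) : Ω → ℂ)) e
        exact one_ne_zero (congrFun e' a)
      · intro w
        obtain ⟨c, hc⟩ := honefix _ w.1 w.2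
        exact ⟨c, Subtype.ext (Subtype.ext hc.symm)⟩
    · rw [if_neg h, Submodule.finrank_eq_zero, Submodule.eq_bot_iff]
      intro v hv
      obtain ⟨c, hc⟩ := honefix μ v hv
      apply Subtype.ext
      have hmem : (v : Ω → ℂ) ∈ T.maxGenEigenspace (k : ℂ) := by
        rw [hc]; exact Submodule.smul_mem _ _ hone_mem
      have hd := (Module.End.disjoint_genEigenspace T h ⊤ ⊤)
      exact (Submodule.disjoint_def.1 hd) (v : Ω → ℂ) v.2 hmem
  have hdeg : ∀ μ, ∃ N : ℕ, A.charpoly.rootMultiplicity μ = (if μ = (k : ℂ) then 1 else 0) + f * N := by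
    intro μ
    obtain ⟨N, hN⟩ := subrep_degree (R μ) f hf
    refine ⟨N, ?_⟩
    rw [← hinv μ, ← hN, ← Matrix.charpoly_toLin' A]
    exact (LinearMap.finrank_maxGenEigenspace_eq T μ).symm
  choose N hN using hdeg
  have hne : A.charpoly ≠ 0 := (Matrix.charpoly_monic A).ne_zero
  have hint : ∀ μ ∈ A.charpoly.roots, IsIntegral ℤ μ := by
    intro μ hμ
    refine ⟨A₀.charpoly, Matrix.charpoly_monic A₀, ?_⟩
    rw [Polynomial.mem_roots hne, Polynomial.IsRoot.def, Matrix.charpoly_map, Polynomial.eval_map] at hμ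
    exact hμ
  have hkroot : (k : ℂ) ∈ A.charpoly.roots.toFinset := by
    rw [Multiset.mem_toFinset, ← Multiset.count_pos, Polynomial.count_roots, hN, if_pos rfl]
    omega
  have hsum : A.charpoly.roots.sum = (k : ℂ) + (f : ℂ) * ∑ μ ∈ A.charpoly.roots.toFinset, (N μ : ℂ) * μ := by
    rw [Finset.sum_multiset_count]
    simp only [Polynomial.count_roots, hN, nsmul_eq_mul, Nat.cast_add, Nat.cast_mul, add_mul,
      Finset.sum_add_distrib, Nat.cast_ite, Nat.cast_one, Nat.cast_zero, ite_mul, one_mul, zero_mul,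
      Finset.sum_ite_eq', hkroot, if_true, Finset.mul_sum, mul_assoc]
  rw [← Matrix.trace_eq_sum_roots_charpoly, htr] at hsum
  set z := ∑ μ ∈ A.charpoly.roots.toFinset, (N μ : ℂ) * μ with hz
  have hzint : IsIntegral ℤ z := IsIntegral.sum _ fun μ hμ =>
    (isIntegral_algebraMap (R := ℤ) (A := ℂ) (x := (N μ : ℤ))).mul (hint μ (Multiset.mem_toFinset.1 hμ)) |>
      (by simpa using ·)
  rcases Nat.eq_zero_or_pos f with h0 | h0
  · subst h0
    rw [Nat.cast_zero, zero_mul, add_zero] at hsum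
    exact ⟨0, by have : k = 0 := (Nat.cast_eq_zero (R := ℂ)).1 hsum.symm
                 rw [this]⟩
  · have hzq : z = ((-(k : ℚ) / (f : ℚ) : ℚ) : ℂ) := by
      have hf0 : (f : ℂ) ≠ 0 := Nat.cast_ne_zero.mpr h0.ne'
      push_cast
      rw [eq_div_iff hf0]
      linear_combination -hsum
    rw [hzq, show ((-(k : ℚ) / (f : ℚ) : ℚ) : ℂ) = algebraMap ℚ ℂ (-(k : ℚ) / (f : ℚ)) from rfl,
      isIntegral_algebraMap_iff (algebraMap ℚ ℂ).injective, IsIntegrallyClosed.isIntegral_iff] at hzint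
    obtain ⟨y, hy⟩ := hzint
    rw [eq_div_iff (Nat.cast_ne_zero.mpr h0.ne'), algebraMap_int_eq, eq_intCast] at hy
    have hy' : y * (f : ℤ) = -(k : ℤ) := by exact_mod_cast hy
    have : (f : ℤ) ∣ (k : ℤ) := ⟨-y, by linear_combination hy'⟩
    exact Int.natCast_dvd_natCast.1 this

end Cfsg.Agent.Block.PermChar
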