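import Mathlib
import Cfsg.Agent.Lib.Block.PermChar
import Cfsg.Agent.Lib.Block.Subdegree
import Cfsg.Agent.Lib.Block.KGV.Conjugates
import Cfsg.Agent.Lib.Char.Galois
import Cfsg.Agent.S4503
import Cfsg.Agent.S0669

/-!
The constituents of the permutation character of a primitive group of degree `2 p` with `p ^ 2` not
dividing the order.
-/

set_option autoImplicit false
set_option linter.unusedSectionVars false

namespace Cfsg.Agent.Block.TwoP

open scoped ComplexConjugate
open Cfsg Cfsg.Agent.Block.PermChar Cfsg.Agent.Char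

universe u v

variable {G : Type u} [Group G] [Fintype G] {Ω : Type v} [Fintype Ω] [DecidableEq Ω] [MulAction G Ω]

omit [Fintype G] in
theorem root_char_mem [Finite G] {χ : G → ℂ} (h : IsCharacter G χ) (g : G) :
    χ g ∈ KGV.cycSpan (Nat.card G) := by
  obtain ⟨n, ρ, rfl⟩ := h
  obtain ⟨b, c, -, hc, hk⟩ := exists_rep_eigenbasis ρ g
  have h1 := hk 1
  simp only [pow_one] at h1
  rw [h1]
  refine sum_mem fun i _ => KGV.root_mem_cycSpan Nat.card_pos ?_
  obtain ⟨m, hm⟩ := orderOf_dvd_natCard g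
  rw [hm, pow_mul, hc, one_pow]

/-- An element of a cyclotomic field fixed by all automorphisms of `ℂ` is rational. -/
theorem rat_of_fixed {N : ℕ} (hN : 0 < N) {z : ℂ} (hz : z ∈ KGV.cycSpan N)
    (hfix : ∀ σ : ℂ ≃+* ℂ, σ z = z) : ∃ q : ℚ, z = q := by
  haveI : NeZero N := ⟨hN.ne'⟩
  have hint : IsIntegral ℚ (Complex.exp (2 * Real.pi * Complex.I / (N : ℂ))) :=
    ((Complex.isPrimitiveRoot_exp N hN.ne').isIntegral hN).tower_top
  haveI : FiniteDimensional ℚ (KGV.cycSpan N) := IntermediateField.adjoin.finiteDimensional hint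
  have hzint : IsIntegral ℚ z :=
    IntermediateField.isIntegral_iff.1 (IsIntegral.of_finite ℚ (⟨z, hz⟩ : KGV.cycSpan N))
  set P := (minpoly ℚ z).map (algebraMap ℚ ℂ) with hP
  have hroots : ∀ r ∈ P.roots, r = z := by
    intro r hr
    rw [Polynomial.mem_roots', Polynomial.IsRoot.def, hP, Polynomial.eval_map_algebraMap] at hr
    obtain ⟨σ, rfl⟩ := KGV.exists_conjugate hN hz hr.2
    exact hfix σ
  have hsep : P.roots.Nodup :=
    Polynomial.nodup_roots ((minpoly.irreducible hzint).separable.map)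
  have hcard : P.roots.card = (minpoly ℚ z).natDegree := by
    rw [Polynomial.splits_iff_card_roots.mp (IsAlgClosed.splits P), hP, Polynomial.natDegree_map]
  have hle : P.roots.card ≤ 1 := by
    by_contra hlt
    push Not at hlt
    have hrep : P.roots = Multiset.replicate P.roots.card z := Multiset.eq_replicate_card.2 hroots
    rw [hrep, Multiset.nodup_iff_count_le_one] at hsep
    have := hsep z
    rw [Multiset.count_replicate_self] at this
    omega
  have hdeg : (minpoly ℚ z).natDegree = 1 := by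
    have := minpoly.natDegree_pos hzint
    omega
  have h1 : z ∈ (algebraMap ℚ ℂ).range := by
    have hd : (minpoly ℚ z).degree = 1 := by
      rw [Polynomial.degree_eq_natDegree (minpoly.ne_zero hzint), hdeg]
      rfl
    exact minpoly.degree_eq_one_iff.1 hd
  obtain ⟨q, hq⟩ := h1
  exact ⟨q, by rw [← hq, eq_ratCast]⟩

/-- The Galois conjugate of an irreducible character. -/
noncomputable def twist (σ : ℂ ≃+* ℂ) (χ : IrrCharacter G) : IrrCharacter G :=
  ⟨fun g => σ ((χ : G → ℂ) g), IsIrr.map_ringAut χ.2 σ⟩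

theorem twist_apply (σ : ℂ ≃+* ℂ) (χ : IrrCharacter G) (g : G) :
    (twist σ χ : G → ℂ) g = σ ((χ : G → ℂ) g) := rfl

theorem twist_injective (σ : ℂ ≃+* ℂ) : Function.Injective (twist (G := G) σ) := fun _ _ h =>
  Subtype.ext (funext fun g => σ.injective (congrFun (congrArg Subtype.val h) g))

theorem twist_deg (σ : ℂ ≃+* ℂ) (χ : IrrCharacter G) :
    charDegree (twist σ χ : G → ℂ) = charDegree (χ : G → ℂ) := by
  apply Nat.cast_injective (R := ℂ)
  rw [← charDeg_spec', ← charDeg_spec', twist_apply, charDeg_spec', map_natCast]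

variable (Ω) in
theorem mult_twist (σ : ℂ ≃+* ℂ) (χ : IrrCharacter G) :
    mult G Ω (twist σ χ : G → ℂ) = mult G Ω (χ : G → ℂ) := by
  have h := IsChar.classInner_map_ringAut (isCharacter_piFun (G := G) (Ω := Ω))
    (IsIrr.isCharacter χ.2) σ
  obtain ⟨a, ha⟩ := exists_mult (Ω := Ω) χ
  rw [mult] at ha ⊢
  rw [ha, map_natCast] at h
  rw [mult, ha, ← h]
  congr 1
  funext g
  simp [piFun]

/-- The multiplicity of the trivial character of a subgroup. -/
theorem exists_fix (H : Subgroup G) [Fintype H] (χ : IrrCharacter G) :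
    ∃ n : ℕ, (∑ h : H, (χ : G → ℂ) h) = (Nat.card H : ℂ) * (n : ℂ) := by
  classical
  obtain ⟨n, hn⟩ := IsChar.classInner_nat (IsChar.res (IsIrr.isCharacter χ.2) H)
    (IsIrr.isCharacter (isIrr_one (G := H)))
  refine ⟨n, ?_⟩
  rw [← hn, classInner, mul_inv_cancel_left₀ (Nat.cast_ne_zero.2 Nat.card_pos.ne')]
  simp

theorem sum_piFun (H : Subgroup G) [Fintype H] :
    ∑ h : H, piFun G Ω (h : G) =
      (Nat.card (MulAction.orbitRel.Quotient H Ω) * Nat.card H : ℕ) := by
  classical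
  haveI : Fintype (MulAction.orbitRel.Quotient H Ω) := Fintype.ofFinite _
  have h := MulAction.sum_card_fixedBy_eq_card_orbits_mul_card_group H Ω
  simp only [piFun, ← Nat.cast_sum]
  congr 1
  rw [Nat.card_eq_fintype_card, Nat.card_eq_fintype_card, ← h]
  refine Finset.sum_congr rfl fun x _ => ?_
  rw [Nat.card_eq_fintype_card]
  congr!

variable [FaithfulSMul G Ω]

/-- Non-trivial constituents of a primitive permutation character are faithful. -/
theorem faithful_of_mult (hprim : MulAction.IsPreprimitive G Ω) [Nonempty Ω] {χ : IrrCharacter G}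
    (hχ : χ ≠ one₀ G) (hm : mult G Ω (χ : G → ℂ) ≠ 0) (g : G)
    (hg : (χ : G → ℂ) g = (χ : G → ℂ) 1) : g = 1 := by
  classical
  haveI := hprim
  haveI := hprim.toIsPretransitive
  obtain ⟨n, ρ, hρ, hχρ, hn, -⟩ := IsIrr.exists_rep χ.2
  by_contra hg1
  set N := MonoidHom.ker ρ
  have hval : ∀ h : G, h ∈ N → (χ : G → ℂ) h = (χ : G → ℂ) 1 := by
    intro h hh
    rw [← hχρ]
    show LinearMap.trace ℂ _ (ρ h) = LinearMap.trace ℂ _ (ρ 1)
    rw [MonoidHom.mem_ker.1 hh, ← map_one ρ]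
  have hgN : g ∈ N := by
    refine MonoidHom.mem_ker.2 ?_
    rw [← hχρ] at hg
    have h1 := (character_eq_finrank_iff ρ g).1 (by rw [← Representation.char_one ρ]; exact hg)
    rw [h1]
    rfl
  haveI hNn : N.Normal := MonoidHom.normal_ker ρ
  haveI : MulAction.IsPretransitive N Ω := by
    refine MulAction.IsQuasiPreprimitive.isPretransitive_of_normal fun hfix => hg1 ?_
    refine FaithfulSMul.eq_of_smul_eq_smul (α := Ω) fun x => ?_
    have h1 : x ∈ MulAction.fixedPoints N Ω := hfix ▸ Set.mem_univ x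
    rw [one_smul]
    exact h1 ⟨g, hgN⟩
  haveI := Fintype.ofFinite N
  have h1 : Nat.card (MulAction.orbitRel.Quotient N Ω) = 1 := by
    rw [Nat.card_eq_one_iff_unique]
    exact ⟨(MulAction.pretransitive_iff_subsingleton_quotient N Ω).1 inferInstance,
      ⟨Quotient.mk'' (Classical.arbitrary Ω)⟩⟩
  have hs := sum_piFun (Ω := Ω) N
  rw [h1, one_mul] at hs
  choose f hf using fun χ => exists_fix (G := G) N χ
  choose a ha using fun ψ : IrrCharacter G => exists_mult (Ω := Ω) ψ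
  have h2 : ∑ x : N, piFun G Ω (x : G) =
      ((Nat.card N * ∑ ψ : IrrCharacter G, a ψ * f ψ : ℕ) : ℂ) := by
    rw [piFun_decomp]
    simp only [Finset.sum_apply, Pi.smul_apply, smul_eq_mul, ha]
    rw [Finset.sum_comm]
    push_cast
    rw [Finset.mul_sum]
    refine Finset.sum_congr rfl fun ψ _ => ?_
    rw [← Finset.mul_sum, hf ψ]
    ring
  rw [hs] at h2
  have h3 : ∑ ψ : IrrCharacter G, a ψ * f ψ = 1 :=
    (Nat.eq_of_mul_eq_mul_left Nat.card_pos (by rw [mul_one]; exact_mod_cast h2)).symm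
  have hι : a (one₀ G) * f (one₀ G) = 1 := by
    have e1 : a (one₀ G) = 1 := by
      have := (ha (one₀ G)).symm.trans (PermChar.mult_one (G := G) (Ω := Ω))
      exact_mod_cast this
    have e2 : f (one₀ G) = 1 := by
      have := hf (one₀ G)
      simp only [PermChar.one₀, Finset.sum_const, Finset.card_univ, nsmul_eq_mul, mul_one,
        ← Nat.card_eq_fintype_card] at this
      have : Nat.card N * 1 = Nat.card N * f (one₀ G) := by rw [mul_one]; exact_mod_cast this
      exact (Nat.eq_of_mul_eq_mul_left Nat.card_pos this).symm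
    rw [e1, e2]
  have hχ0 : a χ * f χ = 0 := by
    rw [← Finset.add_sum_erase _ _ (Finset.mem_univ (one₀ G)), hι] at h3
    have h4 := Finset.single_le_sum (f := fun ψ => a ψ * f ψ) (fun _ _ => Nat.zero_le _)
      (Finset.mem_erase.2 ⟨hχ, Finset.mem_univ χ⟩)
    omega
  have hfχ : f χ ≠ 0 := by
    intro e
    have := hf χ
    rw [e, Nat.cast_zero, mul_zero, Finset.sum_congr rfl (fun (x : N) _ => hval x x.2),
      Finset.sum_const, Finset.card_univ, nsmul_eq_mul] at this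
    exact mul_ne_zero (Nat.cast_ne_zero.2 Fintype.card_ne_zero) (IsIrr.one_ne_zero χ.2) this
  have haχ : a χ ≠ 0 := fun e => hm (by rw [ha χ, e, Nat.cast_zero])
  exact mul_ne_zero haχ hfχ hχ0

omit [Fintype G] [FaithfulSMul G Ω] in
/-- An element of order `p` fixes no point. -/
theorem piFun_eq_zero [Finite G] [MulAction.IsPretransitive G Ω] {p : ℕ} [Fact p.Prime]
    (hcard : Fintype.card Ω = 2 * p) (hsq : ¬ p ^ 2 ∣ Nat.card G) {u : G} (hu : orderOf u = p) :
    piFun G Ω u = 0 := by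
  rw [piFun, Nat.cast_eq_zero, Nat.card_eq_zero]
  refine Or.inl ⟨fun x => hsq ?_⟩
  have h1 := Subgroup.orderOf_dvd_natCard (MulAction.stabilizer G (x : Ω))
    (show u ∈ MulAction.stabilizer G (x : Ω) from x.2)
  have h2 := (MulAction.stabilizer G (x : Ω)).card_mul_index
  rw [MulAction.index_stabilizer_of_transitive, Nat.card_eq_fintype_card (α := Ω), hcard] at h2
  rw [← h2, pow_two]
  exact Nat.mul_dvd_mul (hu ▸ h1) (dvd_mul_left p 2)

/-- The shape of the permutation character. -/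
theorem constituents (hprim : MulAction.IsPreprimitive G Ω) {p : ℕ} [Fact p.Prime] (hp2 : p ≠ 2)
    (hcard : Fintype.card Ω = 2 * p) (hsq : ¬ p ^ 2 ∣ Nat.card G) :
    ∃ (u : G) (ψ : IrrCharacter G), orderOf u = p ∧ ψ ≠ one₀ G ∧
      mult G Ω (ψ : G → ℂ) = 1 ∧ (∀ σ, twist σ ψ = ψ) ∧
      ((∀ χ : IrrCharacter G, mult G Ω (χ : G → ℂ) ≠ 0 → χ = one₀ G ∨ χ = ψ) ∨
      (charDegree (ψ : G → ℂ) = p ∧ ∃ χ₁ : IrrCharacter G, χ₁ ≠ one₀ G ∧ χ₁ ≠ ψ ∧
        mult G Ω (χ₁ : G → ℂ) = 1 ∧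
        ((charDegree (χ₁ : G → ℂ) + 1 = p ∧
          ∀ χ : IrrCharacter G, mult G Ω (χ : G → ℂ) ≠ 0 → χ = one₀ G ∨ χ = ψ ∨ χ = χ₁) ∨
        (2 * charDegree (χ₁ : G → ℂ) + 1 = p ∧ (ψ : G → ℂ) u = 0 ∧
          ∃ χ₂ : IrrCharacter G, χ₂ ≠ one₀ G ∧ χ₂ ≠ ψ ∧ χ₂ ≠ χ₁ ∧
          mult G Ω (χ₂ : G → ℂ) = 1 ∧ 2 * charDegree (χ₂ : G → ℂ) + 1 = p ∧
          ∀ χ : IrrCharacter G, mult G Ω (χ : G → ℂ) ≠ 0 →
            χ = one₀ G ∨ χ = ψ ∨ χ = χ₁ ∨ χ = χ₂)))) := by
  classical
  have hp : p.Prime := Fact.out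
  have hp3 : 3 ≤ p := by have := hp.two_le; omega
  haveI := hprim.toIsPretransitive
  haveI hne : Nonempty Ω := Fintype.card_pos_iff.1 (by omega)
  obtain ⟨a₀⟩ := id hne
  have hstab := (MulAction.stabilizer G a₀).card_mul_index
  rw [MulAction.index_stabilizer_of_transitive, Nat.card_eq_fintype_card (α := Ω), hcard] at hstab
  have hdvd : p ∣ Nat.card G := ⟨Nat.card (MulAction.stabilizer G a₀) * 2, by rw [← hstab]; ring⟩
  obtain ⟨u, hu⟩ := exists_prime_orderOf_dvd_card' p hdvd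
  set P := Subgroup.zpowers u with hP
  have hPc : Nat.card P = p := by rw [Nat.card_zpowers, hu]
  haveI := Fintype.ofFinite P
  have hord : ∀ x : P, x ≠ 1 → orderOf (x : G) = p := fun x hx => by
    have h1 := Subgroup.orderOf_dvd_natCard P x.2
    rw [hPc] at h1
    exact ((Nat.dvd_prime hp).1 h1).resolve_left fun e => hx (Subtype.ext (orderOf_eq_one_iff.1 e))
  -- no normal subgroup of order p
  have hnn : ∀ H : Subgroup G, H.Normal → Nat.card H ≠ p := by
    intro H hH hHc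
    haveI := hprim
    haveI : MulAction.IsPretransitive H Ω := by
      refine MulAction.IsQuasiPreprimitive.isPretransitive_of_normal fun hfix => ?_
      have hbot : H = ⊥ := (Subgroup.eq_bot_iff_forall H).2 fun h hh =>
        FaithfulSMul.eq_of_smul_eq_smul (α := Ω) fun x => by
          have h1 : x ∈ MulAction.fixedPoints H Ω := hfix ▸ Set.mem_univ x
          rw [one_smul]
          exact h1 ⟨h, hh⟩
      rw [hbot, Subgroup.card_bot] at hHc
      exact hp.ne_one hHc.symm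
    have h2 := Nat.card_le_card_of_surjective (fun h : H => h • a₀) (MulAction.surjective_smul H a₀)
    rw [Nat.card_eq_fintype_card (α := Ω), hcard, hHc] at h2
    omega
  choose f hf using fun χ => exists_fix (G := G) P χ
  choose a ha using fun χ : IrrCharacter G => exists_mult (Ω := Ω) χ
  set d : IrrCharacter G → ℕ := fun χ => charDegree (χ : G → ℂ) with hd
  have hd1 : ∀ χ : IrrCharacter G, (χ : G → ℂ) 1 = (d χ : ℂ) := fun χ => charDeg_spec' χ
  have hsumd : ∑ χ : IrrCharacter G, a χ * d χ = 2 * p := by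
    have h := congrFun (piFun_decomp (G := G) (Ω := Ω)) 1
    simp only [Finset.sum_apply, Pi.smul_apply, smul_eq_mul, ha, hd1, piFun,
      MulAction.fixedBy_one_eq_univ, Nat.card_univ, Nat.card_eq_fintype_card (α := Ω), hcard] at h
    exact_mod_cast h.symm
  have hsumf : ∑ χ : IrrCharacter G, a χ * f χ = 2 := by
    have h1 : ∑ x : P, piFun G Ω (x : G) = ((2 * p : ℕ) : ℂ) := by
      rw [Finset.sum_eq_single (1 : P) (fun x _ hx => piFun_eq_zero hcard hsq (hord x hx)) (by simp),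
        Subgroup.coe_one, piFun, MulAction.fixedBy_one_eq_univ, Nat.card_univ,
        Nat.card_eq_fintype_card (α := Ω), hcard]
    rw [piFun_decomp] at h1
    simp only [Finset.sum_apply, Pi.smul_apply, smul_eq_mul, ha] at h1
    rw [Finset.sum_comm, Finset.sum_congr rfl (g := fun χ => ((p * (a χ * f χ) : ℕ) : ℂ))
      (fun χ _ => by rw [← Finset.mul_sum, hf χ, hPc]; push_cast; ring), ← Nat.cast_sum,
      ← Finset.mul_sum, mul_comm 2 p] at h1
    exact Nat.eq_of_mul_eq_mul_left hp.pos (Nat.cast_injective h1)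
  have haι : a (one₀ G) = 1 := by
    have := (ha (one₀ G)).symm.trans (PermChar.mult_one (G := G) (Ω := Ω))
    exact_mod_cast this
  have hfι : f (one₀ G) = 1 := by
    have := hf (one₀ G)
    simp only [PermChar.one₀, Finset.sum_const, Finset.card_univ, nsmul_eq_mul, mul_one,
      ← Nat.card_eq_fintype_card] at this
    have : Nat.card P * 1 = Nat.card P * f (one₀ G) := by rw [mul_one]; exact_mod_cast this
    exact (Nat.eq_of_mul_eq_mul_left Nat.card_pos this).symm
  have hdι : d (one₀ G) = 1 := by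
    have := hd1 (one₀ G)
    simp only [PermChar.one₀] at this
    exact_mod_cast this.symm
  rw [← Finset.add_sum_erase _ _ (Finset.mem_univ (one₀ G)), haι, hfι] at hsumf
  rw [← Finset.add_sum_erase _ _ (Finset.mem_univ (one₀ G)), haι, hdι] at hsumd
  set S := Finset.univ.erase (one₀ G) with hS
  have hsumf' : ∑ χ ∈ S, a χ * f χ = 1 := by omega
  obtain ⟨ψ, hψS, hψ0⟩ := Finset.exists_ne_zero_of_sum_ne_zero (by omega : ∑ χ ∈ S, a χ * f χ ≠ 0)
  rw [← Finset.add_sum_erase _ _ hψS] at hsumf'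
  have hψ1 : a ψ * f ψ = 1 := by omega
  have hψa : a ψ = 1 := Nat.eq_one_of_mul_eq_one_right hψ1
  have hψf : f ψ = 1 := Nat.eq_one_of_mul_eq_one_left hψ1
  have hrest : ∀ χ ∈ S.erase ψ, a χ * f χ = 0 :=
    Finset.sum_eq_zero_iff.1 (by omega : ∑ χ ∈ S.erase ψ, a χ * f χ = 0)
  have hψι : ψ ≠ one₀ G := Finset.ne_of_mem_erase hψS
  have htwι : ∀ σ, twist σ (one₀ G) = one₀ G := fun σ =>
    Subtype.ext (funext fun g => by simp [twist_apply, PermChar.one₀])
  have hat : ∀ σ χ, a (twist σ χ) = a χ := fun σ χ => by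
    have := mult_twist Ω σ χ
    rw [ha, ha] at this
    exact_mod_cast this
  have hft : ∀ σ χ, f (twist σ χ) = f χ := fun σ χ => by
    have h := hf (twist σ χ)
    simp only [twist_apply] at h
    rw [← map_sum, hf χ, map_mul, map_natCast, map_natCast] at h
    exact (Nat.cast_injective (mul_left_cancel₀ (Nat.cast_ne_zero.2 Nat.card_pos.ne') h)).symm
  have hψfix : ∀ σ, twist σ ψ = ψ := by
    intro σ
    by_contra hne'
    have hι' : twist σ ψ ≠ one₀ G := fun e =>
      hψι (twist_injective σ (e.trans (htwι σ).symm))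
    have := hrest (twist σ ψ)
      (Finset.mem_erase.2 ⟨hne', Finset.mem_erase.2 ⟨hι', Finset.mem_univ _⟩⟩)
    rw [hat, hft, hψ1] at this
    exact one_ne_zero this
  -- a rational character has equal values on the non-identity elements of P
  have hrat : ∀ χ : IrrCharacter G, (∀ σ, twist σ χ = χ) →
      ∃ r : ℤ, (χ : G → ℂ) u = (r : ℂ) ∧ (d χ : ℤ) + ((p : ℤ) - 1) * r = (p : ℤ) * (f χ : ℤ) := by
    intro χ hfix
    have hpow : ∀ x : P, x ≠ 1 → (χ : G → ℂ) (x : G) = (χ : G → ℂ) u := by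
      intro x hx
      obtain ⟨i, -, hi⟩ : ∃ i, i < orderOf u ∧ u ^ i = (x : G) := by
        have := (isOfFinOrder_of_finite u).mem_zpowers_iff_mem_range_orderOf.1 x.2
        rw [Finset.mem_image] at this
        obtain ⟨i, hi, hix⟩ := this
        exact ⟨i, Finset.mem_range.1 hi, hix⟩
      have hip : i.Coprime p := by
        refine ((hp.coprime_iff_not_dvd).2 fun hd' => hx (Subtype.ext ?_)).symm
        obtain ⟨j, rfl⟩ := hd'
        rw [← hi, pow_mul, ← hu, pow_orderOf_eq_one, one_pow]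
        rfl
      obtain ⟨σ, hσ⟩ := exists_ringAut_pow p i hp.pos hip
      have h1 := ringAut_character_eq_pow (IsIrr.isCharacter χ.2) σ hσ (g := u) (hu ▸ dvd_refl _)
      rw [hi] at h1
      rw [← h1, ← twist_apply, hfix σ]
    have hsum := hf χ
    rw [← Finset.add_sum_erase _ _ (Finset.mem_univ (1 : P)), Subgroup.coe_one, hd1,
      Finset.sum_congr rfl (fun x hx => hpow x (Finset.ne_of_mem_erase hx)), Finset.sum_const,
      Finset.card_erase_of_mem (Finset.mem_univ _), Finset.card_univ, ← Nat.card_eq_fintype_card,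
      hPc, nsmul_eq_mul, Nat.cast_sub hp.one_le, Nat.cast_one] at hsum
    have hp1 : ((p : ℂ) - 1) ≠ 0 := by
      rw [sub_ne_zero]; exact_mod_cast hp.ne_one
    have hq : (χ : G → ℂ) u = ((((p : ℚ) * f χ - d χ) / ((p : ℚ) - 1) : ℚ) : ℂ) := by
      push_cast
      rw [eq_div_iff hp1]
      linear_combination hsum
    have hint := IsChar.isIntegral (IsIrr.isCharacter χ.2) u
    rw [hq] at hint
    obtain ⟨r, hr⟩ := int_of_isIntegral_rat hint
    refine ⟨r, hq.trans hr, ?_⟩
    rw [hq, hr] at hsum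
    apply Int.cast_injective (α := ℂ)
    push_cast
    linear_combination hsum
  have hfaith : ∀ χ : IrrCharacter G, χ ≠ one₀ G → a χ ≠ 0 → p ≤ 2 * d χ + 1 := by
    intro χ hχ haχ
    refine Cfsg.Agent.S4503.result p hp hdvd hsq hnn (χ : G → ℂ) (IsIrr.isCharacter χ.2) ?_
    exact faithful_of_mult hprim hχ (by rw [ha χ]; exact Nat.cast_ne_zero.2 haχ)
  obtain ⟨r, hru, hr⟩ := hrat ψ hψfix
  rw [hψf, Nat.cast_one, mul_one] at hr
  rw [← Finset.add_sum_erase _ _ hψS, hψa, one_mul] at hsumd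
  have hψd : p ≤ 2 * d ψ + 1 := hfaith ψ hψι (by omega)
  have hdle : (d ψ : ℤ) + 1 ≤ 2 * (p : ℤ) := by
    have : d ψ + 1 ≤ 2 * p := by omega
    exact_mod_cast this
  have hψd' : (p : ℤ) ≤ 2 * (d ψ : ℤ) + 1 := by exact_mod_cast hψd
  have hp3' : (3 : ℤ) ≤ p := by exact_mod_cast hp3
  have hr2 : r = 0 ∨ r = -1 := by
    rcases lt_trichotomy r 0 with h | h | h
    · right
      by_contra hne'
      have : r ≤ -2 := by omega
      have := mul_le_mul_of_nonneg_left this (show (0 : ℤ) ≤ (p : ℤ) - 1 by omega)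
      linarith
    · exact Or.inl h
    · exfalso
      have h2 := mul_le_mul_of_nonneg_left (show (1 : ℤ) ≤ r by omega)
        (show (0 : ℤ) ≤ (p : ℤ) - 1 by omega)
      have h3 : d ψ = 1 := by
        have := charDeg_pos ψ
        simp only [hd] at h2 hr hψd' ⊢
        omega
      have h4 : r = 1 := by
        have h5 : ((p : ℤ) - 1) * r = ((p : ℤ) - 1) * 1 := by rw [h3] at hr; push_cast at hr; linarith
        exact mul_left_cancel₀ (by omega) h5
      have h6 : u = 1 := faithful_of_mult hprim hψι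
        (by rw [ha ψ, hψa, Nat.cast_one]; exact one_ne_zero) u
        (by rw [hru, h4, hd1, h3, Int.cast_one, Nat.cast_one])
      rw [h6, orderOf_one] at hu
      exact hp.ne_one hu.symm
  refine ⟨u, ψ, hu, hψι, by rw [ha ψ, hψa, Nat.cast_one], hψfix, ?_⟩
  have hmem : ∀ χ, χ ≠ one₀ G → χ ≠ ψ → χ ∈ S.erase ψ := fun χ h1 h2 =>
    Finset.mem_erase.2 ⟨h2, Finset.mem_erase.2 ⟨h1, Finset.mem_univ _⟩⟩
  rcases hr2 with rfl | rfl
  swap
  · left
    intro χ hχ
    by_contra hcon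
    push Not at hcon
    have hdψ : d ψ + 1 = 2 * p := by omega
    have h1 := Finset.single_le_sum (f := fun χ => a χ * d χ) (fun _ _ => Nat.zero_le _)
      (hmem χ hcon.1 hcon.2)
    have h2 : 0 < a χ := Nat.pos_of_ne_zero fun e => hχ (by rw [ha χ, e, Nat.cast_zero])
    have h3 := Nat.mul_pos h2 (charDeg_pos χ)
    simp only [hd] at h1 hdψ hsumd
    omega
  right
  have hdψ : d ψ = p := by omega
  have hT : ∑ χ ∈ S.erase ψ, a χ * d χ + 1 = p := by omega
  refine ⟨hdψ, ?_⟩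
  obtain ⟨χ₁, hχ₁, hne₁⟩ := Finset.exists_ne_zero_of_sum_ne_zero
    (by omega : ∑ χ ∈ S.erase ψ, a χ * d χ ≠ 0)
  have ha₁ : a χ₁ ≠ 0 := fun e => hne₁ (by rw [e, zero_mul])
  have hι₁ : χ₁ ≠ one₀ G := Finset.ne_of_mem_erase (Finset.mem_of_mem_erase hχ₁)
  have hψ₁ : χ₁ ≠ ψ := Finset.ne_of_mem_erase hχ₁
  have hd₁ := hfaith χ₁ hι₁ ha₁
  rw [← Finset.add_sum_erase _ _ hχ₁] at hT
  have hsmall : ∀ χ ∈ (S.erase ψ).erase χ₁, a χ ≠ 0 → p ≤ 2 * (a χ * d χ) + 1 := by
    intro χ hχ hne'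
    have h1 := hfaith χ
      (Finset.ne_of_mem_erase (Finset.mem_of_mem_erase (Finset.mem_of_mem_erase hχ))) hne'
    have h2 := Nat.le_mul_of_pos_left (d χ) (Nat.pos_of_ne_zero hne')
    omega
  have ha₁' : a χ₁ = 1 := by
    by_contra hne'
    have h2 : 2 ≤ a χ₁ := by omega
    have h3 := Nat.mul_le_mul_right (d χ₁) h2
    have h4 : ∀ χ ∈ (S.erase ψ).erase χ₁, a χ = 0 := by
      intro χ hχ
      by_contra hne''
      have h5 := hsmall χ hχ hne''
      have h6 := Finset.single_le_sum (f := fun χ => a χ * d χ) (fun _ _ => Nat.zero_le _) hχ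
      omega
    have hfix : ∀ σ, twist σ χ₁ = χ₁ := by
      intro σ
      by_contra hcon
      have e1 : twist σ χ₁ ≠ one₀ G := fun e => hι₁ (twist_injective σ (e.trans (htwι σ).symm))
      have e2 : twist σ χ₁ ≠ ψ := fun e => hψ₁ (twist_injective σ (e.trans (hψfix σ).symm))
      exact ha₁ (by rw [← hat σ χ₁]; exact h4 _ (Finset.mem_erase.2 ⟨hcon, hmem _ e1 e2⟩))
    obtain ⟨r', -, hr'⟩ := hrat χ₁ hfix
    have hf₁ : f χ₁ = 0 := (Nat.mul_eq_zero.1 (hrest χ₁ hχ₁)).resolve_left ha₁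
    rw [hf₁, Nat.cast_zero, mul_zero] at hr'
    have h7 : 2 * d χ₁ + 1 ≤ p := by omega
    have h7' : 2 * (d χ₁ : ℤ) + 1 ≤ (p : ℤ) := by exact_mod_cast h7
    have h8 : (0 : ℤ) < (d χ₁ : ℤ) := by exact_mod_cast charDeg_pos χ₁
    have h9 : (0 : ℤ) ≤ (p : ℤ) - 1 := by omega
    rcases lt_trichotomy r' 0 with h | rfl | h
    · have := mul_le_mul_of_nonneg_left (show r' ≤ -1 by omega) h9
      linarith
    · linarith
    · have := mul_le_mul_of_nonneg_left (show (1 : ℤ) ≤ r' by omega) h9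
      linarith
  refine ⟨χ₁, hι₁, hψ₁, by rw [ha χ₁, ha₁', Nat.cast_one], ?_⟩
  rw [ha₁', one_mul] at hT
  by_cases hzero : ∀ χ ∈ (S.erase ψ).erase χ₁, a χ = 0
  · left
    rw [Finset.sum_eq_zero fun χ hχ => by rw [hzero χ hχ, zero_mul], add_zero] at hT
    refine ⟨hT, fun χ hχ => ?_⟩
    by_contra hcon
    push Not at hcon
    exact hχ (by rw [ha χ, hzero χ (Finset.mem_erase.2 ⟨hcon.2.2, hmem χ hcon.1 hcon.2.1⟩),
      Nat.cast_zero])
  right
  push Not at hzero
  obtain ⟨χ₂, hχ₂, ha₂⟩ := hzero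
  have hd₂ := hsmall χ₂ hχ₂ ha₂
  rw [← Finset.add_sum_erase _ _ hχ₂] at hT
  have h21 := hfaith χ₂
    (Finset.ne_of_mem_erase (Finset.mem_of_mem_erase (Finset.mem_of_mem_erase hχ₂))) ha₂
  have ha₂' : a χ₂ = 1 := by
    by_contra hne'
    have h2 := Nat.mul_le_mul_right (d χ₂) (show 2 ≤ a χ₂ by omega)
    omega
  rw [ha₂', one_mul] at hT
  have hrest0 : ∀ χ ∈ ((S.erase ψ).erase χ₁).erase χ₂, a χ * d χ = 0 :=
    Finset.sum_eq_zero_iff.1 (by omega)
  refine ⟨by show 2 * d χ₁ + 1 = p; omega, by rw [hru, Int.cast_zero], χ₂,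
    Finset.ne_of_mem_erase (Finset.mem_of_mem_erase (Finset.mem_of_mem_erase hχ₂)),
    Finset.ne_of_mem_erase (Finset.mem_of_mem_erase hχ₂), Finset.ne_of_mem_erase hχ₂,
    by rw [ha χ₂, ha₂', Nat.cast_one], by show 2 * d χ₂ + 1 = p; omega, fun χ hχ => ?_⟩
  by_contra hcon
  push Not at hcon
  have := hrest0 χ (Finset.mem_erase.2 ⟨hcon.2.2.2, Finset.mem_erase.2
    ⟨hcon.2.2.1, hmem χ hcon.1 hcon.2.1⟩⟩)
  exact mul_ne_zero (fun e => hχ (by rw [ha χ, e, Nat.cast_zero])) (charDeg_pos χ).ne' this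

end Cfsg.Agent.Block.TwoP
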