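import Mathlib
import Cfsg.Prelude.Def_Perm

/-!
# Sharply doubly transitive permutation groups

The fixed-point-free elements form one conjugacy class whose centralisers all equal the translation
subgroup, so the latter is normal, elementary abelian and regular; the group is the affine group of
a near-field.
-/

set_option autoImplicit false

namespace Cfsg.Agent.Block.SharpPoints

variable {G α : Type*} [Group G] [MulAction G α]

/-- The hypotheses: two-point stabilisers are trivial and the action is doubly transitive. -/
structure Sharp (G α : Type*) [Group G] [MulAction G α] : Prop where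
  faithful : ∀ g : G, (∀ a : α, g • a = a) → g = 1
  trans : ∀ a b c d : α, a ≠ b → c ≠ d → ∃ g : G, g • a = c ∧ g • b = d
  free : ∀ (g : G) (a b : α), a ≠ b → g • a = a → g • b = b → g = 1

variable (G α) in
/-- Elements without fixed points. -/
def derangements : Set G := {g | ∀ a : α, g • a ≠ a}

variable [Finite G] [Finite α]

theorem Sharp.exists_translations (h : Sharp G α) (h2 : 2 ≤ Nat.card α) :
    ∃ (p j : ℕ) (N : Subgroup G), p.Prime ∧ 1 ≤ j ∧ Nat.card α = p ^ j ∧ Nat.card N = Nat.card α ∧
      (∀ g : G, g ∈ N ↔ g = 1 ∨ ∀ a : α, g • a ≠ a) ∧ N.Normal ∧ (∀ x ∈ N, ∀ y ∈ N, x * y = y * x) ∧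
      (∀ x ∈ N, x ^ p = 1) ∧ (∀ a b : α, ∃ x ∈ N, x • a = b) ∧ ¬ p ∣ N.index := by
  classical
  cases nonempty_fintype G
  cases nonempty_fintype α
  set n := Nat.card α with hn
  have : Nontrivial α := Finite.one_lt_card_iff_nontrivial.1 h2
  obtain ⟨a₀, b₀, hab₀⟩ := exists_pair_ne α
  have h1pre : MulAction.IsPretransitive G α := ⟨fun a b => by
    obtain ⟨c, hc⟩ := exists_ne a
    obtain ⟨d, hd⟩ := exists_ne b
    obtain ⟨g, hg, -⟩ := h.trans a c b d hc.symm hd.symm
    exact ⟨g, hg⟩⟩
  -- the order of a stabiliser and of the group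
  have hstab : ∀ a : α, Nat.card (MulAction.stabilizer G a) = n - 1 := by
    intro a
    obtain ⟨b, hb⟩ := exists_ne a
    have hne : ∀ g : MulAction.stabilizer G a, (g : G) • b ≠ a := fun g e => hb (by
      have h' : (g : G) • b = (g : G) • a := e.trans g.2.symm
      exact MulAction.injective (g : G) h')
    let e : MulAction.stabilizer G a ≃ {x : α // x ≠ a} := Equiv.ofBijective (fun g => ⟨(g : G) • b, hne g⟩)
      ⟨fun g k e => by
        have e' : (g : G) • b = (k : G) • b := congrArg Subtype.val e
        have hfix : ((k : G)⁻¹ * g) = 1 := h.free _ a b hb.symm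
          (by rw [mul_smul, show (g : G) • a = a from g.2]; exact inv_smul_eq_iff.2 k.2.symm)
          (by rw [mul_smul, e', inv_smul_smul])
        exact Subtype.ext (inv_mul_eq_one.1 hfix).symm,
      fun x => by
        obtain ⟨g, hga, hgb⟩ := h.trans a b a x hb.symm x.2.symm
        exact ⟨⟨g, hga⟩, Subtype.ext hgb⟩⟩
    rw [Nat.card_congr e, hn, Nat.card_eq_fintype_card, Fintype.card_subtype_compl, Fintype.card_subtype_eq,
      Nat.card_eq_fintype_card]
  have hG : Nat.card G = n * (n - 1) := by
    rw [← Subgroup.index_mul_card (MulAction.stabilizer G a₀), hstab, MulAction.index_stabilizer_of_transitive]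
  -- derangements
  set D := Finset.univ.filter fun g : G => ∀ a : α, g • a ≠ a with hD
  have hcardD : D.card + 1 + n * (n - 2) = n * (n - 1) := by
    set F := fun a : α => (Finset.univ.filter fun g : G => g • a = a).erase 1 with hF
    have hFcard : ∀ a, (F a).card = n - 2 := by
      intro a
      have h1 : (Finset.univ.filter fun g : G => g • a = a).card = n - 1 := by
        rw [← hstab a, Nat.card_eq_fintype_card]
        exact (Fintype.card_of_subtype _ (fun g => by simp [MulAction.mem_stabilizer_iff])).symm
      rw [hF, Finset.card_erase_of_mem (by simp), h1]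
      omega
    have hdisj : ((Finset.univ : Finset α) : Set α).PairwiseDisjoint F := by
      intro a _ b _ hab
      rw [Function.onFun, Finset.disjoint_left]
      intro g hga hgb
      simp only [hF, Finset.mem_erase, Finset.mem_filter, Finset.mem_univ, true_and] at hga hgb
      exact hga.1 (h.free g a b hab hga.2 hgb.2)
    have hU : (Finset.univ : Finset G) = (D ∪ {1}) ∪ Finset.univ.biUnion F := by
      ext g
      simp only [Finset.mem_univ, hD, hF, Finset.mem_union, Finset.mem_filter, true_and, Finset.mem_singleton,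
        Finset.mem_biUnion, Finset.mem_erase, true_iff]
      by_cases h1 : g = 1
      · exact Or.inl (Or.inr h1)
      by_cases hf : ∀ a : α, g • a ≠ a
      · exact Or.inl (Or.inl hf)
      push Not at hf
      obtain ⟨a, ha⟩ := hf
      exact Or.inr ⟨a, h1, ha⟩
    have hd1 : Disjoint D ({1} : Finset G) := by
      rw [Finset.disjoint_singleton_right]
      simp only [hD, Finset.mem_filter, Finset.mem_univ, true_and]
      exact fun hc => hc a₀ (one_smul G a₀)
    have hd2 : Disjoint (D ∪ {1}) (Finset.univ.biUnion F) := by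
      rw [Finset.disjoint_left]
      intro g hg hg'
      simp only [hD, hF, Finset.mem_union, Finset.mem_filter, Finset.mem_univ, true_and, Finset.mem_singleton,
        Finset.mem_biUnion, Finset.mem_erase] at hg hg'
      obtain ⟨a, h1, ha⟩ := hg'
      exact hg.elim (fun hc => hc a ha) h1
    have hc := congrArg Finset.card hU
    rw [Finset.card_union_of_disjoint hd2, Finset.card_union_of_disjoint hd1, Finset.card_singleton,
      Finset.card_biUnion hdisj, Finset.sum_congr rfl fun a _ => hFcard a, Finset.sum_const, smul_eq_mul,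
      Finset.card_univ, Finset.card_univ, ← Nat.card_eq_fintype_card, ← Nat.card_eq_fintype_card,
      hG] at hc
    exact hc.symm
  have hDn : D.card = n - 1 := by
    have h3 : n * (n - 1) = n * (n - 2) + n := by
      obtain ⟨k, hk⟩ : ∃ k, n = k + 2 := ⟨n - 2, by omega⟩
      rw [hk, Nat.add_sub_cancel, show k + 2 - 1 = k + 1 by omega]
      ring
    omega
  -- centralisers of derangements
  have hcent : ∀ x ∈ D, ∀ g ∈ Subgroup.centralizer ({x} : Set G), g = 1 ∨ g ∈ D := by
    intro x hx g hg
    by_contra hc
    push Not at hc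
    obtain ⟨hg1, hgD⟩ := hc
    simp only [hD, Finset.mem_filter, Finset.mem_univ, true_and] at hgD hx
    push Not at hgD
    obtain ⟨a, ha⟩ := hgD
    refine hg1 (h.free g a (x • a) (hx a).symm ha ?_)
    rw [← mul_smul, Subgroup.mem_centralizer_singleton_iff.1 hg, mul_smul, ha]
  have hCle : ∀ x ∈ D, ∀ g : G, g ∈ Subgroup.centralizer ({x} : Set G) ↔ g ∈ insert 1 D := by
    intro x hx
    set C := Finset.univ.filter fun g : G => g ∈ Subgroup.centralizer ({x} : Set G) with hC
    have hsub : C ⊆ insert 1 D := fun g hg => by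
      rw [Finset.mem_insert]; exact hcent x hx g (by simpa [hC] using hg)
    have hcl : (Finset.univ.image fun g : G => g * x * g⁻¹) ⊆ D := by
      intro y hy
      simp only [Finset.mem_image, Finset.mem_univ, true_and] at hy
      obtain ⟨g, rfl⟩ := hy
      simp only [hD, Finset.mem_filter, Finset.mem_univ, true_and] at hx ⊢
      intro a e
      refine hx (g⁻¹ • a) ?_
      rw [mul_smul, mul_smul] at e
      exact eq_inv_smul_iff.2 e
    have hidx : (Subgroup.centralizer ({x} : Set G)).index ≤ n - 1 := by
      rw [Subgroup.centralizer_eq_comap_stabilizer]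
      refine le_trans (le_of_eq ((Subgroup.index_comap_of_surjective _ (MulEquiv.surjective _)).trans
        (MulAction.index_stabilizer _ _))) ?_
      refine le_trans ?_ (hDn ▸ Finset.card_le_card hcl)
      rw [← Set.ncard_coe_finset]
      refine Set.ncard_le_ncard ?_ (Set.toFinite _)
      rintro y ⟨g, rfl⟩
      simp only [Finset.coe_image, Finset.coe_univ, Set.image_univ, Set.mem_range]
      obtain ⟨g, rfl⟩ := ConjAct.toConjAct.surjective g
      exact ⟨g, (ConjAct.toConjAct_smul g x).symm⟩
    have hCcard : C.card = Nat.card (Subgroup.centralizer ({x} : Set G)) := by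
      rw [Nat.card_eq_fintype_card]
      exact (Fintype.card_of_subtype _ (fun g => by simp [hC])).symm
    have hge : n ≤ C.card := by
      rw [hCcard]
      have e := Subgroup.card_mul_index (Subgroup.centralizer ({x} : Set G))
      rw [hG] at e
      by_contra hlt
      push Not at hlt
      have : Nat.card (Subgroup.centralizer ({x} : Set G)) * (Subgroup.centralizer ({x} : Set G)).index < n * (n - 1) :=
        lt_of_le_of_lt (Nat.mul_le_mul_left _ hidx) (Nat.mul_lt_mul_of_pos_right hlt (by omega))
      omega
    have hins : (insert 1 D).card ≤ C.card := le_trans (Finset.card_insert_le _ _) (by omega)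
    intro g
    rw [← Finset.eq_of_subset_of_card_le hsub hins, hC]
    simp
  obtain ⟨x₀, hx₀⟩ : D.Nonempty := Finset.card_pos.1 (by omega)
  set N := Subgroup.centralizer ({x₀} : Set G) with hN
  have hmem : ∀ g : G, g ∈ N ↔ g = 1 ∨ ∀ a : α, g • a ≠ a := fun g => by
    rw [hN, hCle x₀ hx₀, Finset.mem_insert, hD, Finset.mem_filter, and_iff_right (Finset.mem_univ _)]
  have hcomm : ∀ x ∈ N, ∀ y ∈ N, x * y = y * x := by
    intro x hx y hy
    rcases (hmem x).1 hx with rfl | hx'
    · rw [one_mul, mul_one]
    · have hxD : x ∈ D := by simp [hD, hx']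
      exact (Subgroup.mem_centralizer_singleton_iff.1 ((hCle x hxD y).2 ((hCle x₀ hx₀ y).1 hy))).symm
  have hNn : N.Normal := ⟨fun g hg t => by
    rw [hmem] at hg ⊢
    rcases hg with rfl | hg
    · exact Or.inl (by rw [mul_one, mul_inv_cancel])
    · refine Or.inr fun a e => hg (t⁻¹ • a) ?_
      rw [mul_smul, mul_smul] at e
      exact eq_inv_smul_iff.2 e⟩
  have hNcard : Nat.card N = n := by
    have e1 : Nat.card N = (insert 1 D).card := by
      rw [Nat.card_eq_fintype_card]
      exact Fintype.card_of_subtype _ (fun g => (hCle x₀ hx₀ g).symm)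
    have hnot : (1 : G) ∉ D := by
      simp only [hD, Finset.mem_filter, Finset.mem_univ, true_and]
      exact fun hc => hc a₀ (one_smul G a₀)
    rw [e1, Finset.card_insert_of_notMem hnot, hDn]
    omega
  -- an element of prime order among the derangements
  obtain ⟨p, hp, hpn⟩ := Nat.exists_prime_and_dvd (show n ≠ 1 by omega)
  have := Fact.mk hp
  have hconj : ∀ x ∈ D, ∀ y ∈ D, ∃ g : G, g * x * g⁻¹ = y := by
    intro x hx y hy
    set Im := Finset.univ.image fun g : G => g * x * g⁻¹ with hIm
    have hsub : Im ⊆ D := by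
      intro z hz
      simp only [hIm, Finset.mem_image, Finset.mem_univ, true_and] at hz
      obtain ⟨g, rfl⟩ := hz
      simp only [hD, Finset.mem_filter, Finset.mem_univ, true_and] at hx ⊢
      intro a e
      refine hx (g⁻¹ • a) ?_
      rw [mul_smul, mul_smul] at e
      exact eq_inv_smul_iff.2 e
    have hle : D.card ≤ Im.card := by
      have hC : Nat.card (Subgroup.centralizer ({x} : Set G)) = n := by
        rw [← hNcard]
        exact Nat.card_congr (Equiv.subtypeEquivRight fun g => (hCle x hx g).trans (hCle x₀ hx₀ g).symm)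
      have hidx : (Subgroup.centralizer ({x} : Set G)).index = n - 1 := by
        have e := Subgroup.card_mul_index (Subgroup.centralizer ({x} : Set G))
        rw [hC, hG] at e
        exact Nat.eq_of_mul_eq_mul_left (by omega) e
      rw [hDn, ← hidx, Subgroup.centralizer_eq_comap_stabilizer]
      refine le_trans (le_of_eq ((Subgroup.index_comap_of_surjective _ (MulEquiv.surjective _)).trans
        (MulAction.index_stabilizer _ _))) ?_
      rw [← Set.ncard_coe_finset]
      refine Set.ncard_le_ncard ?_ (Set.toFinite _)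
      rintro z ⟨g, rfl⟩
      obtain ⟨g, rfl⟩ := ConjAct.toConjAct.surjective g
      simp only [hIm, Finset.coe_image, Finset.coe_univ, Set.image_univ, Set.mem_range]
      exact ⟨g, (ConjAct.toConjAct_smul g x).symm⟩
    have := Finset.eq_of_subset_of_card_le hsub hle
    rw [← this, hIm] at hy
    simpa using hy
  obtain ⟨z, hz⟩ := exists_prime_orderOf_dvd_card' (G := N) p (hNcard ▸ hpn)
  have hzD : (z : G) ∈ D := by
    have h1 : (z : G) ≠ 1 := fun e => by
      rw [← Subgroup.orderOf_coe, e, orderOf_one] at hz; exact hp.ne_one hz.symm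
    simpa [hD] using ((hmem z).1 z.2).resolve_left h1
  have hexp : ∀ x ∈ N, x ^ p = 1 := by
    intro x hx
    rcases (hmem x).1 hx with rfl | hx'
    · exact one_pow p
    · obtain ⟨g, hg⟩ := hconj z hzD x (by simp [hD, hx'])
      rw [← hg, conj_pow, ← hz, ← Subgroup.coe_pow, pow_orderOf_eq_one,
        Subgroup.coe_one, mul_one, mul_inv_cancel]
  have hpg : IsPGroup p N := fun x => ⟨1, Subtype.ext (by rw [pow_one, Subgroup.coe_pow]; exact hexp x x.2)⟩
  obtain ⟨j, hj⟩ := IsPGroup.iff_card.1 hpg
  rw [hNcard] at hj
  have hj1 : 1 ≤ j := by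
    by_contra hc
    rw [show j = 0 by omega, pow_zero] at hj
    omega
  refine ⟨p, j, N, hp, hj1, hj, hNcard, hmem, hNn, hcomm, hexp, ?_, ?_⟩
  · intro a b
    have hinj : Function.Injective (fun x : N => (x : G) • a) := fun x y e => by
      by_contra hne
      have hne' : ((y : G)⁻¹ * x) ≠ 1 := fun h' => hne (Subtype.ext (inv_mul_eq_one.1 h').symm)
      exact ((hmem _).1 (N.mul_mem (N.inv_mem y.2) x.2)).resolve_left hne' a (by
        rw [mul_smul]; exact inv_smul_eq_iff.2 e)
    obtain ⟨x, hx⟩ := ((Fintype.bijective_iff_injective_and_card _).2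
      ⟨hinj, by rw [← Nat.card_eq_fintype_card, ← Nat.card_eq_fintype_card, hNcard]⟩).2 b
    exact ⟨x, x.2, hx⟩
  · intro hd
    have e := Subgroup.card_mul_index N
    rw [hNcard, hG] at e
    have hidx := Nat.eq_of_mul_eq_mul_left (by omega) e
    rw [hidx] at hd
    have : p ∣ n - 1 + 1 := by rw [Nat.sub_add_cancel (by omega : 1 ≤ n)]; exact hpn
    exact hp.not_dvd_one ((Nat.dvd_add_right hd).1 this)

theorem sharp_of_perm {β : Type*} [Finite β] (H : Subgroup (Equiv.Perm β))
    [MulAction.IsMultiplyPretransitive H β 2] (hsharp : ∀ x : Fin 2 ↪ β, MulAction.stabilizer H x = ⊥) :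
    Sharp H β := by
  refine ⟨fun g hg => Subtype.ext (Equiv.ext fun a => hg a), fun a b c d hab hcd => ?_, fun g a b hab ha hb => ?_⟩
  · exact (MulAction.is_two_pretransitive_iff.1 inferInstance) hab hcd
  · set x : Fin 2 ↪ β := ⟨![a, b], fun i j e => by
      fin_cases i <;> fin_cases j <;> simp at e <;> first | rfl | exact absurd e hab | exact absurd e.symm hab⟩ with hx
    have : g ∈ MulAction.stabilizer H x := by
      rw [MulAction.mem_stabilizer_iff]
      ext i
      fin_cases i
      · exact ha
      · exact hb
    rwa [hsharp x, Subgroup.mem_bot] at this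

end Cfsg.Agent.Block.SharpPoints
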