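import Cfsg.Agent.Lib.Block.Principal

/-!
Orthogonality in the principal block for functions supported on `p`-elements.
-/

open scoped ComplexConjugate

namespace Cfsg.Agent.Block

set_option linter.unusedSectionVars false
set_option linter.style.haveILetI false

universe u

variable {G : Type u} [Group G] [Finite G] {p : ℕ} {M : Ideal AlgInt}

theorem genChar_apply_inv {θ : G → ℂ} (hθ : IsGeneralizedCharacter G θ) (g : G) :
    θ g⁻¹ = conj (θ g) := by
  obtain ⟨a, b, ha, hb, rfl⟩ := hθ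
  simp [Cfsg.Agent.Char.IsChar.apply_inv ha, Cfsg.Agent.Char.IsChar.apply_inv hb]

theorem isPPart_self_of_pPow [Fact p.Prime] {y : G} (hy : ∃ k : ℕ, orderOf y = p ^ k) :
    IsPPart p y y :=
  ⟨1, mul_one _, Commute.one_right _, hy, by
    rw [orderOf_one]; exact (Fact.out : p.Prime).not_dvd_one⟩

theorem pPow_of_mem {P : Subgroup G} [Fact p.Prime] (hP : IsPGroup p P) {y : G} (hy : y ∈ P) :
    ∃ k : ℕ, orderOf y = p ^ k := by
  obtain ⟨k, hk⟩ := hP ⟨y, hy⟩
  obtain ⟨i, -, hi⟩ := (Nat.dvd_prime_pow (Fact.out : p.Prime)).1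
    (orderOf_dvd_of_pow_eq_one (G := G) (x := y) (congrArg Subtype.val hk))
  exact ⟨i, hi⟩

theorem principal_pElem_orth [Fact p.Prime] (hM : IsPModular p M) {y x : G}
    (hy : ∃ k : ℕ, orderOf y = p ^ k) (hx : ∃ k : ℕ, orderOf x = p ^ k) (hne : ¬ IsConj y x) :
    ∑ᶠ χ ∈ principalBlock M G, (χ : G → ℂ) y * conj ((χ : G → ℂ) x) = 0 := by
  rw [← section_orth hM (isPPart_self_of_pPow hy) (isPPart_self_of_pPow hx) hne
    isPBlock_principalBlock]
  simp only [irr_apply_inv]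

theorem principal_pElem_self [Fact p.Prime] (hM : IsPModular p M) {y : G}
    (hy : ∃ k : ℕ, orderOf y = p ^ k) :
    ∑ᶠ χ ∈ principalBlock M G, (χ : G → ℂ) y * conj ((χ : G → ℂ) y) =
      ∑ᶠ ψ ∈ principalBlock M (Subgroup.centralizer ({y} : Set G)),
        ((charDegree (ψ : Subgroup.centralizer ({y} : Set G) → ℂ) : ℕ) : ℂ) ^ 2 := by
  have h := principal_column hM hy (y := (1 : Subgroup.centralizer ({y} : Set G)))
    (by rw [orderOf_one]; exact (Fact.out : p.Prime).not_dvd_one)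
  simp only [OneMemClass.coe_one, mul_one] at h
  rw [h]
  refine finsum_congr fun ψ => finsum_congr fun _ => ?_
  rw [charDeg_spec' ψ, Complex.conj_natCast, sq]

theorem sum_conj_orbit (P N : Subgroup G) [Fintype P] [Fintype N]
    (hN : N ≤ Subgroup.normalizer (P : Set G)) (y : P)
    [DecidablePred fun x : P => IsConj (y : G) (x : G)]
    (hfus : ∀ g : G, g * y * g⁻¹ ∈ P → ∃ n ∈ N, n * y * n⁻¹ = g * y * g⁻¹) (F : G → ℂ) :
    ∑ n : N, F ((n : G) * y * (n : G)⁻¹) =
      (Nat.card ↥(N ⊓ Subgroup.centralizer ({(y : G)} : Set G)) : ℂ) *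
        ∑ x ∈ Finset.univ.filter (fun x : P => IsConj (y : G) (x : G)), F x := by
  classical
  let φ : N → P := fun n =>
    ⟨(n : G) * y * (n : G)⁻¹, (Subgroup.mem_normalizer_iff.1 (hN n.2) y).1 y.2⟩
  have hmaps : ∀ n ∈ (Finset.univ : Finset N),
      φ n ∈ Finset.univ.filter (fun x : P => IsConj (y : G) (x : G)) := fun n _ =>
    Finset.mem_filter.2 ⟨Finset.mem_univ _, isConj_iff.2 ⟨(n : G), rfl⟩⟩
  rw [← Finset.sum_fiberwise_of_maps_to hmaps, Finset.mul_sum]
  refine Finset.sum_congr rfl fun x hx => ?_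
  obtain ⟨g, hg⟩ := isConj_iff.1 (Finset.mem_filter.1 hx).2
  obtain ⟨n₀, hn₀, hn₀x⟩ := hfus g (hg ▸ x.2)
  rw [hg] at hn₀x
  rw [Finset.sum_congr rfl (g := fun _ => F x) fun n hn => by
    rw [show (n : G) * y * (n : G)⁻¹ = (x : G) from congrArg Subtype.val (Finset.mem_filter.1 hn).2],
    Finset.sum_const, nsmul_eq_mul]
  congr 2
  rw [← Fintype.card_subtype, ← Nat.card_eq_fintype_card]
  have hfix : ∀ t : G, t ∈ Subgroup.centralizer ({(y : G)} : Set G) →
      n₀ * t * y * (n₀ * t)⁻¹ = x := fun t ht => by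
    have ht' : t * y = y * t := Subgroup.mem_centralizer_singleton_iff.1 ht
    calc n₀ * t * y * (n₀ * t)⁻¹ = n₀ * (t * y) * t⁻¹ * n₀⁻¹ := by group
      _ = n₀ * y * n₀⁻¹ := by rw [ht']; group
      _ = x := hn₀x
  refine Nat.card_congr
    { toFun := fun n => ⟨n₀⁻¹ * (n.1 : G), N.mul_mem (N.inv_mem hn₀) n.1.2, ?_⟩
      invFun := fun t => ⟨⟨n₀ * (t : G), N.mul_mem hn₀ t.2.1⟩, Subtype.ext (hfix t t.2.2)⟩
      left_inv := fun n => by ext; simp
      right_inv := fun t => by ext; simp }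
  refine Subgroup.mem_centralizer_singleton_iff.2 ?_
  have h : (n.1 : G) * y * (n.1 : G)⁻¹ = x := congrArg Subtype.val n.2
  rw [← hn₀x] at h
  calc n₀⁻¹ * (n.1 : G) * y = n₀⁻¹ * ((n.1 : G) * y * (n.1 : G)⁻¹) * n.1 := by group
    _ = n₀⁻¹ * (n₀ * y * n₀⁻¹) * n.1 := by rw [h]
    _ = (y : G) * (n₀⁻¹ * n.1) := by group

theorem principal_inner_identity [Fact p.Prime] (hM : IsPModular p M) (P : Subgroup G)
    [Fintype P] (hP : IsPGroup p P) (N : Subgroup G) [Fintype N]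
    (hNN : N ≤ Subgroup.normalizer (P : Set G)) (U : Set G)
    (hfus : ∀ u ∈ U, ∀ g : G, g * u * g⁻¹ ∈ (P : Set G) → ∃ n ∈ N, n * u * n⁻¹ = g * u * g⁻¹)
    (w : ℂ) (hw : ∀ y ∈ U, ∑ᶠ ψ ∈ principalBlock M (Subgroup.centralizer ({y} : Set G)),
        ((charDegree (ψ : Subgroup.centralizer ({y} : Set G) → ℂ) : ℕ) : ℂ) ^ 2 =
      w * Nat.card ↥(N ⊓ Subgroup.centralizer ({y} : Set G)))
    {θ η : P → ℂ} (hθ : IsGeneralizedCharacter P θ) (hθU : ∀ y : P, (y : G) ∉ U → θ y = 0) :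
    ∑ᶠ χ ∈ principalBlock M G,
        ((Nat.card P : ℂ)⁻¹ * ∑ y : P, (χ : G → ℂ) y * θ y⁻¹) *
          conj ((Nat.card P : ℂ)⁻¹ * ∑ y : P, (χ : G → ℂ) y * η y⁻¹) =
      w / (Nat.card P : ℂ) ^ 2 *
        ∑ y : P, θ y * conj (∑ n : N, extendByZero P η ((n : G) * y * (n : G)⁻¹)) := by
  classical
  cases nonempty_fintype G
  have hext : ∀ x : P, extendByZero P η (x : G) = η x :=
    fun x => Subtype.val_injective.extend_apply η 0 x
  rw [finsum_mem_block]
  calc ∑ χ ∈ Finset.univ.filter (· ∈ principalBlock M G),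
        ((Nat.card P : ℂ)⁻¹ * ∑ y : P, (χ : G → ℂ) y * θ y⁻¹) *
          conj ((Nat.card P : ℂ)⁻¹ * ∑ y : P, (χ : G → ℂ) y * η y⁻¹)
      = ((Nat.card P : ℂ) ^ 2)⁻¹ * ∑ y : P, θ y⁻¹ * ∑ x : P, conj (η x⁻¹) *
          ∑ χ ∈ Finset.univ.filter (· ∈ principalBlock M G),
            (χ : G → ℂ) y * conj ((χ : G → ℂ) x) := by
        simp only [map_mul, map_inv₀, Complex.conj_natCast, map_sum, Finset.sum_mul]
        simp only [Finset.mul_sum, Finset.sum_mul]
        rw [Finset.sum_comm_cycle]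
        refine Finset.sum_congr rfl fun y _ => ?_
        rw [Finset.sum_comm]
        refine Finset.sum_congr rfl fun x _ => Finset.sum_congr rfl fun χ _ => ?_
        rw [sq, mul_inv]
        ring
    _ = ((Nat.card P : ℂ) ^ 2)⁻¹ * ∑ y : P, θ y⁻¹ *
          (w * ∑ n : N, conj (extendByZero P η ((n : G) * y * (n : G)⁻¹)⁻¹)) := by
        congr 1
        refine Finset.sum_congr rfl fun y _ => ?_
        rcases eq_or_ne (θ y⁻¹) 0 with h0 | h0
        · rw [h0, zero_mul, zero_mul]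
        have hyU : (y : G) ∈ U := by
          by_contra hU
          exact h0 (by rw [genChar_apply_inv hθ, hθU y hU, map_zero])
        congr 1
        rw [sum_conj_orbit P N hNN y (fun g hg => hfus y hyU g hg)
          (fun g => conj (extendByZero P η g⁻¹)), ← mul_assoc, ← hw y hyU, Finset.sum_filter,
          Finset.mul_sum]
        refine Finset.sum_congr rfl fun x _ => ?_
        rw [← finsum_mem_block]
        split_ifs with hc
        · rw [show ((x : G))⁻¹ = ((x⁻¹ : P) : G) from rfl, hext,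
            finsum_congr fun χ => finsum_congr fun _ => by
              rw [← Cfsg.Agent.Char.IsClass.eq_of_isConj (irr_classFun χ) hc],
            principal_pElem_self hM (pPow_of_mem hP y.2)]
          exact mul_comm _ _
        · rw [principal_pElem_orth hM (pPow_of_mem hP y.2) (pPow_of_mem hP x.2) hc, mul_zero,
            mul_zero]
    _ = _ := by
        rw [div_eq_mul_inv, mul_comm w, mul_assoc, Finset.mul_sum (a := w)]
        congr 1
        refine Fintype.sum_equiv (Equiv.inv P) _ _ fun y => ?_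
        simp only [Equiv.inv_apply, map_sum, Subgroup.coe_inv, conj_inv]
        rw [mul_left_comm]

/-- The product of two conjugates of an involution as a class function, in one block. -/
theorem block_involution_product [Fact p.Prime] (hM : IsPModular p M)
    {B : Set (IrrCharacter G)} (hB : IsPBlock M B) {t y : G} (ht : t * t = 1)
    (hy : ∃ k : ℕ, orderOf y = p ^ k)
    (hinv : ∀ g : G, (g * t * g⁻¹) * y * (g * t * g⁻¹)⁻¹ ≠ y⁻¹) :
    ∑ᶠ χ ∈ B, (χ : G → ℂ) t ^ 2 / (χ : G → ℂ) 1 * (χ : G → ℂ) y = 0 := by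
  classical
  cases nonempty_fintype G
  have hp : p.Prime := Fact.out
  set ϑ : G → ℂ := ∑ χ : IrrCharacter G,
    ((χ : G → ℂ) t ^ 2 / (χ : G → ℂ) 1) • (χ : G → ℂ) with hϑ
  have hvan : ∀ u z : G, IsPPart p u z → IsConj y z → ϑ u = 0 := by
    intro u z hu hyz
    have hexp : ϑ u = (Nat.card G : ℂ)⁻¹ * ∑ g : G, ∑ χ : IrrCharacter G,
        (χ : G → ℂ) (t * (g * t * g⁻¹)) * conj ((χ : G → ℂ) u⁻¹) := by
      rw [hϑ, Cfsg.Agent.Char.sum_irr_apply, Finset.sum_comm, Finset.mul_sum]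
      refine Finset.sum_congr rfl fun χ _ => ?_
      rw [← Finset.sum_mul, sum_mul_conj, irr_apply_inv, Complex.conj_conj]
      field_simp [Nat.card_pos.ne']
    rw [hexp, Finset.sum_eq_zero, mul_zero]
    intro g _
    rw [Cfsg.Agent.Char.sum_irr_mul_conj, if_neg]
    intro hc
    obtain ⟨h, hh⟩ := isConj_iff.1 hc
    set T := h * t * h⁻¹ with hT
    set T' := h * (g * t * g⁻¹) * h⁻¹ with hT'
    have hTT : T * T = 1 := by
      calc T * T = h * (t * t) * h⁻¹ := by rw [hT]; group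
        _ = 1 := by rw [ht]; group
    have hTT' : T' * T' = 1 := by
      calc T' * T' = h * g * (t * t) * (h * g)⁻¹ := by rw [hT']; group
        _ = 1 := by rw [ht]; group
    have hprod : T * T' = u⁻¹ := by rw [← hh, hT, hT']; group
    have hu' : T * u * T⁻¹ = u⁻¹ := by
      have : u = T' * T := by
        rw [← inv_inv u, ← hprod, mul_inv_rev, inv_eq_of_mul_eq_one_right hTT,
          inv_eq_of_mul_eq_one_right hTT']
      calc T * u * T⁻¹ = T * (T' * T) * T⁻¹ := by rw [this]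
        _ = T * T' := by group
        _ = u⁻¹ := hprod
    obtain ⟨v, hzv, hcomm, ⟨k, hk⟩, hv⟩ := hu
    have h1 : IsPPart p u⁻¹ z⁻¹ := ⟨v⁻¹, by rw [← hzv, mul_inv_rev, hcomm.inv_inv.eq],
      hcomm.inv_inv, ⟨k, by rw [orderOf_inv, hk]⟩, by rwa [orderOf_inv]⟩
    have h2 : IsPPart p u⁻¹ (T * z * T⁻¹) := ⟨T * v * T⁻¹,
      by rw [← hu', ← hzv]; group, hcomm.map (MulAut.conj T).toMonoidHom,
      ⟨k, by rw [show T * z * T⁻¹ = MulAut.conj T z from rfl, MulEquiv.orderOf_eq, hk]⟩,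
      by rwa [show T * v * T⁻¹ = MulAut.conj T v from rfl, MulEquiv.orderOf_eq]⟩
    have hz : T * z * T⁻¹ = z⁻¹ := pPart_unique h2 h1
    obtain ⟨c, hc'⟩ := isConj_iff.1 hyz
    refine hinv (c⁻¹ * h) ?_
    have he : c⁻¹ * h * t * (c⁻¹ * h)⁻¹ = c⁻¹ * T * c := by rw [hT]; group
    rw [he]
    calc c⁻¹ * T * c * y * (c⁻¹ * T * c)⁻¹ = c⁻¹ * (T * (c * y * c⁻¹) * T⁻¹) * c := by group
      _ = c⁻¹ * z⁻¹ * c := by rw [hc', hz]
      _ = c⁻¹ * (c * y * c⁻¹)⁻¹ * c := by rw [hc']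
      _ = y⁻¹ := by group
  have h := blockPart_eq_zero_of_vanish hM hvan hB (isPPart_self_of_pPow hy) (IsConj.refl y)
  rw [blockPart, finsum_mem_block] at h
  rw [finsum_mem_block, ← h]
  refine Finset.sum_congr rfl fun χ _ => ?_
  congr 1
  have hcoef := Cfsg.Agent.Char.classInner_sum_irr
    (fun φ : IrrCharacter G => (φ : G → ℂ) t ^ 2 / (φ : G → ℂ) 1) χ
  rw [← hcoef, hϑ]
  simp only [classInner]
  congr!

/-- Real weights with three vanishing moments and at most one positive entry sit on one point. -/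
theorem eq_of_moments {ι : Type*} (s : Finset ι) (w x : ι → ℝ) (h0 : ∑ i ∈ s, w i = 0)
    (h1 : ∑ i ∈ s, w i * x i = 0) (h2 : ∑ i ∈ s, w i * x i ^ 2 = 0)
    (hone : ∀ i ∈ s, ∀ j ∈ s, 0 < w i → 0 < w j → i = j) {i j : ι} (hi : i ∈ s) (hj : j ∈ s)
    (hwi : w i ≠ 0) (hwj : w j ≠ 0) : x i = x j := by
  classical
  by_cases hpos : ∃ k ∈ s, 0 < w k
  · obtain ⟨k, hk, hwk⟩ := hpos
    have hsum : ∑ l ∈ s, w l * (x l - x k) ^ 2 = 0 := by
      have : ∀ l ∈ s, w l * (x l - x k) ^ 2 =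
          w l * x l ^ 2 - 2 * x k * (w l * x l) + x k ^ 2 * w l := fun l _ => by ring
      rw [Finset.sum_congr rfl this, Finset.sum_add_distrib, Finset.sum_sub_distrib,
        ← Finset.mul_sum, ← Finset.mul_sum, h0, h1, h2]
      ring
    have hall : ∀ l ∈ s, w l * (x l - x k) ^ 2 = 0 := by
      refine (Finset.sum_eq_zero_iff_of_nonpos fun l hl => ?_).1 hsum
      rcases eq_or_ne l k with rfl | hlk
      · simp
      · exact mul_nonpos_of_nonpos_of_nonneg
          (not_lt.1 fun h => hlk (hone l hl k hk h hwk)) (sq_nonneg _)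
    have hval : ∀ l ∈ s, w l ≠ 0 → x l = x k := fun l hl hwl =>
      sub_eq_zero.1 ((pow_eq_zero_iff two_ne_zero).1 ((mul_eq_zero.1 (hall l hl)).resolve_left hwl))
    rw [hval i hi hwi, hval j hj hwj]
  · exact absurd ((Finset.sum_eq_zero_iff_of_nonpos fun l hl =>
      not_lt.1 fun h => hpos ⟨l, hl, h⟩).1 h0 i hi) hwi

end Cfsg.Agent.Block
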