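import Cfsg.Agent.Lib.Invol.BrauerSuzuki
import Cfsg.Agent.Lib.Block.Orth
import Cfsg.Agent.Lib.Block.SuzukiIdentity
import Mathlib.GroupTheory.Transfer
import Mathlib.GroupTheory.SpecificGroups.Quaternion

/-!
Groups with a quaternion Sylow 2-subgroup of order eight: either the normalizer of the Sylow
subgroup is transitive on its elements of order four, or there is a normal 2-complement.
-/

namespace Cfsg.Agent.Block

set_option linter.unusedSectionVars false
set_option linter.style.haveILetI false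

universe u

variable {G : Type u} [Group G] [Finite G]

theorem q8_sq_sq : ∀ a : QuaternionGroup 2, a * a * (a * a) = 1 := by decide

theorem q8_sq_unique : ∀ a b : QuaternionGroup 2, a * a ≠ 1 → b * b ≠ 1 → a * a = b * b := by
  decide

theorem q8_self_centralizing : ∀ a b : QuaternionGroup 2, a * a ≠ 1 → b * a = a * b →
    b = 1 ∨ b = a ∨ b = a * a ∨ b = a * a * a := by
  decide

theorem q8_conj_inv : ∀ a : QuaternionGroup 2, a * a ≠ 1 → ∃ b, b * a * b⁻¹ = a⁻¹ := by
  decide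

theorem q8_conj : ∀ a b : QuaternionGroup 2, a * a ≠ 1 → b * a * b⁻¹ = a ∨ b * a * b⁻¹ = a⁻¹ := by
  decide

theorem q8_small : ∀ a b : QuaternionGroup 2, a * a = 1 → b * b ≠ 1 → a = 1 ∨ a = b * b := by
  decide

theorem q8_exists_four : ∃ a : QuaternionGroup 2, a * a ≠ 1 := by decide

set_option maxRecDepth 4000 in
set_option maxHeartbeats 1000000 in
set_option synthInstance.maxSize 2000 in
theorem q8_three_pairs : ∀ a b c : QuaternionGroup 2, a * a ≠ 1 → b * b ≠ 1 → c * c ≠ 1 →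
    b ≠ a → b ≠ a⁻¹ → c ≠ a → c ≠ a⁻¹ → c ≠ b → c ≠ b⁻¹ → ∀ d, d * d ≠ 1 →
      d = a ∨ d = a⁻¹ ∨ d = b ∨ d = b⁻¹ ∨ d = c ∨ d = c⁻¹ := by
  decide

/-- A Sylow 2-subgroup with the group laws of the quaternion group of order eight. -/
structure Q8Sylow (S : Sylow 2 G) : Prop where
  card_eq : Nat.card (S : Subgroup G) = 8
  sq_sq : ∀ a ∈ (S : Subgroup G), a * a * (a * a) = 1
  sq_unique : ∀ a ∈ (S : Subgroup G), ∀ b ∈ (S : Subgroup G), a * a ≠ 1 → b * b ≠ 1 → a * a = b * b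
  self_centralizing : ∀ a ∈ (S : Subgroup G), ∀ b ∈ (S : Subgroup G), a * a ≠ 1 → b * a = a * b →
    b = 1 ∨ b = a ∨ b = a * a ∨ b = a * a * a
  conj_inv : ∀ a ∈ (S : Subgroup G), a * a ≠ 1 → ∃ b ∈ (S : Subgroup G), b * a * b⁻¹ = a⁻¹
  conj_cases : ∀ a ∈ (S : Subgroup G), ∀ b ∈ (S : Subgroup G), a * a ≠ 1 →
    b * a * b⁻¹ = a ∨ b * a * b⁻¹ = a⁻¹
  small : ∀ a ∈ (S : Subgroup G), ∀ b ∈ (S : Subgroup G), a * a = 1 → b * b ≠ 1 →
    a = 1 ∨ a = b * b
  exists_four : ∃ a ∈ (S : Subgroup G), a * a ≠ 1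
  three_pairs : ∀ a ∈ (S : Subgroup G), ∀ b ∈ (S : Subgroup G), ∀ c ∈ (S : Subgroup G),
    a * a ≠ 1 → b * b ≠ 1 → c * c ≠ 1 → b ≠ a → b ≠ a⁻¹ → c ≠ a → c ≠ a⁻¹ → c ≠ b → c ≠ b⁻¹ →
      ∀ d ∈ (S : Subgroup G), d * d ≠ 1 →
        d = a ∨ d = a⁻¹ ∨ d = b ∨ d = b⁻¹ ∨ d = c ∨ d = c⁻¹

theorem q8Sylow_of_equiv (S : Sylow 2 G) (e : (S : Subgroup G) ≃* QuaternionGroup 2) :
    Q8Sylow S := by
  set f : QuaternionGroup 2 →* G := (S : Subgroup G).subtype.comp e.symm.toMonoidHom with hf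
  have hinj : Function.Injective f :=
    (Subgroup.subtype_injective _).comp e.symm.injective
  have hlift : ∀ a ∈ (S : Subgroup G), ∃ a', f a' = a := fun a ha =>
    ⟨e ⟨a, ha⟩, by simp [hf]⟩
  have hmem : ∀ a', f a' ∈ (S : Subgroup G) := fun a' => (e.symm a').2
  have hne : ∀ a', f a' * f a' ≠ 1 → a' * a' ≠ 1 := fun a' h h' => h (by
    rw [← map_mul, h', map_one])
  refine ⟨?_, ?_, ?_, ?_, ?_, ?_, ?_, ?_, ?_⟩
  · rw [Nat.card_congr e.toEquiv, Nat.card_eq_fintype_card, QuaternionGroup.card]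
  · intro a ha
    obtain ⟨a, rfl⟩ := hlift a ha
    rw [← map_mul, ← map_mul, q8_sq_sq, map_one]
  · intro a ha b hb h1 h2
    obtain ⟨a, rfl⟩ := hlift a ha
    obtain ⟨b, rfl⟩ := hlift b hb
    rw [← map_mul, ← map_mul, q8_sq_unique a b (hne a h1) (hne b h2)]
  · intro a ha b hb h1 h2
    obtain ⟨a, rfl⟩ := hlift a ha
    obtain ⟨b, rfl⟩ := hlift b hb
    rw [← map_mul, ← map_mul] at h2
    simp only [← map_mul]
    rcases q8_self_centralizing a b (hne a h1) (hinj h2) with h | h | h | h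
    · exact .inl (by rw [h, map_one])
    · exact .inr (.inl (by rw [h]))
    · exact .inr (.inr (.inl (by rw [h])))
    · exact .inr (.inr (.inr (by rw [h])))
  · intro a ha h1
    obtain ⟨a, rfl⟩ := hlift a ha
    obtain ⟨b, hb⟩ := q8_conj_inv a (hne a h1)
    exact ⟨f b, hmem b, by rw [← map_inv, ← map_inv, ← map_mul, ← map_mul, hb]⟩
  · intro a ha b hb h1
    obtain ⟨a, rfl⟩ := hlift a ha
    obtain ⟨b, rfl⟩ := hlift b hb
    simp only [← map_inv, ← map_mul]
    exact (q8_conj a b (hne a h1)).imp (fun h => by rw [h]) (fun h => by rw [h])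
  · intro a ha b hb h1 h2
    obtain ⟨a, rfl⟩ := hlift a ha
    obtain ⟨b, rfl⟩ := hlift b hb
    rw [← map_mul, ← f.map_one] at h1
    simp only [← map_mul]
    exact (q8_small a b (hinj h1) (hne b h2)).imp (fun h => by rw [h, map_one]) (fun h => by rw [h])
  · obtain ⟨a, ha⟩ := q8_exists_four
    exact ⟨f a, hmem a, fun h => ha (hinj (by rw [map_mul, h, map_one]))⟩
  · intro a ha b hb c hc h1 h2 h3 n1 n2 n3 n4 n5 n6 d hd h4
    obtain ⟨a, rfl⟩ := hlift a ha
    obtain ⟨b, rfl⟩ := hlift b hb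
    obtain ⟨c, rfl⟩ := hlift c hc
    obtain ⟨d, rfl⟩ := hlift d hd
    simp only [← map_inv, ne_eq] at n1 n2 n3 n4 n5 n6 ⊢
    have hn : ∀ {x y : QuaternionGroup 2}, ¬ f x = f y → x ≠ y := fun h e => h (by rw [e])
    rcases q8_three_pairs a b c (hne a h1) (hne b h2) (hne c h3) (hn n1) (hn n2) (hn n3) (hn n4)
      (hn n5) (hn n6) d (hne d h4) with h | h | h | h | h | h <;> subst h <;> tauto

/-- The normalizer either permutes the elements of order four transitively or fixes each up to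
inversion. -/
theorem Q8Sylow.dichotomy {S : Sylow 2 G} (h : Q8Sylow S) :
    (∀ a ∈ (S : Subgroup G), ∀ b ∈ (S : Subgroup G), a * a ≠ 1 → b * b ≠ 1 →
      ∃ n ∈ Subgroup.normalizer ((S : Subgroup G) : Set G), n * a * n⁻¹ = b) ∨
    (∀ n ∈ Subgroup.normalizer ((S : Subgroup G) : Set G), ∀ a ∈ (S : Subgroup G), a * a ≠ 1 →
      n * a * n⁻¹ = a ∨ n * a * n⁻¹ = a⁻¹) := by
  haveI : Fact (Nat.Prime 2) := ⟨Nat.prime_two⟩
  by_cases hfix : ∀ n ∈ Subgroup.normalizer ((S : Subgroup G) : Set G), ∀ a ∈ (S : Subgroup G),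
      a * a ≠ 1 → n * a * n⁻¹ = a ∨ n * a * n⁻¹ = a⁻¹
  · exact .inr hfix
  left
  push Not at hfix
  obtain ⟨n, hn, a₀, ha₀, ha₀', hmove⟩ := hfix
  set N := Subgroup.normalizer ((S : Subgroup G) : Set G)
  have hS : (S : Subgroup G) ≤ N := Subgroup.le_normalizer
  obtain ⟨u, v, huv, -, ⟨k, hk⟩, hv, hu', hv'⟩ := exists_pPart_zpowers (p := 2) n
  have huN : u ∈ N := (Subgroup.zpowers_le.2 hn) hu'
  have hvN : v ∈ N := (Subgroup.zpowers_le.2 hn) hv'
  have huS : u ∈ (S : Subgroup G) := by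
    have hp : IsPGroup 2 (Subgroup.zpowers u) :=
      IsPGroup.of_card (n := k) (by rw [Nat.card_zpowers, hk])
    have h' := S.3 (hp.to_sup_of_normal_right' S.isPGroup' (Subgroup.zpowers_le.2 huN))
      le_sup_right
    exact h' ▸ Subgroup.mem_sup_left (Subgroup.mem_zpowers u)
  have hmap : ∀ {m : G}, m ∈ N → ∀ {x : G}, x ∈ (S : Subgroup G) → m * x * m⁻¹ ∈ (S : Subgroup G) :=
    fun hm _ hx => (Subgroup.mem_normalizer_iff.1 hm _).1 hx
  have hsq : ∀ (m x : G), x * x ≠ 1 → m * x * m⁻¹ * (m * x * m⁻¹) ≠ 1 := by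
    intro m x hx h'
    refine hx ?_
    have e : m * x * m⁻¹ * (m * x * m⁻¹) = m * (x * x) * m⁻¹ := by group
    rwa [e, conj_eq_one_iff] at h'
  have hvmove : v * a₀ * v⁻¹ ≠ a₀ ∧ v * a₀ * v⁻¹ ≠ a₀⁻¹ := by
    have e : n * a₀ * n⁻¹ = u * (v * a₀ * v⁻¹) * u⁻¹ := by rw [← huv]; group
    constructor <;> intro h'
    · rw [h'] at e
      exact (h.conj_cases a₀ ha₀ u huS ha₀').elim (fun g => hmove.1 (e.trans g))
        fun g => hmove.2 (e.trans g)
    · rw [h', show u * a₀⁻¹ * u⁻¹ = (u * a₀ * u⁻¹)⁻¹ by group] at e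
      exact (h.conj_cases a₀ ha₀ u huS ha₀').elim (fun g => hmove.2 (by rw [e, g]))
        fun g => hmove.1 (by rw [e, g, inv_inv])
  set b₀ := v * a₀ * v⁻¹ with hb₀
  set c₀ := v * b₀ * v⁻¹ with hc₀
  have hc2 : c₀ = v * v * a₀ * (v * v)⁻¹ := by rw [hc₀, hb₀]; group
  have hcb : c₀ ≠ b₀ ∧ c₀ ≠ b₀⁻¹ := by
    constructor <;> intro h'
    · exact hvmove.1 (mul_left_cancel (mul_right_cancel h'))
    · refine hvmove.2 (mul_left_cancel (mul_right_cancel (h'.trans ?_)))
      rw [hb₀]; group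
  have hstab : ∀ m : G, (m * a₀ * m⁻¹ = a₀ ∨ m * a₀ * m⁻¹ = a₀⁻¹) → ∀ j : ℕ,
      m ^ j * a₀ * (m ^ j)⁻¹ = a₀ ∨ m ^ j * a₀ * (m ^ j)⁻¹ = a₀⁻¹ := by
    intro m hm j
    induction j with
    | zero => simp
    | succ j ih =>
      have e : m ^ (j + 1) * a₀ * (m ^ (j + 1))⁻¹ = m * (m ^ j * a₀ * (m ^ j)⁻¹) * m⁻¹ := by
        rw [pow_succ']; group
      rw [e]
      rcases ih with g | g <;> rw [g]
      · exact hm
      · rw [show m * a₀⁻¹ * m⁻¹ = (m * a₀ * m⁻¹)⁻¹ by group]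
        rcases hm with g' | g' <;> rw [g']
        · exact .inr rfl
        · exact .inl (inv_inv _)
  have hca : c₀ ≠ a₀ ∧ c₀ ≠ a₀⁻¹ := by
    have key : ¬ (c₀ = a₀ ∨ c₀ = a₀⁻¹) := by
      intro h'
      rw [hc2] at h'
      obtain ⟨j, hj⟩ : ∃ j : ℕ, (v * v) ^ j = v := by
        obtain ⟨l, hl⟩ := Nat.odd_iff.2 (Nat.two_dvd_ne_zero.1 hv)
        refine ⟨l + 1, ?_⟩
        rw [← pow_two, ← pow_mul, show 2 * (l + 1) = orderOf v + 1 by omega, pow_succ,
          pow_orderOf_eq_one, one_mul]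
      have := hstab _ h' j
      rw [hj] at this
      exact this.elim hvmove.1 hvmove.2
    exact ⟨fun e => key (.inl e), fun e => key (.inr e)⟩
  have hb₀S := hmap hvN ha₀
  have hc₀S := hmap hvN hb₀S
  have hall : ∀ d ∈ (S : Subgroup G), d * d ≠ 1 → ∃ m ∈ N, m * a₀ * m⁻¹ = d := by
    obtain ⟨w, hw, hw'⟩ := h.conj_inv a₀ ha₀ ha₀'
    intro d hd hd'
    rcases h.three_pairs a₀ ha₀ b₀ hb₀S c₀ hc₀S ha₀' (hsq v a₀ ha₀') (hsq v b₀ (hsq v a₀ ha₀'))
      hvmove.1 hvmove.2 hca.1 hca.2 hcb.1 hcb.2 d hd hd' with rfl | rfl | rfl | rfl | rfl | rfl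
    · exact ⟨1, one_mem _, by simp⟩
    · exact ⟨w, hS hw, hw'⟩
    · exact ⟨v, hvN, rfl⟩
    · exact ⟨v * w, mul_mem hvN (hS hw), by
        rw [show v * w * a₀ * (v * w)⁻¹ = v * (w * a₀ * w⁻¹) * v⁻¹ by group, hw', hb₀]; group⟩
    · exact ⟨v * v, mul_mem hvN hvN, hc2.symm⟩
    · exact ⟨v * v * w, mul_mem (mul_mem hvN hvN) (hS hw), by
        rw [show v * v * w * a₀ * (v * v * w)⁻¹ = v * v * (w * a₀ * w⁻¹) * (v * v)⁻¹ by group,
          hw', hc2]; simp [mul_assoc]⟩
  intro a ha b hb ha' hb'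
  obtain ⟨m₁, hm₁, rfl⟩ := hall a ha ha'
  obtain ⟨m₂, hm₂, rfl⟩ := hall b hb hb'
  exact ⟨m₂ * m₁⁻¹, mul_mem hm₂ (inv_mem hm₁), by group⟩

/-- A subgroup of index coprime two with a cyclic Sylow 2-subgroup has a normal complement. -/
theorem cyclic_two_complement {H : Type u} [Group H] [Finite H] (Q : Sylow 2 H)
    (hQ : IsCyclic (Q : Subgroup H)) :
    ∃ K : Subgroup H, K.Normal ∧ ¬ 2 ∣ Nat.card K ∧ K.index = Nat.card (Q : Subgroup H) := by
  haveI : Fact (Nat.Prime 2) := ⟨Nat.prime_two⟩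
  have hN : Subgroup.normalizer ((Q : Subgroup H) : Set H) ≤
      Subgroup.centralizer ((Q : Subgroup H) : Set H) := by
    by_cases h2 : 2 ∣ Nat.card H
    · exact IsCyclic.normalizer_le_centralizer ((Nat.minFac_eq_two_iff _).2 h2) hQ
    · have hbot : (Q : Subgroup H) = ⊥ := by
        rw [← Subgroup.card_eq_one, Q.card_eq_multiplicity,
          Nat.factorization_eq_zero_of_not_dvd h2, pow_zero]
      intro x _
      rw [Subgroup.mem_centralizer_iff]
      intro y hy
      rw [hbot] at hy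
      simp [Subgroup.mem_bot.1 hy]
  exact ⟨_, inferInstance, MonoidHom.not_dvd_card_ker_transferSylow Q hN,
    (MonoidHom.ker_transferSylow_isComplement' Q hN).symm.index_eq_card⟩

theorem Q8Sylow.exists_involution {S : Sylow 2 G} (h : Q8Sylow S) :
    ∃ z ∈ (S : Subgroup G), orderOf z = 2 ∧ ∀ a ∈ (S : Subgroup G), a * a ≠ 1 → a * a = z := by
  obtain ⟨a, ha, ha'⟩ := h.exists_four
  haveI : Fact (Nat.Prime 2) := ⟨Nat.prime_two⟩
  exact ⟨a * a, mul_mem ha ha, orderOf_eq_prime (by rw [pow_two]; exact h.sq_sq a ha) ha',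
    fun b hb hb' => h.sq_unique b hb a ha hb' ha'⟩

theorem Q8Sylow.eq_of_orderOf_two {S : Sylow 2 G} (h : Q8Sylow S) {z : G}
    (hz : ∀ a ∈ (S : Subgroup G), a * a ≠ 1 → a * a = z) {u : G} (hu : u ∈ (S : Subgroup G))
    (hu2 : orderOf u = 2) : u = z := by
  obtain ⟨a, ha, ha'⟩ := h.exists_four
  have huu : u * u = 1 := by rw [← pow_two, ← hu2, pow_orderOf_eq_one]
  rcases h.small u hu a ha huu ha' with e | e
  · rw [e, orderOf_one] at hu2; norm_num at hu2
  · rw [e, hz a ha ha']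

theorem Q8Sylow.twoRankOne {S : Sylow 2 G} (h : Q8Sylow S) : BS.TwoRankOne G := by
  obtain ⟨z, -, -, hz⟩ := h.exists_involution
  exact BS.twoRankOne_of_sylow S fun u hu v hv hu2 hv2 =>
    (h.eq_of_orderOf_two hz hu hu2).trans (h.eq_of_orderOf_two hz hv hv2).symm

/-- If the normalizer fixes the elements of order four up to inversion there is a normal
2-complement. -/
theorem Q8Sylow.exists_complement {S : Sylow 2 G} (h : Q8Sylow S)
    (hfix : ∀ n ∈ Subgroup.normalizer ((S : Subgroup G) : Set G), ∀ a ∈ (S : Subgroup G),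
      a * a ≠ 1 → n * a * n⁻¹ = a ∨ n * a * n⁻¹ = a⁻¹) :
    ∃ N : Subgroup G, N.Normal ∧ Subgroup.IsComplement' N (S : Subgroup G) := by
  haveI : Fact (Nat.Prime 2) := ⟨Nat.prime_two⟩
  obtain ⟨z, hzS, hz2, hzsq⟩ := h.exists_involution
  set K := pPrimeCore 2 G with hK
  haveI : K.Normal := Grp.pPrimeCore_isNormal
  have hKcop : (Nat.card K).Coprime 2 := Grp.pPrimeCore_coprime
  have hcomm : ∀ g : G, z * g * z⁻¹ * g⁻¹ ∈ K :=
    BS.commutator_mem_oddCore _ G rfl h.twoRankOne z hz2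
  have hzc : QuotientGroup.mk' K z ∈ Subgroup.center (G ⧸ K) := by
    refine Subgroup.mem_center_iff.2 fun q => ?_
    obtain ⟨g, rfl⟩ := QuotientGroup.mk'_surjective K q
    rw [← map_mul, ← map_mul, eq_comm, QuotientGroup.mk'_eq_mk']
    refine ⟨(z * g)⁻¹ * (g * z), ?_, by group⟩
    rw [show (z * g)⁻¹ * (g * z) = g⁻¹ * z⁻¹ * g * z by group]
    have := (inferInstance : K.Normal).conj_mem _ (inv_mem (hcomm g)) (g⁻¹ * z⁻¹)
    simpa [mul_assoc] using this
  set Z := Subgroup.zpowers (QuotientGroup.mk' K z) with hZ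
  haveI : Z.Normal := ⟨fun w hw q => by
    have : w ∈ Subgroup.center (G ⧸ K) := Subgroup.zpowers_le.2 hzc hw
    rw [Subgroup.mem_center_iff.1 this q, mul_inv_cancel_right]; exact hw⟩
  set L := Z.comap (QuotientGroup.mk' K) with hL
  set f := QuotientGroup.mk' L
  have hf : Function.Surjective f := QuotientGroup.mk'_surjective L
  let V : Sylow 2 (G ⧸ L) := S.mapSurjective hf
  have hV : ((V : Subgroup (G ⧸ L))) = (S : Subgroup G).map f := Sylow.coe_mapSurjective hf S
  have hzL : z ∈ L := Subgroup.mem_zpowers _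
  have hN : Subgroup.normalizer ((V : Subgroup (G ⧸ L)) : Set (G ⧸ L)) ≤
      Subgroup.centralizer ((V : Subgroup (G ⧸ L)) : Set (G ⧸ L)) := by
    intro q hq
    obtain ⟨g, rfl⟩ := hf q
    set T := ((V : Subgroup (G ⧸ L))).comap f with hT
    have hST : (S : Subgroup G) ≤ T := fun s hs => by
      rw [hT, Subgroup.mem_comap, hV]; exact ⟨s, hs, rfl⟩
    have hgST : (g • S : Sylow 2 G) ≤ (T : Subgroup G) := by
      rintro _ ⟨s, hs, rfl⟩
      change g * s * g⁻¹ ∈ T
      rw [hT, Subgroup.mem_comap, map_mul, map_mul, map_inv]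
      exact (Subgroup.mem_normalizer_iff.1 hq (f s)).1 (hST hs)
    obtain ⟨⟨t, ht⟩, ht'⟩ := MulAction.exists_smul_eq T (S.subtype hST) ((g • S).subtype hgST)
    have e : (t • S : Sylow 2 G) = g • S := by
      rw [Sylow.smul_subtype hST ⟨t, ht⟩] at ht'
      exact Sylow.subtype_injective ht'
    have hn : t⁻¹ * g ∈ Subgroup.normalizer ((S : Subgroup G) : Set G) :=
      Sylow.smul_eq_iff_mem_normalizer.1 (by rw [mul_smul, ← e, inv_smul_smul])
    rw [hT, Subgroup.mem_comap, hV] at ht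
    obtain ⟨s, hs, hst⟩ := ht
    refine Subgroup.mem_centralizer_iff.2 fun w hw => ?_
    rw [hV] at hw
    obtain ⟨a, ha, rfl⟩ := hw
    have hcase : ∀ {m : G}, m * a * m⁻¹ = a ∨ m * a * m⁻¹ = a⁻¹ → f a * f m = f m * f a := by
      intro m hm
      have hinv : f a⁻¹ = f a := by
        rw [map_inv, inv_eq_iff_mul_eq_one, ← map_mul, QuotientGroup.mk'_apply,
          QuotientGroup.eq_one_iff]
        by_cases ha' : a * a = 1
        · rw [ha']; exact one_mem _
        · rw [hzsq a ha ha']; exact hzL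
      have : f (m * a * m⁻¹) = f a := by rcases hm with e | e <;> simp only [e, hinv]
      rw [map_mul, map_mul, map_inv, mul_inv_eq_iff_eq_mul] at this
      exact this.symm
    have hall : ∀ {m : G}, m ∈ Subgroup.normalizer ((S : Subgroup G) : Set G) →
        f a * f m = f m * f a := by
      intro m hm
      by_cases ha' : a * a = 1
      · obtain ⟨b, hb, hb'⟩ := h.exists_four
        refine hcase (.inl ?_)
        rcases h.small a ha b hb ha' hb' with e | e
        · simp [e]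
        · have hzS' : m * z * m⁻¹ = z := h.eq_of_orderOf_two hzsq
            ((Subgroup.mem_normalizer_iff.1 hm z).1 hzS) (by rw [Invol.orderOf_conj_eq, hz2])
          rw [e, hzsq b hb hb', hzS']
      · exact hcase (hfix m hm a ha ha')
    have e1 : f g = f s * f (t⁻¹ * g) := by rw [hst, ← map_mul, mul_inv_cancel_left]
    rw [e1, ← mul_assoc, hall (Subgroup.le_normalizer hs), mul_assoc, hall hn, mul_assoc]
  set W := ((MonoidHom.transferSylow V hN).ker).comap f with hW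
  haveI : W.Normal := inferInstance
  have hcompV := MonoidHom.ker_transferSylow_isComplement' V hN
  have hWidx : W.index = Nat.card (V : Subgroup (G ⧸ L)) := by
    rw [hW, Subgroup.index_comap_of_surjective _ hf, hcompV.symm.index_eq_card]
  -- the image of the Sylow subgroup has order four
  have hLcard : Nat.card L = 2 * Nat.card K := by
    have hz1 : QuotientGroup.mk' K z ≠ 1 := by
      rw [Ne, QuotientGroup.mk'_apply, QuotientGroup.eq_one_iff]
      intro hzK
      have h1 := Subgroup.orderOf_dvd_natCard K hzK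
      rw [hz2] at h1
      exact absurd (Nat.eq_one_of_dvd_coprimes hKcop h1 dvd_rfl) (by norm_num)
    have hord : orderOf (QuotientGroup.mk' K z) = 2 :=
      orderOf_eq_prime (by rw [← map_pow, ← hz2, pow_orderOf_eq_one, map_one]) hz1
    have h1 := Subgroup.card_mul_index L
    have h2 := Subgroup.card_mul_index Z
    have h3 := Subgroup.card_mul_index K
    rw [hL, Subgroup.index_comap_of_surjective _ (QuotientGroup.mk'_surjective K), ← hL] at h1
    rw [hZ, Nat.card_zpowers, hord, ← hZ, ← Subgroup.index_eq_card] at h2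
    rw [← h2] at h3
    refine Nat.eq_of_mul_eq_mul_right
      (Nat.pos_of_ne_zero (Subgroup.index_ne_zero_of_finite (H := Z))) ?_
    rw [h1, ← h3]
    ring
  have hG : Nat.card G = 8 * (S : Subgroup G).index := by
    rw [← h.card_eq, Subgroup.card_mul_index]
  have hidxodd : ¬ 2 ∣ (S : Subgroup G).index := S.not_dvd_index
  have hVcard : Nat.card (V : Subgroup (G ⧸ L)) = 4 := by
    rw [V.card_eq_multiplicity]
    have h1 : Nat.card G = Nat.card (G ⧸ L) * Nat.card L := Subgroup.card_eq_card_quotient_mul_card_subgroup L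
    have h2 := congrArg (fun n => n.factorization 2) h1
    simp only [hLcard] at h2
    rw [hG, Nat.factorization_mul (by norm_num) Subgroup.index_ne_zero_of_finite,
      Nat.factorization_mul Nat.card_pos.ne' (mul_ne_zero (by norm_num) Nat.card_pos.ne'),
      Nat.factorization_mul (by norm_num) Nat.card_pos.ne'] at h2
    simp only [Finsupp.add_apply, Nat.factorization_eq_zero_of_not_dvd hidxodd,
      Nat.factorization_eq_zero_of_not_dvd
        (Nat.prime_two.coprime_iff_not_dvd.1 hKcop.symm), show (8 : ℕ) = 2 ^ 3 by norm_num,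
      Nat.Prime.factorization_pow Nat.prime_two, Finsupp.single_eq_same,
      Nat.Prime.factorization_self Nat.prime_two] at h2
    rw [show (Nat.card (G ⧸ L)).factorization 2 = 2 by omega]
    norm_num
  have hWcard : Nat.card W = 2 * (S : Subgroup G).index := by
    have := Subgroup.card_mul_index W
    rw [hWidx, hVcard, hG] at this
    omega
  let Q : Sylow 2 W := default
  have hQ2 : Nat.card (Q : Subgroup W) = 2 := by
    rw [Q.card_eq_multiplicity, hWcard, Nat.factorization_mul (by norm_num)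
      Subgroup.index_ne_zero_of_finite, Finsupp.add_apply,
      Nat.factorization_eq_zero_of_not_dvd hidxodd, Nat.Prime.factorization_self Nat.prime_two]
    norm_num
  obtain ⟨N', hN'n, hN'odd, hN'idx⟩ := cyclic_two_complement Q (isCyclic_of_prime_card hQ2)
  haveI := hN'n
  refine ⟨N'.map W.subtype, ⟨?_⟩, ?_⟩
  · rintro _ ⟨⟨n, hnW⟩, hnN, rfl⟩ g
    refine ⟨⟨g * n * g⁻¹, Subgroup.Normal.conj_mem inferInstance n hnW g⟩, ?_, rfl⟩
    refine regular_mem_of_index_pPow (p := 2) (k := 1) (by rw [hN'idx, hQ2, pow_one]) ?_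
    rw [← Subgroup.orderOf_coe, Invol.orderOf_conj_eq]
    intro hd
    refine hN'odd ((hd.trans ?_))
    have := Subgroup.orderOf_dvd_natCard N' hnN
    rwa [← Subgroup.orderOf_coe] at this
  · have hc : Nat.card (N'.map W.subtype) = (S : Subgroup G).index := by
      rw [Subgroup.card_map_of_injective (Subgroup.subtype_injective W)]
      have := Subgroup.card_mul_index N'
      rw [hN'idx, hQ2, hWcard] at this
      omega
    refine Subgroup.isComplement'_of_coprime ?_ ?_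
    · rw [hc, mul_comm, Subgroup.card_mul_index]
    · rw [hc, h.card_eq, show (8 : ℕ) = 2 ^ 3 by norm_num]
      exact Nat.Coprime.pow_right _ (Nat.prime_two.coprime_iff_not_dvd.2 hidxodd).symm

/-- Without a normal 2-complement the normalizer is transitive on the elements of order four. -/
theorem Q8Sylow.transitive {S : Sylow 2 G} (h : Q8Sylow S)
    (hnc : ∀ N : Subgroup G, N.Normal → ¬ Subgroup.IsComplement' N (S : Subgroup G)) :
    ∀ a ∈ (S : Subgroup G), ∀ b ∈ (S : Subgroup G), a * a ≠ 1 → b * b ≠ 1 →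
      ∃ n ∈ Subgroup.normalizer ((S : Subgroup G) : Set G), n * a * n⁻¹ = b := by
  rcases h.dichotomy with h' | h'
  · exact h'
  · obtain ⟨N, hN, hc⟩ := h.exists_complement h'
    exact absurd hc (hnc N hN)

theorem Q8Sylow.zpowers_of_card_four {S : Sylow 2 G} (h : Q8Sylow S) {A : Subgroup G}
    (hA : A ≤ S) (hA4 : Nat.card A = 4) : ∃ a ∈ A, a * a ≠ 1 ∧ A = Subgroup.zpowers a := by
  haveI : Fact (Nat.Prime 2) := ⟨Nat.prime_two⟩
  obtain ⟨z, hzS, hz2, hzsq⟩ := h.exists_involution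
  obtain ⟨a, haA, ha⟩ : ∃ a ∈ A, a * a ≠ 1 := by
    by_contra hcon
    push Not at hcon
    have hsub : A ≤ Subgroup.zpowers z := by
      intro a ha
      obtain ⟨b, hb, hb'⟩ := h.exists_four
      rcases h.small a (hA ha) b hb (hcon a ha) hb' with e | e
      · rw [e]; exact one_mem _
      · rw [e, hzsq b hb hb']; exact Subgroup.mem_zpowers z
    have := Subgroup.card_dvd_of_le hsub
    rw [hA4, Nat.card_zpowers, hz2] at this
    norm_num at this
  refine ⟨a, haA, ha, (Subgroup.eq_of_le_of_card_ge (Subgroup.zpowers_le.2 haA) ?_).symm⟩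
  rw [hA4, Nat.card_zpowers, orderOf_eq_prime_pow (p := 2) (n := 1) (by
    rw [pow_one, pow_two]; exact ha) (by
    rw [show (2 : ℕ) ^ (1 + 1) = 2 + 2 by norm_num, pow_add, pow_two]; exact h.sq_sq a (hA haA))]
  norm_num

end Cfsg.Agent.Block
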