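import Mathlib.LinearAlgebra.Matrix.Kronecker
import Mathlib.LinearAlgebra.Trace
import Mathlib.Data.Fintype.Units
import Cfsg.Agent.Lib.Char.Complete
import Cfsg.Agent.Lib.Char.Constituent
import Cfsg.Agent.Lib.Char.Quotient

/-!
# The Frobenius–Schur indicator
-/

set_option autoImplicit false
set_option linter.style.haveILetI false

open Cfsg
open scoped ComplexConjugate Kronecker

namespace Cfsg.Agent.Block.FS

universe u

variable {G : Type u} [Group G]

open Cfsg.Agent.Char

/-- The average of `f (g * g)`. -/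
noncomputable def ind [Fintype G] (f : G → ℂ) : ℂ :=
  (Nat.card G : ℂ)⁻¹ * ∑ g : G, f (g * g)

/-- The matrix of the interchange of the two tensor factors. -/
def swapMat (n : ℕ) : Matrix (Fin n × Fin n) (Fin n × Fin n) ℂ :=
  Matrix.of fun a b => if a = b.swap then 1 else 0

theorem mul_swapMat {n : ℕ} (M : Matrix (Fin n × Fin n) (Fin n × Fin n) ℂ)
    (a b : Fin n × Fin n) : (M * swapMat n) a b = M a b.swap := by
  rw [Matrix.mul_apply, Finset.sum_eq_single b.swap]
  · simp [swapMat]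
  · intro c _ hc; simp [swapMat, hc]
  · simp

theorem swapMat_mul {n : ℕ} (M : Matrix (Fin n × Fin n) (Fin n × Fin n) ℂ)
    (a b : Fin n × Fin n) : (swapMat n * M) a b = M a.swap b := by
  rw [Matrix.mul_apply, Finset.sum_eq_single a.swap]
  · simp [swapMat]
  · intro c _ hc
    have : a ≠ c.swap := fun h => hc (by rw [h, Prod.swap_swap])
    simp [swapMat, this]
  · simp

theorem swapMat_sq (n : ℕ) : swapMat n * swapMat n = 1 := by
  ext a b
  rw [mul_swapMat, Matrix.one_apply]
  simp [swapMat, Prod.swap_swap]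

theorem kron_swap {n : ℕ} (A : Matrix (Fin n) (Fin n) ℂ) :
    swapMat n * (A ⊗ₖ A) = (A ⊗ₖ A) * swapMat n := by
  ext a b
  rw [swapMat_mul, mul_swapMat, Matrix.kronecker_apply, Matrix.kronecker_apply]
  exact mul_comm _ _

theorem trace_kron_swap {n : ℕ} (A : Matrix (Fin n) (Fin n) ℂ) :
    ((A ⊗ₖ A) * swapMat n).trace = (A * A).trace := by
  simp only [Matrix.trace, Matrix.diag]
  rw [Finset.sum_congr rfl fun x _ => mul_swapMat (A ⊗ₖ A) x x, Fintype.sum_prod_type]
  refine Finset.sum_congr rfl fun i _ => ?_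
  rw [Matrix.mul_apply]
  exact Finset.sum_congr rfl fun j _ => rfl

/-- The character of `G × ℤˣ` on the tensor square. -/
theorem exists_square_char [Finite G] {χ : G → ℂ} (hχ : IsCharacter G χ) :
    ∃ Φ : G × ℤˣ → ℂ, IsCharacter (G × ℤˣ) Φ ∧
      ∀ g : G, Φ (g, 1) = χ g * χ g ∧ Φ (g, -1) = χ (g * g) := by
  classical
  obtain ⟨n, ρ, rfl⟩ := hχ
  let A : G → Matrix (Fin n) (Fin n) ℂ := fun g => LinearMap.toMatrix' (ρ g)
  have hA1 : A 1 = 1 := by simp [A]
  have hAm : ∀ a b, A (a * b) = A a * A b := fun a b => by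
    simp [A, LinearMap.toMatrix'_mul]
  have htr : ∀ g, (A g).trace = ρ.character g := fun g => by
    rw [Representation.character, ← Matrix.trace_toLin'_eq, Matrix.toLin'_toMatrix']
  let S : ℤˣ → Matrix (Fin n × Fin n) (Fin n × Fin n) ℂ := fun s =>
    if s = 1 then 1 else swapMat n
  have hSm : ∀ s t, S (s * t) = S s * S t := by
    intro s t
    rcases Int.units_eq_one_or s with rfl | rfl <;> rcases Int.units_eq_one_or t with rfl | rfl <;>
      simp [S, swapMat_sq]
  have hSc : ∀ (s : ℤˣ) (g : G), S s * (A g ⊗ₖ A g) = (A g ⊗ₖ A g) * S s := by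
    intro s g
    rcases Int.units_eq_one_or s with rfl | rfl <;> simp [S, kron_swap]
  let R : G × ℤˣ →* Matrix (Fin n × Fin n) (Fin n × Fin n) ℂ :=
    { toFun := fun x => (A x.1 ⊗ₖ A x.1) * S x.2
      map_one' := by simp [hA1, S]
      map_mul' := fun x y => by
        rw [Prod.fst_mul, Prod.snd_mul, hAm, Matrix.mul_kronecker_mul, hSm]
        calc (A x.1 ⊗ₖ A x.1) * (A y.1 ⊗ₖ A y.1) * (S x.2 * S y.2)
            = (A x.1 ⊗ₖ A x.1) * ((A y.1 ⊗ₖ A y.1) * S x.2) * S y.2 := by
              simp only [mul_assoc]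
          _ = _ := by rw [← hSc]; simp only [mul_assoc] }
  let σ : Representation ℂ (G × ℤˣ) (Fin n × Fin n → ℂ) :=
    ((Matrix.toLinAlgEquiv' : Matrix (Fin n × Fin n) (Fin n × Fin n) ℂ ≃ₐ[ℂ] _).toMonoidHom).comp R
  refine ⟨σ.character, isCharacter_character σ, fun g => ?_⟩
  have hσ : ∀ x, σ.character x = (R x).trace := fun x => by
    rw [Representation.character, ← Matrix.trace_toLin'_eq]
    rfl
  constructor
  · rw [hσ]
    show ((A g ⊗ₖ A g) * S 1).trace = _
    simp only [S, if_pos, mul_one, Matrix.trace_kronecker, htr]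
  · rw [hσ]
    show ((A g ⊗ₖ A g) * S (-1)).trace = _
    simp only [S, if_neg (show ¬ ((-1 : ℤˣ) = 1) by decide), trace_kron_swap, ← hAm, htr]

theorem sum_units_int {M : Type*} [AddCommMonoid M] (f : ℤˣ → M) :
    ∑ s : ℤˣ, f s = f 1 + f (-1) := by
  rw [show (Finset.univ : Finset ℤˣ) = {1, -1} by decide, Finset.sum_pair (by decide)]

variable [Fintype G]

theorem ind_eq (χ : IrrCharacter G) :
    (ind (χ : G → ℂ) = 0 ∧ ¬ (∀ g, conj ((χ : G → ℂ) g) = (χ : G → ℂ) g)) ∨
      ((ind (χ : G → ℂ) = 1 ∨ ind (χ : G → ℂ) = -1) ∧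
        ∀ g, conj ((χ : G → ℂ) g) = (χ : G → ℂ) g) := by
  classical
  obtain ⟨Φ, hΦ, hv⟩ := exists_square_char (IsIrr.isCharacter χ.2)
  obtain ⟨a, ha⟩ := IsChar.classInner_nat hΦ IsChar.one
  obtain ⟨b, hb⟩ := IsChar.classInner_nat hΦ
    (IsIrr.isCharacter (isIrr_linear ((Units.map (Int.castRingHom ℂ).toMonoidHom).comp
      (MonoidHom.snd G ℤˣ))))
  have hn : (Nat.card G : ℂ) ≠ 0 := Nat.cast_ne_zero.mpr Nat.card_pos.ne'
  have hcard : (Nat.card (G × ℤˣ) : ℂ) = (Nat.card G : ℂ) * 2 := by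
    rw [Nat.card_prod, Nat.card_eq_fintype_card (α := ℤˣ),
      show Fintype.card ℤˣ = 2 by decide]
    push_cast; ring
  rw [classInner, hcard, Fintype.sum_prod_type,
    Finset.sum_congr rfl (fun g _ => show _ = (χ : G → ℂ) g * (χ : G → ℂ) g +
      (χ : G → ℂ) (g * g) by
        rw [sum_units_int]; simp only [map_one, mul_one, (hv g).1, (hv g).2]),
    Finset.sum_add_distrib] at ha
  rw [classInner, hcard, Fintype.sum_prod_type,
    Finset.sum_congr rfl (fun g _ => show _ = (χ : G → ℂ) g * (χ : G → ℂ) g -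
      (χ : G → ℂ) (g * g) by
        rw [sum_units_int]; simp [(hv g).1, (hv g).2, sub_eq_add_neg]),
    Finset.sum_sub_distrib] at hb
  have hr : classInner (χ : G → ℂ) (fun g => conj ((χ : G → ℂ) g)) =
      (Nat.card G : ℂ)⁻¹ * ∑ g : G, (χ : G → ℂ) g * (χ : G → ℂ) g := by
    simp [classInner]
  have hab : ((a + b : ℕ) : ℂ) = classInner (χ : G → ℂ) (fun g => conj ((χ : G → ℂ) g)) := by
    push_cast
    rw [hr, ← ha, ← hb]
    field_simp
    ring
  have hind : ind (χ : G → ℂ) = (a : ℂ) - b := by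
    rw [ind, ← ha, ← hb]
    field_simp
    ring
  by_cases hreal : ∀ g, conj ((χ : G → ℂ) g) = (χ : G → ℂ) g
  · rw [funext hreal, classInner_self_irr χ.2] at hab
    have h1 : a + b = 1 := by exact_mod_cast hab
    refine Or.inr ⟨?_, hreal⟩
    rcases Nat.eq_zero_or_pos a with h0 | h0
    · right; rw [hind, h0, show b = 1 by omega]; simp
    · left; rw [hind, show a = 1 by omega, show b = 0 by omega]; simp
  · rw [classInner_irr_ne χ.2 (IsIrr.conj χ.2)
      (fun e => hreal fun g => (congrFun e g).symm)] at hab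
    have h1 : a + b = 0 := by exact_mod_cast hab
    refine Or.inl ⟨?_, hreal⟩
    rw [hind, show a = 0 by omega, show b = 0 by omega]; simp

theorem ind_one : ind (fun _ : G => (1 : ℂ)) = 1 := by
  simp [ind]

theorem ind_eq_classInner_one_of_odd (hodd : Odd (Nat.card G)) (f : G → ℂ) :
    ind f = classInner f (fun _ => 1) := by
  have hbij : Function.Bijective (fun g : G => g * g) :=
    Finite.injective_iff_bijective.mp fun a b h => by
      obtain ⟨k, hk⟩ := hodd
      have e : ∀ g : G, (g * g) ^ (k + 1) = g := fun g => by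
        rw [← sq, ← pow_mul, show 2 * (k + 1) = Nat.card G + 1 by omega, pow_succ,
          pow_card_eq_one', one_mul]
      rw [← e a, ← e b]; exact congrArg (· ^ (k + 1)) h
  simp only [ind, classInner, map_one, mul_one]
  exact congrArg _ (Function.Bijective.sum_comp hbij f)

/-- In a group of odd order only the principal character is real. -/
theorem eq_one_of_real_of_odd (hodd : Odd (Nat.card G)) (χ : IrrCharacter G)
    (hr : ∀ g, conj ((χ : G → ℂ) g) = (χ : G → ℂ) g) : (χ : G → ℂ) = fun _ => 1 := by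
  by_contra hne
  have h := ind_eq_classInner_one_of_odd hodd (χ : G → ℂ)
  rw [classInner_irr_ne χ.2 isIrr_one hne] at h
  rcases ind_eq χ with ⟨-, hn⟩ | ⟨h1 | h1, -⟩
  · exact hn hr
  · rw [h1] at h; exact one_ne_zero h
  · rw [h1] at h; exact neg_ne_zero.mpr one_ne_zero h

theorem ind_comp_surjective {Q : Type*} [Group Q] [Fintype Q] (φ : G →* Q)
    (hφ : Function.Surjective φ) (f : Q → ℂ) : ind (fun g => f (φ g)) = ind f := by
  have e : ∀ g : G, f (φ (g * g)) = (fun q => f (q * q)) (φ g) := fun g => by simp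
  simp only [ind]
  rw [Finset.sum_congr rfl fun g _ => e g,
    sum_comp_surjective φ hφ (fun q => f (q * q))]
  have hcard : (Nat.card G : ℂ) = Nat.card φ.ker * Nat.card Q := by
    rw [← Nat.cast_mul, ← Nat.card_congr (Equiv.ofBijective _
      (QuotientGroup.quotientKerEquivOfSurjective φ hφ).bijective), ← mul_comm (Nat.card _),
      ← Subgroup.card_eq_card_quotient_mul_card_subgroup]
  rw [hcard, mul_inv]
  have hk : (Nat.card φ.ker : ℂ) ≠ 0 := Nat.cast_ne_zero.mpr Nat.card_pos.ne'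
  field_simp

theorem ind_sum {ι : Type*} (s : Finset ι) (a : ι → ℂ) (f : ι → G → ℂ) :
    ind (fun g => ∑ i ∈ s, a i * f i g) = ∑ i ∈ s, a i * ind (f i) := by
  simp only [ind, Finset.mul_sum]
  rw [Finset.sum_comm]
  exact Finset.sum_congr rfl fun i _ => Finset.sum_congr rfl fun g _ => by ring

end Cfsg.Agent.Block.FS
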