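import Mathlib.Analysis.SpecialFunctions.Log.Basic
import Mathlib.GroupTheory.Complement
import Cfsg.Agent.Lib.Char.Galois
import Cfsg.Agent.Lib.Char.Quotient
import Cfsg.Agent.Lib.Char.ExtendMain
import Cfsg.Agent.Lib.Char.ModP

/-!
# The bound `k(X) ≤ |C| |V| - (|G| - k(G))`
-/

set_option autoImplicit false
set_option linter.style.haveILetI false

open Cfsg
open scoped ComplexConjugate

namespace Cfsg.Agent.Block.CentralizerBound

universe u

variable {X : Type u} [Group X]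

open Cfsg.Agent.Char

/-- The irreducible characters of a quotient, as characters with the subgroup in the kernel. -/
noncomputable def inflEquiv [Finite X] (V : Subgroup X) [V.Normal] :
    IrrCharacter (X ⧸ V) ≃
      {χ : IrrCharacter X // ∀ u ∈ V, (χ : X → ℂ) u = (χ : X → ℂ) 1} :=
  Equiv.ofBijective
    (fun ψ => ⟨⟨fun x => (ψ : X ⧸ V → ℂ) (x : X ⧸ V),
      IsIrr.comp_surjective (QuotientGroup.mk' V) (QuotientGroup.mk'_surjective V) ψ.2⟩,
      fun u hu => by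
        show (ψ : X ⧸ V → ℂ) (u : X ⧸ V) = (ψ : X ⧸ V → ℂ) ((1 : X) : X ⧸ V)
        rw [(QuotientGroup.eq_one_iff u).mpr hu, QuotientGroup.mk_one]⟩)
    ⟨fun ψ ψ' h => Subtype.ext (funext fun q => by
      induction q using QuotientGroup.induction_on with
      | H x => exact congrFun (congrArg (fun t => t.1.1) h :) x),
     fun χ => by
      obtain ⟨ψ, hψ, he⟩ := IsIrr.exists_factor_quotient χ.1.2 V χ.2
      exact ⟨⟨ψ, hψ⟩, Subtype.ext (Subtype.ext (funext he))⟩⟩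

theorem inflEquiv_apply [Finite X] (V : Subgroup X) [V.Normal] (ψ : IrrCharacter (X ⧸ V)) (x : X) :
    ((inflEquiv V ψ).1 : X → ℂ) x = (ψ : X ⧸ V → ℂ) (x : X ⧸ V) := rfl

theorem value_ne_zero [Fintype X] {p : ℕ} [Fact p.Prime] (V : Subgroup X) [V.Normal]
    (hVp : IsPGroup p V) (hidx : ¬ p ∣ V.index) (hab : ∀ a ∈ V, ∀ b ∈ V, a * b = b * a)
    (χ : IrrCharacter X) {v : X} (hv : v ∈ V) : (χ : X → ℂ) v ≠ 0 := by
  classical
  haveI := Fintype.ofFinite V
  obtain ⟨θ, hθ⟩ := IsChar.exists_constituent' (IsChar.res (IsIrr.isCharacter χ.2) V) (by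
    show (χ : X → ℂ) ((1 : V) : X) ≠ 0
    rw [Subgroup.coe_one]; exact IsIrr.one_ne_zero χ.2)
  obtain ⟨e, he, hed⟩ := Ext.ratio_dvd_index' (G := X) (N := V) χ.2 θ.2 hθ
  rw [IsIrr.one_of_comm (fun a b => Subtype.ext (hab a a.2 b b.2)) θ.2, mul_one] at he
  obtain ⟨M, hM⟩ := exists_isPModular p Fact.out
  intro h0
  obtain ⟨k, hk⟩ := hVp ⟨v, hv⟩
  obtain ⟨j, -, hj⟩ := (Nat.dvd_prime_pow (Fact.out : p.Prime)).mp
    (orderOf_dvd_of_pow_eq_one (congrArg Subtype.val hk : v ^ p ^ k = 1))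
  have hmem := IsChar.sub_degree_mem (IsIrr.isCharacter χ.2) hM (g := v) ⟨j, hj⟩
  have hv0 : (⟨(χ : X → ℂ) v, IsChar.isIntegral (IsIrr.isCharacter χ.2) v⟩ : AlgInt) = 0 :=
    Subtype.ext h0
  have h1 : (⟨(χ : X → ℂ) 1, IsChar.isIntegral (IsIrr.isCharacter χ.2) 1⟩ : AlgInt) =
      (e : AlgInt) := Subtype.ext (by simpa using he)
  rw [hv0, h1, zero_sub, neg_mem_iff, natCast_mem_iff hM] at hmem
  exact hidx (hmem.trans hed)

theorem card_le_sum_normSq {ι : Type*} (s : Finset ι) (a : ι → ℝ) (hpos : ∀ i ∈ s, 0 < a i)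
    (hprod : 1 ≤ ∏ i ∈ s, a i) : (s.card : ℝ) ≤ ∑ i ∈ s, a i := by
  have h1 : 0 ≤ ∑ i ∈ s, Real.log (a i) := by
    rw [← Real.log_prod (fun i hi => (hpos i hi).ne')]
    exact Real.log_nonneg hprod
  have h2 : ∑ i ∈ s, Real.log (a i) ≤ ∑ i ∈ s, (a i - 1) :=
    Finset.sum_le_sum fun i hi => Real.log_le_sub_one_of_pos (hpos i hi)
  rw [Finset.sum_sub_distrib, Finset.sum_const, nsmul_one] at h2
  linarith

theorem nonkernel_bound [Fintype X] [DecidableEq (IrrCharacter X)] {p : ℕ} [Fact p.Prime]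
    (V : Subgroup X) [V.Normal] (hVp : IsPGroup p V) (hidx : ¬ p ∣ V.index)
    (hab : ∀ a ∈ V, ∀ b ∈ V, a * b = b * a) {v : X} (hv : v ∈ V) (T : Finset (IrrCharacter X))
    (hT : ∀ χ : IrrCharacter X, χ ∈ T ↔ ¬ ∀ u ∈ V, (χ : X → ℂ) u = (χ : X → ℂ) 1) :
    (T.card : ℝ) ≤ ∑ χ ∈ T, Complex.normSq ((χ : X → ℂ) v) := by
  classical
  have hne : ∀ χ : IrrCharacter X, (χ : X → ℂ) v ≠ 0 := fun χ =>
    value_ne_zero V hVp hidx hab χ hv
  refine card_le_sum_normSq T _ (fun χ _ => Complex.normSq_pos.mpr (hne χ)) ?_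
  let Φ : X → ℂ := ∏ χ ∈ T, (χ : X → ℂ) * fun g => conj ((χ : X → ℂ) g)
  have hΦ : IsCharacter X Φ := Finset.prod_induction _ (IsCharacter X)
    (fun a b ha hb => IsChar.mul ha hb) IsChar.one
    fun χ _ => IsChar.mul (IsIrr.isCharacter χ.2) (IsChar.conj (IsIrr.isCharacter χ.2))
  have hval : ∀ g, Φ g = ∏ χ ∈ T, (χ : X → ℂ) g * conj ((χ : X → ℂ) g) := fun g => by
    simp [Φ, Finset.prod_apply]
  obtain ⟨m, hm⟩ := IsChar.exists_int_of_fixed hΦ v fun k hk => by
    obtain ⟨k', hk', hmod⟩ := exists_coprime_lift (Nat.card_pos (α := X)) (orderOf_dvd_natCard v) hk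
    have hpk : v ^ k = v ^ k' := pow_eq_pow_iff_modEq.mpr hmod.symm
    rw [hpk, hval, hval]
    let π : IrrCharacter X → IrrCharacter X := fun χ =>
      ⟨fun g => (χ : X → ℂ) (g ^ k'), IsIrr.pow_map χ.2 hk'⟩
    have hb : Function.Bijective (fun g : X => g ^ k') :=
      (powCoprime (Nat.Coprime.symm hk')).bijective
    have hπ : Function.Bijective π := Finite.injective_iff_bijective.mp fun χ χ' h => by
      refine Subtype.ext (funext fun g => ?_)
      obtain ⟨g', rfl⟩ := hb.2 g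
      exact congrFun (congrArg Subtype.val h) g'
    have hmem : ∀ χ, χ ∈ T ↔ π χ ∈ T := by
      intro χ
      rw [hT, hT]
      refine not_congr ⟨fun h u hu => ?_, fun h u hu => ?_⟩
      · show (χ : X → ℂ) (u ^ k') = (χ : X → ℂ) (1 ^ k')
        rw [one_pow, h _ (V.pow_mem hu k')]
      · obtain ⟨l, hl⟩ := exists_pow_eq_self_of_coprime
          (Nat.Coprime.coprime_dvd_right (orderOf_dvd_natCard u) hk')
        have h' := h (u ^ l) (V.pow_mem hu l)
        have e : (u ^ l) ^ k' = u := by rw [← pow_mul, mul_comm, pow_mul, hl]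
        simp only [π, e, one_pow] at h'
        exact h'
    exact Finset.prod_bij (fun χ _ => π χ) (fun χ hχ => (hmem χ).mp hχ)
      (fun _ _ _ _ h => hπ.1 h)
      (fun χ hχ => by
        obtain ⟨χ', rfl⟩ := hπ.2 χ
        exact ⟨χ', (hmem χ').mpr hχ, rfl⟩)
      (fun χ _ => rfl)
  have hre : ((∏ χ ∈ T, Complex.normSq ((χ : X → ℂ) v) : ℝ) : ℂ) = (m : ℂ) := by
    rw [← hm, hval, Complex.ofReal_prod]
    exact Finset.prod_congr rfl fun χ _ => (Complex.mul_conj _).symm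
  have hm' : ∏ χ ∈ T, Complex.normSq ((χ : X → ℂ) v) = (m : ℝ) := by exact_mod_cast hre
  rw [hm']
  have hpos : (0 : ℝ) < m := hm' ▸ Finset.prod_pos fun χ _ => Complex.normSq_pos.mpr (hne χ)
  have : (1 : ℤ) ≤ m := by exact_mod_cast Int.cast_pos.mp hpos
  exact_mod_cast this

theorem classNumber_bound [Finite X] (p : ℕ) [Fact p.Prime] (V : Subgroup X) [V.Normal]
    (hVp : IsPGroup p V) (hidx : ¬ p ∣ V.index) (hab : ∀ a ∈ V, ∀ b ∈ V, a * b = b * a)
    (G : Subgroup X) (hGV : Subgroup.IsComplement' V G) {v : X} (hv : v ∈ V) :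
    Nat.card (ConjClasses X) + Nat.card G ≤
      Nat.card ↥(G ⊓ Subgroup.centralizer ({v} : Set X)) * Nat.card V +
        Nat.card (ConjClasses G) := by
  classical
  cases nonempty_fintype X
  haveI : Fintype (X ⧸ V) := Fintype.ofFinite _
  let e : G ≃* X ⧸ V := MulEquiv.ofBijective ((QuotientGroup.mk' V).comp G.subtype) <| by
    refine ⟨(injective_iff_map_eq_one _).mpr fun g hg => ?_, fun q => ?_⟩
    · have hgV : (g : X) ∈ V := (QuotientGroup.eq_one_iff (g : X)).mp hg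
      exact Subtype.ext (Subgroup.mem_bot.mp (hGV.disjoint.le_bot ⟨hgV, g.2⟩))
    · induction q using QuotientGroup.induction_on with
      | H x =>
        obtain ⟨⟨⟨a, ha⟩, g⟩, h⟩ := hGV.2 x
        refine ⟨g, ?_⟩
        show ((g : X) : X ⧸ V) = (x : X ⧸ V)
        rw [← h, QuotientGroup.mk_mul, (QuotientGroup.eq_one_iff a).mpr ha, one_mul]
  set K := Finset.univ.filter
    (fun χ : IrrCharacter X => ∀ u ∈ V, (χ : X → ℂ) u = (χ : X → ℂ) 1) with hK
  have hsum : ∑ χ : IrrCharacter X, Complex.normSq ((χ : X → ℂ) v) =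
      (Nat.card (Subgroup.centralizer ({v} : Set X)) : ℝ) := by
    have h := sum_irr_mul_conj v v
    rw [if_pos (IsConj.refl v), Finset.sum_congr rfl fun χ _ => Complex.mul_conj _,
      ← Complex.ofReal_sum] at h
    exact_mod_cast h
  have hcardK : K.card = Nat.card (ConjClasses G) := by
    rw [hK, ← Fintype.card_subtype, ← Nat.card_eq_fintype_card,
      ← Nat.card_congr (inflEquiv V), card_irrCharacter]
    refine (Nat.card_eq_of_bijective (ConjClasses.map e.toMonoidHom)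
      ⟨fun C D h => ?_, ConjClasses.map_surjective e.surjective⟩).symm
    obtain ⟨a, rfl⟩ := ConjClasses.exists_rep C
    obtain ⟨b, rfl⟩ := ConjClasses.exists_rep D
    obtain ⟨t, ht⟩ := isConj_iff.mp (ConjClasses.mk_eq_mk_iff_isConj.mp h)
    refine ConjClasses.mk_eq_mk_iff_isConj.mpr (isConj_iff.mpr ⟨e.symm t, e.injective ?_⟩)
    simpa using ht
  have hsumK : ∑ χ ∈ K, Complex.normSq ((χ : X → ℂ) v) = (Nat.card G : ℝ) := by
    rw [hK, Finset.sum_subtype (p := fun χ : IrrCharacter X =>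
      ∀ u ∈ V, (χ : X → ℂ) u = (χ : X → ℂ) 1) _ (fun χ => by simp),
      ← Equiv.sum_comp (inflEquiv V)]
    have h := sum_degree_sq (G := X ⧸ V)
    rw [← Nat.card_congr e.toEquiv] at h
    have hterm : ∀ ψ : IrrCharacter (X ⧸ V), ((Complex.normSq (((inflEquiv V ψ).1 : X → ℂ) v) : ℝ) : ℂ)
        = (ψ : X ⧸ V → ℂ) 1 ^ 2 := fun ψ => by
      rw [inflEquiv_apply, (QuotientGroup.eq_one_iff v).mpr hv, ← Complex.mul_conj, sq]
      obtain ⟨n, -, hn⟩ := IsIrr.one_eq_pos ψ.2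
      rw [hn, map_natCast]
    rw [← Finset.sum_congr rfl fun ψ _ => hterm ψ, ← Complex.ofReal_sum] at h
    exact_mod_cast h
  have hcent : Nat.card (Subgroup.centralizer ({v} : Set X)) =
      Nat.card ↥(G ⊓ Subgroup.centralizer ({v} : Set X)) * Nat.card V := by
    rw [mul_comm, ← Nat.card_prod]
    have hVC : V ≤ Subgroup.centralizer ({v} : Set X) := fun a ha =>
      Subgroup.mem_centralizer_singleton_iff.mpr (hab a ha v hv)
    refine (Nat.card_eq_of_bijective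
      (fun q : V × ↥(G ⊓ Subgroup.centralizer ({v} : Set X)) =>
        (⟨(q.1 : X) * q.2, mul_mem (hVC q.1.2) q.2.2.2⟩ : Subgroup.centralizer ({v} : Set X)))
      ⟨fun q q' h => ?_, fun c => ?_⟩).symm
    · have h' : (q.1 : X) * (q.2 : X) = q'.1 * q'.2 := congrArg Subtype.val h
      have := hGV.1 (a₁ := (q.1, ⟨q.2, q.2.2.1⟩)) (a₂ := (q'.1, ⟨q'.2, q'.2.2.1⟩)) h'
      exact Prod.ext (Prod.ext_iff.mp this).1
        (Subtype.ext (congrArg (Subtype.val) (Prod.ext_iff.mp this).2 :))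
    · obtain ⟨⟨⟨a, ha⟩, ⟨g, hg⟩⟩, h⟩ := hGV.2 c.1
      have hgC : g ∈ Subgroup.centralizer ({v} : Set X) := by
        have := mul_mem (inv_mem (hVC ha)) c.2
        rwa [← h, inv_mul_cancel_left] at this
      exact ⟨(⟨a, ha⟩, ⟨g, hg, hgC⟩), Subtype.ext h⟩
  have hb := nonkernel_bound V hVp hidx hab hv (Finset.univ \ K) (fun χ => by simp [hK])
  rw [← Finset.sum_sdiff (Finset.subset_univ K), hsumK, hcent] at hsum
  have hkX : (Finset.univ \ K).card + Nat.card (ConjClasses G) = Nat.card (ConjClasses X) := by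
    rw [← hcardK, ← card_irrCharacter, Nat.card_eq_fintype_card, Finset.card_sdiff_add_card,
      Finset.union_eq_left.mpr (Finset.subset_univ _), Finset.card_univ]
  have : ((Nat.card (ConjClasses X) + Nat.card G : ℕ) : ℝ) ≤
      ((Nat.card ↥(G ⊓ Subgroup.centralizer ({v} : Set X)) * Nat.card V +
        Nat.card (ConjClasses G) : ℕ) : ℝ) := by
    push_cast at hsum ⊢
    rw [← hkX]
    push_cast
    linarith
  exact_mod_cast this

end Cfsg.Agent.Block.CentralizerBound
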