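import Mathlib
import Cfsg.Agent.Lib.Char.Constituent
import Cfsg.Agent.Lib.Char.Quotient
import Cfsg.Agent.Lib.Block.ClassMul
import Cfsg.Agent.Lib.Grp.Frattini
import Cfsg.Agent.Lib.Transfer.MaxAbelianExponent

/-!
The centre of a character modulo a normal subgroup, and index-`p` steps in a finite `p`-group.
-/

set_option linter.unusedSectionVars false

open scoped commutatorElement ComplexConjugate

namespace Cfsg.Agent.Block.PCen

universe u

variable {G : Type u} [Group G]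

/-- The elements centralising `G ⧸ N`. -/
def upC (N : Subgroup G) [N.Normal] : Subgroup G :=
  (Subgroup.center (G ⧸ N)).comap (QuotientGroup.mk' N)

theorem mem_upC {N : Subgroup G} [N.Normal] {g : G} :
    g ∈ upC N ↔ ∀ y : G, ⁅g, y⁆ ∈ N := by
  rw [upC, Subgroup.mem_comap, Subgroup.mem_center_iff]
  refine ⟨fun h y => ?_, fun h y => ?_⟩
  · rw [← QuotientGroup.eq_one_iff, ← QuotientGroup.mk'_apply, map_commutatorElement,
      commutatorElement_eq_one_iff_mul_comm]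
    exact (h _).symm
  · obtain ⟨y, rfl⟩ := QuotientGroup.mk'_surjective N y
    refine Eq.symm (commutatorElement_eq_one_iff_mul_comm.1 ?_)
    rw [← map_commutatorElement, QuotientGroup.mk'_apply, QuotientGroup.eq_one_iff]
    exact h y

theorem le_upC (N : Subgroup G) [N.Normal] : N ≤ upC N := fun g hg => mem_upC.2 fun y => by
  rw [commutatorElement_def, show g * y * g⁻¹ * y⁻¹ = g * (y * g⁻¹ * y⁻¹) by group]
  exact mul_mem hg (Subgroup.Normal.conj_mem inferInstance _ (inv_mem hg) y)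

theorem upC_mono {N M : Subgroup G} [N.Normal] [M.Normal] (h : N ≤ M) : upC N ≤ upC M :=
  fun _ hg => mem_upC.2 fun y => h (mem_upC.1 hg y)

/-- Subgroups between `[N, G]` and `N` are normal. -/
theorem normal_of_between {N K : Subgroup G} (h1 : ⁅N, (⊤ : Subgroup G)⁆ ≤ K) (h2 : K ≤ N) :
    K.Normal := ⟨fun k hk g => by
  have h := h1 (Subgroup.commutator_mem_commutator (h2 hk) (Subgroup.mem_top g))
  have e : g * k * g⁻¹ = (⁅k, g⁆)⁻¹ * k := by rw [commutatorElement_def]; group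
  rw [e]
  exact mul_mem (inv_mem h) hk⟩

theorem commutator_pow_congr {N : Subgroup G} [N.Normal] {x y : G}
    (h : ⁅x, y⁆ ∈ upC N) (n : ℕ) : ⁅x ^ n, y⁆ ∈ N ↔ ⁅x, y⁆ ^ n ∈ N := by
  have key : ∀ n : ℕ, QuotientGroup.mk' N ⁅x ^ n, y⁆ = QuotientGroup.mk' N (⁅x, y⁆ ^ n) := by
    intro n
    induction n with
    | zero => simp
    | succ n ih =>
      have hc : QuotientGroup.mk' N ⁅x, y⁆ ∈ Subgroup.center (G ⧸ N) := h
      have hx := Subgroup.mem_center_iff.1 (pow_mem hc n) (QuotientGroup.mk' N x)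
      rw [show ⁅x ^ (n + 1), y⁆ = x * ⁅x ^ n, y⁆ * x⁻¹ * ⁅x, y⁆ by
        rw [commutatorElement_def, commutatorElement_def, commutatorElement_def, pow_succ']; group,
        map_mul, map_mul, map_mul, ih, map_pow, map_pow, hx, map_inv, mul_inv_cancel_right,
        pow_succ]
  rw [← QuotientGroup.eq_one_iff, ← QuotientGroup.eq_one_iff (N := N) (⁅x, y⁆ ^ n),
    ← QuotientGroup.mk'_apply, ← QuotientGroup.mk'_apply, key]

variable [Finite G] {p : ℕ} [Fact p.Prime]

theorem exists_step (hG : IsPGroup p G) {N R : Subgroup G} [N.Normal]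
    (h1 : ⁅N, (⊤ : Subgroup G)⁆ ≤ R) (h2 : R < N) :
    ∃ K : Subgroup G, K.Normal ∧ R ≤ K ∧ K ≤ N ∧ Nat.card K * p = Nat.card N := by
  obtain ⟨n, hn⟩ := IsPGroup.iff_card.1 (hG.to_subgroup N)
  obtain ⟨i, hi⟩ := IsPGroup.iff_card.1 (hG.to_subgroup R)
  have hR : Nat.card (R.subgroupOf N) = p ^ i := by
    rw [Nat.card_congr (Subgroup.subgroupOfEquivOfLe h2.le).toEquiv, hi]
  have hin : i < n := by
    by_contra hle
    refine h2.ne (Subgroup.eq_of_le_of_card_ge h2.le ?_)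
    rw [hn, hi]
    exact Nat.pow_le_pow_right (Fact.out : p.Prime).pos (not_lt.1 hle)
  obtain ⟨K, hK, hle⟩ := Sylow.exists_subgroup_card_pow_prime_le (G := N) p (m := n - 1)
    (hn ▸ pow_dvd_pow p (by omega)) (R.subgroupOf N) hR (by omega)
  have h3 : R ≤ K.map N.subtype := fun g hg => ⟨⟨g, h2.le hg⟩, hle hg, rfl⟩
  refine ⟨K.map N.subtype, normal_of_between (h1.trans h3) (Subgroup.map_subtype_le K), h3,
    Subgroup.map_subtype_le K, ?_⟩
  rw [Subgroup.card_map_of_injective N.subtype_injective, hK, hn, ← pow_succ,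
    Nat.sub_add_cancel (by omega)]

theorem pow_mem_of_step {K N : Subgroup G} [K.Normal] (hKN : K ≤ N)
    (hc : Nat.card K * p = Nat.card N) {c : G} (hcN : c ∈ N) : c ^ p ∈ K := by
  haveI : (K.subgroupOf N).Normal := inferInstance
  have hi : (K.subgroupOf N).index = p := by
    have h := Subgroup.card_mul_index (K.subgroupOf N)
    rw [Nat.card_congr (Subgroup.subgroupOfEquivOfLe hKN).toEquiv, ← hc] at h
    exact Nat.eq_of_mul_eq_mul_left Nat.card_pos h
  have h := Subgroup.pow_index_mem (K.subgroupOf N) ⟨c, hcN⟩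
  rw [hi] at h
  exact h

theorem step_cases (hG : IsPGroup p G) {K N M : Subgroup G} (hKN : K ≤ N)
    (hc : Nat.card K * p = Nat.card N) (hKM : K ≤ M) (hMN : M ≤ N) : M = K ∨ M = N := by
  obtain ⟨n, hn⟩ := IsPGroup.iff_card.1 (hG.to_subgroup K)
  obtain ⟨m, hm⟩ := IsPGroup.iff_card.1 (hG.to_subgroup M)
  have hp : p.Prime := Fact.out
  have h1 := Subgroup.card_dvd_of_le hKM
  have h2 := Subgroup.card_dvd_of_le hMN
  rw [← hc, hn, ← pow_succ, hm] at h2
  rw [hn, hm] at h1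
  have h1' := (Nat.pow_dvd_pow_iff_le_right hp.one_lt).1 h1
  have h2' := (Nat.pow_dvd_pow_iff_le_right hp.one_lt).1 h2
  rcases (show m = n ∨ m = n + 1 by omega) with rfl | rfl
  · exact Or.inl (Subgroup.eq_of_le_of_card_ge hKM (by rw [hm, hn])).symm
  · exact Or.inr (Subgroup.eq_of_le_of_card_ge hMN (by rw [← hc, hn, hm, pow_succ]))

/-- The elements of `S` whose commutator with `c` lies in `N` have index at most `p` in `S`. -/
theorem card_le_of_comm {S M N : Subgroup G} [N.Normal] [M.Normal] (hM : M ≤ upC N) (hNM : N ≤ M)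
    (hc : Nat.card N * p = Nat.card M) {c : G} (hcM : ∀ g ∈ S, ⁅g, c⁆ ∈ M) :
    ∃ T : Subgroup G, T ≤ S ∧ (∀ g ∈ T, ⁅g, c⁆ ∈ N) ∧ Nat.card S ≤ p * Nat.card T := by
  have hcen : ∀ g ∈ S, QuotientGroup.mk' N ⁅g, c⁆ ∈ Subgroup.center (G ⧸ N) :=
    fun g hg => hM (hcM g hg)
  let φ : S →* G ⧸ N := MonoidHom.mk' (fun g => QuotientGroup.mk' N ⁅(g : G), c⁆) fun a b => by
    have e : ⁅((a * b : S) : G), c⁆ = (a : G) * ⁅(b : G), c⁆ * (a : G)⁻¹ * ⁅(a : G), c⁆ := by
      rw [commutatorElement_def, commutatorElement_def, commutatorElement_def,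
        Subgroup.coe_mul]; group
    rw [e, map_mul, map_mul, map_mul, Subgroup.mem_center_iff.1 (hcen b b.2), map_inv,
      mul_inv_cancel_right]
    exact (Subgroup.mem_center_iff.1 (hcen b b.2) _).symm
  have hle : φ.range ≤ M.map (QuotientGroup.mk' N) := by
    rintro _ ⟨g, rfl⟩
    exact ⟨_, hcM g g.2, rfl⟩
  have hcard : Nat.card (M.map (QuotientGroup.mk' N)) ≤ p := by
    have h1 : N.subgroupOf M = ((QuotientGroup.mk' N).comp M.subtype).ker := by
      ext g
      simp [Subgroup.mem_subgroupOf]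
    have h2 := Subgroup.card_mul_index ((QuotientGroup.mk' N).comp M.subtype).ker
    rw [Subgroup.index_ker, MonoidHom.range_comp, Subgroup.range_subtype, ← h1,
      Nat.card_congr (Subgroup.subgroupOfEquivOfLe hNM).toEquiv, ← hc] at h2
    exact (Nat.eq_of_mul_eq_mul_left Nat.card_pos h2).le
  refine ⟨φ.ker.map S.subtype, Subgroup.map_subtype_le _, ?_, ?_⟩
  · rintro _ ⟨g, hg, rfl⟩
    exact (QuotientGroup.eq_one_iff _).1 hg
  · rw [Subgroup.card_map_of_injective S.subtype_injective, ← Subgroup.card_mul_index φ.ker,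
      Subgroup.index_ker, mul_comm p]
    exact Nat.mul_le_mul_left _ (le_trans (Nat.le_of_dvd Nat.card_pos
      (Subgroup.card_dvd_of_le hle)) hcard)

/-! ### characters -/

theorem exists_center_scalar (χ : IrrCharacter G) {a : G}
    (ha : ∀ y : G, (χ : G → ℂ) ⁅a, y⁆ = (χ : G → ℂ) 1) :
    ∃ c : ℂ, ∀ h : G, (χ : G → ℂ) (a * h) = c * (χ : G → ℂ) h := by
  obtain ⟨f, hf⟩ := χ
  obtain ⟨n, ρ, hρ, rfl⟩ := hf
  have hcomm : ∀ y, ρ a ∘ₗ ρ y = ρ y ∘ₗ ρ a := by
    intro y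
    have h1 : ρ.character ⁅a, y⁆ = ρ.character 1 := ha y
    rw [Representation.char_one, Cfsg.Agent.Char.character_eq_finrank_iff] at h1
    rw [← Module.End.mul_eq_comp, ← Module.End.mul_eq_comp, ← map_mul, ← map_mul,
      show a * y = ⁅a, y⁆ * (y * a) by rw [commutatorElement_def]; group, map_mul, h1]
    exact one_mul _
  obtain ⟨c, hc⟩ := Cfsg.Agent.Char.schur_scalar ρ (ρ a) hcomm
  refine ⟨c, fun h => ?_⟩
  show ρ.character (a * h) = c * ρ.character h
  rw [Representation.character, Representation.character, map_mul, hc, smul_mul_assoc, map_smul,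
    smul_eq_mul]
  rfl

/-- The central character on the elements centralising `G` modulo the kernel. -/
theorem exists_lam (χ : IrrCharacter G) {N : Subgroup G} [N.Normal]
    (hN : ∀ g ∈ N, (χ : G → ℂ) g = (χ : G → ℂ) 1) :
    ∃ lam : upC N →* ℂˣ, ∀ (a : upC N) (h : G),
      (χ : G → ℂ) ((a : G) * h) = (lam a : ℂ) * (χ : G → ℂ) h := by
  obtain ⟨n, hn, hn1⟩ := Cfsg.Agent.Char.IsIrr.one_eq_pos χ.2
  have h0 : (χ : G → ℂ) 1 ≠ 0 := by rw [hn1]; exact Nat.cast_ne_zero.2 hn.ne'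
  choose c hc using fun a : upC N =>
    exists_center_scalar χ fun y => hN _ (mem_upC.1 a.2 y)
  have hcu : ∀ a, c a * c a⁻¹ = 1 := fun a => by
    have h := hc a ((a⁻¹ : upC N) : G)
    rw [← Subgroup.coe_mul, mul_inv_cancel, Subgroup.coe_one] at h
    have h' := hc a⁻¹ 1
    rw [mul_one] at h'
    rw [h', ← mul_assoc] at h
    exact mul_right_cancel₀ h0 (h.symm.trans (one_mul _).symm)
  refine ⟨MonoidHom.mk' (fun a => Units.mk0 (c a) (left_ne_zero_of_mul_eq_one (hcu a)))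
    (fun a b => Units.ext ?_), fun a h => hc a h⟩
  show c (a * b) = c a * c b
  have h := hc (a * b) 1
  rw [Subgroup.coe_mul, mul_assoc, hc a, hc b, ← mul_assoc] at h
  exact mul_right_cancel₀ h0 h.symm

theorem sum_normSq (χ : IrrCharacter G) [Fintype G] :
    ∑ g : G, Complex.normSq ((χ : G → ℂ) g) = Nat.card G := by
  have h := Cfsg.Agent.Char.classInner_self_irr χ.2
  simp only [Cfsg.classInner, Complex.mul_conj] at h
  rw [inv_mul_eq_one₀ (Nat.cast_ne_zero.2 Nat.card_pos.ne'), ← Complex.ofReal_sum] at h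
  exact_mod_cast h.symm

theorem normSq_on_upC (χ : IrrCharacter G) {N : Subgroup G} [N.Normal]
    (hN : ∀ g ∈ N, (χ : G → ℂ) g = (χ : G → ℂ) 1) {a : G} (ha : a ∈ upC N) :
    Complex.normSq ((χ : G → ℂ) a) = (charDegree (χ : G → ℂ) : ℝ) ^ 2 := by
  obtain ⟨lam, hlam⟩ := exists_lam χ hN
  have h := hlam ⟨a, ha⟩ 1
  rw [mul_one] at h
  rw [h, Cfsg.Agent.Block.charDeg_spec', map_mul, Complex.normSq_natCast, sq,
    Complex.normSq_eq_norm_sq,
    Cfsg.Agent.Char.norm_eq_one_of_pow_eq_one' (c := (lam ⟨a, ha⟩ : ℂ)) Nat.card_pos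
      (N := Nat.card (upC N)) (by
        rw [← Units.val_pow_eq_pow_val, ← map_pow, pow_card_eq_one', map_one, Units.val_one])]
  ring

theorem degree_sq_mul_le (χ : IrrCharacter G) {N : Subgroup G} [N.Normal]
    (hN : ∀ g ∈ N, (χ : G → ℂ) g = (χ : G → ℂ) 1) :
    charDegree (χ : G → ℂ) ^ 2 * Nat.card (upC N) ≤ Nat.card G := by
  classical
  haveI := Fintype.ofFinite G
  have h1 : ∑ g ∈ Finset.univ.filter (· ∈ upC N), Complex.normSq ((χ : G → ℂ) g) ≤
      ∑ g : G, Complex.normSq ((χ : G → ℂ) g) :=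
    Finset.sum_le_sum_of_subset_of_nonneg (Finset.filter_subset _ _)
      fun g _ _ => Complex.normSq_nonneg _
  rw [sum_normSq, Finset.sum_congr rfl (fun g hg => normSq_on_upC χ hN (Finset.mem_filter.1 hg).2),
    Finset.sum_const, nsmul_eq_mul, ← Fintype.card_subtype, ← Nat.card_eq_fintype_card,
    mul_comm] at h1
  exact_mod_cast h1

/-- Modulo the kernel class two: the character vanishes off its centre. -/
theorem eq_zero_of_notMem (χ : IrrCharacter G) {N : Subgroup G} [N.Normal]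
    (hN : ∀ g, g ∈ N ↔ (χ : G → ℂ) g = (χ : G → ℂ) 1)
    (h2 : ∀ x y : G, ⁅x, y⁆ ∈ upC N) {g : G} (hg : g ∉ upC N) : (χ : G → ℂ) g = 0 := by
  obtain ⟨y, hy⟩ : ∃ y, ⁅g, y⁆ ∉ N := by
    by_contra h
    exact hg (mem_upC.2 fun y => not_not.1 fun hy => h ⟨y, hy⟩)
  obtain ⟨lam, hlam⟩ := exists_lam χ fun g => (hN g).1
  have h1 := hlam ⟨_, h2 y g⟩ g
  rw [show ⁅y, g⁆ * g = y * g * y⁻¹ by rw [commutatorElement_def, inv_mul_cancel_right],
    Cfsg.Agent.Char.IsClass.eq_of_isConj (Cfsg.Agent.Char.IsIrr.classFun χ.2)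
      (isConj_iff.2 ⟨y, rfl⟩ : IsConj g (y * g * y⁻¹)).symm] at h1
  by_contra h0
  have hl : (lam ⟨_, h2 y g⟩ : ℂ) = 1 :=
    mul_right_cancel₀ h0 (h1.symm.trans (one_mul _).symm)
  have h3 := hlam ⟨_, h2 y g⟩ 1
  rw [hl, one_mul, mul_one] at h3
  exact hy (commutatorElement_inv y g ▸ inv_mem ((hN _).2 h3))

theorem degree_sq_mul_eq (χ : IrrCharacter G) {N : Subgroup G} [N.Normal]
    (hN : ∀ g, g ∈ N ↔ (χ : G → ℂ) g = (χ : G → ℂ) 1)
    (h2 : ∀ x y : G, ⁅x, y⁆ ∈ upC N) :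
    charDegree (χ : G → ℂ) ^ 2 * Nat.card (upC N) = Nat.card G := by
  classical
  haveI := Fintype.ofFinite G
  have h1 : ∑ g ∈ Finset.univ.filter (· ∈ upC N), Complex.normSq ((χ : G → ℂ) g) =
      ∑ g : G, Complex.normSq ((χ : G → ℂ) g) :=
    Finset.sum_subset (Finset.filter_subset _ _) fun g _ hg => by
      rw [eq_zero_of_notMem χ hN h2 (fun h => hg (Finset.mem_filter.2 ⟨Finset.mem_univ _, h⟩)),
        map_zero]
  rw [sum_normSq, Finset.sum_congr rfl (fun g hg =>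
      normSq_on_upC χ (fun g => (hN g).1) (Finset.mem_filter.1 hg).2),
    Finset.sum_const, nsmul_eq_mul, ← Fintype.card_subtype, ← Nat.card_eq_fintype_card,
    mul_comm] at h1
  exact_mod_cast h1

/-- Linear characters are those trivial on the derived subgroup. -/
theorem degree_eq_one_iff (χ : IrrCharacter G) :
    charDegree (χ : G → ℂ) = 1 ↔ ∀ g ∈ commutator G, (χ : G → ℂ) g = (χ : G → ℂ) 1 := by
  refine ⟨fun h g hg => ?_, fun h => ?_⟩
  · obtain ⟨l, hl⟩ := Cfsg.Agent.Char.linearHom_of_isCharacter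
      (Cfsg.Agent.Char.IsIrr.isCharacter χ.2)
      (by rw [Cfsg.Agent.Block.charDeg_spec', h, Nat.cast_one])
    have : l g = 1 := Abelianization.commutator_subset_ker l hg
    simp [hl, this]
  · have htop : upC (commutator G) = ⊤ := top_le_iff.1 fun g _ => mem_upC.2 fun y =>
      Subgroup.commutator_mem_commutator (Subgroup.mem_top g) (Subgroup.mem_top y)
    have h1 := degree_sq_mul_le χ h
    rw [htop, Subgroup.card_top] at h1
    have h2 : charDegree (χ : G → ℂ) ^ 2 ≤ 1 := by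
      by_contra hgt
      exact absurd h1 (not_le.2 (lt_mul_left Nat.card_pos (not_le.1 hgt)))
    have := Cfsg.Agent.Block.charDeg_pos χ
    nlinarith

theorem exists_char_ker {N : Subgroup G} [N.Normal] {g : G} (hg : g ∉ N) :
    ∃ χ : IrrCharacter G, (∀ x ∈ N, (χ : G → ℂ) x = (χ : G → ℂ) 1) ∧
      (χ : G → ℂ) g ≠ (χ : G → ℂ) 1 := by
  obtain ⟨ψ, hψ⟩ : ∃ ψ : IrrCharacter (G ⧸ N),
      (ψ : G ⧸ N → ℂ) (g : G ⧸ N) ≠ (ψ : G ⧸ N → ℂ) 1 := by
    by_contra h
    refine hg ((QuotientGroup.eq_one_iff g).1 (isConj_one_left.mp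
      ((Cfsg.Agent.Char.isConj_iff_irr (g : G ⧸ N) 1).2 fun ψ => ?_)))
    exact not_not.1 fun h' => h ⟨ψ, h'⟩
  refine ⟨⟨_, Cfsg.Agent.Char.IsIrr.comp_surjective (QuotientGroup.mk' N)
    (QuotientGroup.mk'_surjective N) ψ.2⟩, fun x hx => ?_, by simpa using hψ⟩
  show (ψ : G ⧸ N → ℂ) (QuotientGroup.mk' N x) = (ψ : G ⧸ N → ℂ) (QuotientGroup.mk' N 1)
  rw [map_one, QuotientGroup.mk'_apply, (QuotientGroup.eq_one_iff x).2 hx]

end Cfsg.Agent.Block.PCen
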