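import Mathlib.GroupTheory.GroupAction.CardCommute
import Mathlib.GroupTheory.SemidirectProduct
import Mathlib.GroupTheory.Complement
import Cfsg.Agent.Lib.Char.Kernel

/-!
# Class numbers of extensions of abelian groups
-/

set_option autoImplicit false
set_option linter.style.haveILetI false

namespace Cfsg.Agent.Block.ClassNumber

variable {X : Type*} [Group X] [Finite X] (V : Subgroup X) [V.Normal]

theorem commute_lift (φ : X ⧸ V →* MulAut ↥V)
    (hφ : ∀ (x : X) (v : ↥V), ((φ (QuotientGroup.mk x) v : ↥V) : X) = x * v * x⁻¹)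
    {x y x₁ y₁ : X} (hxy : Commute x y) (h₁ : Commute x₁ y₁)
    (hx : (QuotientGroup.mk x₁ : X ⧸ V) = QuotientGroup.mk x)
    (hy : (QuotientGroup.mk y₁ : X ⧸ V) = QuotientGroup.mk y)
    (hv : x * x₁⁻¹ ∈ V) (hw : y * y₁⁻¹ ∈ V) :
    Commute (⟨⟨x * x₁⁻¹, hv⟩, QuotientGroup.mk x⟩ : SemidirectProduct ↥V (X ⧸ V) φ)
      ⟨⟨y * y₁⁻¹, hw⟩, QuotientGroup.mk y⟩ := by
  refine SemidirectProduct.ext (Subtype.ext ?_) ?_
  · rw [SemidirectProduct.mul_left, SemidirectProduct.mul_left]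
    simp only [Subgroup.coe_mul]
    rw [← hx, ← hy, hφ, hφ]
    calc x * x₁⁻¹ * (x₁ * (y * y₁⁻¹) * x₁⁻¹) = x * y * (x₁ * y₁)⁻¹ := by group
      _ = y * x * (y₁ * x₁)⁻¹ := by rw [hxy.eq, h₁.eq]
      _ = _ := by group
  · rw [SemidirectProduct.mul_right, SemidirectProduct.mul_right]
    show (QuotientGroup.mk x : X ⧸ V) * QuotientGroup.mk y = _
    rw [← QuotientGroup.mk_mul, hxy.eq, QuotientGroup.mk_mul]

theorem classNumber_le_split (hab : ∀ a ∈ V, ∀ b ∈ V, a * b = b * a)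
    (φ : X ⧸ V →* MulAut ↥V)
    (hφ : ∀ (x : X) (v : ↥V), ((φ (QuotientGroup.mk x) v : ↥V) : X) = x * v * x⁻¹) :
    Nat.card (ConjClasses X) ≤ Nat.card (ConjClasses (SemidirectProduct ↥V (X ⧸ V) φ)) := by
  classical
  let Q := SemidirectProduct ↥V (X ⧸ V) φ
  haveI : Finite Q := Finite.of_equiv _ SemidirectProduct.equivProd.symm
  have hcard : Nat.card Q = Nat.card X := by
    rw [Subgroup.card_eq_card_quotient_mul_card_subgroup V, mul_comm]
    exact (Nat.card_congr SemidirectProduct.equivProd).trans (Nat.card_prod _ _)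
  let CX := {q : X × X // Commute q.1 q.2}
  let im : X × X → (X ⧸ V) × (X ⧸ V) := fun q => (QuotientGroup.mk q.1, QuotientGroup.mk q.2)
  let base : (X ⧸ V) × (X ⧸ V) → X × X := fun r =>
    if h : ∃ q : CX, im q.1 = r then h.choose.1 else (1, 1)
  have hbase : ∀ q : CX, Commute (base (im q.1)).1 (base (im q.1)).2 ∧
      im (base (im q.1)) = im q.1 := by
    intro q
    have h : ∃ q' : CX, im q'.1 = im q.1 := ⟨q, rfl⟩
    simp only [base, dif_pos h]
    exact ⟨h.choose.2, h.choose_spec⟩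
  have hmem : ∀ x x₁ : X, (QuotientGroup.mk x₁ : X ⧸ V) = QuotientGroup.mk x → x * x₁⁻¹ ∈ V :=
    fun x x₁ h => by
      have h1 := (QuotientGroup.eq (s := V)).mp h
      simpa [mul_assoc] using (inferInstance : V.Normal).conj_mem _ h1 x₁
  let F : CX → {q : Q × Q // Commute q.1 q.2} := fun q =>
    ⟨(⟨⟨q.1.1 * (base (im q.1)).1⁻¹, hmem _ _ (congrArg Prod.fst (hbase q).2)⟩, (im q.1).1⟩,
      ⟨⟨q.1.2 * (base (im q.1)).2⁻¹, hmem _ _ (congrArg Prod.snd (hbase q).2)⟩, (im q.1).2⟩),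
      commute_lift V φ hφ q.2 (hbase q).1 (congrArg Prod.fst (hbase q).2)
        (congrArg Prod.snd (hbase q).2) _ _⟩
  have hF : Function.Injective F := by
    intro q q' h
    have h0 := congrArg Subtype.val h
    have e1 := congrArg (fun t : Q × Q => t.1.right) h0
    have e2 := congrArg (fun t : Q × Q => t.2.right) h0
    have e : im q.1 = im q'.1 := Prod.ext e1 e2
    have l1 := congrArg (fun t : Q × Q => (t.1.left : X)) h0
    have l2 := congrArg (fun t : Q × Q => (t.2.left : X)) h0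
    simp only [F, e] at l1 l2
    exact Subtype.ext (Prod.ext (mul_right_cancel l1) (mul_right_cancel l2))
  have h := Nat.card_le_card_of_injective F hF
  rw [card_comm_eq_card_conjClasses_mul_card, card_comm_eq_card_conjClasses_mul_card, hcard] at h
  exact Nat.le_of_mul_le_mul_right h Nat.card_pos

theorem classNumber_eq_sum (hab : ∀ a ∈ V, ∀ b ∈ V, a * b = b * a) (G : Subgroup X)
    (hGV : Subgroup.IsComplement' V G) (hcop : (Nat.card V).Coprime (Nat.card G))
    (S : Finset X) (hSV : ∀ s ∈ S, s ∈ V)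
    (hrep : ∀ v ∈ V, ∃! s, s ∈ S ∧ ∃ g ∈ G, g * v * g⁻¹ = s) :
    Nat.card (ConjClasses X) =
      ∑ s ∈ S, Nat.card (ConjClasses ↥(G ⊓ Subgroup.centralizer ({s} : Set X))) := by
  classical
  let H : S → Subgroup X := fun s => G ⊓ Subgroup.centralizer ({(s : X)} : Set X)
  have hdec : ∀ x : X, ∃ v ∈ V, ∃ g ∈ G, v * g = x := fun x => by
    obtain ⟨⟨⟨v, hv⟩, ⟨g, hg⟩⟩, h⟩ := hGV.2 x
    exact ⟨v, hv, g, hg, h⟩
  have hdisj : ∀ x ∈ V, x ∈ G → x = 1 := fun x hv hg =>
    Subgroup.mem_bot.mp (hGV.disjoint.le_bot ⟨hv, hg⟩)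
  have hcomm : ∀ (s : S) (h : H s), (s : X) * h = h * s := fun s h =>
    (Subgroup.mem_centralizer_singleton_iff.mp h.2.2).symm
  let φ : ∀ s : S, ConjClasses (H s) → ConjClasses X := fun s =>
    Quotient.lift (fun h : H s => ConjClasses.mk ((s : X) * h)) fun a b hab' => by
      obtain ⟨c, rfl⟩ := isConj_iff.mp hab'
      refine ConjClasses.mk_eq_mk_iff_isConj.mpr (isConj_iff.mpr ⟨c, ?_⟩)
      calc (c : X) * ((s : X) * a) * (c : X)⁻¹ = ((c : X) * s) * (a * (c : X)⁻¹) := by group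
        _ = ((s : X) * c) * (a * (c : X)⁻¹) := by rw [hcomm]
        _ = _ := by push_cast; group
  let F : (Σ s : S, ConjClasses (H s)) → ConjClasses X := fun t => φ t.1 t.2
  have hsurj : Function.Surjective F := by
    intro C
    obtain ⟨x, rfl⟩ := ConjClasses.exists_rep C
    obtain ⟨v, hv, g, hg, rfl⟩ := hdec x
    obtain ⟨u, hu, c, hc, hcg, he⟩ := Cfsg.Agent.Char.exists_conj_centralizer_coset V g
      (Subgroup.mem_normalizer_iff.mpr fun z => ⟨fun hz => (inferInstance : V.Normal).conj_mem z hz g,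
        fun hz => by simpa [mul_assoc] using (inferInstance : V.Normal).conj_mem _ hz g⁻¹⟩)
      (Nat.Coprime.coprime_dvd_left (Subgroup.orderOf_dvd_natCard G hg) hcop.symm) v hv
    obtain ⟨s, ⟨hs, a, ha, hsa⟩, -⟩ := hrep c hc
    have hh : a * g * a⁻¹ ∈ G ⊓ Subgroup.centralizer ({s} : Set X) := by
      refine ⟨G.mul_mem (G.mul_mem ha hg) (G.inv_mem ha),
        Subgroup.mem_centralizer_singleton_iff.mpr ?_⟩
      rw [← hsa]
      calc a * g * a⁻¹ * (a * c * a⁻¹) = a * (g * c) * a⁻¹ := by group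
        _ = a * (c * g) * a⁻¹ := by rw [hcg]
        _ = _ := by group
    refine ⟨⟨⟨s, hs⟩, ConjClasses.mk ⟨_, hh⟩⟩, ?_⟩
    show ConjClasses.mk (s * (a * g * a⁻¹)) = ConjClasses.mk (v * g)
    refine ConjClasses.mk_eq_mk_iff_isConj.mpr (IsConj.symm (isConj_iff.mpr ⟨a * u, ?_⟩))
    calc a * u * (v * g) * (a * u)⁻¹ = a * (u * (v * g) * u⁻¹) * a⁻¹ := by group
      _ = a * (c * g) * a⁻¹ := by rw [he]
      _ = _ := by rw [← hsa]; group
  have hinj : Function.Injective F := by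
    rintro ⟨⟨s, hs⟩, C⟩ ⟨⟨t, ht⟩, D⟩ h
    obtain ⟨⟨a, ha⟩, rfl⟩ := ConjClasses.exists_rep C
    obtain ⟨⟨b, hb⟩, rfl⟩ := ConjClasses.exists_rep D
    have h' : IsConj (s * a) (t * b) := ConjClasses.mk_eq_mk_iff_isConj.mp h
    obtain ⟨y, hy⟩ := isConj_iff.mp h'
    obtain ⟨k, hk⟩ := Nat.chineseRemainder hcop 1 0
    have hpart : ∀ (r c : X), r ∈ S → c ∈ G ⊓ Subgroup.centralizer ({r} : Set X) →
        (r * c) ^ k = r := by
      intro r c hr hc
      have e1 : r ^ k = r := by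
        conv_rhs => rw [← pow_one r]
        exact pow_eq_pow_iff_modEq.mpr
          (hk.1.of_dvd (Subgroup.orderOf_dvd_natCard V (hSV r hr)))
      have e2 : c ^ k = 1 := orderOf_dvd_iff_pow_eq_one.mp
        ((Subgroup.orderOf_dvd_natCard G hc.1).trans (Nat.modEq_zero_iff_dvd.mp hk.2))
      have e3 : Commute r c := (Subgroup.mem_centralizer_singleton_iff.mp hc.2).symm
      rw [e3.mul_pow, e1, e2, mul_one]
    have hys : y * s * y⁻¹ = t := by
      rw [← hpart s a hs ha, ← conj_pow, hy, hpart t b ht hb]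
    have hya : y * a * y⁻¹ = b := by
      have e : y * s * y⁻¹ * (y * a * y⁻¹) = t * b := by rw [← hy]; group
      rw [hys] at e
      exact mul_left_cancel e
    obtain ⟨v, hv, g, hg, rfl⟩ := hdec y
    have hgs : g * s * g⁻¹ = t := by
      have hgV := (inferInstance : V.Normal).conj_mem s (hSV s hs) g
      calc g * s * g⁻¹ = (g * s * g⁻¹) * v * v⁻¹ := by group
        _ = v * (g * s * g⁻¹) * v⁻¹ := by rw [hab _ hgV v hv]
        _ = t := by rw [← hys]; group
    have hst : s = t := by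
      obtain ⟨w, -, huniq⟩ := hrep s (hSV s hs)
      exact (huniq s ⟨hs, 1, G.one_mem, by group⟩).trans (huniq t ⟨ht, g, hg, hgs⟩).symm
    subst hst
    have hgc : g ∈ Subgroup.centralizer ({s} : Set X) :=
      Subgroup.mem_centralizer_singleton_iff.mpr (mul_inv_eq_iff_eq_mul.mp hgs)
    have hga : g * a * g⁻¹ = b := by
      have h1 : g * a * g⁻¹ ∈ G := G.mul_mem (G.mul_mem hg ha.1) (G.inv_mem hg)
      have h2 : b * (g * a * g⁻¹)⁻¹ ∈ V := by
        have := V.mul_mem hv ((inferInstance : V.Normal).conj_mem v⁻¹ (V.inv_mem hv) (g * a * g⁻¹))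
        rw [← hya]
        simpa [mul_assoc] using this
      exact (mul_inv_eq_one.mp (hdisj _ h2 (G.mul_mem hb.1 (G.inv_mem h1)))).symm
    exact congrArg (Sigma.mk (⟨s, hs⟩ : S)) (ConjClasses.mk_eq_mk_iff_isConj.mpr
      (isConj_iff.mpr ⟨⟨g, hg, hgc⟩, Subtype.ext (by simpa using hga)⟩))
  rw [← Nat.card_congr (Equiv.ofBijective F ⟨hinj, hsurj⟩), Nat.card_sigma]
  exact Finset.sum_coe_sort S fun s =>
    Nat.card (ConjClasses ↥(G ⊓ Subgroup.centralizer ({s} : Set X)))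

end Cfsg.Agent.Block.ClassNumber
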