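import Mathlib.GroupTheory.Abelianization.Defs
import Cfsg.Agent.Lib.Char.Complete
import Cfsg.Agent.Lib.Char.Schur

/-!
# Products of two conjugacy classes
-/

set_option autoImplicit false
set_option linter.unusedSectionVars false

open Cfsg
open scoped ComplexConjugate commutatorElement

namespace Cfsg.Agent.Block.ClassProduct

universe u

variable {G : Type u} [Group G] [Finite G]

open Cfsg.Agent.Char

theorem prod_class_iff (x y : G) :
    (∀ z : G, IsConj (x * y) z ↔ ∃ a b : G, z = a * x * a⁻¹ * (b * y * b⁻¹)) ↔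
      ∀ (a b : G) (χ : IrrCharacter G),
        (χ : G → ℂ) 1 * (χ : G → ℂ) (a * x * a⁻¹ * (b * y * b⁻¹)) =
          (χ : G → ℂ) x * (χ : G → ℂ) y := by
  cases nonempty_fintype G
  constructor
  · intro H a b χ
    have hd := IsIrr.one_ne_zero χ.2
    have hcl := IsIrr.classFun χ.2
    have hval : ∀ a b : G, (χ : G → ℂ) (a * x * a⁻¹ * (b * y * b⁻¹)) = (χ : G → ℂ) (x * y) :=
      fun a b => (IsClass.eq_of_isConj hcl ((H _).mpr ⟨a, b, rfl⟩)).symm
    have hs := sum_conj_apply χ.2 x y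
    have hc : ∀ t : G, (χ : G → ℂ) (t * x * t⁻¹ * y) = (χ : G → ℂ) (x * y) := fun t => by
      simpa using hval t 1
    rw [Finset.sum_congr rfl fun t _ => hc t, Finset.sum_const, Finset.card_univ,
      ← Nat.card_eq_fintype_card, nsmul_eq_mul] at hs
    rw [hval]
    have hn : (Nat.card G : ℂ) ≠ 0 := Nat.cast_ne_zero.mpr Nat.card_pos.ne'
    field_simp at hs
    linear_combination hs
  · intro H z
    constructor
    · intro hz
      obtain ⟨g, rfl⟩ := isConj_iff.mp hz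
      exact ⟨g, g, by group⟩
    · rintro ⟨a, b, rfl⟩
      refine (isConj_iff_irr _ _).mpr fun χ => ?_
      have h1 := H 1 1 χ
      simp only [one_mul, inv_one, mul_one] at h1
      exact mul_left_cancel₀ (IsIrr.one_ne_zero χ.2) (h1.trans (H a b χ).symm)

theorem multiplicative_consequences (x y : G)
    (h : ∀ (a b : G) (χ : IrrCharacter G), (χ : G → ℂ) (a * x * a⁻¹ * (b * y * b⁻¹)) =
      (χ : G → ℂ) (a * x * a⁻¹) * (χ : G → ℂ) (b * y * b⁻¹)) :
    (∀ z : G, IsConj (x * y) z ↔ ∃ a b : G, z = a * x * a⁻¹ * (b * y * b⁻¹)) ∧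
      (∀ χ : IrrCharacter G, (χ : G → ℂ) 1 ≠ 1 → (χ : G → ℂ) (x * y) = 0) ∧
      (∀ z : G, IsConj (x * y) z ↔ (x * y)⁻¹ * z ∈ commutator G) := by
  classical
  cases nonempty_fintype G
  have h' : ∀ (a b : G) (χ : IrrCharacter G), (χ : G → ℂ) (a * x * a⁻¹ * (b * y * b⁻¹)) =
      (χ : G → ℂ) x * (χ : G → ℂ) y := fun a b χ => by
    rw [h a b χ, IsIrr.classFun χ.2 x a, IsIrr.classFun χ.2 y b]
  have hxy : ∀ (a b : G) (χ : IrrCharacter G), (χ : G → ℂ) (a * x * a⁻¹ * (b * y * b⁻¹)) =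
      (χ : G → ℂ) (x * y) := fun a b χ => by
    rw [h' a b χ]
    simpa using (h' 1 1 χ).symm
  have hzero : ∀ χ : IrrCharacter G, (χ : G → ℂ) 1 ≠ 1 → (χ : G → ℂ) (x * y) = 0 := by
    intro χ hχ
    have hd := IsIrr.one_ne_zero χ.2
    have hs := sum_conj_apply χ.2 x y
    have hc : ∀ t : G, (χ : G → ℂ) (t * x * t⁻¹ * y) = (χ : G → ℂ) (x * y) := fun t => by
      simpa using hxy t 1 χ
    have hp : (χ : G → ℂ) x * (χ : G → ℂ) y = (χ : G → ℂ) (x * y) := by
      simpa using (h' 1 1 χ).symm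
    rw [Finset.sum_congr rfl fun t _ => hc t, Finset.sum_const, Finset.card_univ,
      ← Nat.card_eq_fintype_card, nsmul_eq_mul] at hs
    have hn : (Nat.card G : ℂ) ≠ 0 := Nat.cast_ne_zero.mpr Nat.card_pos.ne'
    field_simp at hs
    have h0 : ((χ : G → ℂ) 1 - 1) * (χ : G → ℂ) (x * y) = 0 := by
      linear_combination hs + hp
    exact (mul_eq_zero.mp h0).resolve_left (sub_ne_zero.mpr hχ)
  refine ⟨fun z => ⟨fun hz => ?_, ?_⟩, hzero, fun z => ⟨fun hz => ?_, fun hz => ?_⟩⟩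
  · obtain ⟨g, rfl⟩ := isConj_iff.mp hz
    exact ⟨g, g, by group⟩
  · rintro ⟨a, b, rfl⟩
    exact (isConj_iff_irr _ _).mpr fun χ => (hxy a b χ).symm
  · obtain ⟨g, rfl⟩ := isConj_iff.mp hz
    have e : (x * y)⁻¹ * (g * (x * y) * g⁻¹) = ⁅(x * y)⁻¹, g⁆ := by
      simp only [commutatorElement_def, inv_inv, mul_assoc]
    rw [e, commutator_def]
    exact Subgroup.commutator_mem_commutator (Subgroup.mem_top _) (Subgroup.mem_top _)
  · by_contra hne
    have h1 := sum_irr_mul_conj z (x * y)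
    rw [if_neg (fun hh : IsConj z (x * y) => hne hh.symm)] at h1
    have h2 := sum_irr_mul_conj (x * y) (x * y)
    rw [if_pos (IsConj.refl _)] at h2
    have e : ∀ χ : IrrCharacter G, (χ : G → ℂ) z * conj ((χ : G → ℂ) (x * y)) =
        (χ : G → ℂ) (x * y) * conj ((χ : G → ℂ) (x * y)) := by
      intro χ
      by_cases hχ : (χ : G → ℂ) 1 = 1
      · obtain ⟨l, hl⟩ := linearHom_of_isCharacter (IsIrr.isCharacter χ.2) hχ
        have hk : l ((x * y)⁻¹ * z) = 1 := Abelianization.commutator_subset_ker l hz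
        rw [map_mul, map_inv, inv_mul_eq_one] at hk
        rw [hl]
        simp only [hk]
      · rw [hzero χ hχ]; simp
    rw [Finset.sum_congr rfl fun χ _ => e χ, h2] at h1
    exact Nat.card_pos.ne' (Nat.cast_eq_zero.mp h1)

end Cfsg.Agent.Block.ClassProduct
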