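import Cfsg.Agent.Lib.Block.Separated
import Cfsg.Agent.Lib.Char.Quotient
import Cfsg.Agent.Lib.Char.ModP

/-!
Codegrees of irreducible characters.
-/

open scoped ComplexConjugate

namespace Cfsg.Agent.Block

set_option linter.unusedSectionVars false

universe u

variable {G : Type u} [Group G] [Finite G]

/-- The kernel of an irreducible character. -/
noncomputable def irrKer (χ : IrrCharacter G) : Subgroup G :=
  Cfsg.Agent.Char.charKer (irr_isChar χ)

theorem mem_irrKer {χ : IrrCharacter G} {g : G} :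
    g ∈ irrKer χ ↔ (χ : G → ℂ) g = (χ : G → ℂ) 1 :=
  Cfsg.Agent.Char.mem_charKer _

instance irrKer_normal (χ : IrrCharacter G) : (irrKer χ).Normal :=
  Cfsg.Agent.Char.charKer_normal _

theorem card_irrKer (χ : IrrCharacter G) :
    Nat.card {g : G // (χ : G → ℂ) g = (χ : G → ℂ) 1} = Nat.card (irrKer χ) :=
  Nat.card_congr (Equiv.subtypeEquivRight fun _ => mem_irrKer.symm)

theorem exists_irr_quotient (χ : IrrCharacter G) :
    ∃ φ : IrrCharacter (G ⧸ irrKer χ), (∀ g : G, (φ : G ⧸ irrKer χ → ℂ) g = (χ : G → ℂ) g) ∧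
      charDegree (φ : G ⧸ irrKer χ → ℂ) = charDegree (χ : G → ℂ) := by
  obtain ⟨φ, hφ, h⟩ := Cfsg.Agent.Char.IsIrr.exists_factor_quotient χ.2 (irrKer χ)
    fun k hk => mem_irrKer.1 hk
  refine ⟨⟨φ, hφ⟩, h, ?_⟩
  rw [charDegree, charDegree]
  exact congrArg (fun z : ℂ => ⌊z.re⌋₊) (h 1)

theorem charDeg_dvd_index (χ : IrrCharacter G) :
    charDegree (χ : G → ℂ) ∣ (irrKer χ).index := by
  obtain ⟨φ, -, hd⟩ := exists_irr_quotient χ
  rw [← hd, Subgroup.index_eq_card]
  exact charDeg_dvd φ

/-- The codegree, as the quotient of the index of the kernel by the degree. -/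
theorem codeg_eq (χ : IrrCharacter G) :
    Nat.card G / (Nat.card {g : G // (χ : G → ℂ) g = (χ : G → ℂ) 1} * charDegree (χ : G → ℂ)) =
      (irrKer χ).index / charDegree (χ : G → ℂ) := by
  rw [card_irrKer, ← Nat.div_div_eq_div_mul, ← (irrKer χ).card_mul_index,
    Nat.mul_div_cancel_left _ Nat.card_pos]

theorem codeg_dvd_card (χ : IrrCharacter G) :
    (irrKer χ).index / charDegree (χ : G → ℂ) ∣ Nat.card G :=
  (Nat.div_dvd_of_dvd (charDeg_dvd_index χ)).trans (irrKer χ).index_dvd_card

theorem exists_nonprincipal_degree_prime {q : ℕ} (hq : q.Prime) (hd : q ∣ Nat.card G) :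
    ∃ χ : IrrCharacter G, χ ≠ trivialIrr G ∧ ¬ q ∣ charDegree (χ : G → ℂ) := by
  classical
  cases nonempty_fintype G
  by_contra h
  push Not at h
  have h1 := Cfsg.Agent.Char.sum_degree_sq (G := G)
  simp only [charDeg_spec'] at h1
  have h2 : ∑ χ : IrrCharacter G, charDegree (χ : G → ℂ) ^ 2 = Nat.card G := by exact_mod_cast h1
  rw [← Finset.add_sum_erase _ _ (Finset.mem_univ (trivialIrr G)),
    show charDegree ((trivialIrr G : IrrCharacter G) : G → ℂ) = 1 from charDeg_trivial] at h2
  refine hq.not_dvd_one ((Nat.dvd_add_left (Finset.dvd_sum fun χ hχ => ?_)).1 (h2 ▸ hd :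
    q ∣ 1 ^ 2 + _) |> fun h' => by simpa using h')
  exact dvd_pow (h χ (Finset.ne_of_mem_erase hχ)) two_ne_zero

theorem dvd_card_iff_codeg {p : ℕ} (hp : p.Prime) :
    p ∣ Nat.card G ↔
      ∃ χ : IrrCharacter G, p ∣ (irrKer χ).index / charDegree (χ : G → ℂ) := by
  classical
  refine ⟨fun hpG => ?_, fun ⟨χ, h⟩ => h.trans (codeg_dvd_card χ)⟩
  haveI : Fact p.Prime := ⟨hp⟩
  cases nonempty_fintype G
  obtain ⟨M, hM⟩ := Cfsg.Agent.Char.exists_isPModular p hp
  by_contra hno
  push Not at hno
  obtain ⟨u, hu⟩ := exists_prime_orderOf_dvd_card' p hpG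
  -- off its kernel each character vanishes at `u`
  have hval : ∀ χ : IrrCharacter G, (χ : G → ℂ) 1 * conj ((χ : G → ℂ) u) =
      if u ∈ irrKer χ then ((charDegree (χ : G → ℂ) ^ 2 : ℕ) : ℂ) else 0 := by
    intro χ
    split_ifs with h
    · rw [mem_irrKer.1 h, charDeg_spec' χ, Complex.conj_natCast]; push_cast; ring
    · obtain ⟨φ, hφ, hd⟩ := exists_irr_quotient χ
      have hfull : (charDegree (φ : G ⧸ irrKer χ → ℂ)).factorization p =
          (Nat.card (G ⧸ irrKer χ)).factorization p := by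
        rw [hd, ← Subgroup.index_eq_card]
        have hmul := Nat.div_mul_cancel (charDeg_dvd_index χ)
        have hne : (irrKer χ).index / charDegree (χ : G → ℂ) ≠ 0 := fun h0 =>
          Subgroup.index_ne_zero_of_finite (H := irrKer χ) (by rw [← hmul, h0, zero_mul])
        conv_rhs => rw [← hmul]
        rw [Nat.factorization_mul hne (charDeg_pos χ).ne', Finsupp.add_apply,
          Nat.factorization_eq_zero_of_not_dvd (hno χ), zero_add]
      have hpu : p ∣ orderOf (u : G ⧸ irrKer χ) := by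
        have h1 : orderOf (u : G ⧸ irrKer χ) ∣ p := hu ▸ orderOf_map_dvd (QuotientGroup.mk' _) u
        rcases hp.eq_one_or_self_of_dvd _ h1 with h2 | h2
        · exact absurd ((QuotientGroup.eq_one_iff u).1 (orderOf_eq_one_iff.1 h2)) h
        · rw [h2]
      rw [← hφ u, defectZero_vanish hM φ hfull hpu, map_zero, mul_zero]
  have h0 : ∑ χ : IrrCharacter G, (χ : G → ℂ) 1 * conj ((χ : G → ℂ) u) = 0 := by
    rw [Cfsg.Agent.Char.sum_irr_mul_conj, if_neg fun h =>
      hp.ne_one (by rw [← hu, isConj_one_right.1 h, orderOf_one])]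
  rw [Finset.sum_congr rfl fun χ _ => hval χ, ← Finset.sum_filter, ← Nat.cast_sum,
    Nat.cast_eq_zero, Finset.sum_eq_zero_iff] at h0
  have := h0 (trivialIrr G) (Finset.mem_filter.2 ⟨Finset.mem_univ _, mem_irrKer.2 rfl⟩)
  exact absurd this (pow_ne_zero _ (charDeg_pos _).ne')

theorem card_dvd_of_codeg {S : Type*} [Group S] [Finite S] [IsSimpleGroup S]
    (hsub : ∀ χ : IrrCharacter S, ∃ ψ : IrrCharacter G,
      (irrKer χ).index / charDegree (χ : S → ℂ) = (irrKer ψ).index / charDegree (ψ : G → ℂ)) :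
    Nat.card S ∣ Nat.card G := by
  rw [← Nat.factorization_prime_le_iff_dvd Nat.card_pos.ne' Nat.card_pos.ne']
  intro q hq
  by_cases hd : q ∣ Nat.card S
  swap
  · rw [Nat.factorization_eq_zero_of_not_dvd hd]; exact Nat.zero_le _
  obtain ⟨χ, hχ, hqd⟩ := exists_nonprincipal_degree_prime hq hd
  have hker : irrKer χ = ⊥ := (irrKer_normal χ).eq_bot_or_eq_top.resolve_right fun h => by
    cases nonempty_fintype S
    exact hχ (Subtype.ext (Cfsg.Agent.Char.irr_const_eq_one χ.2 fun g =>
      mem_irrKer.1 (h ▸ Subgroup.mem_top g)))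
  obtain ⟨ψ, hψ⟩ := hsub χ
  rw [hker, Subgroup.index_bot] at hψ
  have hdvd : Nat.card S / charDegree (χ : S → ℂ) ∣ Nat.card G := hψ ▸ codeg_dvd_card ψ
  have h1 := (Nat.factorization_le_iff_dvd (Nat.div_pos (Nat.le_of_dvd Nat.card_pos (charDeg_dvd χ))
    (charDeg_pos χ)).ne' Nat.card_pos.ne').2 hdvd q
  rwa [Nat.factorization_div (charDeg_dvd χ), Finsupp.tsub_apply,
    Nat.factorization_eq_zero_of_not_dvd hqd, Nat.sub_zero] at h1

theorem exists_prime_codeg (h : commutator G ≠ ⊤) :
    ∃ χ : IrrCharacter G, ((irrKer χ).index / charDegree (χ : G → ℂ)).Prime := by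
  classical
  cases nonempty_fintype G
  have hA : ∃ a : Abelianization G, a ≠ 1 := by
    by_contra hall
    push Not at hall
    exact h (eq_top_iff.2 fun g _ => (QuotientGroup.eq_one_iff g).1 (hall (Abelianization.of g)))
  obtain ⟨a, ha⟩ := hA
  obtain ⟨l₀, hl₀⟩ : ∃ l₀ : Abelianization G →* ℂˣ, l₀ a ≠ 1 := by
    by_contra hall
    push Not at hall
    exact ha (Cfsg.Agent.Char.eq_one_of_forall_linear mul_comm hall)
  set l : G →* ℂˣ := l₀.comp Abelianization.of with hl
  have hne : l ≠ 1 := fun h' => by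
    obtain ⟨g, rfl⟩ := QuotientGroup.mk_surjective a
    exact hl₀ (DFunLike.congr_fun h' g)
  have hpow : l ^ Nat.card G = 1 := MonoidHom.ext fun g => by
    rw [MonoidHom.pow_apply, ← map_pow, pow_card_eq_one', map_one, MonoidHom.one_apply]
  set n := orderOf l
  have hn0 : 0 < n := (IsOfFinOrder.orderOf_pos (isOfFinOrder_iff_pow_eq_one.2
    ⟨Nat.card G, Nat.card_pos, hpow⟩))
  have hn1 : n ≠ 1 := fun h' => hne (orderOf_eq_one_iff.1 h')
  obtain ⟨q, hq, hqn⟩ := Nat.exists_prime_and_dvd hn1
  set m : G →* ℂˣ := l ^ (n / q) with hm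
  have hmq : m ^ q = 1 := MonoidHom.ext fun g => by
    rw [MonoidHom.pow_apply, hm, MonoidHom.pow_apply, ← pow_mul, Nat.div_mul_cancel hqn,
      ← MonoidHom.pow_apply]
    exact DFunLike.congr_fun (pow_orderOf_eq_one l) g
  have hm1 : m ≠ 1 := fun h' => by
    have := Nat.le_of_dvd (Nat.div_pos (Nat.le_of_dvd hn0 hqn) hq.pos)
      (orderOf_dvd_of_pow_eq_one (G := G →* ℂˣ) (x := l) (MonoidHom.ext fun g => by
        rw [MonoidHom.pow_apply, ← MonoidHom.pow_apply]; exact DFunLike.congr_fun h' g))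
    exact absurd this (not_le.2 (Nat.div_lt_self hn0 hq.one_lt))
  let χ : IrrCharacter G := ⟨fun g => ((m g : ℂˣ) : ℂ), Cfsg.Agent.Char.isIrr_linear m⟩
  have hdeg : charDegree (χ : G → ℂ) = 1 := by simp [charDegree, χ]
  have hker : irrKer χ = m.ker := by
    ext g
    rw [mem_irrKer, MonoidHom.mem_ker]
    simp [χ]
  refine ⟨χ, ?_⟩
  haveI : NeZero q := ⟨hq.ne_zero⟩
  have hle : m.range ≤ rootsOfUnity q ℂ := by
    rintro _ ⟨g, rfl⟩
    exact (mem_rootsOfUnity q _).2 (by rw [← MonoidHom.pow_apply, hmq]; rfl)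
  have hdvd : Nat.card m.range ∣ q := by
    haveI : Finite m.range := Finite.of_surjective m.rangeRestrict m.rangeRestrict_surjective
    haveI : IsCyclic m.range := isCyclic_of_subgroup_isDomain
      ((Units.coeHom ℂ).comp m.range.subtype) (Units.val_injective.comp Subtype.val_injective)
    rw [← IsCyclic.exponent_eq_card]
    exact Monoid.exponent_dvd_of_forall_pow_eq_one fun w =>
      Subtype.ext ((mem_rootsOfUnity q _).1 (hle w.2))
  rw [hdeg, Nat.div_one, hker, Subgroup.index_ker]
  rcases hq.eq_one_or_self_of_dvd _ hdvd with h1 | h1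
  · exact absurd (MonoidHom.range_eq_bot_iff.1 (Subgroup.eq_bot_of_card_eq _ h1)) hm1
  · rwa [h1]

theorem not_perfect_of_prime_codeg {χ : IrrCharacter G}
    (h : ((irrKer χ).index / charDegree (χ : G → ℂ)).Prime) : commutator G ≠ ⊤ := by
  classical
  cases nonempty_fintype G
  intro hperf
  obtain ⟨φ, hφ, hd⟩ := exists_irr_quotient χ
  cases nonempty_fintype (G ⧸ irrKer χ)
  set H := G ⧸ irrKer χ
  set d := charDegree (φ : H → ℂ)
  set q := (irrKer χ).index / charDegree (χ : G → ℂ)
  haveI : Fact q.Prime := ⟨h⟩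
  have hcard : Nat.card H = q * d := by
    rw [← Subgroup.index_eq_card, hd, Nat.div_mul_cancel (charDeg_dvd_index χ)]
  have hlt : d < q := by
    have h1 := Cfsg.Agent.Char.sum_degree_sq (G := H)
    simp only [charDeg_spec'] at h1
    have h2 : ∑ ξ : IrrCharacter H, charDegree (ξ : H → ℂ) ^ 2 = Nat.card H := by exact_mod_cast h1
    have hne : φ ≠ trivialIrr H := fun e => by
      have htop : irrKer χ = ⊤ := eq_top_iff.2 fun g _ => mem_irrKer.2 (by
        rw [← hφ g, ← hφ 1, e]; rfl)
      have hq1 : q ≤ 1 := by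
        simp only [q, htop, Subgroup.index_top]
        exact Nat.div_le_self _ _
      exact absurd h.one_lt (not_lt.2 hq1)
    have h3 : d ^ 2 + 1 ≤ Nat.card H := by
      rw [← h2, ← Finset.add_sum_erase _ _ (Finset.mem_univ φ)]
      refine Nat.add_le_add_left ?_ _
      refine le_trans ?_ (Finset.single_le_sum (fun _ _ => Nat.zero_le _)
        (Finset.mem_erase.2 ⟨hne.symm, Finset.mem_univ _⟩))
      rw [show charDegree ((trivialIrr H : IrrCharacter H) : H → ℂ) = 1 from charDeg_trivial,
        one_pow]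
    rw [hcard] at h3
    nlinarith
  have hperfH : commutator H = ⊤ := by
    have := Subgroup.map_commutator (⊤ : Subgroup G) ⊤ (QuotientGroup.mk' (irrKer χ))
    rw [Subgroup.map_top_of_surjective _ (QuotientGroup.mk'_surjective _), ← commutator_def,
      ← commutator_def, hperf,
      Subgroup.map_top_of_surjective _ (QuotientGroup.mk'_surjective _)] at this
    exact this.symm
  have hd0 : 0 < d := charDeg_pos φ
  let P : Sylow q H := default
  have hqd : ¬ q ∣ d := fun hh => absurd (Nat.le_of_dvd hd0 hh) (not_le.2 hlt)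
  have hPcard : Nat.card P = q := by
    rw [P.card_eq_multiplicity, hcard, Nat.factorization_mul h.ne_zero hd0.ne', Finsupp.add_apply,
      Nat.Prime.factorization_self h, Nat.factorization_eq_zero_of_not_dvd hqd, add_zero, pow_one]
  have hidx : (P : Subgroup H).index = d := by
    have := (P : Subgroup H).card_mul_index
    rw [hPcard, hcard] at this
    exact Nat.eq_of_mul_eq_mul_left h.pos this
  have hsyl : Nat.card (Sylow q H) = 1 := by
    have hdv : Nat.card (Sylow q H) ∣ d := hidx ▸ P.card_dvd_index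
    have hmod : Nat.card (Sylow q H) % q = 1 % q := card_sylow_modEq_one q H
    have hlt' : Nat.card (Sylow q H) < q := lt_of_le_of_lt (Nat.le_of_dvd hd0 hdv) hlt
    rwa [Nat.mod_eq_of_lt hlt', Nat.mod_eq_of_lt h.one_lt] at hmod
  haveI : Subsingleton (Sylow q H) := Finite.card_le_one_iff_subsingleton.1 hsyl.le
  haveI hPn : (P : Subgroup H).Normal := P.normal_of_subsingleton
  haveI : IsCyclic (P : Subgroup H) := isCyclic_of_prime_card hPcard
  have hker : ∀ {C : Type u} [Group C] (hC : ∀ a b : C, a * b = b * a) (f : H →* C) (x : H),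
      f x = 1 := by
    intro C _ hC f x
    have hle : commutator H ≤ f.ker := by
      rw [commutator_def, Subgroup.commutator_le]
      intro a _ b _
      rw [MonoidHom.mem_ker, map_commutatorElement, commutatorElement_eq_one_iff_mul_comm]
      exact hC _ _
    rw [hperfH] at hle
    exact hle (Subgroup.mem_top x)
  have hcen : Subgroup.normalizer ((P : Subgroup H) : Set H) ≤
      Subgroup.centralizer ((P : Subgroup H) : Set H) := by
    intro x _
    have hcomm : ∀ a b : MulAut (P : Subgroup H), a * b = b * a := fun a b =>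
      (IsCyclic.mulAutMulEquiv (P : Subgroup H)).injective (by
        rw [map_mul, map_mul]
        exact mul_comm (IsCyclic.mulAutMulEquiv (P : Subgroup H) a) _)
    have := hker hcomm (MulAut.conjNormal : H →* MulAut (P : Subgroup H)) x
    refine Subgroup.mem_centralizer_iff.2 fun w hw => ?_
    have h2 := congrArg Subtype.val (DFunLike.congr_fun this ⟨w, hw⟩)
    simp only [MulAut.conjNormal_apply, MulAut.one_apply] at h2
    exact (mul_inv_eq_iff_eq_mul.1 h2).symm
  haveI : IsMulCommutative (P : Subgroup H) := IsCyclic.isMulCommutative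
  have hcomp := MonoidHom.ker_transferSylow_isComplement' P hcen
  have htop : (MonoidHom.transferSylow P hcen).ker = ⊤ := eq_top_iff.2 fun x _ =>
    MonoidHom.mem_ker.2 (hker (C := (P : Subgroup H))
      (fun a b => IsMulCommutative.is_comm.comm a b) _ x)
  have := hcomp.card_mul
  rw [htop, Subgroup.card_top, hPcard] at this
  have hH : 0 < Nat.card H := Nat.card_pos
  have h2 := h.two_le
  nlinarith

end Cfsg.Agent.Block
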