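import Cfsg.Agent.Lib.Block.Principal
import Cfsg.Agent.Lib.Block.Height
import Cfsg.Agent.Lib.Block.SecondMain

/-!
Sums over the regular part of a section, separated by the principal block.

If exactly one of a character of the group and a character of the centralizer of a `p`-element lies in the principal
block, their product sums to zero over the regular elements of the centralizer; inside the principal block the
values of the section do not change along a normal subgroup of the centralizer of order prime to `p`.
-/

open scoped ComplexConjugate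

namespace Cfsg.Agent.Block

open Cfsg Cfsg.Agent.Char

set_option linter.unusedSectionVars false
set_option linter.style.haveILetI false

universe u

variable {G : Type u} [Group G] [Finite G] {M : Ideal AlgInt} {p : ℕ}

/-- The blocks of the centralizer inducing the principal block form the principal block. -/
theorem inducing_principal_iff [Fact p.Prime] (hM : IsPModular p M) {x : G} (hx : ∃ k : ℕ, orderOf x = p ^ k)
    (ξ : IrrCharacter (Subgroup.centralizer ({x} : Set G))) :
    IsInducedBlock M (Subgroup.centralizer ({x} : Set G))
        (blockOf M (ξ : Subgroup.centralizer ({x} : Set G) → ℂ)) (principalBlock M G) ↔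
      ξ ∈ principalBlock M (Subgroup.centralizer ({x} : Set G)) := by
  obtain ⟨k, hk⟩ := hx
  have hP : IsPGroup p (Subgroup.zpowers x) := IsPGroup.of_card (n := k) (by rw [Nat.card_zpowers, hk])
  have hdef : InducedBlockDefined M (Subgroup.centralizer ({x} : Set G))
      (blockOf M (ξ : Subgroup.centralizer ({x} : Set G) → ℂ)) := by
    refine inducedBlockDefined_brauer hM hP (Subgroup.zpowers_le.2 (centralizer_self_mem x)) ?_ ?_
      (isPBlock_blockOf ξ)
    · exact Subgroup.centralizer_le (Set.singleton_subset_iff.2 (Subgroup.mem_zpowers x))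
    · refine le_trans ?_ (Subgroup.centralizer_le_normalizer _)
      intro t ht
      rw [Subgroup.mem_centralizer_iff]
      intro w hw
      obtain ⟨i, rfl⟩ := Subgroup.mem_zpowers_iff.1 hw
      exact ((show Commute t x from Subgroup.mem_centralizer_singleton_iff.1 ht).zpow_right i).eq.symm
  rw [principal_third_main hM hdef]
  exact ⟨fun h => h ▸ mem_blockOf_self hM ξ, fun h => (pblock_eq_blockOf hM isPBlock_principalBlock h).symm⟩

/-- A section of a character on the regular elements, by the principal block of the centralizer. -/
theorem section_principal_part [Fact p.Prime] [Fintype G] (hM : IsPModular p M) {x : G}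
    [Fintype (Subgroup.centralizer ({x} : Set G))]
    [DecidablePred (fun ξ : IrrCharacter (Subgroup.centralizer ({x} : Set G)) =>
      ξ ∈ principalBlock M (Subgroup.centralizer ({x} : Set G)))]
    (hx : ∃ k : ℕ, orderOf x = p ^ k) {v : Subgroup.centralizer ({x} : Set G)} (hv : ¬ p ∣ orderOf v)
    (χ : IrrCharacter G) [Decidable (χ ∈ principalBlock M G)] :
    ∑ ξ ∈ Finset.univ.filter (fun ξ : IrrCharacter (Subgroup.centralizer ({x} : Set G)) =>
        ξ ∈ principalBlock M (Subgroup.centralizer ({x} : Set G))),
      classInner (fun c : Subgroup.centralizer ({x} : Set G) => (χ : G → ℂ) (x * (c : G)))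
          (ξ : Subgroup.centralizer ({x} : Set G) → ℂ) *
        (ξ : Subgroup.centralizer ({x} : Set G) → ℂ) v =
      if χ ∈ principalBlock M G then (χ : G → ℂ) (x * (v : G)) else 0 := by
  classical
  rw [← value_eq_sum_inducing hM hx (isPBlock_principalBlock (G := G) (M := M)) hv χ]
  refine Finset.sum_congr ?_ fun ξ _ => rfl
  ext ξ
  simp only [Finset.mem_filter, Finset.mem_univ, true_and, inducing_principal_iff hM hx ξ]

/-- Sums over the regular part of a section vanish across the principal block. -/
theorem section_reg_orth [Fact p.Prime] [Fintype G] (hM : IsPModular p M) {x : G}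
    [Fintype (Subgroup.centralizer ({x} : Set G))] (hx : ∃ k : ℕ, orderOf x = p ^ k) (χ : IrrCharacter G)
    (η : IrrCharacter (Subgroup.centralizer ({x} : Set G)))
    (h : χ ∈ principalBlock M G ↔ η ∉ principalBlock M (Subgroup.centralizer ({x} : Set G))) :
    ∑ v ∈ Finset.univ.filter (fun v : Subgroup.centralizer ({x} : Set G) => ¬ p ∣ orderOf v),
      (χ : G → ℂ) (x * (v : G)) * conj ((η : Subgroup.centralizer ({x} : Set G) → ℂ) v) = 0 := by
  classical
  set θ := fun c : Subgroup.centralizer ({x} : Set G) => (χ : G → ℂ) (x * (c : G))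
  set S := Finset.univ.filter (fun ξ : IrrCharacter (Subgroup.centralizer ({x} : Set G)) =>
    (ξ ∈ principalBlock M (Subgroup.centralizer ({x} : Set G)) ↔ χ ∈ principalBlock M G))
  have hval : ∀ v : Subgroup.centralizer ({x} : Set G), ¬ p ∣ orderOf v →
      θ v = ∑ ξ ∈ S, classInner θ (ξ : Subgroup.centralizer ({x} : Set G) → ℂ) *
        (ξ : Subgroup.centralizer ({x} : Set G) → ℂ) v := by
    intro v hv
    have h1 := section_principal_part hM hx hv χ
    have h2 := congrFun (classFunction_expansion (sectionFun_classFun χ x)) v
    rw [Finset.sum_apply] at h2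
    by_cases hχ : χ ∈ principalBlock M G
    · rw [if_pos hχ] at h1
      rw [show θ v = (χ : G → ℂ) (x * (v : G)) from rfl, ← h1]
      refine Finset.sum_congr ?_ fun ξ _ => rfl
      ext ξ
      simp [S, hχ]
    · rw [if_neg hχ] at h1
      refine h2.trans ?_
      rw [← Finset.sum_filter_add_sum_filter_not Finset.univ
        (fun ξ : IrrCharacter (Subgroup.centralizer ({x} : Set G)) =>
          ξ ∈ principalBlock M (Subgroup.centralizer ({x} : Set G)))]
      simp only [Pi.smul_apply, smul_eq_mul]
      rw [h1, zero_add]
      refine Finset.sum_congr ?_ fun ξ _ => rfl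
      ext ξ
      simp [S, hχ]
  rw [Finset.sum_congr rfl fun v hv => by
    rw [show (χ : G → ℂ) (x * (v : G)) = θ v from rfl, hval v (Finset.mem_filter.1 hv).2, Finset.sum_mul]]
  rw [Finset.sum_comm]
  refine Finset.sum_eq_zero fun ξ hξ => ?_
  have hξ' := (Finset.mem_filter.1 hξ).2
  have h0 := reg_orth hM (χ := ξ) (ψ := η) fun hsame => by
    by_cases hχ : χ ∈ principalBlock M G
    · exact (h.1 hχ) (pblock_mem_of_sameBlock hM isPBlock_principalBlock (hξ'.2 hχ) hsame)
    · exact hχ (hξ'.1 (pblock_mem_of_sameBlock hM isPBlock_principalBlock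
        (not_not.1 fun hη => hχ (h.2 hη)) (sameBlock_symm hsame)))
  rw [regSum_eq_sum] at h0
  simp only [mul_assoc]
  rw [← Finset.mul_sum, h0, mul_zero]

/-- Inside the principal block a section is constant along a normal `p'`-subgroup of the centralizer. -/
theorem section_mul_const [Fact p.Prime] [Fintype G] (hM : IsPModular p M) {x : G}
    [Fintype (Subgroup.centralizer ({x} : Set G))] (hx : ∃ k : ℕ, orderOf x = p ^ k)
    {K : Subgroup (Subgroup.centralizer ({x} : Set G))} [K.Normal] (hK : ¬ p ∣ Nat.card K)
    {χ : IrrCharacter G} (hχ : χ ∈ principalBlock M G) {v l : Subgroup.centralizer ({x} : Set G)}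
    (hv : ¬ p ∣ orderOf v) (hvl : ¬ p ∣ orderOf (v * l)) (hl : l ∈ K) :
    (χ : G → ℂ) (x * ((v * l : Subgroup.centralizer ({x} : Set G)) : G)) = (χ : G → ℂ) (x * (v : G)) := by
  classical
  have h1 := section_principal_part hM hx hv χ
  have h2 := section_principal_part hM hx hvl χ
  rw [if_pos hχ] at h1 h2
  rw [← h1, ← h2]
  refine Finset.sum_congr rfl fun ξ hξ => ?_
  congr 1
  have hker := principal_ker_of_coprime hM hK (Finset.mem_filter.1 hξ).2 hl
  rw [show v * l = v * (l * v) * v⁻¹ by group, irr_classFun ξ (l * v) v]
  exact char_mul_ker (irr_isChar ξ) hker v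

end Cfsg.Agent.Block
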