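import Mathlib
import Cfsg.Prelude.Def_Local
import Cfsg.Agent.Lib.Grp.Cores
import Cfsg.Agent.Lib.Grp.Coprime
import Cfsg.Agent.Lib.Grp.PSolvable
import Cfsg.Agent.Lib.Grp.CoprimeAbelian
import Cfsg.Agent.Lib.Char.Complete

/-!
A faithful character of a `p`-solvable group with a non-normal TI Sylow subgroup `P` has degree
greater than the square root of the order of `P`.
-/

namespace Cfsg.Agent.Block

open scoped Pointwise

set_option linter.unusedSectionVars false
set_option linter.style.haveILetI false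

universe u

section Eigen

variable {G W : Type*} [Group G] [AddCommGroup W] [Module ℂ W]

/-- Common eigenvectors with distinct characters are independent. -/
theorem card_le_finrank [Finite G] [FiniteDimensional ℂ W] (ρ : Representation ℂ G W) (R : Subgroup G)
    {ι : Type*} [Fintype ι] (lam : ι → R →* ℂ) (hinj : Function.Injective lam) (w : ι → W)
    (hw0 : ∀ i, w i ≠ 0) (hw : ∀ i (r : R), ρ r (w i) = lam i r • w i) :
    Fintype.card ι ≤ Module.finrank ℂ W := by
  classical
  cases nonempty_fintype R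
  refine LinearIndependent.fintype_card_le_finrank (b := w) (Fintype.linearIndependent_iff.2 fun g hg j => ?_)
  let μ : ι → R →* ℂ := fun i =>
    { toFun := fun r => lam i r * lam j r⁻¹
      map_one' := by simp
      map_mul' := fun a b => by rw [mul_inv_rev, map_mul, map_mul]; ring }
  have hμ : ∀ i, i ≠ j → μ i ≠ 1 := fun i hi h => hi (hinj (MonoidHom.ext fun r => by
    have h1 : lam i r * lam j r⁻¹ = 1 := DFunLike.congr_fun h r
    calc lam i r = lam i r * (lam j r⁻¹ * lam j r) := by rw [← map_mul, inv_mul_cancel, map_one, mul_one]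
      _ = lam j r := by rw [← mul_assoc, h1, one_mul]))
  have h0 : ∑ r : R, lam j r⁻¹ • ρ (r : G) (∑ i, g i • w i) = 0 := by simp [hg]
  simp only [map_sum, map_smul, hw, Finset.smul_sum, smul_smul] at h0
  rw [Finset.sum_comm] at h0
  have h1 : ∀ i, ∑ r : R, (lam j r⁻¹ * (g i * lam i r)) • w i = (g i * ∑ r : R, μ i r) • w i := fun i => by
    rw [← Finset.sum_smul, Finset.mul_sum]
    exact congrArg (· • w i) (Finset.sum_congr rfl fun r _ => by
      show _ = g i * (lam i r * lam j r⁻¹)
      ring)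
  rw [Finset.sum_congr rfl fun i _ => h1 i, Finset.sum_eq_single j
    (fun i _ hi => by rw [sum_hom_units_eq_zero _ (hμ i hi), mul_zero, zero_smul])
    (fun h => absurd (Finset.mem_univ _) h)] at h0
  have h2 : ∑ r : R, μ j r = (Fintype.card R : ℂ) := by
    rw [Finset.sum_congr rfl fun r _ => (show μ j r = 1 from by
      show lam j r * lam j r⁻¹ = 1
      rw [← map_mul, mul_inv_cancel, map_one])]
    simp
  rw [h2, smul_eq_zero] at h0
  rcases h0.resolve_right (hw0 j) |> mul_eq_zero.1 with h | h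
  · exact h
  · exact absurd h (Nat.cast_ne_zero.2 Fintype.card_ne_zero)

/-- A commuting invariant subspace that is moved has an eigenvector with non-trivial character. -/
theorem exists_eigen [Finite G] [FiniteDimensional ℂ W] (σ : Representation ℂ G W) (S : Submodule ℂ W)
    (hS : ∀ g, ∀ w ∈ S, σ g w ∈ S)
    (hcomm : ∀ g g', ∀ w ∈ S, σ g (σ g' w) = σ g' (σ g w)) {g₀ : G} {s : W} (hs : s ∈ S)
    (hne : σ g₀ s ≠ s) :
    ∃ (lam : G →* ℂ) (w : W), w ≠ 0 ∧ (∀ g, σ g w = lam g • w) ∧ lam g₀ ≠ 1 := by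
  classical
  set T : Submodule ℂ W := S.map (σ g₀ - 1) with hT
  have hTS : T ≤ S := by
    rintro _ ⟨x, hx, rfl⟩
    exact S.sub_mem (hS _ _ hx) hx
  have hTinv : ∀ g, ∀ x ∈ T, σ g x ∈ T := by
    rintro g _ ⟨x, hx, rfl⟩
    refine ⟨σ g x, hS g x hx, ?_⟩
    rw [LinearMap.sub_apply, LinearMap.sub_apply, map_sub, hcomm g g₀ x hx]
    rfl
  have hT0 : T ≠ ⊥ := fun h => hne (sub_eq_zero.1 ((Submodule.mem_bot ℂ).1 (h ▸ ⟨s, hs, rfl⟩)))
  obtain ⟨U, ⟨hU0, hUT, hUinv⟩, hmin⟩ := (wellFounded_lt (α := Submodule ℂ W)).has_min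
    {U | U ≠ ⊥ ∧ U ≤ T ∧ ∀ g, ∀ x ∈ U, σ g x ∈ U} ⟨T, hT0, le_rfl, hTinv⟩
  haveI : Nontrivial U := Submodule.nontrivial_iff_ne_bot.2 hU0
  have hscal : ∀ g, ∃ c : ℂ, ∀ x ∈ U, σ g x = c • x := by
    intro g
    obtain ⟨c, hc⟩ := Module.End.exists_eigenvalue ((σ g).restrict (hUinv g))
    obtain ⟨x, hx⟩ := hc.exists_hasEigenvector
    set U' : Submodule ℂ W := U ⊓ LinearMap.ker (σ g - c • 1) with hU'
    have hmem : ∀ y, y ∈ U' ↔ y ∈ U ∧ σ g y = c • y := fun y => by simp [hU', sub_eq_zero]
    have hne' : U' ≠ ⊥ := fun h => hx.2 (Subtype.ext ((Submodule.mem_bot ℂ).1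
      (h ▸ (hmem x).2 ⟨x.2, congrArg Subtype.val hx.apply_eq_smul⟩)))
    have hinv : ∀ g', ∀ y ∈ U', σ g' y ∈ U' := fun g' y hy => by
      rw [hmem] at hy ⊢
      refine ⟨hUinv g' y hy.1, ?_⟩
      rw [hcomm g g' y (hTS (hUT hy.1)), hy.2, map_smul]
    have heq : U' = U := by
      by_contra h
      exact hmin U' ⟨hne', le_trans inf_le_left hUT, hinv⟩ (lt_of_le_of_ne inf_le_left h)
    exact ⟨c, fun y hy => ((hmem y).1 (heq.symm ▸ hy)).2⟩
  choose c hc using hscal
  obtain ⟨w, hwU, hw0⟩ := U.exists_mem_ne_zero_of_ne_bot hU0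
  have huniq : ∀ a b : ℂ, a • w = b • w → a = b := fun a b h => smul_left_injective ℂ hw0 h
  let lam : G →* ℂ :=
    { toFun := c
      map_one' := huniq _ _ (by rw [← hc 1 w hwU, map_one, Module.End.one_apply, one_smul])
      map_mul' := fun a b => huniq _ _ (by
        rw [← hc (a * b) w hwU, map_mul, Module.End.mul_apply, hc b w hwU, map_smul, hc a w hwU,
          smul_smul, mul_comm]) }
  refine ⟨lam, w, hw0, fun g => hc g w hwU, fun h1 => hw0 ?_⟩
  have hfix : σ g₀ w = w := by rw [hc g₀ w hwU, show c g₀ = 1 from h1, one_smul]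
  obtain ⟨x, -, hxw⟩ := hUT hwU
  set n := orderOf g₀
  have hpow : ∀ i : ℕ, σ (g₀ ^ i) w = w := fun i => by
    induction i with
    | zero => simp
    | succ i ih => rw [pow_succ, map_mul, Module.End.mul_apply, hfix, ih]
  have hsum : ∑ i ∈ Finset.range n, σ (g₀ ^ i) w = 0 := by
    have hxw' : w = σ g₀ x - x := hxw.symm
    have he : ∀ i : ℕ, σ (g₀ ^ i) w = σ (g₀ ^ (i + 1)) x - σ (g₀ ^ i) x := fun i => by
      rw [hxw', map_sub, pow_succ, map_mul, Module.End.mul_apply]
    rw [Finset.sum_congr rfl fun i _ => he i, Finset.sum_range_sub (fun i => σ (g₀ ^ i) x),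
      pow_orderOf_eq_one, pow_zero, sub_self]
  simp only [hpow, Finset.sum_const, Finset.card_range] at hsum
  exact (smul_eq_zero.1 ((Nat.cast_smul_eq_nsmul ℂ n w).trans hsum)).resolve_left
    (Nat.cast_ne_zero.2 (orderOf_pos g₀).ne')

end Eigen

variable {G : Type u} [Group G] [Finite G] {p : ℕ}

/-- The centralizer of the `p'`-core in a `p`-soluble group with trivial `p`-core. -/
theorem centralizer_pPrimeCore_le [hp : Fact p.Prime] (hG : Cfsg.IsPSolvable p G)
    (h : Cfsg.pCore p G = ⊥) :
    Subgroup.centralizer (Cfsg.pPrimeCore p G : Set G) ≤ Cfsg.pPrimeCore p G := by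
  obtain ⟨n, H, h0, hl, -, hn, hi⟩ := hG
  set N := Cfsg.pPrimeCore p G
  have hNn : N.Normal := Grp.pPrimeCore_isNormal
  set C := Subgroup.centralizer (N : Set G)
  have hCn : C.Normal := Subgroup.normal_centralizer
  suffices ∀ i : Fin (n + 1), C ⊓ H i ≤ N by simpa [hl] using this (Fin.last n)
  intro i
  induction i using Fin.induction with
  | zero => rw [h0, inf_bot_eq]; exact bot_le
  | succ i ih =>
    set D := C ⊓ H i.succ with hD
    have hDn : D.Normal := Subgroup.normal_inf_normal C (H i.succ)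
    have hd : (H i.castSucc).relIndex D ∣ (H i.castSucc).relIndex (H i.succ) :=
      Grp.relIndex_dvd_of_normal_le (hn _) inf_le_right
    have hle : H i.castSucc ⊓ D ≤ N := by
      refine le_trans (le_inf ?_ inf_le_left) ih
      exact inf_le_right.trans inf_le_left
    have hidx : N.relIndex D ∣ (H i.castSucc).relIndex D := by
      rw [← Subgroup.inf_relIndex_right (H i.castSucc) D]
      exact Subgroup.relIndex_dvd_of_le_left D hle
    have hND : (Nat.card ↥(N ⊓ D)).Coprime p :=
      (Grp.pPrimeCore_coprime (p := p) (G := G)).coprime_dvd_left (Subgroup.card_dvd_of_le inf_le_left)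
    rcases hi i with ⟨m, hm'⟩ | hc
    · obtain ⟨j, -, hj⟩ := (Nat.dvd_prime_pow hp.out).mp (hm' ▸ hidx.trans hd)
      set Z := N.subgroupOf D
      have hZn : Z.Normal := hNn.subgroupOf D
      have hZc : ∀ z ∈ Z, ∀ d : D, d * z = z * d := fun z hz d => Subtype.ext
        (Subgroup.mem_centralizer_iff.mp d.2.1 z hz).symm
      have hZidx : Z.index = p ^ j := hj
      have hcZ : (Nat.card Z).Coprime p :=
        (Grp.pPrimeCore_coprime (p := p) (G := G)).coprime_dvd_left
          (Subgroup.card_comap_dvd_of_injective N D.subtype D.subtype_injective)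
      obtain ⟨K, hK⟩ := Subgroup.exists_right_complement'_of_coprime (N := Z)
        (show (Nat.card Z).Coprime Z.index by rw [hZidx]; exact hcZ.pow_right j)
      have hKn : K.Normal := by
        rw [← Subgroup.normalizer_eq_top_iff, eq_top_iff, ← hK.sup_eq_top]
        refine sup_le (fun z hz => Subgroup.centralizer_le_normalizer _ ?_) Subgroup.le_normalizer
        exact Subgroup.mem_centralizer_iff.mpr fun d _ => hZc z hz d
      have hKp : IsPGroup p K := IsPGroup.of_card (n := j) (by rw [← hK.symm.index_eq_card, hZidx])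
      have hKidx : ¬ p ∣ K.index := by
        rw [hK.index_eq_card]
        exact hp.out.coprime_iff_not_dvd.mp hcZ.symm
      let S : Sylow p D := hKp.toSylow hKidx
      have : (S : Subgroup D).Characteristic := S.characteristic_of_normal hKn
      have hSn : ((S : Subgroup D).map D.subtype).Normal := inferInstance
      have hbot : K.map D.subtype = ⊥ := le_bot_iff.1 (h ▸ Grp.le_pCore hSn (hKp.map _))
      have hKbot : K = ⊥ := (Subgroup.map_eq_bot_iff_of_injective _ D.subtype_injective).mp hbot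
      have htop := hK.sup_eq_top
      rw [hKbot, sup_bot_eq, Subgroup.subgroupOf_eq_top] at htop
      exact htop
    · refine Grp.le_pPrimeCore hDn ?_
      rw [← Grp.relIndex_mul_card_inf D N, inf_comm]
      exact hND.mul_left (hc.coprime_dvd_left (hidx.trans hd))

/-- The conjugation of a subgroup by a normalizing element, as an endomorphism. -/
def conjRes (R : Subgroup G) {a : G} (ha : a ∈ Subgroup.normalizer (R : Set G)) : R →* R where
  toFun r := ⟨a * r * a⁻¹, Grp.mem_conj_normalizer ha r.2⟩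
  map_one' := Subtype.ext (by simp)
  map_mul' x y := Subtype.ext (by simp [mul_assoc])

theorem conjRes_val (R : Subgroup G) {a : G} (ha : a ∈ Subgroup.normalizer (R : Set G)) (r : R) :
    (conjRes R ha r : G) = a * r * a⁻¹ := rfl

/-- The setting: a minimal subgroup on which `P` acts non-trivially. -/
theorem free_orbit [hp : Fact p.Prime] {P R : Subgroup G} (hP : IsPGroup p P)
    (hPR : P ≤ Subgroup.normalizer (R : Set G)) (hcop : (Nat.card P).Coprime (Nat.card R))
    (hsolv : Group.IsSolvable R) (hRP : ⁅R, P⁆ = R)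
    (hfree : ∀ u ∈ P, u ≠ 1 → R ⊓ Subgroup.centralizer ({u} : Set G) ≤
      Subgroup.centralizer (P : Set G))
    (lam : R →* ℂ) {u : G} (hu : u ∈ P) (hu1 : u ≠ 1)
    (hfix : ∀ r : R, lam (conjRes R (hPR hu) r) = lam r) : lam = 1 := by
  classical
  cases nonempty_fintype P
  let f : R →* ℂˣ := lam.toHomUnits
  have hfv : ∀ r, (f r : ℂ) = lam r := fun r => rfl
  -- the norm over `P` is trivial
  let μ : R →* ℂˣ :=
    { toFun := fun x => ∏ a : P, f (conjRes R (hPR a.2) x)
      map_one' := by simp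
      map_mul' := fun x y => by simp [Finset.prod_mul_distrib] }
  have hμ : ∀ (b : P) (x : R), μ (conjRes R (hPR b.2) x) = μ x := fun b x => by
    refine Fintype.prod_equiv (Equiv.mulRight b) _ _ fun a => ?_
    congr 1
    refine Subtype.ext ?_
    simp only [conjRes_val, Equiv.coe_mulRight, Subgroup.coe_mul]
    group
  have hμker : ⁅R, P⁆ ≤ μ.ker.map R.subtype := by
    rw [Subgroup.commutator_le]
    intro r hr a ha
    refine ⟨⟨r, hr⟩ * conjRes R (hPR ha) (⟨r, hr⟩ : R)⁻¹, ?_, ?_⟩
    · show μ _ = 1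
      rw [map_mul, hμ ⟨a, ha⟩, map_inv, mul_inv_cancel]
    · simp [conjRes_val, commutatorElement_def, mul_assoc]
  have hC : ∀ x : R, (x : G) ∈ Subgroup.centralizer (P : Set G) → f x = 1 := by
    intro x hx
    have h1 : μ x = 1 := by
      obtain ⟨y, hy, hyx⟩ := hμker (show (x : G) ∈ ⁅R, P⁆ by rw [hRP]; exact x.2)
      rw [show x = y from Subtype.ext hyx.symm]
      exact hy
    have h2 : μ x = f x ^ Nat.card P := by
      show ∏ a : P, f (conjRes R (hPR a.2) x) = _
      rw [Finset.prod_congr rfl fun a _ => (show f (conjRes R (hPR a.2) x) = f x by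
        congr 1
        refine Subtype.ext ?_
        rw [conjRes_val, Subgroup.mem_centralizer_iff.1 hx a a.2, mul_inv_cancel_right]),
        Finset.prod_const, Finset.card_univ, Nat.card_eq_fintype_card]
    have h3 : f x ^ Nat.card R = 1 := by rw [← map_pow, pow_card_eq_one', map_one]
    exact orderOf_eq_one_iff.1 (Nat.eq_one_of_dvd_coprimes hcop
      (orderOf_dvd_of_pow_eq_one (h2.symm.trans h1)) (orderOf_dvd_of_pow_eq_one h3))
  have hU : ⁅R, Subgroup.zpowers u⁆ ≤ f.ker.map R.subtype := by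
    rw [Subgroup.commutator_le]
    intro r hr a ha
    have hpow : ∀ k : ℕ, ∀ x : R, f (conjRes R (hPR (P.pow_mem hu k)) x) = f x := by
      intro k
      induction k with
      | zero => intro x; congr 1; exact Subtype.ext (by simp [conjRes_val])
      | succ k ih =>
        intro x
        have : conjRes R (hPR (P.pow_mem hu (k + 1))) x =
            conjRes R (hPR (P.pow_mem hu k)) (conjRes R (hPR hu) x) :=
          Subtype.ext (by simp only [conjRes_val, pow_succ]; group)
        rw [this, ih]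
        exact Units.ext (hfix x)
    obtain ⟨k, rfl⟩ := (isOfFinOrder_of_finite u).mem_powers_iff_mem_zpowers.2 ha
    refine ⟨⟨r, hr⟩ * conjRes R (hPR (P.pow_mem hu k)) (⟨r, hr⟩ : R)⁻¹, ?_, ?_⟩
    · show f _ = 1
      rw [map_mul, hpow, map_inv, mul_inv_cancel]
    · simp [conjRes_val, commutatorElement_def, mul_assoc]
  have hUR : Subgroup.zpowers u ≤ Subgroup.normalizer (R : Set G) :=
    Subgroup.zpowers_le.2 (hPR hu)
  have hcop' : (Nat.card (Subgroup.zpowers u)).Coprime (Nat.card R) :=
    hcop.coprime_dvd_left (Subgroup.card_dvd_of_le (Subgroup.zpowers_le.2 hu))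
  have htop : R ≤ f.ker.map R.subtype := by
    conv_lhs => rw [← Grp.commutator_sup_fixed (Subgroup.zpowers u) R hUR hcop' (Or.inr hsolv)]
    refine sup_le hU ?_
    rw [← Grp.centralizer_singleton_eq_zpowers]
    intro x hx
    exact ⟨⟨x, hx.1⟩, hC ⟨x, hx.1⟩ (hfree u hu hu1 hx), rfl⟩
  refine MonoidHom.ext fun r => ?_
  obtain ⟨y, hy, hyr⟩ := htop r.2
  rw [← hfv, show r = y from Subtype.ext hyr.symm, show f y = 1 from hy]
  rfl

/-- The degree bound. -/
theorem sylow_normal_of_faithful_small [hp : Fact p.Prime] (hsolv : Cfsg.IsPSolvable p G)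
    (P : Sylow p G)
    (hTI : ∀ g : G, g ∉ Subgroup.normalizer ((P : Subgroup G) : Set G) →
      (P : Subgroup G) ⊓ (MulAut.conj g • (P : Subgroup G)) = ⊥)
    {n : ℕ} (ρ : Representation ℂ G (Fin n → ℂ)) (hρ : ∀ g, ρ g = 1 → g = 1)
    (hdeg : n ^ 2 ≤ Nat.card (P : Subgroup G)) : (P : Subgroup G).Normal := by
  classical
  by_contra hnn
  obtain ⟨g, hg⟩ : ∃ g : G, g ∉ Subgroup.normalizer ((P : Subgroup G) : Set G) := by
    by_contra h
    push Not at h
    exact hnn (Subgroup.normalizer_eq_top_iff.1 (eq_top_iff.2 fun x _ => h x))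
  have hcore : Cfsg.pCore p G = ⊥ := le_bot_iff.1 (le_trans (le_inf (Grp.pCore_le_sylow P)
    (show Cfsg.pCore p G ≤ MulAut.conj g • (P : Subgroup G) by
      have h := Grp.pCore_le_sylow (g • P)
      rwa [Sylow.coe_subgroup_smul] at h)) (hTI g hg).le)
  set N := Cfsg.pPrimeCore p G with hN
  haveI hNn : N.Normal := Grp.pPrimeCore_isNormal
  have hP' : IsPGroup p (P : Subgroup G) := P.isPGroup'
  have hcopN : (Nat.card (P : Subgroup G)).Coprime (Nat.card N) := by
    rw [P.card_eq_multiplicity]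
    exact (Grp.pPrimeCore_coprime (p := p) (G := G)).symm.pow_left _
  have hinf : (P : Subgroup G) ⊓ N = ⊥ := Subgroup.inf_eq_bot_of_coprime hcopN
  have hPN : ∀ K : Subgroup G, (P : Subgroup G) ≤ Subgroup.normalizer (N : Set G) := fun _ => by
    rw [Subgroup.normalizer_eq_top]; exact le_top
  have hsolvP : Group.IsSolvable (P : Subgroup G) := by
    have := hP'.isNilpotent
    infer_instance
  have hfree0 : ∀ u ∈ (P : Subgroup G), u ≠ 1 → N ⊓ Subgroup.centralizer ({u} : Set G) ≤
      Subgroup.centralizer ((P : Subgroup G) : Set G) := by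
    intro u hu hu1 x hx
    refine Grp.mem_centralizer_of_normalizes (hPN N) hinf hx.1 ?_
    by_contra hxn
    apply hu1
    rw [← Subgroup.mem_bot, ← hTI x hxn]
    refine ⟨hu, ?_⟩
    show u ∈ MulAut.conj x • (P : Subgroup G)
    rw [Subgroup.mem_pointwise_smul_iff_inv_smul_mem]
    simpa [mul_assoc, ← Subgroup.mem_centralizer_singleton_iff.1 hx.2] using hu
  have hPcomm : ¬ (P : Subgroup G) ≤ Subgroup.centralizer (N : Set G) := fun h => hnn (by
    have h1 : (P : Subgroup G) = ⊥ := le_bot_iff.1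
      (hinf ▸ le_inf le_rfl (h.trans (centralizer_pPrimeCore_le hsolv hcore)))
    rw [h1]
    infer_instance)
  -- choose `R`
  set 𝒮 := {R : Subgroup G | R ≤ N ∧ Group.IsSolvable R ∧
    (P : Subgroup G) ≤ Subgroup.normalizer (R : Set G) ∧
    ¬ (P : Subgroup G) ≤ Subgroup.centralizer (R : Set G)}
  have hne : 𝒮.Nonempty := by
    by_contra hem
    apply hPcomm
    rw [Subgroup.le_centralizer_iff]
    refine le_trans (Grp.le_of_forall_sylow (H := N ⊓ Subgroup.centralizer ((P : Subgroup G) : Set G))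
      inf_le_left fun q hq => ?_) inf_le_right
    obtain ⟨X, hX, hPX⟩ := Grp.exists_invariant_sylow (P : Subgroup G) N (hPN N) hcopN (Or.inl hsolvP) q
    refine ⟨X, hX, le_inf hX.1 (Subgroup.le_centralizer_iff.1 ?_)⟩
    by_contra hXc
    exact hem ⟨X, hX.1, (by have := hX.2.1.isNilpotent; infer_instance), hPX, hXc⟩
  obtain ⟨R, ⟨hRN, hRs, hPR, hRc⟩, hmin⟩ := (wellFounded_lt (α := Subgroup G)).has_min 𝒮 hne
  have hsmall : ∀ S : Subgroup G, S < R → (P : Subgroup G) ≤ Subgroup.normalizer (S : Set G) →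
      (P : Subgroup G) ≤ Subgroup.centralizer (S : Set G) := fun S hS hPS => by
    by_contra h
    haveI := hRs
    exact hmin S ⟨hS.le.trans hRN, Group.isSolvable_of_isSolvable_injective
      (Subgroup.inclusion_injective hS.le), hPS, h⟩ hS
  have hcop : (Nat.card (P : Subgroup G)).Coprime (Nat.card R) :=
    hcopN.coprime_dvd_right (Subgroup.card_dvd_of_le hRN)
  have hRP : ⁅R, (P : Subgroup G)⁆ = R := by
    refine (Grp.commutator_le_left_of_le_normalizer hPR).eq_of_not_lt fun hlt => hRc ?_
    refine Grp.le_centralizer_of_series _ R _ hPR hcop (Or.inr hRs) le_rfl ?_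
    rw [Subgroup.commutator_comm, Subgroup.commutator_eq_bot_iff_le_centralizer]
    exact hsmall _ hlt (Grp.right_le_normalizer_commutator _ _)
  have hR0 : R ≠ ⊥ := fun h => hRc (by
    rw [h]
    intro x _ y hy
    rw [Subgroup.coe_bot, Set.mem_singleton_iff] at hy
    rw [hy, one_mul, mul_one])
  have hR' : ⁅R, R⁆ < R := by
    haveI := hRs
    refine lt_of_le_of_ne (Subgroup.commutator_le_self R) fun h => hR0 ?_
    by_contra hb
    haveI : Nontrivial R := (Subgroup.nontrivial_iff_ne_bot R).2 hb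
    have hlt := Group.IsSolvable.commutator_lt_top_of_nontrivial R
    refine hlt.ne (Subgroup.map_injective R.subtype_injective ?_)
    rw [commutator_def, Subgroup.map_commutator, ← MonoidHom.range_eq_map, Subgroup.range_subtype, h]
  have hPR' : (P : Subgroup G) ≤ Subgroup.normalizer ((⁅R, R⁆ : Subgroup G) : Set G) := fun a ha => by
    rw [Grp.mem_normalizer_iff_smul]
    show Subgroup.map (MulAut.conj a).toMonoidHom ⁅R, R⁆ = _
    rw [Subgroup.map_commutator]
    exact congrArg (fun S => ⁅S, S⁆) (Grp.normalizer_le_smul hPR ha)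
  have hcen : ∀ c ∈ ⁅R, R⁆, ∀ r ∈ R, r * c = c * r := by
    have h1 : ⁅⁅R, R⁆, (P : Subgroup G)⁆ = ⊥ := by
      rw [Subgroup.commutator_comm, Subgroup.commutator_eq_bot_iff_le_centralizer]
      exact hsmall _ hR' hPR'
    have h1' : ⁅⁅(P : Subgroup G), ⁅R, R⁆⁆, R⁆ = ⊥ := by
      rw [Subgroup.commutator_comm (P : Subgroup G), h1, Subgroup.commutator_bot_left]
    have h2 : ⁅⁅⁅R, R⁆, R⁆, (P : Subgroup G)⁆ = ⊥ := le_bot_iff.1 (le_trans
      (Subgroup.commutator_mono (Grp.commutator_le_left_of_le_normalizer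
        (Grp.left_le_normalizer_commutator R R)) le_rfl) h1.le)
    have h3 := Subgroup.commutator_commutator_eq_bot_of_rotate (H₁ := R) (H₂ := (P : Subgroup G))
      (H₃ := ⁅R, R⁆) h1' h2
    rw [hRP, Subgroup.commutator_eq_bot_iff_le_centralizer] at h3
    exact fun c hc r hr => (Subgroup.mem_centralizer_iff.1 (h3 hr) c hc).symm
  have hfree : ∀ u ∈ (P : Subgroup G), u ≠ 1 → R ⊓ Subgroup.centralizer ({u} : Set G) ≤
      Subgroup.centralizer ((P : Subgroup G) : Set G) := fun u hu hu1 =>
    le_trans (inf_le_inf_right _ hRN) (hfree0 u hu hu1)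
  -- the orbit of an eigencharacter
  have orbit : ∀ {W : Type} [AddCommGroup W] [Module ℂ W] [FiniteDimensional ℂ W]
      (σ : Representation ℂ G W) (lam : R →* ℂ) (w : W), w ≠ 0 →
      (∀ r : R, σ r w = lam r • w) → lam ≠ 1 →
      (∀ (ι : Type u) [Fintype ι] (μ : ι → R →* ℂ) (v : ι → W), Function.Injective μ →
        (∀ i, v i ≠ 0) → (∀ i (r : R), σ r (v i) = μ i r • v i) → (∀ i, μ i = 1) →
        Fintype.card ι + Nat.card (P : Subgroup G) ≤ Module.finrank ℂ W) := by
    intro W _ _ _ σ lam w hw0 hw hlam ι _ μ v hμi hv0 hv hμ1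
    cases nonempty_fintype (P : Subgroup G)
    let L : ι ⊕ (P : Subgroup G) → R →* ℂ :=
      Sum.elim μ fun a => lam.comp (conjRes R (hPR ((P : Subgroup G).inv_mem a.2)))
    let V : ι ⊕ (P : Subgroup G) → W := Sum.elim v fun a => σ (a : G) w
    have hne1 : ∀ a : (P : Subgroup G), lam.comp (conjRes R (hPR ((P : Subgroup G).inv_mem a.2))) ≠ 1 :=
      fun a h => hlam (MonoidHom.ext fun r => by
        have := DFunLike.congr_fun h (conjRes R (hPR a.2) r)
        rw [MonoidHom.comp_apply] at this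
        rw [show conjRes R (hPR ((P : Subgroup G).inv_mem a.2)) (conjRes R (hPR a.2) r) = r from
          Subtype.ext (by simp [conjRes_val, mul_assoc])] at this
        exact this)
    have hL : Function.Injective L := by
      rintro (i | a) (j | b) h
      · exact congrArg _ (hμi h)
      · exact absurd (h.symm.trans (hμ1 i)) (hne1 b)
      · exact absurd (h.trans (hμ1 j)) (hne1 a)
      · by_contra hab
        refine hlam (free_orbit hP' hPR hcop hRs hRP hfree lam
          ((P : Subgroup G).mul_mem ((P : Subgroup G).inv_mem a.2) b.2)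
          (fun hu => hab (congrArg Sum.inr (Subtype.ext (inv_mul_eq_one.1 hu)))) fun r => ?_)
        have h' := DFunLike.congr_fun h (conjRes R (hPR b.2) r)
        simp only [L, Sum.elim_inr, MonoidHom.comp_apply] at h'
        convert h' using 2 <;> refine Subtype.ext ?_ <;> simp [conjRes_val, mul_assoc]
    have hle := card_le_finrank σ R L hL V ?_ ?_
    · rwa [Fintype.card_sum, ← Nat.card_eq_fintype_card (α := (P : Subgroup G))] at hle
    · rintro (i | a)
      · exact hv0 i
      · intro h0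
        apply hw0
        have := congrArg (σ (a : G)⁻¹) h0
        simpa [V, ← Module.End.mul_apply, ← map_mul] using this
    · rintro (i | a) r
      · exact hv i r
      · show σ r (σ (a : G) w) = lam _ • σ (a : G) w
        rw [← map_smul, ← hw, ← Module.End.mul_apply, ← map_mul, ← Module.End.mul_apply, ← map_mul,
          conjRes_val]
        congr 2
        group
  by_cases hab : ∀ r ∈ R, ∀ r' ∈ R, r * r' = r' * r
  · -- `R` abelian
    obtain ⟨⟨r₀, hr₀⟩, hr₀1'⟩ := R.ne_bot_iff_exists_ne_one.1 hR0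
    have hr₀1 : r₀ ≠ 1 := fun h => hr₀1' (Subtype.ext h)
    obtain ⟨s, hs⟩ : ∃ s, ρ r₀ s ≠ s := by
      by_contra h
      push Not at h
      exact hr₀1 (hρ r₀ (LinearMap.ext h))
    obtain ⟨lam, w, hw0, hw, hl⟩ := exists_eigen (ρ.comp R.subtype) ⊤ (fun _ _ _ => trivial)
      (fun a b x _ => by
        simp only [MonoidHom.comp_apply, Subgroup.coe_subtype, ← Module.End.mul_apply, ← map_mul]
        rw [hab a a.2 b b.2]) (g₀ := ⟨r₀, hr₀⟩) (Submodule.mem_top : s ∈ ⊤) hs
    have h := orbit ρ lam w hw0 hw (fun h => hl (by rw [h]; rfl)) PEmpty (fun i => i.elim)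
      (fun i => i.elim) (fun i => i.elim) (fun i => i.elim) (fun i => i.elim) (fun i => i.elim)
    rw [Fintype.card_pempty, zero_add, Module.finrank_fin_fun] at h
    have h1 : Nat.card (P : Subgroup G) = 1 := by
      have : 1 ≤ Nat.card (P : Subgroup G) := Nat.card_pos
      nlinarith
    exact hnn (by rw [Subgroup.card_eq_one.1 h1]; infer_instance)
  · -- `R` non-abelian
    push Not at hab
    obtain ⟨r₀, hr₀, y, hy, hne'⟩ := hab
    let σ : Representation ℂ G ((Fin n → ℂ) →ₗ[ℂ] (Fin n → ℂ)) := Representation.linHom ρ ρ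
    have hσ : ∀ a b : G, σ a (ρ b) = ρ (a * b * a⁻¹) := fun a b => by
      rw [Representation.linHom_apply, map_mul, map_mul, Module.End.mul_eq_comp,
        Module.End.mul_eq_comp, LinearMap.comp_assoc]
    set S : Submodule ℂ ((Fin n → ℂ) →ₗ[ℂ] (Fin n → ℂ)) :=
      Submodule.span ℂ (Set.range fun r : R => ρ (r : G))
    obtain ⟨lam, w, hw0, hw, hl⟩ := exists_eigen (σ.comp R.subtype) S
      (fun a x hx => by
        refine Submodule.span_induction ?_ ?_ ?_ ?_ hx
        · rintro _ ⟨b, rfl⟩
          rw [MonoidHom.comp_apply, hσ]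
          exact Submodule.subset_span ⟨a * b * a⁻¹, rfl⟩
        · rw [map_zero]; exact S.zero_mem
        · intro x y _ _ hx hy
          rw [map_add]
          exact S.add_mem hx hy
        · intro c x _ hx
          rw [map_smul]
          exact S.smul_mem c hx)
      (fun a b x hx => by
        refine Submodule.span_induction ?_ ?_ ?_ ?_ hx
        · rintro _ ⟨z, rfl⟩
          simp only [MonoidHom.comp_apply, Subgroup.coe_subtype, hσ]
          congr 1
          have hc : (b : G) * a * ((a : G) * b)⁻¹ ∈ ⁅R, R⁆ := by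
            have := Subgroup.commutator_mem_commutator b.2 a.2
            rw [commutatorElement_def] at this
            simpa [mul_assoc] using this
          have hz := hcen _ hc z z.2
          have hz' := hcen _ hc _ (R.mul_mem (R.mul_mem (R.mul_mem a.2 b.2) z.2)
            (R.inv_mem (R.mul_mem a.2 b.2)))
          generalize hcdef : (b : G) * a * ((a : G) * b)⁻¹ = c at hz hz'
          calc (a : G) * (b * z * (b : G)⁻¹) * (a : G)⁻¹
              = ((a : G) * b * z * ((a : G) * b)⁻¹) * c * c⁻¹ := by group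
            _ = c * ((a : G) * b * z * ((a : G) * b)⁻¹) * c⁻¹ := by rw [hz']
            _ = (b : G) * (a * z * (a : G)⁻¹) * (b : G)⁻¹ := by rw [← hcdef]; group
        · simp
        · intro x y _ _ hx hy
          simp only [map_add, hx, hy]
        · intro c x _ hx
          simp only [map_smul, hx])
      (g₀ := ⟨r₀, hr₀⟩) (s := ρ y) (Submodule.subset_span ⟨⟨y, hy⟩, rfl⟩)
      (by
        rw [MonoidHom.comp_apply, hσ]
        intro h
        apply hne'
        have h' : r₀ * y * r₀⁻¹ * y⁻¹ = 1 := hρ _ (by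
          rw [map_mul]
          show ρ (r₀ * y * r₀⁻¹) * ρ y⁻¹ = 1
          rw [show ρ (r₀ * y * r₀⁻¹) = ρ y from h, ← map_mul, mul_inv_cancel, map_one])
        exact mul_inv_eq_iff_eq_mul.1 (mul_inv_eq_one.1 h'))
    have hid0 : (1 : (Fin n → ℂ) →ₗ[ℂ] (Fin n → ℂ)) ≠ 0 := fun h => hne' (by
      have e : ∀ z : G, ρ z = 1 := fun z => by rw [← mul_one (ρ z), h, mul_zero]
      rw [hρ r₀ (e r₀), one_mul, mul_one])
    have h := orbit σ lam w hw0 hw (fun h => hl (by rw [h]; rfl)) PUnit (fun _ => 1) (fun _ => 1)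
      (fun _ _ _ => rfl) (fun _ => hid0) (fun _ r => by
        rw [MonoidHom.one_apply, one_smul, Representation.linHom_apply]
        show ρ (r : G) * (1 * ρ (r : G)⁻¹) = 1
        rw [one_mul, ← map_mul, mul_inv_cancel, map_one]) (fun _ => rfl)
    rw [Fintype.card_punit, Module.finrank_linearMap, Module.finrank_fin_fun] at h
    nlinarith

end Cfsg.Agent.Block
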