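import Mathlib
import Cfsg.Agent.Lib.Block.ClassMul
import Cfsg.Agent.Lib.Char.PPrimeDegree
import Cfsg.Agent.Lib.Grp.PSolvable
import Cfsg.Agent.Lib.Block.TISylow
import Cfsg.Agent.Lib.Grp.Real

/-!
The derived length of a Sylow subgroup is bounded by the number of irreducible characters of degree
divisible by `p`, for `p`-solvable groups.
-/

set_option linter.unusedSectionVars false

namespace Cfsg.Agent.Block.PPartDerived

open scoped ComplexConjugate commutatorElement
open Cfsg Cfsg.Agent.Block Cfsg.Agent.Char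

universe u

variable {G : Type u} [Group G] [Finite G] {p : ℕ} [hp : Fact p.Prime]

theorem isPSolvable_subgroup (hG : IsPSolvable p G) (T : Subgroup G) : IsPSolvable p T := by
  obtain ⟨n, H, h0, hl, hm, hn, hi⟩ := hG
  refine ⟨n, fun i => (H i).subgroupOf T, ?_, ?_, fun i j hij => Subgroup.comap_mono (hm hij),
    fun i => (hn i).subgroupOf T, fun i => ?_⟩
  · show (H 0).subgroupOf T = ⊥
    rw [h0, Subgroup.bot_subgroupOf]
  · show (H (Fin.last n)).subgroupOf T = ⊤
    rw [hl, Subgroup.top_subgroupOf]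
  have hd : ((H i.castSucc).subgroupOf T).relIndex ((H i.succ).subgroupOf T) ∣
      (H i.castSucc).relIndex (H i.succ) := by
    rw [← Subgroup.inf_subgroupOf_right (H i.succ) T,
      Subgroup.relIndex_subgroupOf (inf_le_right : H i.succ ⊓ T ≤ T)]
    exact Grp.relIndex_dvd_of_normal_le (hn _) inf_le_left
  rcases hi i with ⟨m, hm'⟩ | hc
  · rw [hm'] at hd
    obtain ⟨j, -, hj⟩ := (Nat.dvd_prime_pow hp.out).mp hd
    exact Or.inl ⟨j, hj⟩
  · exact Or.inr (hc.coprime_dvd_left hd)

/-- The number of irreducible characters of degree divisible by `p`. -/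
noncomputable def nn (p : ℕ) (G : Type u) [Group G] : ℕ :=
  Nat.card {χ : IrrCharacter G // p ∣ charDegree (χ : G → ℂ)}

omit hp in
theorem nn_eq_zero_iff : nn p G = 0 ↔ ∀ χ : IrrCharacter G, ¬ p ∣ charDegree (χ : G → ℂ) := by
  haveI := Fintype.ofFinite G
  rw [nn, Nat.card_eq_zero]
  refine ⟨fun h χ hχ => ?_, fun h => Or.inl ⟨fun x => h x.1 x.2⟩⟩
  rcases h with h | h
  · exact h.false ⟨χ, hχ⟩
  · exact not_finite {χ : IrrCharacter G // p ∣ charDegree (χ : G → ℂ)}

omit hp in
/-- Either the quotient has fewer such characters, or all characters outside are of degree prime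
to `p`. -/
theorem nn_quotient (N : Subgroup G) [N.Normal] :
    nn p (G ⧸ N) < nn p G ∨ (nn p (G ⧸ N) = nn p G ∧ ∀ χ : IrrCharacter G,
      (∃ x ∈ N, (χ : G → ℂ) x ≠ (χ : G → ℂ) 1) → ¬ p ∣ charDegree (χ : G → ℂ)) := by
  haveI := Fintype.ofFinite G
  let f : {χ : IrrCharacter (G ⧸ N) // p ∣ charDegree (χ : G ⧸ N → ℂ)} →
      {χ : IrrCharacter G // p ∣ charDegree (χ : G → ℂ)} := fun χ =>
    ⟨⟨fun g => (χ.1 : G ⧸ N → ℂ) (QuotientGroup.mk' N g),
      IsIrr.comp_surjective _ (QuotientGroup.mk'_surjective N) χ.1.2⟩, χ.2⟩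
  have hf : Function.Injective f := fun a b e => Subtype.ext (Subtype.ext (funext fun x => by
    obtain ⟨g, rfl⟩ := QuotientGroup.mk'_surjective N x
    exact congrFun (congrArg (fun y : {χ : IrrCharacter G // p ∣ charDegree (χ : G → ℂ)} =>
      (y.1 : G → ℂ)) e) g))
  have hle : nn p (G ⧸ N) ≤ nn p G := Nat.card_le_card_of_injective f hf
  rcases lt_or_eq_of_le hle with h | h
  · exact Or.inl h
  refine Or.inr ⟨h, fun χ hx hd => ?_⟩
  obtain ⟨x, hxN, hxne⟩ := hx
  have hbij := ((Nat.bijective_iff_injective_and_card f).mpr ⟨hf, h⟩).2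
  obtain ⟨χ', hχ'⟩ := hbij ⟨χ, hd⟩
  have e : (χ : G → ℂ) = fun g => (χ'.1 : G ⧸ N → ℂ) (QuotientGroup.mk' N g) :=
    (congrArg (fun y : {χ : IrrCharacter G // p ∣ charDegree (χ : G → ℂ)} => (y.1 : G → ℂ))
      hχ').symm
  refine hxne ?_
  rw [e]
  show (χ'.1 : G ⧸ N → ℂ) _ = (χ'.1 : G ⧸ N → ℂ) _
  rw [show QuotientGroup.mk' N x = QuotientGroup.mk' N 1 by
    rw [map_one]; exact (QuotientGroup.eq_one_iff x).mpr hxN]

/-- Derived series modulo a normal subgroup. -/
theorem derived_le {P : Sylow p G} (N : Subgroup G) [N.Normal] {k : ℕ}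
    (h : ∀ Q : Sylow p (G ⧸ N), derivedSeries (Q : Subgroup (G ⧸ N)) k = ⊥) :
    derivedSeries (P : Subgroup G) k ≤ N.subgroupOf (P : Subgroup G) := by
  set f := ((QuotientGroup.mk' N).subgroupMap (P : Subgroup G)) with hf
  have h' : derivedSeries ((P : Subgroup G).map (QuotientGroup.mk' N)) k = ⊥ :=
    h (P.mapSurjective (QuotientGroup.mk'_surjective N))
  have h1 := map_derivedSeries_eq ((QuotientGroup.mk' N).subgroupMap_surjective (P : Subgroup G)) k
  rw [h', Subgroup.map_eq_bot_iff] at h1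
  refine h1.trans fun x hx => ?_
  exact (QuotientGroup.eq_one_iff (x : G)).mp (congrArg Subtype.val hx)

/-- An abelian target gives one more step. -/
theorem derived_succ {P : Subgroup G} {N : Subgroup G} (hab : ∀ a ∈ N, ∀ b ∈ N, a * b = b * a)
    {k : ℕ} (h : derivedSeries P k ≤ N.subgroupOf P) : derivedSeries P (k + 1) = ⊥ := by
  rw [derivedSeries_succ, Subgroup.commutator_eq_bot_iff_le_centralizer]
  intro x hx
  exact Subgroup.mem_centralizer_iff.mpr fun y hy => Subtype.ext (hab y (h hy) x (h hx))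

/-- The restriction of a character to a subgroup of a subgroup sees all constituents. -/
theorem res_trans {K H : Type*} [Group K] [Group H] [Fintype K] [Fintype H] (ι : K →* H)
    {f : H → ℂ} (hf : IsCharacter H f) (φ : IrrCharacter H) (η : IrrCharacter K)
    (h1 : classInner f (φ : H → ℂ) ≠ 0)
    (h2 : classInner (fun k => (φ : H → ℂ) (ι k)) (η : K → ℂ) ≠ 0) :
    classInner (fun k => f (ι k)) (η : K → ℂ) ≠ 0 := by
  classical
  obtain ⟨a, ha, hdec⟩ := IsChar.exists_decomp_inner hf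
  choose b hb using fun ψ : IrrCharacter H =>
    IsChar.classInner_nat (IsChar.comp ι (irr_isChar ψ)) (irr_isChar η)
  have e1 : (fun k => f (ι k)) = ∑ ψ : IrrCharacter H, (a ψ : ℂ) • fun k => (ψ : H → ℂ) (ι k) := by
    funext k
    have := congrFun hdec (ι k)
    rw [sum_irr_apply] at this
    rw [this]
    simp
  have e2 : classInner (fun k => f (ι k)) (η : K → ℂ) = ((∑ ψ, a ψ * b ψ : ℕ) : ℂ) := by
    rw [e1, classInner_sum_left, Nat.cast_sum]
    exact Finset.sum_congr rfl fun ψ _ => by rw [classInner_smul_left, hb, Nat.cast_mul]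
  rw [e2, Nat.cast_ne_zero]
  exact (Finset.sum_pos' (fun _ _ => Nat.zero_le _) ⟨φ, Finset.mem_univ _,
    Nat.mul_pos (Nat.pos_of_ne_zero fun h => h1 (by rw [ha φ, h, Nat.cast_zero]))
      (Nat.pos_of_ne_zero fun h => h2 (by rw [hb φ, h, Nat.cast_zero]))⟩).ne'

/-- A constituent below a character with a kernel. -/
theorem exists_above (H : Subgroup G) [Fintype H] [Fintype G] (φ : IrrCharacter H) :
    ∃ χ : IrrCharacter G, classInner (fun h : H => (χ : G → ℂ) h) (φ : H → ℂ) ≠ 0 := by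
  obtain ⟨χ, hχ⟩ := IsChar.exists_constituent' (isCharacter_indFun H (irr_isChar φ)) (by
    rw [indFun_one_eq]
    exact mul_ne_zero (Nat.cast_ne_zero.mpr Subgroup.index_ne_zero_of_finite) (irr_one_ne_zero φ))
  rw [classInner_indFun H _ (irr_classFun χ), ← classInner_conj_symm, Ne, map_eq_zero] at hχ
  exact ⟨χ, hχ⟩

/-- Characters of a normal `p`-subgroup which do not kill `N` are linear. -/
theorem linear_of_outside {V : Subgroup G} [V.Normal] [Fintype V] [Fintype G] (hV : IsPGroup p V)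
    {N : Subgroup G} (hN : ∀ χ : IrrCharacter G, (∃ x ∈ N, (χ : G → ℂ) x ≠ (χ : G → ℂ) 1) →
      ¬ p ∣ charDegree (χ : G → ℂ))
    (μ : IrrCharacter V) {x : V} (hxN : (x : G) ∈ N) (hx : (μ : V → ℂ) x ≠ (μ : V → ℂ) 1) :
    (μ : V → ℂ) 1 = 1 := by
  obtain ⟨χ, hχ⟩ := exists_above V μ
  have hout : ¬ p ∣ charDegree (χ : G → ℂ) := hN χ ⟨x, hxN, fun e => hx
    (constituent_ker (IsChar.res (irr_isChar χ) V) μ.2 hχ
      (show (χ : G → ℂ) x = (χ : G → ℂ) ((1 : V) : G) by rw [Subgroup.coe_one]; exact e))⟩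
  obtain ⟨e, he, -⟩ := Ext.ratio_dvd_index' χ.2 μ.2 hχ
  rw [charDeg_spec' χ, charDeg_spec' μ, ← Nat.cast_mul, Nat.cast_inj] at he
  have h2 := CopDeg.degree_dvd_card' μ
  obtain ⟨k, hk⟩ := IsPGroup.iff_card.mp hV
  rw [hk] at h2
  obtain ⟨j, -, hj⟩ := (Nat.dvd_prime_pow hp.out).mp h2
  rw [charDeg_spec' μ, hj]
  cases j with
  | zero => simp
  | succ j => exact absurd (he ▸ hj ▸ (dvd_pow_self p j.succ_ne_zero).mul_left e) hout

/-- A solvable coprime group fixing every irreducible character of a normal subgroup centralizes it. -/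
theorem centralizes_of_fix (S : Subgroup G) (L : Subgroup G) [hL : L.Normal] [Fintype L]
    (hsolv : Group.IsSolvable S) (hcop : (Nat.card L).Coprime (Nat.card S))
    (hinv : ∀ θ : IrrCharacter L, ∀ s ∈ S, ∀ g g' : L, (g' : G) = s * g * s⁻¹ →
      (θ : L → ℂ) g' = (θ : L → ℂ) g) :
    S ≤ Subgroup.centralizer (L : Set G) := by
  classical
  have hnorm : ∀ s ∈ S, ∀ l ∈ L, s * l * s⁻¹ ∈ L := fun s _ l hl => hL.conj_mem l hl s
  have hgood := (Glaub.good_conjHom L S hnorm hcop hsolv).count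
  rw [CopDeg.card_fixed_classes L S hnorm hcop (Or.inl hsolv),
    Nat.card_congr (Equiv.subtypeUnivEquiv fun θ : IrrCharacter L =>
      (Glaub.inv_conjHom_iff L S hnorm _).mpr (hinv θ)),
    Cfsg.Agent.Char.card_irrCharacter] at hgood
  set C := L ⊓ Subgroup.centralizer (S : Set G) with hC
  -- every class meets the centralizer
  let C' : Subgroup L := C.subgroupOf L
  let eC : C' ≃* C := Subgroup.subgroupOfEquivOfLe inf_le_left
  have hcc : Nat.card (ConjClasses C') = Nat.card (ConjClasses C) := by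
    refine Nat.card_congr
      { toFun := ConjClasses.map eC.toMonoidHom
        invFun := ConjClasses.map eC.symm.toMonoidHom
        left_inv := fun a => ?_
        right_inv := fun a => ?_ }
    · obtain ⟨x, rfl⟩ := a.exists_rep
      exact congrArg ConjClasses.mk (eC.symm_apply_apply x)
    · obtain ⟨x, rfl⟩ := a.exists_rep
      exact congrArg ConjClasses.mk (eC.apply_symm_apply x)
  rw [← hcc] at hgood
  have hinj : Function.Injective (ConjClasses.map C'.subtype) := by
    intro a b hab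
    obtain ⟨x, rfl⟩ := a.exists_rep
    obtain ⟨y, rfl⟩ := b.exists_rep
    obtain ⟨k, hk⟩ := isConj_iff.mp (ConjClasses.mk_eq_mk_iff_isConj.mp hab)
    letI : MulAction G {z : G // True} :=
      { smul := fun g z => ⟨g * z.1 * g⁻¹, trivial⟩
        one_smul := fun z => Subtype.ext (show (1 : G) * z.1 * 1⁻¹ = z.1 by simp)
        mul_smul := fun g g' z => Subtype.ext
          (show g * g' * z.1 * (g * g')⁻¹ = g * (g' * z.1 * g'⁻¹) * g⁻¹ by group) }
    obtain ⟨c, hc, hcxy⟩ := Cfsg.Agent.Grp.exists_centralizer_smul (X := {z : G // True})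
      S L {z | ∃ m ∈ L, m * ((x : L) : G) * m⁻¹ = z.1}
      (fun a ha => Subgroup.normalizer_eq_top_iff.2 hL ▸ Subgroup.mem_top a) hcop.symm (Or.inl hsolv)
      (by
        rintro z ⟨m, hm, hmz⟩ w ⟨m', hm', hmw⟩
        refine ⟨m' * m⁻¹, L.mul_mem hm' (L.inv_mem hm), Subtype.ext ?_⟩
        show m' * m⁻¹ * z.1 * (m' * m⁻¹)⁻¹ = w.1
        rw [← hmz, ← hmw]
        group)
      (x := ⟨((x : L) : G), trivial⟩) (y := ⟨((y : L) : G), trivial⟩) ⟨1, L.one_mem, by simp⟩
      ⟨k, k.2, congrArg Subtype.val hk⟩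
      (fun a ha => Subtype.ext (mul_inv_eq_iff_eq_mul.mpr
        (Subgroup.mem_centralizer_iff.mp (Subgroup.mem_inf.mp x.2).2 a ha)))
      (fun a ha => Subtype.ext (mul_inv_eq_iff_eq_mul.mpr
        (Subgroup.mem_centralizer_iff.mp (Subgroup.mem_inf.mp y.2).2 a ha)))
    exact ConjClasses.mk_eq_mk_iff_isConj.mpr (isConj_iff.mpr
      ⟨⟨⟨c, hc.1⟩, hc⟩, Subtype.ext (Subtype.ext (congrArg Subtype.val hcxy :))⟩)
  have hsurj := ((Nat.bijective_iff_injective_and_card _).mpr ⟨hinj, hgood.symm⟩).2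
  have htop : C' = ⊤ := Cfsg.Agent.Grp.eq_top_of_conj_cover C' fun x => by
    obtain ⟨c, hc⟩ := hsurj (ConjClasses.mk x)
    obtain ⟨y, rfl⟩ := c.exists_rep
    obtain ⟨g, hg⟩ := isConj_iff.mp (ConjClasses.mk_eq_mk_iff_isConj.mp hc.symm)
    exact ⟨g, hg ▸ y.2⟩
  intro s hs
  refine Subgroup.mem_centralizer_iff.mpr fun l hl => ?_
  have : (⟨l, hl⟩ : L) ∈ C' := htop ▸ Subgroup.mem_top _
  exact (Subgroup.mem_centralizer_iff.mp (Subgroup.mem_inf.mp this).2 s hs).symm

/-- A normal `p'`-subgroup is centralized when all degrees are prime to `p`. -/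
theorem centralizes (hall : ∀ χ : IrrCharacter G, ¬ p ∣ charDegree (χ : G → ℂ)) (P : Sylow p G)
    (L : Subgroup G) [hL : L.Normal] (hLp : ¬ p ∣ Nat.card L) (hR : (L ⊔ (P : Subgroup G)).Normal) :
    (P : Subgroup G) ≤ Subgroup.centralizer (L : Set G) := by
  classical
  haveI := Fintype.ofFinite G
  haveI := Fintype.ofFinite L
  set R := L ⊔ (P : Subgroup G) with hRdef
  haveI := hR
  haveI := Fintype.ofFinite R
  set LR := L.subgroupOf R with hLR
  haveI : LR.Normal := Subgroup.Normal.subgroupOf inferInstance _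
  haveI := Fintype.ofFinite LR
  obtain ⟨k, hk⟩ := PPrime.relIndex_sup_pow P L
  let e : LR ≃* L := Subgroup.subgroupOfEquivOfLe le_sup_left
  have hinv : ∀ θ : IrrCharacter L, ∀ s ∈ (P : Subgroup G), ∀ g g' : L, (g' : G) = s * g * s⁻¹ →
      (θ : L → ℂ) g' = (θ : L → ℂ) g := by
    intro θ s hs g g' hgg
    let θR : IrrCharacter LR := ⟨fun m => (θ : L → ℂ) (e m), IsIrr.comp_mulEquiv e θ.2⟩
    obtain ⟨η, hη⟩ := exists_above LR θR
    obtain ⟨χ, hχ⟩ := exists_above R η
    obtain ⟨c, hc, -⟩ := Ext.ratio_dvd_index' χ.2 η.2 hχ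
    rw [charDeg_spec' χ, charDeg_spec' η, ← Nat.cast_mul, Nat.cast_inj] at hc
    obtain ⟨hI, -⟩ := PPrime.inertia_of_pPrime (G := R) (L := LR) hk η
      (fun h => hall χ (hc ▸ h.mul_left c)) θR hη
    have h := congrFun ((mem_inertia LR).mp
      (hI.symm ▸ Subgroup.mem_top (⟨s, Subgroup.mem_sup_right hs⟩ : R))) (e.symm g)
    simp only [θR, conjN, MulEquiv.apply_symm_apply] at h
    refine Eq.trans ?_ h
    exact congrArg _ (Subtype.ext hgg)
  have hsolv : Group.IsSolvable (P : Subgroup G) := by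
    haveI := P.isPGroup'.isNilpotent
    infer_instance
  have hcop : (Nat.card L).Coprime (Nat.card (P : Subgroup G)) := by
    obtain ⟨k, hk⟩ := IsPGroup.iff_card.mp P.isPGroup'
    rw [hk]
    exact Nat.Coprime.pow_right _ (((Fact.out : p.Prime).coprime_iff_not_dvd.mpr hLp).symm)
  exact centralizes_of_fix (P : Subgroup G) L hsolv hcop hinv

theorem pPrimeCore_quotient_eq_bot :
    haveI : (pPrimeCore p G).Normal := Grp.pPrimeCore_isNormal
    pPrimeCore p (G ⧸ pPrimeCore p G) = ⊥ := by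
  haveI : (pPrimeCore p G).Normal := Grp.pPrimeCore_isNormal
  set f := QuotientGroup.mk' (pPrimeCore p G)
  have hsurj : Function.Surjective f := QuotientGroup.mk'_surjective _
  have hM := Grp.pPrimeCore_isNormal (p := p) (G := G ⧸ pPrimeCore p G)
  have hle : (pPrimeCore p (G ⧸ pPrimeCore p G)).comap f ≤ pPrimeCore p G := by
    refine Grp.le_pPrimeCore (hM.comap f) ?_
    set M := (pPrimeCore p (G ⧸ pPrimeCore p G)).comap f
    have h1 : pPrimeCore p G ≤ M := by
      intro x hx
      show f x ∈ pPrimeCore p (G ⧸ pPrimeCore p G)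
      rw [show f x = 1 from (QuotientGroup.eq_one_iff x).mpr hx]
      exact one_mem _
    rw [← Subgroup.card_mul_index ((pPrimeCore p G).subgroupOf M),
      Nat.card_congr (Subgroup.subgroupOfEquivOfLe h1).toEquiv]
    refine Nat.Coprime.mul_left Grp.pPrimeCore_coprime ?_
    have h2 : (pPrimeCore p G).relIndex M =
        Nat.card (pPrimeCore p (G ⧸ pPrimeCore p G)) := by
      conv_lhs => rw [← QuotientGroup.ker_mk' (pPrimeCore p G)]
      rw [Subgroup.relIndex_ker, Subgroup.map_comap_eq_self_of_surjective hsurj]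
    show ((pPrimeCore p G).relIndex M).Coprime p
    rw [h2]
    exact Grp.pPrimeCore_coprime
  rw [eq_bot_iff, ← Subgroup.map_comap_eq_self_of_surjective hsurj (pPrimeCore p _)]
  rintro _ ⟨x, hx, rfl⟩
  exact Subgroup.mem_bot.mpr ((QuotientGroup.eq_one_iff x).mpr (hle hx))

/-- With `O_p = 1`, an abelian Sylow subgroup and all degrees prime to `p` force `P = 1`. -/
theorem sylow_eq_bot (hs : IsPSolvable p G) (hc : pCore p G = ⊥)
    (hall : ∀ χ : IrrCharacter G, ¬ p ∣ charDegree (χ : G → ℂ)) (P : Sylow p G)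
    (hab : ∀ a ∈ (P : Subgroup G), ∀ b ∈ (P : Subgroup G), a * b = b * a) :
    (P : Subgroup G) = ⊥ := by
  haveI hKn : (pPrimeCore p G).Normal := Grp.pPrimeCore_isNormal
  set f := QuotientGroup.mk' (pPrimeCore p G) with hf
  have hsurj : Function.Surjective f := QuotientGroup.mk'_surjective _
  set Q := P.mapSurjective hsurj with hQ
  have hQc : (Q : Subgroup (G ⧸ pPrimeCore p G)) ≤
      Subgroup.centralizer ((Cfsg.pCore p (G ⧸ pPrimeCore p G) : Subgroup (G ⧸ pPrimeCore p G)) :
        Set (G ⧸ pPrimeCore p G)) := fun x hx => by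
    refine Subgroup.mem_centralizer_iff.mpr fun y hy => ?_
    rw [hQ, Sylow.coe_mapSurjective] at hx
    have hy' := Grp.pCore_le_sylow Q hy
    rw [hQ, Sylow.coe_mapSurjective] at hy'
    obtain ⟨a, ha, rfl⟩ := hx
    obtain ⟨b, hb, rfl⟩ := hy'
    rw [← map_mul, ← map_mul, hab b hb a ha]
  have hQeq : (Q : Subgroup (G ⧸ pPrimeCore p G)) = pCore p (G ⧸ pPrimeCore p G) :=
    le_antisymm (hQc.trans (Grp.centralizer_pCore_le_of_pSolvable
      (Grp.isPSolvable_map hs f hsurj) pPrimeCore_quotient_eq_bot)) (Grp.pCore_le_sylow Q)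
  have hR : (pPrimeCore p G ⊔ (P : Subgroup G)).Normal := by
    have h1 : ((Q : Subgroup (G ⧸ pPrimeCore p G)).comap f).Normal := by
      rw [hQeq]; exact Grp.pCore_isNormal.comap f
    rwa [hQ, Sylow.coe_mapSurjective, Subgroup.comap_map_eq, QuotientGroup.ker_mk', sup_comm] at h1
  have h1 := (centralizes hall P (pPrimeCore p G) Grp.pPrimeCore_not_dvd hR).trans
    (centralizer_pPrimeCore_le hs hc)
  obtain ⟨k, hk⟩ := IsPGroup.iff_card.mp P.isPGroup'
  have h2 := Subgroup.card_dvd_of_le h1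
  rw [hk] at h2
  cases k with
  | zero => exact Subgroup.eq_bot_of_card_eq _ (by rw [hk, pow_zero])
  | succ k => exact absurd ((dvd_pow_self p k.succ_ne_zero).trans h2) Grp.pPrimeCore_not_dvd

theorem card_quotient_lt (V : Subgroup G) [V.Normal] (h : V ≠ ⊥) :
    Nat.card (G ⧸ V) < Nat.card G := by
  rw [Subgroup.card_eq_card_quotient_mul_card_subgroup V]
  exact lt_mul_of_one_lt_right Nat.card_pos ((Subgroup.one_lt_card_iff_ne_bot V).mpr h)

theorem pCore_quotient_eq_bot :
    haveI : (pCore p G).Normal := Grp.pCore_isNormal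
    pCore p (G ⧸ pCore p G) = ⊥ := by
  haveI : (pCore p G).Normal := Grp.pCore_isNormal
  set f := QuotientGroup.mk' (pCore p G)
  have hsurj : Function.Surjective f := QuotientGroup.mk'_surjective _
  have hM := Grp.pCore_isNormal (p := p) (G := G ⧸ pCore p G)
  have hle : (pCore p (G ⧸ pCore p G)).comap f ≤ pCore p G :=
    Grp.le_pCore (hM.comap f) (Grp.pCore_isPGroup.comap_of_ker_isPGroup f
      (by rw [QuotientGroup.ker_mk']; exact Grp.pCore_isPGroup))
  rw [eq_bot_iff, ← Subgroup.map_comap_eq_self_of_surjective hsurj (pCore p _)]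
  rintro _ ⟨x, hx, rfl⟩
  exact Subgroup.mem_bot.mpr ((QuotientGroup.eq_one_iff x).mpr (hle hx))

theorem bound : ∀ (n : ℕ) (G : Type u) [Group G] [Finite G], Nat.card G ≤ n → IsPSolvable p G →
    ∀ P : Sylow p G, derivedSeries (P : Subgroup G) (nn p G + 1) = ⊥ := by
  intro n
  induction n with
  | zero => intro G _ _ h; exact absurd h (not_le.mpr Nat.card_pos)
  | succ n ih =>
    intro G _ _ hn hs P
    classical
    haveI := Fintype.ofFinite G
    have IHq : ∀ (N : Subgroup G) [N.Normal], N ≠ ⊥ → ∀ k, nn p (G ⧸ N) + 1 ≤ k →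
        derivedSeries (P : Subgroup G) k ≤ N.subgroupOf (P : Subgroup G) := by
      intro N _ hN k hk
      refine (derivedSeries_antitone _ hk).trans (derived_le N fun Q => ?_)
      refine ih _ ?_ (Grp.isPSolvable_map hs _ (QuotientGroup.mk'_surjective N)) Q
      have := card_quotient_lt N hN
      omega
    haveI hKn : (pPrimeCore p G).Normal := Grp.pPrimeCore_isNormal
    by_cases hK : pPrimeCore p G = ⊥
    swap
    · have hle : nn p (G ⧸ pPrimeCore p G) ≤ nn p G := by
        rcases nn_quotient (p := p) (pPrimeCore p G) with h | ⟨h, -⟩ <;> omega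
      refine eq_bot_iff.mpr ((IHq _ hK _ (by omega)).trans ?_)
      intro x hx
      obtain ⟨k, hk⟩ := P.isPGroup' x
      have h1 : orderOf (x : G) ∣ p ^ k :=
        orderOf_dvd_iff_pow_eq_one.2 (congrArg Subtype.val hk)
      have h2 : orderOf (x : G) ∣ Nat.card (pPrimeCore p G) := Subgroup.orderOf_dvd_natCard _ hx
      exact Subgroup.mem_bot.mpr (Subtype.ext (orderOf_eq_one_iff.mp (Nat.eq_one_of_dvd_coprimes
        ((Grp.pPrimeCore_coprime (p := p) (G := G)).symm.pow_left k) h1 h2)))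
    by_cases hV0 : pCore p G = ⊥
    · have htop := Grp.isPSolvable_eq_top_of_cores hs hV0 hK
      refine eq_bot_iff.mpr fun x _ => Subgroup.mem_bot.mpr (Subtype.ext ?_)
      exact Subgroup.mem_bot.mp (htop ▸ Subgroup.mem_top (x : G))
    haveI hVn : (pCore p G).Normal := Grp.pCore_isNormal
    set V := pCore p G with hV
    have hVp : IsPGroup p V := Grp.pCore_isPGroup
    haveI := Fintype.ofFinite V
    haveI : Group.IsNilpotent V := hVp.isNilpotent
    by_cases hab : ⁅V, V⁆ = ⊥
    swap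
    · -- the centre of a nonabelian core
      set N : Subgroup G := (Subgroup.center V).map V.subtype ⊓ ⁅V, V⁆ with hN
      haveI : ((Subgroup.center V).map V.subtype).Normal := ConjAct.normal_of_characteristic_of_normal
      haveI : N.Normal := Subgroup.normal_inf_normal _ _
      have hcomm : ⁅V, V⁆ = (commutator V).map V.subtype := (Subgroup.map_subtype_commutator V).symm
      have hN0 : N ≠ ⊥ := by
        have h1 := Cfsg.Agent.Grp.inf_center_ne_bot (commutator V)
          (fun h => hab (by rw [hcomm, h, Subgroup.map_bot]))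
        intro e
        refine h1 (eq_bot_iff.mpr fun x hx => Subgroup.mem_bot.mpr (Subtype.ext ?_))
        exact Subgroup.mem_bot.mp (e ▸ ⟨⟨x, (Subgroup.mem_inf.mp hx).2, rfl⟩,
          hcomm ▸ ⟨x, (Subgroup.mem_inf.mp hx).1, rfl⟩⟩ : (x : G) ∈ (⊥ : Subgroup G))
      have hNab : ∀ a ∈ N, ∀ b ∈ N, a * b = b * a := by
        rintro a ⟨⟨a', ha', rfl⟩, -⟩ b ⟨⟨b', -, rfl⟩, -⟩
        exact congrArg Subtype.val (Subgroup.mem_center_iff.mp ha' b').symm
      rcases nn_quotient (p := p) N with h | ⟨-, h⟩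
      · exact derived_succ hNab (IHq N hN0 _ (by omega))
      exfalso
      refine hN0 (eq_bot_iff.mpr fun x hx => ?_)
      have hxV : x ∈ V := by
        obtain ⟨y, -, rfl⟩ := (Subgroup.mem_inf.mp hx).1
        exact y.2
      have hx2 : (⟨x, hxV⟩ : V) ∈ commutator V := by
        obtain ⟨y, hy, e⟩ := hcomm ▸ (Subgroup.mem_inf.mp hx).2
        exact (show y = ⟨x, hxV⟩ from Subtype.ext e) ▸ hy
      have h1 : IsConj (⟨x, hxV⟩ : V) 1 := (isConj_iff_irr _ _).mpr fun μ => by
        by_contra hne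
        obtain ⟨l, hl⟩ := linearHom_of_isCharacter (irr_isChar μ)
          (linear_of_outside hVp h μ (x := ⟨x, hxV⟩) hx hne)
        refine hne ?_
        have hk : commutator V ≤ l.ker := Abelianization.commutator_subset_ker l
        rw [hl]
        show (l _ : ℂ) = (l 1 : ℂ)
        rw [MonoidHom.mem_ker.mp (hk hx2), map_one]
      exact Subgroup.mem_bot.mpr (congrArg Subtype.val (isConj_one_left.mp h1))
    have hVab : ∀ a ∈ V, ∀ b ∈ V, a * b = b * a := fun a ha b hb => by
      have h1 : ⁅a, b⁆ ∈ ⁅V, V⁆ := Subgroup.commutator_mem_commutator ha hb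
      rw [hab, Subgroup.mem_bot] at h1
      exact commutatorElement_eq_one_iff_mul_comm.mp h1
    rcases nn_quotient (p := p) V with h | ⟨heq, h⟩
    · exact derived_succ hVab (IHq V hV0 _ (by omega))
    by_cases hn0 : nn p G = 0
    · -- all degrees prime to `p`
      have hq : ∀ χ : IrrCharacter (G ⧸ V), ¬ p ∣ charDegree (χ : G ⧸ V → ℂ) :=
        nn_eq_zero_iff.mp (heq.trans hn0)
      set Q := P.mapSurjective (QuotientGroup.mk'_surjective V) with hQ
      have hlt := card_quotient_lt V hV0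
      have hQab : ∀ a ∈ (Q : Subgroup (G ⧸ V)), ∀ b ∈ (Q : Subgroup (G ⧸ V)), a * b = b * a := by
        have h1 := ih (G ⧸ V) (by omega) (Grp.isPSolvable_map hs _ (QuotientGroup.mk'_surjective V)) Q
        rw [heq, hn0, zero_add, derivedSeries_one, commutator_def] at h1
        intro a ha b hb
        have h2 : ⁅(⟨a, ha⟩ : (Q : Subgroup (G ⧸ V))), (⟨b, hb⟩ : (Q : Subgroup (G ⧸ V)))⁆ ∈
            (⊥ : Subgroup (Q : Subgroup (G ⧸ V))) :=
          h1 ▸ Subgroup.commutator_mem_commutator (Subgroup.mem_top _) (Subgroup.mem_top _)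
        exact congrArg Subtype.val (commutatorElement_eq_one_iff_mul_comm.mp (Subgroup.mem_bot.mp h2))
      have hbot := sylow_eq_bot (Grp.isPSolvable_map hs _ (QuotientGroup.mk'_surjective V))
        pCore_quotient_eq_bot hq Q hQab
      rw [hQ, Sylow.coe_mapSurjective, Subgroup.map_eq_bot_iff, QuotientGroup.ker_mk'] at hbot
      rw [hn0, zero_add]
      exact derived_succ hVab (k := 0) fun x _ => hbot x.2
    -- some degree is divisible by `p`
    refine le_bot_iff.mp ((derivedSeries_antitone _ (show 2 ≤ nn p G + 1 by omega)).trans_eq ?_)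
    obtain ⟨x, hx, hx1⟩ := (Subgroup.bot_or_exists_ne_one V).resolve_left hV0
    obtain ⟨θ, hθx⟩ : ∃ θ : IrrCharacter V, (θ : V → ℂ) ⟨x, hx⟩ ≠ (θ : V → ℂ) 1 := by
      by_contra hno
      push Not at hno
      exact hx1 (congrArg Subtype.val (isConj_one_left.mp ((isConj_iff_irr _ _).mpr hno)))
    have hcommV : ∀ a b : V, a * b = b * a := fun a b => Subtype.ext (hVab a a.2 b b.2)
    obtain ⟨lθ, hlθ⟩ := linearHom_of_isCharacter (irr_isChar θ) (IsIrr.one_of_comm hcommV θ.2)
    have hθ1 : (θ : V → ℂ) 1 = 1 := IsIrr.one_of_comm hcommV θ.2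
    obtain ⟨χ, hχ⟩ := exists_above V θ
    have hout : ∀ χ : IrrCharacter G, classInner (fun v : V => (χ : G → ℂ) v) (θ : V → ℂ) ≠ 0 →
        ¬ p ∣ charDegree (χ : G → ℂ) := fun χ hχ => h χ ⟨x, hx, fun e => hθx
      (constituent_ker (IsChar.res (irr_isChar χ) V) θ.2 hχ
        (show (χ : G → ℂ) x = (χ : G → ℂ) ((1 : V) : G) by rw [Subgroup.coe_one]; exact e))⟩
    set T := inertia V (θ : V → ℂ) with hT
    have hVT : V ≤ T := le_inertia V (IsIrr.classFun θ.2)
    haveI := Fintype.ofFinite T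
    haveI : (V.subgroupOf T).Normal := Subgroup.Normal.subgroupOf inferInstance _
    haveI := Fintype.ofFinite (V.subgroupOf T)
    obtain ⟨ψ, hψ, hind, hinner⟩ := Corr.exists_correspondent V θ.2 hT hVT χ.2 hχ
    have hdeg : charDegree (χ : G → ℂ) = T.index * charDegree ψ := by
      have h1 := congrFun hind 1
      rw [indFun_one_eq, charDeg_spec' χ, charDeg_spec (IsIrr.isCharacter hψ), ← Nat.cast_mul, Nat.cast_inj] at h1
      exact h1.symm
    have hTidx : ¬ p ∣ T.index := fun hd => hout χ hχ (hdeg ▸ hd.mul_right _)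
    have hψp : ¬ p ∣ charDegree ψ := fun hd => hout χ hχ (hdeg ▸ hd.mul_left _)
    -- a Sylow subgroup of `T`
    obtain ⟨Q⟩ := (inferInstance : Nonempty (Sylow p T))
    have hVQ : V.subgroupOf T ≤ (Q : Subgroup T) :=
      (hVp.comap_subtype (K := T)).le_sylow_of_normal Q
    haveI := Fintype.ofFinite (Q : Subgroup T)
    let ι : V →* (Q : Subgroup T) :=
      { toFun := fun v => ⟨⟨v, hVT v.2⟩, hVQ v.2⟩
        map_one' := rfl
        map_mul' := fun _ _ => rfl }
    obtain ⟨μ, hμ, hμp⟩ := PPrime.exists_constituent_pPrime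
      (IsChar.res (IsIrr.isCharacter hψ) (Q : Subgroup T)) (d := charDegree ψ) (p := p)
      (charDeg_spec (IsIrr.isCharacter hψ)) hψp
    have hμ1 : (μ : ↥(Q : Subgroup T) → ℂ) 1 = 1 := by
      obtain ⟨k, hk⟩ := IsPGroup.iff_card.mp Q.isPGroup'
      obtain ⟨j, -, hj⟩ := (Nat.dvd_prime_pow hp.out).mp (hk ▸ CopDeg.degree_dvd_card' μ)
      rw [charDeg_spec' μ, hj]
      cases j with
      | zero => simp
      | succ j => exact absurd (hj ▸ dvd_pow_self p j.succ_ne_zero) hμp
    obtain ⟨lμ, hlμ⟩ := linearHom_of_isCharacter (irr_isChar μ) hμ1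
    let μV : IrrCharacter V := ⟨fun v => (lμ.comp ι v : ℂ), isIrr_linear (lμ.comp ι)⟩
    have hμV : (μV : V → ℂ) = (θ : V → ℂ) := by
      have h2 : classInner (fun v : V => ψ ⟨(v : G), hVT v.2⟩) (μV : V → ℂ) ≠ 0 := by
        refine res_trans ι (IsChar.res (IsIrr.isCharacter hψ) (Q : Subgroup T)) μ μV hμ ?_
        rw [hlμ]
        show classInner (μV : V → ℂ) (μV : V → ℂ) ≠ 0
        rw [classInner_self_irr μV.2]
        exact one_ne_zero
      by_contra hne
      refine h2 ?_
      set θT : IrrCharacter (V.subgroupOf T) := ⟨fun y => (θ : V → ℂ) ⟨((y : T) : G), y.2⟩,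
        IsIrr.comp_mulEquiv (Subgroup.subgroupOfEquivOfLe hVT) θ.2⟩ with hθT
      have hne' : classInner (fun y : V.subgroupOf T => ψ y) (θT : V.subgroupOf T → ℂ) ≠ 0 := by
        rw [show (fun y : V.subgroupOf T => ψ y) =
          fun y : V.subgroupOf T => (fun v : V => ψ ⟨(v : G), hVT v.2⟩) ⟨((y : T) : G), y.2⟩ from rfl,
          Corr.classInner_subgroupOf V hVT (fun v : V => ψ ⟨(v : G), hVT v.2⟩), hinner]
        exact hχ
      have hc := clifford (V.subgroupOf T) hψ θT.2 hne'
      have horb : conjOrbit (V.subgroupOf T) (θT : V.subgroupOf T → ℂ) =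
          {(θT : V.subgroupOf T → ℂ)} := by
        ext φ
        rw [mem_conjOrbit, Finset.mem_singleton]
        have hfix : ∀ t : T, conjN (V.subgroupOf T) t (θT : V.subgroupOf T → ℂ) = θT := fun t =>
          funext fun y => by
            have := congrFun ((mem_inertia V).mp t.2) ⟨((y : T) : G), y.2⟩
            exact this
        exact ⟨fun ⟨g, hg⟩ => hg.symm.trans (hfix g), fun e => ⟨1, (hfix 1).trans e.symm⟩⟩
      rw [horb, Finset.sum_singleton] at hc
      set c := classInner (fun n : V.subgroupOf T => ψ n) (θT : V.subgroupOf T → ℂ) with hcdef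
      rw [show (fun v : V => ψ ⟨(v : G), hVT v.2⟩) = c • (θ : V → ℂ) from
        funext fun v => congrFun hc ⟨⟨v, hVT v.2⟩, v.2⟩, classInner_smul_left,
        classInner_irr_ne θ.2 μV.2 (fun e => hne e.symm), mul_zero]
    -- extension to `T`
    set θT : IrrCharacter (V.subgroupOf T) := ⟨fun y => (θ : V → ℂ) ⟨((y : T) : G), y.2⟩,
      IsIrr.comp_mulEquiv (Subgroup.subgroupOfEquivOfLe hVT) θ.2⟩ with hθT
    have hinv : ∀ (t : T) (y : V.subgroupOf T), (θT : V.subgroupOf T → ℂ)
        ⟨t * y * t⁻¹, (inferInstance : (V.subgroupOf T).Normal).conj_mem (y : T) y.2 t⟩ =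
        (θT : V.subgroupOf T → ℂ) y := fun t y =>
      congrFun ((mem_inertia V).mp t.2) ⟨((y : T) : G), y.2⟩
    have hθTd : (θT : V.subgroupOf T → ℂ) 1 = ((1 : ℕ) : ℂ) := by
      rw [Nat.cast_one]; exact hθ1
    obtain ⟨η, hη, hres⟩ := Ext.exists_extension_of_witness θT.2 hinv hθTd fun r hr => by
      by_cases hrp : r = p
      · subst hrp
        refine Or.inr (Or.inr ⟨(Q : Subgroup T), hVQ, (μ : ↥(Q : Subgroup T) → ℂ), Q.not_dvd_index,
          μ.2, fun y => ?_⟩)
        have := congrFun hμV ⟨((y : T) : G), y.2⟩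
        rw [hlμ]
        exact this
      · refine Or.inl ⟨hr.not_dvd_one, fun hd => ?_⟩
        obtain ⟨l, hl⟩ := isCharacter_detChar θT.2
        rw [hl, orderOf_unitsFun] at hd
        obtain ⟨k, hk⟩ := IsPGroup.iff_card.mp (hVp.comap_subtype (K := T))
        have h2 : orderOf l ∣ p ^ k := orderOf_dvd_of_pow_eq_one (MonoidHom.ext fun y => by
          show l y ^ p ^ k = 1
          rw [← map_pow, ← show Nat.card (V.subgroupOf T) = p ^ k from hk, pow_card_eq_one', map_one])
        exact hrp ((Nat.prime_dvd_prime_iff_eq hr hp.out).mp (hr.dvd_of_dvd_pow (hd.trans h2)))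
    have hη1 : η 1 = 1 := by
      rw [← hθ1]; exact hres 1
    obtain ⟨lη, hlη⟩ := linearHom_of_isCharacter (IsIrr.isCharacter hη) hη1
    have hall : nn p (T ⧸ V.subgroupOf T) = 0 := by
      refine nn_eq_zero_iff.mpr fun ξ hξ => ?_
      let ξ' : IrrCharacter T := ⟨fun t => (lη t : ℂ) * (ξ : T ⧸ V.subgroupOf T → ℂ)
        (QuotientGroup.mk' _ t), IsIrr.mul_linear
          (IsIrr.comp_surjective _ (QuotientGroup.mk'_surjective _) ξ.2) lη⟩
      have hover : classInner (fun v : V => (ξ' : T → ℂ) ⟨(v : G), hVT v.2⟩) (θ : V → ℂ) ≠ 0 := by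
        have e : (fun v : V => (ξ' : T → ℂ) ⟨(v : G), hVT v.2⟩) =
            (ξ : T ⧸ V.subgroupOf T → ℂ) 1 • (θ : V → ℂ) := funext fun v => by
          show (lη ⟨(v : G), hVT v.2⟩ : ℂ) * (ξ : T ⧸ V.subgroupOf T → ℂ) (QuotientGroup.mk' _ _) = _
          rw [show (lη ⟨(v : G), hVT v.2⟩ : ℂ) = (θ : V → ℂ) v from
              (congrFun hlη ⟨(v : G), hVT v.2⟩).symm.trans (hres ⟨⟨(v : G), hVT v.2⟩, v.2⟩),
            show QuotientGroup.mk' (V.subgroupOf T) ⟨(v : G), hVT v.2⟩ = 1 from
              (QuotientGroup.eq_one_iff _).mpr v.2, Pi.smul_apply, smul_eq_mul, mul_comm]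
        rw [e, classInner_smul_left, classInner_self_irr θ.2, mul_one]
        exact irr_one_ne_zero ξ
      obtain ⟨hirr, -⟩ := Corr.indFun_irr V θ.2 hT hVT ξ'.2 hover
      have hTne : classInner (fun t : T => indFun T (ξ' : T → ℂ) t) (ξ' : T → ℂ) ≠ 0 := by
        have e := classInner_indFun T (ξ' : T → ℂ) (IsIrr.classFun hirr)
        rw [classInner_self_irr hirr] at e
        rw [← classInner_conj_symm, ← e, map_one]
        exact one_ne_zero
      refine hout ⟨_, hirr⟩ (res_trans (Subgroup.inclusion hVT)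
        (IsChar.res (IsIrr.isCharacter hirr) T) ξ' θ hTne hover) ?_
      have e1 : indFun T (ξ' : T → ℂ) 1 =
          ((T.index * charDegree (ξ : T ⧸ V.subgroupOf T → ℂ) : ℕ) : ℂ) := by
        rw [indFun_one_eq, Nat.cast_mul, ← charDeg_spec' ξ]
        show (T.index : ℂ) * ((lη 1 : ℂ) * (ξ : T ⧸ V.subgroupOf T → ℂ) (QuotientGroup.mk' _ 1)) = _
        rw [map_one, map_one, Units.val_one, one_mul]
      rw [show charDegree (indFun T (ξ' : T → ℂ)) =
          T.index * charDegree (ξ : T ⧸ V.subgroupOf T → ℂ) by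
        rw [charDegree, e1, Complex.natCast_re, Nat.floor_natCast]]
      exact hξ.mul_left _
    have hTlt : Nat.card (T ⧸ V.subgroupOf T) ≤ n := by
      have h1 := card_quotient_lt (V.subgroupOf T) (fun e => hV0 (by
        have h3 := congrArg (Subgroup.map T.subtype) e
        rwa [Subgroup.subgroupOf_map_subtype, inf_eq_left.mpr hVT, Subgroup.map_bot] at h3))
      have h3 := Subgroup.card_le_card_group T
      omega
    have hsT := Grp.isPSolvable_map (isPSolvable_subgroup hs T) _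
      (QuotientGroup.mk'_surjective (V.subgroupOf T))
    have hd1 : derivedSeries (Q : Subgroup T) 1 ≤ (V.subgroupOf T).subgroupOf (Q : Subgroup T) :=
      derived_le _ fun R => by simpa [hall] using ih _ hTlt hsT R
    have hd2 : derivedSeries (Q : Subgroup T) 2 = ⊥ :=
      derived_succ (fun a ha b hb => Subtype.ext (hVab a ha b hb)) hd1
    -- transfer to `P`
    have hcardQ : Nat.card ((Q : Subgroup T).map T.subtype) = p ^ (Nat.card G).factorization p := by
      rw [Subgroup.card_map_of_injective T.subtype_injective, Sylow.card_eq_multiplicity,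
        ← Subgroup.card_mul_index T, Nat.factorization_mul Nat.card_pos.ne'
          Subgroup.index_ne_zero_of_finite, Finsupp.add_apply,
        Nat.factorization_eq_zero_of_not_dvd hTidx, add_zero]
    let e : (Q : Subgroup T) ≃* (P : Subgroup G) :=
      ((Q : Subgroup T).equivMapOfInjective T.subtype T.subtype_injective).trans
        ((Sylow.ofCard _ hcardQ).equiv P)
    rw [← map_derivedSeries_eq (f := e.toMonoidHom) e.surjective, hd2, Subgroup.map_bot]

end Cfsg.Agent.Block.PPartDerived
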