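import Mathlib
import Cfsg.Agent.Lib.Block.Orth
import Cfsg.Agent.Lib.Transfer.ClassDisconnected

/-!
Groups whose two largest class sizes `m > n` are coprime: the centralizers of the elements with
class size `m` are abelian and meet that of `x` (class size `n`) in the centre, and `G / Z(G)` is a
Frobenius group.
-/

set_option autoImplicit false
set_option linter.unusedSectionVars false
set_option linter.style.haveILetI false
set_option maxHeartbeats 800000

open scoped Pointwise

universe u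

namespace Cfsg.Agent.Block.CoprimeClasses

open Cfsg Cfsg.Agent
open Cfsg.Agent.Transfer.ClassDisconnected (cix cl)

variable {G : Type u} [Group G] [Finite G]

/-- The centralizer of an element. -/
abbrev CE (g : G) : Subgroup G := Subgroup.centralizer ({g} : Set G)

theorem card_relIndex {H K : Subgroup G} (h : H ≤ K) :
    H.relIndex K * Nat.card H = Nat.card K := by
  rw [← Subgroup.relIndex_bot_left H, ← Subgroup.relIndex_bot_left K, mul_comm]
  exact Subgroup.relIndex_mul_relIndex ⊥ H K bot_le h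

theorem card_lt {α β : Type u} [Finite α] [Finite β] {f : α → β} (hf : Function.Injective f)
    (hns : ¬ Function.Surjective f) : Nat.card α < Nat.card β := by
  refine lt_of_le_of_ne (Nat.card_le_card_of_injective f hf) fun h => hns ?_
  exact (hf.bijective_of_nat_card_le h.ge).2

theorem relIndex_pos (H K : Subgroup G) : 0 < H.relIndex K :=
  Nat.pos_of_ne_zero (fun h => Subgroup.index_ne_zero_of_finite (H := H.subgroupOf K) h)

theorem comm_center {z : G} (hz : z ∈ Subgroup.center G) (g : G) : Commute g z :=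
  Subgroup.mem_center_iff.1 hz g

theorem mem_CE {g c : G} : c ∈ CE g ↔ Commute c g := Subgroup.mem_centralizer_singleton_iff

theorem CE_of_mem_zpowers {g h : G} (hh : h ∈ Subgroup.zpowers g) : CE g ≤ CE h := by
  obtain ⟨j, rfl⟩ := hh
  exact fun c hc => mem_CE.2 ((mem_CE.1 hc).zpow_right j)

theorem eq_of_index_le {H K : Subgroup G} (h : H ≤ K) (h' : H.index ≤ K.index) : H = K := by
  refine le_antisymm h (Subgroup.relIndex_eq_one.1 ?_)
  have h1 := Subgroup.relIndex_mul_index h
  have h0 : 0 < K.index := Nat.pos_of_ne_zero Subgroup.index_ne_zero_of_finite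
  rcases Nat.lt_or_ge 1 (H.relIndex K) with hlt | hle
  · have : 2 * K.index ≤ H.index := h1 ▸ Nat.mul_le_mul_right _ hlt
    omega
  · rcases Nat.eq_zero_or_pos (H.relIndex K) with hz | hp
    · rw [hz, zero_mul] at h1
      exact absurd h1.symm Subgroup.index_ne_zero_of_finite
    · omega

theorem cix_conj (a h : G) : cix (h * a * h⁻¹) = cix a := by
  rw [← Transfer.ClassDisconnected.ncard_cl, ← Transfer.ClassDisconnected.ncard_cl a]
  have e : IsConj (h * a * h⁻¹) a := isConj_iff.2 ⟨h⁻¹, by group⟩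
  exact congrArg Set.ncard (Set.ext fun z => ⟨fun hz => e.symm.trans hz, fun hz => e.trans hz⟩)

theorem cix_dvd_of_le {a b : G} (h : CE a ≤ CE b) : cix b ∣ cix a := Subgroup.index_dvd_of_le h

theorem CE_mul_le {u v : G} (huv : Commute u v) (hc : (orderOf u).Coprime (orderOf v)) :
    CE (u * v) ≤ CE u ∧ CE (u * v) ≤ CE v := by
  have key : ∀ u v : G, Commute u v → (orderOf u).Coprime (orderOf v) → CE (u * v) ≤ CE u := by
    intro u v huv hc
    obtain ⟨m, hm⟩ := Nat.chineseRemainder hc 1 0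
    have hp : (u * v) ^ m = u := by
      rw [huv.mul_pow, (pow_eq_pow_iff_modEq.2 hm.1 : u ^ m = u ^ 1),
        (pow_eq_pow_iff_modEq.2 hm.2 : v ^ m = v ^ 0), pow_one, pow_zero, mul_one]
    have := Transfer.ClassDisconnected.centralizer_le_pow (u * v) m
    rwa [hp] at this
  refine ⟨key u v huv hc, ?_⟩
  have := key v u huv.symm hc.symm
  rwa [← huv.eq] at this

theorem eq_one_of_coprime {A B : Subgroup G} (h : (Nat.card A).Coprime (Nat.card B)) {t : G}
    (ha : t ∈ A) (hb : t ∈ B) : t = 1 := by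
  have : t ∈ A ⊓ B := ⟨ha, hb⟩
  rwa [Subgroup.inf_eq_bot_of_coprime h, Subgroup.mem_bot] at this

theorem eq_one_of_pow {t : G} {a b : ℕ} (ha : t ^ a = 1) (hb : t ^ b = 1) (h : a.Coprime b) :
    t = 1 :=
  orderOf_eq_one_iff.1
    (Nat.eq_one_of_dvd_coprimes h (orderOf_dvd_of_pow_eq_one ha) (orderOf_dvd_of_pow_eq_one hb))

/-- A normal subgroup of order prime to the index of `H` lies in `H`. -/
theorem le_of_coprime_index {N H : Subgroup G} [N.Normal]
    (h : (Nat.card N).Coprime H.index) : N ≤ H := by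
  set T := N ⊔ H with hT
  have h1 : H.relIndex T ∣ H.index := by
    rw [← Subgroup.relIndex_mul_index (le_sup_right : H ≤ T)]
    exact dvd_mul_right _ _
  have h2 : H.relIndex T ∣ Nat.card N := by
    have e1 : N.relIndex H * Nat.card N = Nat.card T := by
      have := card_relIndex (le_sup_left : N ≤ T) (G := G)
      rwa [Subgroup.relIndex_sup_left] at this
    have e2 : H.relIndex T * Nat.card H = Nat.card T := card_relIndex le_sup_right
    have e3 : N.relIndex H * Nat.card (N ⊓ H : Subgroup G) = Nat.card H := by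
      have := card_relIndex (inf_le_right : N ⊓ H ≤ H)
      rwa [Subgroup.inf_relIndex_right] at this
    refine ⟨Nat.card (N ⊓ H : Subgroup G), ?_⟩
    have h0 : 0 < N.relIndex H := relIndex_pos _ _
    refine Nat.eq_of_mul_eq_mul_left h0 ?_
    calc N.relIndex H * Nat.card N = H.relIndex T * Nat.card H := e1.trans e2.symm
      _ = N.relIndex H * (H.relIndex T * Nat.card (N ⊓ H : Subgroup G)) := by rw [← e3]; ring
  exact le_sup_left.trans (Subgroup.relIndex_eq_one.1 (Nat.eq_one_of_dvd_coprimes h h2 h1))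

/-- The subgroup `[a, G]`. -/
abbrev nc (a : G) : Subgroup G :=
  Subgroup.normalClosure (Set.range fun g : G => a⁻¹ * (g * a * g⁻¹))

theorem gen_mem (a g : G) : a⁻¹ * (g * a * g⁻¹) ∈ nc a := Subgroup.subset_normalClosure ⟨g, rfl⟩

theorem nc_le {a : G} {R : Subgroup G} (h : ∀ g k : G, k * (a⁻¹ * (g * a * g⁻¹)) * k⁻¹ ∈ R) :
    nc a ≤ R := by
  refine (Subgroup.closure_le _).2 fun t ht => ?_
  obtain ⟨z, ⟨g, rfl⟩, hc⟩ := Group.mem_conjugatesOfSet_iff.1 ht
  obtain ⟨k, rfl⟩ := isConj_iff.1 hc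
  exact h g k

theorem sylow_conj {p : ℕ} [Fact p.Prime] {u : G} {H : Subgroup G} {P : Sylow p G}
    (hP : (P : Subgroup G) ≤ H) {k : ℕ} (hu : orderOf u = p ^ k) :
    ∃ h : G, h * u * h⁻¹ ∈ H := by
  have hpu : IsPGroup p (Subgroup.zpowers u) := IsPGroup.of_card (by rw [Nat.card_zpowers, hu])
  obtain ⟨Q, hQ⟩ := hpu.exists_le_sylow
  obtain ⟨h, hh⟩ := MulAction.exists_smul_eq G Q P
  refine ⟨h, hP ?_⟩
  have h1 : u ∈ (Q : Subgroup G) := hQ (Subgroup.mem_zpowers u)
  rw [← hh]
  exact (Frob.mem_smul_conj_iff h _).2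
    (show h⁻¹ * (h * u * h⁻¹) * h ∈ (Q : Subgroup G) by simpa [mul_assoc] using h1)

/-- The hypotheses: the two largest class sizes are coprime. -/
structure Hyp (m n : ℕ) (x : G) : Prop where
  lt : n < m
  one_lt : 1 < n
  cop : m.Coprime n
  top : ∀ z : G, cix z ≤ m
  second : ∀ z : G, cix z < m → cix z ≤ n
  hx : cix x = n

variable {m n : ℕ} {x y : G}

theorem Hyp.not_dvd (H : Hyp m n x) : ¬ n ∣ m := fun h => by
  have := Nat.eq_one_of_dvd_coprimes H.cop h dvd_rfl
  have := H.one_lt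
  omega

theorem Hyp.le_n_of_dvd_mul (H : Hyp m n x) {g : G} (hd : n ∣ cix g) : cix g = n := by
  have hne : cix g ≠ m := fun h => H.not_dvd (h ▸ hd)
  have := H.second g (lt_of_le_of_ne (H.top g) hne)
  exact le_antisymm this (Nat.le_of_dvd (Transfer.ClassDisconnected.cix_pos g) hd)

theorem Hyp.cix_x_mul (H : Hyp m n x) {b : G} (hb : cix b = m) : cix (x * b) = m :=
  le_antisymm (H.top _) (hb ▸ Transfer.ClassDisconnected.le_cix_mul
    (by rw [H.hx, hb]; exact H.cop.symm))

theorem Hyp.card_nc_x (H : Hyp m n x) (hy : cix y = m) : Nat.card (nc x) ∣ m := by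
  have h : (cix x).Coprime (cix y) := by rw [H.hx, hy]; exact H.cop.symm
  exact hy ▸ Transfer.ClassDisconnected.card_normalClosure_dvd h ((H.cix_x_mul hy).trans hy.symm)

/-- Elements of class size a proper divisor of `m` commute with `x`. -/
theorem Hyp.small (H : Hyp m n x) (hy : cix y = m) {a : G} (hd : cix a ∣ m) (hlt : cix a < m) :
    Commute x a ∧ Nat.card (nc a) ∣ n := by
  have h : (cix a).Coprime (cix x) := by rw [H.hx]; exact H.cop.coprime_dvd_left hd
  have h1 : cix x ≤ cix (a * x) := Transfer.ClassDisconnected.le_cix_mul h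
  have h2 := Transfer.ClassDisconnected.cix_mul_dvd h
  have hne : cix (a * x) ≠ m := by
    intro he
    rw [he, H.hx] at h2
    have := Nat.le_of_dvd (Transfer.ClassDisconnected.cix_pos a)
      ((Nat.Coprime.dvd_of_dvd_mul_right H.cop h2))
    omega
  have he : cix (a * x) = cix x :=
    le_antisymm (H.hx.symm ▸ H.second _ (lt_of_le_of_ne (H.top _) hne)) h1
  have hN : Nat.card (nc a) ∣ n := H.hx ▸ Transfer.ClassDisconnected.card_normalClosure_dvd h he
  refine ⟨?_, hN⟩
  have e1 : a⁻¹ * (x * a * x⁻¹) ∈ nc a := gen_mem a x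
  have e2 : a⁻¹ * (x * a * x⁻¹) ∈ nc x := by
    have := (Subgroup.normalClosure_normal : (nc x).Normal).conj_mem _ (gen_mem x a⁻¹) x
    rw [show a⁻¹ * (x * a * x⁻¹) = x * (x⁻¹ * (a⁻¹ * x * (a⁻¹)⁻¹)) * x⁻¹ by group]
    exact this
  have h3 := eq_one_of_coprime ((H.cop.coprime_dvd_left (H.card_nc_x hy)).coprime_dvd_right hN) e2 e1
  rw [inv_mul_eq_one] at h3
  exact mul_inv_eq_iff_eq_mul.1 h3.symm

/-- Some primary power of `y` has the same centralizer. -/
theorem Hyp.exists_primary (H : Hyp m n x) (hy : cix y = m) :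
    ∃ y₁ : G, ∃ r k : ℕ, r.Prime ∧ orderOf y₁ = r ^ k ∧ CE y₁ = CE y := by
  classical
  by_contra hc
  push Not at hc
  have hsmall : ∀ j r k : ℕ, r.Prime → orderOf (y ^ j) = r ^ k →
      cix (y ^ j) ∣ m ∧ cix (y ^ j) < m := by
    intro j r k hr ho
    refine ⟨hy ▸ Transfer.ClassDisconnected.cix_pow_dvd y j, lt_of_le_of_ne (H.top _) fun he => ?_⟩
    exact hc (y ^ j) r k hr ho
      (eq_of_index_le (Transfer.ClassDisconnected.centralizer_le_pow y j)
        (le_of_eq (hy.trans he.symm))).symm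
  have hle : CE y ≤ CE x := by
    intro g hg
    have h : (cix x).Coprime (cix y) := by rw [H.hx, hy]; exact H.cop.symm
    have himg : (x * ·) '' cl y = cl (x * y) := by
      refine Set.eq_of_subset_of_ncard_le (Transfer.ClassDisconnected.image_subset_cl h) ?_
        (Set.toFinite _)
      rw [Set.ncard_image_of_injective _ (mul_right_injective x),
        Transfer.ClassDisconnected.ncard_cl, Transfer.ClassDisconnected.ncard_cl,
        H.cix_x_mul hy, hy]
    have hmem : g * (x * y) * g⁻¹ ∈ cl (x * y) := isConj_iff.2 ⟨g, rfl⟩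
    rw [← himg] at hmem
    obtain ⟨y', hy', he⟩ := hmem
    obtain ⟨h₀, rfl⟩ := isConj_iff.1 hy'
    simp only at he
    have hgy : g * (x * y) * g⁻¹ = (g * x * g⁻¹) * y := by
      rw [show g * (x * y) * g⁻¹ = g * x * (y * g⁻¹) by group,
        (((mem_CE.1 hg).inv_left).symm).eq, ← mul_assoc]
    rw [hgy] at he
    have hN : h₀ * y * h₀⁻¹ * y⁻¹ ∈ nc x := by
      rw [show h₀ * y * h₀⁻¹ * y⁻¹ = x⁻¹ * (x * (h₀ * y * h₀⁻¹)) * y⁻¹ by group, he,
        show x⁻¹ * (g * x * g⁻¹ * y) * y⁻¹ = x⁻¹ * (g * x * g⁻¹) by group]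
      exact gen_mem x g
    have hyc : y ∈ CE h₀ := by
      refine Transfer.ClassDisconnected.mem_of_primary _ fun j r k hr ho => ?_
      obtain ⟨hd, hlt⟩ := hsmall j r k hr ho
      have hn' := (H.small hy hd hlt).2
      have e1 : h₀ * y ^ j * h₀⁻¹ * (y ^ j)⁻¹ ∈ nc (y ^ j) := by
        have := (Subgroup.normalClosure_normal : (nc (y ^ j)).Normal).conj_mem _
          (gen_mem (y ^ j) h₀) (y ^ j)
        rw [show h₀ * y ^ j * h₀⁻¹ * (y ^ j)⁻¹ =
          y ^ j * ((y ^ j)⁻¹ * (h₀ * y ^ j * h₀⁻¹)) * (y ^ j)⁻¹ by group]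
        exact this
      have e2 : h₀ * y ^ j * h₀⁻¹ * (y ^ j)⁻¹ ∈ nc x := by
        rw [← QuotientGroup.eq_one_iff, ← conj_pow]
        have h2 := (QuotientGroup.eq_one_iff _).2 hN
        push_cast [QuotientGroup.mk_mul, QuotientGroup.mk_inv, QuotientGroup.mk_pow] at h2 ⊢
        rw [mul_inv_eq_one] at h2 ⊢
        rw [h2]
      have e3 := eq_one_of_coprime
        ((H.cop.coprime_dvd_left (H.card_nc_x hy)).coprime_dvd_right hn') e2 e1
      rw [mul_inv_eq_one] at e3
      exact mem_CE.2 (Commute.symm (show Commute h₀ (y ^ j) from mul_inv_eq_iff_eq_mul.1 e3))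
    have hy'' : h₀ * y * h₀⁻¹ = y := by
      rw [(mem_CE.1 hyc).symm.eq, mul_inv_cancel_right]
    rw [hy''] at he
    have := mul_right_cancel he
    exact mem_CE.2 (mul_inv_eq_iff_eq_mul.1 this.symm)
  exact H.not_dvd (H.hx ▸ hy ▸ cix_dvd_of_le hle)

/-- Facts about the centralizer of a primary element with class size `m`. -/
structure Max (m n : ℕ) (x y : G) (r : ℕ) : Prop where
  hyp : Hyp m n x
  hy : cix y = m
  prime : r.Prime
  pow : ∃ k : ℕ, orderOf y = r ^ k

variable {r : ℕ}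

theorem Max.coprime_order (M : Max m n x y r) {b : G} (hb : ¬ r ∣ orderOf b) :
    (orderOf y).Coprime (orderOf b) := by
  obtain ⟨k, hk⟩ := M.pow
  rw [hk]
  exact ((M.prime.coprime_iff_not_dvd).2 hb).pow_left _

theorem Max.central_rprime (M : Max m n x y r) {b : G} (hb : b ∈ CE y) (ho : ¬ r ∣ orderOf b) :
    CE y ≤ CE b := by
  obtain ⟨h1, h2⟩ := CE_mul_le (mem_CE.1 hb).symm (M.coprime_order ho)
  have he : CE (y * b) = CE y := eq_of_index_le h1 (le_of_le_of_eq (M.hyp.top _) M.hy.symm)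
  exact he ▸ h2

theorem Max.pow_central (M : Max m n x y r) {b : G} (hb : b ∈ CE y) :
    CE y ≤ CE (b ^ r ^ (Nat.card G).factorization r) := by
  haveI := Fact.mk M.prime
  refine M.central_rprime (Subgroup.pow_mem _ hb _) fun hd => ?_
  have h1 : orderOf (b ^ r ^ (Nat.card G).factorization r) ∣
      Nat.card G / r ^ (Nat.card G).factorization r := by
    refine orderOf_dvd_of_pow_eq_one ?_
    rw [← pow_mul, Nat.ordProj_mul_ordCompl_eq_self, pow_card_eq_one']
  exact Nat.not_dvd_ordCompl M.prime Nat.card_pos.ne' (hd.trans h1)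

theorem Max.exists_R (M : Max m n x y r) :
    ∃ R : Subgroup G, R ≤ CE y ∧ IsPGroup r R ∧
      (∀ u ∈ CE y, (∃ k, orderOf u = r ^ k) → u ∈ R) := by
  haveI := Fact.mk M.prime
  set B := CE y
  have hq : IsPGroup r (B ⧸ Subgroup.center B) := by
    intro q
    induction q using QuotientGroup.induction_on with
    | H b =>
      refine ⟨(Nat.card G).factorization r, ?_⟩
      rw [← QuotientGroup.mk_pow, QuotientGroup.eq_one_iff, Subgroup.mem_center_iff]
      intro c
      exact Subtype.ext (mem_CE.1 (M.pow_central b.2 c.2)).eq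
  haveI : Group.IsNilpotent B := Group.of_quotient_center_nilpotent hq.isNilpotent
  obtain ⟨P⟩ : Nonempty (Sylow r B) := inferInstance
  haveI := Sylow.unique_of_normal P
    (P.normal_of_normalizerCondition Group.normalizerCondition_of_isNilpotent)
  refine ⟨(P : Subgroup B).map B.subtype, Subgroup.map_subtype_le _, P.isPGroup'.map _,
    fun u hu ⟨k, hk⟩ => ?_⟩
  have hpu : IsPGroup r (Subgroup.zpowers (⟨u, hu⟩ : B)) :=
    IsPGroup.of_card (by rw [Nat.card_zpowers, Subgroup.orderOf_mk, hk])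
  obtain ⟨Q, hQ⟩ := hpu.exists_le_sylow
  rw [Subsingleton.elim P Q]
  exact ⟨⟨u, hu⟩, hQ (Subgroup.mem_zpowers _), rfl⟩

/-- An element of `C(y)` of class size prime to `m` is central. -/
theorem Max.central_of_coprime (M : Max m n x y r) {v : G} (hv : v ∈ CE y)
    (hc : (cix v).Coprime m) : v ∈ Subgroup.center G := by
  refine Transfer.ClassDisconnected.mem_of_primary _ fun j q k hq ho => ?_
  set w := v ^ j with hwdef
  have hw : w ∈ CE y := Subgroup.pow_mem _ hv j
  have hwc : (cix w).Coprime m :=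
    hc.coprime_dvd_left (Transfer.ClassDisconnected.cix_pow_dvd v j)
  by_cases hqr : q = r
  · subst hqr
    haveI := Fact.mk hq
    obtain ⟨R, hRB, hRp, hR⟩ := M.exists_R
    have hwy : (cix w).Coprime (cix y) := by rw [M.hy]; exact hwc
    have he : cix (w * y) = cix y := le_antisymm (M.hy.symm ▸ M.hyp.top _)
      (Transfer.ClassDisconnected.le_cix_mul hwy)
    have hdvd : Nat.card (nc w) ∣ m :=
      M.hy ▸ Transfer.ClassDisconnected.card_normalClosure_dvd hwy he
    have hconjR : ∀ g : G, g * w * g⁻¹ ∈ R := by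
      intro g
      obtain ⟨b, hb, c, hc', rfl⟩ := Grp.HallConv.exists_mul_of_coprime (H := CE w) (K := CE y)
        (by simpa [cix] using hwy) g
      rw [show b * c * w * (b * c)⁻¹ = b * (c * w * c⁻¹) * b⁻¹ by group,
        (mem_CE.1 hc').eq, mul_inv_cancel_right]
      refine hR _ ((CE y).mul_mem ((CE y).mul_mem hb hw) ((CE y).inv_mem hb)) ⟨k, ?_⟩
      rw [← ho]
      exact orderOf_injective (MulAut.conj b).toMonoidHom (MulAut.conj b).injective w
    have hle : nc w ≤ R := nc_le fun g h => by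
      rw [show h * (w⁻¹ * (g * w * g⁻¹)) * h⁻¹ =
        (h * w * h⁻¹)⁻¹ * ((h * g) * w * (h * g)⁻¹) by group]
      exact R.mul_mem (R.inv_mem (hconjR h)) (hconjR _)
    obtain ⟨e, he'⟩ := (IsPGroup.iff_card (p := q)).1 (hRp.to_le hle)
    by_cases he0 : e = 0
    · have hbot : nc w = ⊥ := Subgroup.card_eq_one.1 (by rw [he', he0, pow_zero])
      rw [Subgroup.mem_center_iff]
      intro g
      have h1 := gen_mem w g
      rw [hbot, Subgroup.mem_bot, inv_mul_eq_one] at h1
      exact mul_inv_eq_iff_eq_mul.1 h1.symm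
    · -- `r` divides `m`, and the class size is a power of `r`
      have hrm : q ∣ m := (dvd_pow_self q he0).trans (he' ▸ hdvd)
      rw [← Transfer.ClassDisconnected.cix_eq_one]
      have hsub : (cl w) ⊆ (R : Set G) := fun z hz => by
        obtain ⟨g, rfl⟩ := isConj_iff.1 hz
        exact hconjR g
      by_contra hne
      obtain ⟨s, hs, hsd⟩ := Nat.exists_prime_and_dvd hne
      have hsq : s ≠ q := fun h => (Nat.Prime.coprime_iff_not_dvd hs).1
        (hwc.coprime_dvd_left hsd) (h ▸ hrm)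
      have hB : cix w = (CE w).relIndex (CE y) := by
        have h1 := Grp.HallConv.index_inf_of_coprime (H := CE w) (K := CE y)
          (by simpa [cix] using hwy)
        rw [← Subgroup.relIndex_mul_index (inf_le_right : CE w ⊓ CE y ≤ CE y),
          Subgroup.inf_relIndex_right] at h1
        exact (Nat.eq_of_mul_eq_mul_right (Nat.pos_of_ne_zero Subgroup.index_ne_zero_of_finite)
          h1).symm
      rw [hB] at hsd
      haveI := Fact.mk hs
      obtain ⟨Q⟩ : Nonempty (Sylow s (CE y)) := inferInstance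
      have hQle : (Q : Subgroup (CE y)) ≤ (CE w).subgroupOf (CE y) := by
        intro z hz
        obtain ⟨i, hi⟩ := Q.isPGroup'.exists_orderOf_eq_pow ⟨z, hz⟩
        rw [Subgroup.orderOf_mk] at hi
        rw [Subgroup.mem_subgroupOf, mem_CE]
        refine (mem_CE.1 (M.central_rprime z.2 ?_ hw)).symm
        rw [Subgroup.orderOf_coe, hi]
        exact fun hd => hsq.symm ((Nat.prime_dvd_prime_iff_eq M.prime hs).1
          (M.prime.dvd_of_dvd_pow hd))
      exact Q.not_dvd_index (hsd.trans (Subgroup.index_dvd_of_le hQle))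
  · have hle := M.central_rprime hw (by
      rw [ho]
      exact fun hd => hqr ((Nat.prime_dvd_prime_iff_eq M.prime hq).1
        (M.prime.dvd_of_dvd_pow hd)).symm)
    rw [← Transfer.ClassDisconnected.cix_eq_one]
    exact Nat.eq_one_of_dvd_coprimes hwc dvd_rfl (M.hy ▸ cix_dvd_of_le hle)

/-- The part of `x` prime to `p` carries the centralizer, for `p` prime to `m`. -/
theorem Max.split_x (M : Max m n x y r) {p : ℕ} [Fact p.Prime] (hp : ¬ p ∣ m) :
    ∃ v : G, v ∈ Subgroup.zpowers x ∧ ¬ p ∣ orderOf v ∧ CE v = CE x := by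
  obtain ⟨u, v, huv, -, ⟨k, hk⟩, hv, hux, hvx⟩ := exists_pPart_zpowers (p := p) x
  refine ⟨v, hvx, hv, le_antisymm ?_ (CE_of_mem_zpowers hvx)⟩
  obtain ⟨P, hP⟩ := Transfer.ClassDisconnected.exists_sylow_le_centralizer (r := p) (u := y)
    (show ¬ p ∣ cix y by rwa [M.hy])
  obtain ⟨h, hh⟩ := sylow_conj hP hk
  have hdu : cix (h * u * h⁻¹) ∣ n := by
    rw [cix_conj, ← M.hyp.hx]; exact cix_dvd_of_le (CE_of_mem_zpowers hux)
  have huc := M.central_of_coprime hh (M.hyp.cop.symm.coprime_dvd_left hdu)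
  have huc' : u ∈ Subgroup.center G := by
    have := (inferInstance : (Subgroup.center G).Normal).conj_mem _ huc h⁻¹
    simpa [mul_assoc] using this
  intro c hc
  rw [mem_CE, ← huv]
  exact (comm_center huc' c).mul_right (mem_CE.1 hc)

theorem Max.comm_x (M : Max m n x y r) {p : ℕ} (hpp : p.Prime) (hp : ¬ p ∣ m) {w : G}
    (hw : w ∈ CE x) {i : ℕ} (ho : orderOf w = p ^ i) : CE x ≤ CE w := by
  haveI := Fact.mk hpp
  obtain ⟨v, -, hv, he⟩ := M.split_x hp
  have hwv : w ∈ CE v := he.symm ▸ hw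
  obtain ⟨h1, h2⟩ := CE_mul_le (mem_CE.1 hwv).symm
    (show (orderOf v).Coprime (orderOf w) by
      rw [ho]; exact (((hpp.coprime_iff_not_dvd).2 hv).pow_left _).symm)
  have hd : n ∣ cix (v * w) := by
    rw [← M.hyp.hx, show cix x = cix v from congrArg Subgroup.index he.symm]
    exact cix_dvd_of_le h1
  have heq : CE (v * w) = CE v := eq_of_index_le h1 (le_of_eq (by
    show (CE (v * w)).index = (CE v).index
    rw [he]
    exact (M.hyp.le_n_of_dvd_mul hd).trans M.hyp.hx.symm))
  rw [← he, ← heq]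
  exact h2

/-- A non-central element central in `C(y)` has centralizer `C(y)`. -/
theorem Max.eq_of_central (M : Max m n x y r) {a : G} (haB : a ∈ CE y) (hca : CE y ≤ CE a)
    (hnc : a ∉ Subgroup.center G) : CE a = CE y := by
  have hd : cix a ∣ m := M.hy ▸ cix_dvd_of_le hca
  refine (eq_of_index_le hca ?_).symm
  show cix y ≤ cix a
  rw [M.hy]
  by_contra hlt
  push Not at hlt
  obtain ⟨hxa, hN⟩ := M.hyp.small M.hy hd hlt
  refine hnc (M.central_of_coprime haB (Nat.coprime_of_dvd fun q hq hqa hqm => ?_))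
  haveI := Fact.mk hq
  have hqn : ¬ q ∣ n := fun h =>
    hq.ne_one (Nat.eq_one_of_dvd_coprimes M.hyp.cop hqm h)
  obtain ⟨Q, hQ⟩ := Transfer.ClassDisconnected.exists_sylow_le_centralizer (r := q) (u := x)
    (show ¬ q ∣ cix x by rwa [M.hyp.hx])
  have hconj : ∀ h : G, h * a * h⁻¹ ∈ CE x := fun h => mem_CE.2
    (M.hyp.small M.hy (by rw [cix_conj]; exact hd) (by rw [cix_conj]; exact hlt)).1.symm
  have hNx : nc a ≤ CE x := nc_le fun g h => by
    rw [show h * (a⁻¹ * (g * a * g⁻¹)) * h⁻¹ =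
      (h * a * h⁻¹)⁻¹ * ((h * g) * a * (h * g)⁻¹) by group]
    exact (CE x).mul_mem ((CE x).inv_mem (hconj h)) (hconj _)
  have hQa : (Q : Subgroup G) ≤ CE a := by
    intro g hg
    set t := a⁻¹ * (g * a * g⁻¹) with htdef
    have ht : t ∈ nc a := gen_mem a g
    have htg : t ∈ CE g := by
      refine Transfer.ClassDisconnected.mem_of_primary _ fun j p k hp ho => ?_
      rcases Nat.eq_zero_or_pos k with rfl | hk
      · rw [pow_zero, orderOf_eq_one_iff] at ho
        exact ho ▸ (CE g).one_mem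
      · have htj : t ^ j ∈ nc a := Subgroup.pow_mem _ ht j
        have hpn : p ∣ n := ((dvd_pow_self p hk.ne').trans (ho ▸ (nc a).orderOf_dvd_natCard htj)).trans hN
        have hpm : ¬ p ∣ m := fun h => hp.ne_one (Nat.eq_one_of_dvd_coprimes M.hyp.cop h hpn)
        exact mem_CE.2 (mem_CE.1 (M.comm_x hp hpm (hNx htj) ho (hQ hg))).symm
    obtain ⟨k, hk⟩ := Q.isPGroup'.exists_orderOf_eq_pow ⟨g, hg⟩
    rw [Subgroup.orderOf_mk] at hk
    have h1 := Transfer.ClassDisconnected.conj_pow_formula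
      (show g * a * g⁻¹ = a * t by rw [htdef]; group) (mem_CE.1 htg) (orderOf g)
    rw [pow_orderOf_eq_one, one_mul, inv_one, mul_one, eq_comm, mul_eq_left, hk] at h1
    have h2 : t ^ n = 1 := orderOf_dvd_iff_pow_eq_one.1 (((nc a).orderOf_dvd_natCard ht).trans hN)
    have h3 := eq_one_of_pow h1 h2 (((hq.coprime_iff_not_dvd).2 hqn).pow_left _)
    rw [htdef, inv_mul_eq_one] at h3
    exact mem_CE.2 (mul_inv_eq_iff_eq_mul.1 h3.symm)
  exact Q.not_dvd_index (hqa.trans (Subgroup.index_dvd_of_le hQa))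

theorem pow_mem_of_fixed {X : Type*} [CommGroup X] {r : ℕ} (hr : r.Prime) (A B : MulAut X)
    (hAB : Commute A B) (hA : A ^ r = 1) (hB : B ^ r = 1) (Z : Subgroup X)
    (hAZ : ∀ (i : ℕ) (e : X), (A * B ^ i) e = e → e ∈ Z) (hBZ : ∀ e : X, B e = e → e ∈ Z)
    (hZ : ∀ z ∈ Z, A z = z) (e : X) : e ^ r ∈ Z := by
  classical
  have hprod : ∀ (C : MulAut X), C ^ r = 1 →
      C (∏ k ∈ Finset.range r, (C ^ k) e) = ∏ k ∈ Finset.range r, (C ^ k) e := by
    intro C hC
    have h1 : C (∏ k ∈ Finset.range r, (C ^ k) e) = ∏ k ∈ Finset.range r, (C ^ (k + 1)) e := by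
      rw [map_prod]
      exact Finset.prod_congr rfl fun k _ => by rw [pow_succ', MulAut.mul_apply]
    rw [h1]
    have h2 : (∏ k ∈ Finset.range r, (C ^ (k + 1)) e) * (C ^ 0) e =
        (∏ k ∈ Finset.range r, (C ^ k) e) * (C ^ r) e := by
      rw [← Finset.prod_range_succ' (fun k => (C ^ k) e), Finset.prod_range_succ]
    rw [hC, pow_zero] at h2
    exact mul_right_cancel h2
  set N := ∏ j ∈ Finset.range r, (B ^ j) e with hN
  have hNZ : N ∈ Z := hBZ _ (hprod B hB)
  have hAi : ∀ i : ℕ, (A * B ^ i) ^ r = 1 := fun i => by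
    rw [(hAB.pow_right i).mul_pow, hA, one_mul, ← pow_mul, mul_comm, pow_mul, hB, one_pow]
  have htot : (∏ i ∈ Finset.range r, ∏ k ∈ Finset.range r, ((A * B ^ i) ^ k) e) ∈ Z :=
    Z.prod_mem fun i _ => hAZ i _ (hprod _ (hAi i))
  rw [Finset.prod_comm] at htot
  have hrest : ∀ k ∈ Finset.range r, k ≠ 0 →
      ∏ i ∈ Finset.range r, ((A * B ^ i) ^ k) e ∈ Z := by
    intro k hk hk0
    have hk' : ¬ r ∣ k := fun h => hk0 (Nat.eq_zero_of_dvd_of_lt h (Finset.mem_range.1 hk))
    have hinj : Set.InjOn (fun i => i * k % r) (Finset.range r : Set ℕ) := by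
      intro i hi j hj h
      rw [Finset.coe_range, Set.mem_Iio] at hi hj
      have h1 : i ≡ j [MOD r] := Nat.ModEq.cancel_right_of_coprime
        (hr.coprime_iff_not_dvd.2 hk') (show i * k ≡ j * k [MOD r] from h)
      exact h1.eq_of_lt_of_lt hi hj
    have himg : (Finset.range r).image (fun i => i * k % r) = Finset.range r := by
      refine Finset.eq_of_subset_of_card_le (fun a ha => ?_) ?_
      · obtain ⟨i, -, rfl⟩ := Finset.mem_image.1 ha
        exact Finset.mem_range.2 (Nat.mod_lt _ hr.pos)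
      · rw [Finset.card_image_of_injOn hinj]
    have h1 : ∏ i ∈ Finset.range r, ((A * B ^ i) ^ k) e = (A ^ k) N := by
      rw [hN, map_prod]
      conv_rhs => rw [← himg]
      rw [Finset.prod_image hinj]
      refine Finset.prod_congr rfl fun i _ => ?_
      rw [(hAB.pow_right i).mul_pow, ← pow_mul, MulAut.mul_apply,
        pow_eq_pow_mod (i * k) hB]
    have h2 : ∀ q : ℕ, (A ^ q) N = N := fun q => by
      induction q with
      | zero => rw [pow_zero, MulAut.one_apply]
      | succ q ih => rw [pow_succ, MulAut.mul_apply, hZ _ hNZ, ih]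
    rw [h1, h2]
    exact hNZ
  rw [← Finset.mul_prod_erase _ _ (Finset.mem_range.2 hr.pos)] at htot
  have h3 : ∏ k ∈ (Finset.range r).erase 0, ∏ i ∈ Finset.range r, ((A * B ^ i) ^ k) e ∈ Z :=
    Z.prod_mem fun k hk => hrest k (Finset.mem_of_mem_erase hk) (Finset.ne_of_mem_erase hk)
  have h4 := (Subgroup.mul_mem_cancel_right Z h3).1 htot
  simpa [Finset.prod_const] using h4

/-- The case in which the `r'`-elements of `C(y)` are central in `G`. -/
theorem Max.comm_of_central (M : Max m n x y r)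
    (hA : ∀ a ∈ CE y, ¬ r ∣ orderOf a → a ∈ Subgroup.center G) :
    ∀ a ∈ CE y, ∀ b ∈ CE y, a * b = b * a := by
  classical
  haveI hrF := Fact.mk M.prime
  have hH := M.hyp
  set B := CE y with hBdef
  -- `n` is a power of `r`
  have hcopB : (CE x).index.Coprime B.index := by
    show (cix x).Coprime (cix y); rw [hH.hx, M.hy]; exact hH.cop.symm
  have hrelB : (CE x).relIndex B = n := by
    have h1 := Grp.HallConv.index_inf_of_coprime hcopB
    rw [← Subgroup.relIndex_mul_index (inf_le_right : CE x ⊓ B ≤ B),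
      Subgroup.inf_relIndex_right] at h1
    exact (Nat.eq_of_mul_eq_mul_right (Nat.pos_of_ne_zero Subgroup.index_ne_zero_of_finite)
      h1).trans hH.hx
  have hn_pow : ∀ q : ℕ, q.Prime → q ∣ n → q = r := by
    intro q hq hqn
    by_contra hne
    haveI := Fact.mk hq
    obtain ⟨Q⟩ : Nonempty (Sylow q B) := inferInstance
    have hQle : (Q : Subgroup B) ≤ (CE x).subgroupOf B := by
      intro z hz
      obtain ⟨i, hi⟩ := Q.isPGroup'.exists_orderOf_eq_pow ⟨z, hz⟩
      rw [Subgroup.orderOf_mk] at hi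
      rw [Subgroup.mem_subgroupOf]
      refine Subgroup.center_le_centralizer _ (hA _ z.2 ?_)
      rw [Subgroup.orderOf_coe, hi]
      exact fun hd => hne ((Nat.prime_dvd_prime_iff_eq M.prime hq).1
        (M.prime.dvd_of_dvd_pow hd)).symm
    exact Q.not_dvd_index ((hrelB ▸ hqn).trans (Subgroup.index_dvd_of_le hQle))
  have hrn : r ∣ n := by
    obtain ⟨q, hq, hqn⟩ := Nat.exists_prime_and_dvd (show n ≠ 1 from hH.one_lt.ne')
    exact hn_pow q hq hqn ▸ hqn
  have hrm : ¬ r ∣ m := fun h => M.prime.ne_one (Nat.eq_one_of_dvd_coprimes hH.cop h hrn)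
  -- `C(x) ∩ C(y)` is central
  have hxy : ∀ u ∈ CE x, u ∈ B → u ∈ Subgroup.center G := by
    intro u hux huy
    refine Transfer.ClassDisconnected.mem_of_primary _ fun j q k hq ho => ?_
    by_cases hqr : q = r
    · subst hqr
      refine M.central_of_coprime (Subgroup.pow_mem _ huy j) (hH.cop.symm.coprime_dvd_left ?_)
      rw [← hH.hx]
      exact cix_dvd_of_le (M.comm_x hq hrm (Subgroup.pow_mem _ hux j) ho)
    · refine hA _ (Subgroup.pow_mem _ huy j) ?_
      rw [ho]
      exact fun hd => hqr ((Nat.prime_dvd_prime_iff_eq M.prime hq).1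
        (M.prime.dvd_of_dvd_pow hd)).symm
  obtain ⟨x₀, -, hx₀o, hx₀⟩ := M.split_x (p := r) hrm
  set X := Subgroup.normalClosure ({x₀} : Set G) with hXdef
  haveI hXn : X.Normal := Subgroup.normalClosure_normal
  have hncx : nc x₀ ≤ CE x := le_of_coprime_index (by
    have h0 : cix x₀ = n := (congrArg Subgroup.index hx₀).trans hH.hx
    have H₀ : Hyp m n x₀ := ⟨hH.lt, hH.one_lt, hH.cop, hH.top, hH.second, h0⟩
    show (Nat.card (nc x₀)).Coprime (cix x)
    rw [hH.hx]
    exact hH.cop.coprime_dvd_left (H₀.card_nc_x M.hy))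
  have hx₀self : x₀ ∈ CE x := hx₀ ▸ mem_CE.2 (Commute.refl x₀)
  have hXx : X ≤ CE x := by
    refine (Subgroup.closure_le _).2 fun t ht => ?_
    obtain ⟨z, hz, hc⟩ := Group.mem_conjugatesOfSet_iff.1 ht
    cases Set.mem_singleton_iff.1 hz
    obtain ⟨k, rfl⟩ := isConj_iff.1 hc
    rw [SetLike.mem_coe, show k * x₀ * k⁻¹ = x₀ * (x₀⁻¹ * (k * x₀ * k⁻¹)) by group]
    exact (CE x).mul_mem hx₀self (hncx (gen_mem x₀ k))
  have hXc : ∀ u ∈ X, ∀ v ∈ X, Commute u v := by
    intro u hu v hv
    revert v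
    suffices X ≤ CE u from fun v hv => (mem_CE.1 (this hv)).symm
    refine (Subgroup.closure_le _).2 fun t ht => ?_
    obtain ⟨z, hz, hc⟩ := Group.mem_conjugatesOfSet_iff.1 ht
    cases Set.mem_singleton_iff.1 hz
    obtain ⟨k, rfl⟩ := isConj_iff.1 hc
    rw [SetLike.mem_coe, mem_CE]
    have h1 : k⁻¹ * u * k ∈ CE x₀ :=
      hx₀.symm ▸ hXx (by simpa using hXn.conj_mem u hu k⁻¹)
    have h2 := (Commute.conj_iff k).2 (mem_CE.1 h1)
    rw [show k * (k⁻¹ * u * k) * k⁻¹ = u by group] at h2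
    exact h2.symm
  have hXo : ∀ e ∈ X, e ^ orderOf x₀ = 1 := by
    intro e he
    induction he using Subgroup.closure_induction with
    | mem t ht =>
      obtain ⟨z, hz, hc⟩ := Group.mem_conjugatesOfSet_iff.1 ht
      cases Set.mem_singleton_iff.1 hz
      obtain ⟨k, rfl⟩ := isConj_iff.1 hc
      rw [conj_pow, pow_orderOf_eq_one, mul_one, mul_inv_cancel]
    | one => exact one_pow _
    | mul a b ha hb iha ihb => rw [(hXc a ha b hb).mul_pow, iha, ihb, one_mul]
    | inv a _ iha => rw [inv_pow, iha, inv_one]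
  have hXB : ∀ e ∈ X, e ∈ B → e ∈ Subgroup.center G := fun e he hb => hxy e (hXx he) hb
  have hro : ∀ {t : G} {k : ℕ}, t ^ r ^ k = 1 → t ^ orderOf x₀ = 1 → t = 1 := fun h1 h2 =>
    eq_one_of_pow h1 h2 (((M.prime.coprime_iff_not_dvd).2 hx₀o).pow_left _)
  obtain ⟨P₀, hP₀⟩ := Transfer.ClassDisconnected.exists_sylow_le_centralizer (r := r) (u := y)
    (show ¬ r ∣ cix y by rwa [M.hy])
  obtain ⟨R, hRB, hRp, hR⟩ := M.exists_R
  have hRP : ∀ u ∈ B, (∃ k, orderOf u = r ^ k) → u ∈ (P₀ : Subgroup G) := by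
    intro u hu huk
    have hPR : (P₀ : Subgroup G) ≤ R := fun v hv => hR v (hP₀ hv) (by
      obtain ⟨i, hi⟩ := P₀.isPGroup'.exists_orderOf_eq_pow ⟨v, hv⟩
      exact ⟨i, by rw [← hi, Subgroup.orderOf_mk]⟩)
    rw [← P₀.is_maximal' hRp hPR]
    exact hR u hu huk
  have hB_eq : B = (P₀ : Subgroup G) ⊔ Subgroup.center G := by
    refine le_antisymm (fun b hb => ?_) (sup_le hP₀ (Subgroup.center_le_centralizer _))
    refine Transfer.ClassDisconnected.mem_of_primary _ fun j q k hq ho => ?_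
    by_cases hqr : q = r
    · subst hqr
      exact le_sup_left (b := Subgroup.center G) (hRP _ (Subgroup.pow_mem _ hb j) ⟨k, ho⟩)
    · refine le_sup_right (a := (P₀ : Subgroup G)) (hA _ (Subgroup.pow_mem _ hb j) ?_)
      rw [ho]
      exact fun hd => hqr ((Nat.prime_dvd_prime_iff_eq M.prime hq).1
        (M.prime.dvd_of_dvd_pow hd)).symm
  -- key: a non-central element of `B` of `r`-power order fixes only the centre of `G` in `X`
  have key : ∀ c ∈ B, (∃ k, orderOf c = r ^ k) → ¬ B ≤ CE c →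
      cix c = m ∧ ∀ e ∈ X, Commute c e → e ∈ Subgroup.center G := by
    intro c hc hck hcB
    obtain ⟨k, hk⟩ := hck
    have hfix : cix c = m → ∀ e ∈ X, Commute c e → e ∈ Subgroup.center G := by
      intro hcm e he hce
      obtain ⟨P, hP⟩ := Transfer.ClassDisconnected.exists_sylow_le_centralizer (r := r) (u := c)
        (show ¬ r ∣ cix c by rwa [hcm])
      obtain ⟨g, hg⟩ := MulAction.exists_smul_eq G P₀ P
      have hsub : MulAut.conj g • B ≤ CE c := by
        rw [hB_eq, Subgroup.smul_sup]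
        refine sup_le ?_ fun z hz => ?_
        · refine le_trans ?_ hP
          rw [← hg]
          exact le_rfl
        · have hz' := (Frob.mem_smul_conj_iff g z).1 hz
          have h2 := (inferInstance : (Subgroup.center G).Normal).conj_mem _ hz' g
          refine Subgroup.center_le_centralizer _ ?_
          simpa [mul_assoc] using h2
      have heq : MulAut.conj g • B = CE c := by
        refine eq_of_index_le hsub ?_
        show _ ≤ cix c
        rw [hcm, ← M.hy]
        refine le_of_eq ?_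
        exact (Subgroup.index_map_equiv _ (MulAut.conj g : G ≃* G))
      have h1 : e ∈ CE c := mem_CE.2 hce.symm
      rw [← heq, Frob.mem_smul_conj_iff] at h1
      have h2 := hXB _ (by simpa using hXn.conj_mem e he g⁻¹) h1
      have h3 := (inferInstance : (Subgroup.center G).Normal).conj_mem _ h2 g
      simpa [mul_assoc] using h3
    suffices hcm : cix c = m from ⟨hcm, hfix hcm⟩
    have hmemφ : ∀ e ∈ X, c⁻¹ * e * c * e⁻¹ ∈ X := fun e he =>
      X.mul_mem (by simpa using hXn.conj_mem e he c⁻¹) (X.inv_mem he)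
    let φ : X →* X := MonoidHom.mk' (fun e => ⟨c⁻¹ * e * c * (e : G)⁻¹, hmemφ e e.2⟩) (by
      rintro ⟨u, hu⟩ ⟨v, hv⟩
      refine Subtype.ext ?_
      show c⁻¹ * (u * v) * c * (u * v)⁻¹ = c⁻¹ * u * c * u⁻¹ * (c⁻¹ * v * c * v⁻¹)
      have h2 : Commute u⁻¹ (c⁻¹ * v * c * v⁻¹) := (hXc u hu _ (hmemφ v hv)).inv_left
      calc c⁻¹ * (u * v) * c * (u * v)⁻¹
          = (c⁻¹ * u * c) * ((c⁻¹ * v * c * v⁻¹) * u⁻¹) := by group
        _ = (c⁻¹ * u * c) * (u⁻¹ * (c⁻¹ * v * c * v⁻¹)) := by rw [h2.eq]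
        _ = _ := by group)
    have hker : ∀ e : X, φ e = 1 ↔ Commute c (e : G) := fun e => by
      rw [Subtype.ext_iff]
      show c⁻¹ * (e : G) * c * (e : G)⁻¹ = 1 ↔ _
      rw [mul_inv_eq_one, mul_assoc, inv_mul_eq_iff_eq_mul]
      exact eq_comm
    have hzero : ∀ e : X, e ∈ φ.range → Commute c (e : G) → (e : G) = 1 := by
      rintro _ ⟨d, rfl⟩ hce
      set t : G := ((φ d : X) : G) with htdef
      have ht : t = c⁻¹ * (d : G) * c * (d : G)⁻¹ := rfl
      have h1 : c⁻¹ * (d : G) * c⁻¹⁻¹ = (d : G) * t := by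
        rw [(hXc (d : G) d.2 t (φ d).2).eq, ht]; group
      have h2 := Transfer.ClassDisconnected.conj_pow_formula h1 hce.symm.inv_right (r ^ k)
      rw [inv_pow, ← hk, pow_orderOf_eq_one, inv_one, one_mul, inv_one, mul_one, eq_comm,
        mul_eq_left, hk] at h2
      exact hro h2 (hXo t (φ d).2)
    obtain ⟨⟨⟨w', hw'⟩, ⟨w, hw⟩⟩, hxw⟩ := (show Function.Surjective
        fun p : φ.ker × φ.range => (p.1 : X) * (p.2 : X) from by
      refine ((Nat.bijective_iff_injective_and_card _).2 ⟨?_, ?_⟩).2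
      · rintro ⟨⟨a, ha⟩, ⟨b, hb⟩⟩ ⟨⟨a', ha'⟩, ⟨b', hb'⟩⟩ h
        have h' : a * b = a' * b' := h
        have h1 : a'⁻¹ * a = b' * b⁻¹ := by
          rw [eq_mul_inv_iff_mul_eq, mul_assoc, h', inv_mul_cancel_left]
        have h2 : a'⁻¹ * a = 1 := Subtype.ext (hzero _
          (h1 ▸ φ.range.mul_mem hb' (φ.range.inv_mem hb))
          ((hker _).1 (φ.ker.mul_mem (φ.ker.inv_mem ha') ha)))
        rw [inv_mul_eq_one] at h2
        subst h2
        have := mul_left_cancel h'
        subst this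
        rfl
      · rw [Nat.card_prod, φ.ker.card_eq_card_quotient_mul_card_subgroup,
          Nat.card_congr (QuotientGroup.quotientKerEquivRange φ).toEquiv, mul_comm])
      ⟨x₀, Subgroup.subset_normalClosure rfl⟩
    have hxw' : (w' : G) * (w : G) = x₀ := congrArg Subtype.val hxw
    have hcw' : Commute c (w' : G) := (hker w').1 (MonoidHom.mem_ker.1 hw')
    have hw1 : (w : G) ≠ 1 := by
      intro h1
      rw [h1, mul_one] at hxw'
      refine hcB fun b _ => ?_
      have hcx : c ∈ CE x := hx₀ ▸ mem_CE.2 (hxw' ▸ hcw')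
      exact mem_CE.2 (Subgroup.mem_center_iff.1 (hxy c hcx hc) b)
    set x' : G := (w' : G) with hx'
    set S := B ⊓ CE c ⊓ CE x' with hSdef
    set Z := Subgroup.center G with hZdef
    have hZS : Z ≤ S := le_inf (le_inf (Subgroup.center_le_centralizer _)
      (Subgroup.center_le_centralizer _)) (Subgroup.center_le_centralizer _)
    have hrng : ∀ β : G, Commute c β → ∀ h ∈ φ.range,
        (⟨β * (h : G) * β⁻¹, hXn.conj_mem _ h.2 β⟩ : X) ∈ φ.range := by
      rintro β hβ _ ⟨d, rfl⟩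
      refine ⟨⟨β * (d : G) * β⁻¹, hXn.conj_mem _ d.2 β⟩, Subtype.ext ?_⟩
      show c⁻¹ * (β * (d : G) * β⁻¹) * c * (β * (d : G) * β⁻¹)⁻¹ =
        β * (c⁻¹ * (d : G) * c * (d : G)⁻¹) * β⁻¹
      have h1 : c⁻¹ * β = β * c⁻¹ := hβ.inv_left.eq
      have h2 : β⁻¹ * c = c * β⁻¹ := hβ.symm.inv_left.eq
      calc c⁻¹ * (β * (d : G) * β⁻¹) * c * (β * (d : G) * β⁻¹)⁻¹
          = (c⁻¹ * β) * (d : G) * (β⁻¹ * c) * (β * (d : G) * β⁻¹)⁻¹ := by group
        _ = (β * c⁻¹) * (d : G) * (c * β⁻¹) * (β * (d : G) * β⁻¹)⁻¹ := by rw [h1, h2]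
        _ = _ := by group
    have hcount1 : Z.relIndex S < Nat.card φ.range := by
      have hmem : ∀ q : S ⧸ Z.subgroupOf S, ((q.out : S) : G) ∈ S := fun q => q.out.2
      let ψ : S ⧸ Z.subgroupOf S → φ.range := fun q =>
        ⟨_, hrng ((q.out : S) : G) (mem_CE.1 (hmem q).1.2).symm ⟨w, w.2⟩ hw⟩
      have hψ : ∀ q, ((ψ q : X) : G) = ((q.out : S) : G) * (w : G) * ((q.out : S) : G)⁻¹ :=
        fun q => rfl
      refine card_lt (f := ψ) ?_ fun hs => ?_
      · intro q q' h
        have h' := congrArg (fun z : φ.range => ((z : X) : G)) h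
        simp only [hψ] at h'
        set b := ((q.out : S) : G)
        set b' := ((q'.out : S) : G)
        have hc1 : Commute (b'⁻¹ * b) (w : G) :=
          calc b'⁻¹ * b * (w : G) = b'⁻¹ * (b * (w : G) * b⁻¹) * b := by group
            _ = b'⁻¹ * (b' * (w : G) * b'⁻¹) * b := by rw [h']
            _ = (w : G) * (b'⁻¹ * b) := by group
        have hbb : b'⁻¹ * b ∈ S := S.mul_mem (S.inv_mem (hmem q')) (hmem q)
        have hbx : b'⁻¹ * b ∈ CE x := hx₀ ▸ mem_CE.2 (hxw' ▸ (mem_CE.1 hbb.2).mul_right hc1)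
        rw [← Quotient.out_eq' q, ← Quotient.out_eq' q']
        exact (QuotientGroup.eq.2 (show (q'.out)⁻¹ * q.out ∈ Z.subgroupOf S from
          Subgroup.mem_subgroupOf.2 (hxy _ hbx hbb.1.1))).symm
      · obtain ⟨q, hq⟩ := hs 1
        have h' := congrArg (fun z : φ.range => ((z : X) : G)) hq
        simp only [hψ] at h'
        exact hw1 (conj_eq_one_iff.1 h')
    set g := x' * c with hgdef
    have hcount2 : S.relIndex B * Nat.card φ.range ≤ cix g := by
      have hhc : ∀ h : φ.range, g * ((h : X) : G) ∈ cl g := by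
        rintro ⟨h, ⟨d, rfl⟩⟩
        refine isConj_iff.2 ⟨(d : G), ?_⟩
        show (d : G) * (x' * c) * (d : G)⁻¹ = x' * c * (c⁻¹ * (d : G) * c * (d : G)⁻¹)
        rw [show (d : G) * (x' * c) = ((d : G) * x') * c by group,
          (hXc (d : G) d.2 x' w'.2).eq]
        group
      let Θ : (B ⧸ S.subgroupOf B) × φ.range → cl g := fun p =>
        ⟨((p.1.out : B) : G) * (g * ((p.2 : X) : G)) * ((p.1.out : B) : G)⁻¹,
          (hhc p.2).trans (isConj_iff.2 ⟨_, rfl⟩)⟩
      have hΘ : Function.Injective Θ := by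
        rintro ⟨q, h⟩ ⟨q', h'⟩ he
        have he' : ((q.out : B) : G) * (g * ((h : X) : G)) * ((q.out : B) : G)⁻¹ =
            ((q'.out : B) : G) * (g * ((h' : X) : G)) * ((q'.out : B) : G)⁻¹ :=
          congrArg Subtype.val he
        set β := ((q.out : B) : G)⁻¹ * ((q'.out : B) : G) with hβdef
        have hβB : β ∈ B := B.mul_mem (B.inv_mem q.out.2) q'.out.2
        have e1 : x' * c * ((h : X) : G) = β * (x' * c * ((h' : X) : G)) * β⁻¹ := by
          rw [← hgdef, hβdef]
          calc g * ((h : X) : G)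
              = ((q.out : B) : G)⁻¹ * (((q.out : B) : G) * (g * ((h : X) : G)) *
                  ((q.out : B) : G)⁻¹) * ((q.out : B) : G) := by group
            _ = _ := by rw [he']; group
        have hzX : c⁻¹ * (β * c * β⁻¹) ∈ X := by
          rw [← QuotientGroup.eq_one_iff]
          have e2 := congrArg (QuotientGroup.mk : G → G ⧸ X) e1
          simp only [QuotientGroup.mk_mul, QuotientGroup.mk_inv,
            (QuotientGroup.eq_one_iff _).2 w'.2, (QuotientGroup.eq_one_iff _).2 (h : X).2,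
            (QuotientGroup.eq_one_iff _).2 (h' : X).2, hx', one_mul, mul_one] at e2 ⊢
          rw [inv_mul_eq_one]
          exact e2
        have hzZ : c⁻¹ * (β * c * β⁻¹) ∈ Subgroup.center G :=
          hXB _ hzX (B.mul_mem (B.inv_mem hc) (B.mul_mem (B.mul_mem hβB hc) (B.inv_mem hβB)))
        have hβc : Commute c β := by
          set z := c⁻¹ * (β * c * β⁻¹) with hz
          have h1 : (β * c * β⁻¹) ^ r ^ k = (c * z) ^ r ^ k := by
            rw [hz]; congr 1; group
          rw [conj_pow, (comm_center hzZ c).mul_pow, ← hk,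
            pow_orderOf_eq_one, mul_one, mul_inv_cancel, one_mul, hk] at h1
          have h2 := hro h1.symm (hXo z hzX)
          rw [hz, inv_mul_eq_one] at h2
          exact (mul_inv_eq_iff_eq_mul.1 h2.symm).symm
        have h4 := hrng β hβc _ h'.2
        set a₁ : X := ⟨β * x' * β⁻¹, hXn.conj_mem _ w'.2 β⟩ with ha₁
        set b₁ : X := ⟨β * ((h' : X) : G) * β⁻¹, hXn.conj_mem _ (h' : X).2 β⟩ with hb₁
        have hca : Commute c (a₁ : G) :=
          ((hβc.mul_right hcw').mul_right hβc.inv_right)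
        have e3 : c * (x' * ((h : X) : G)) = c * ((a₁ : G) * (b₁ : G)) := by
          rw [← mul_assoc, hcw'.eq, e1]
          calc β * (x' * c * ((h' : X) : G)) * β⁻¹
              = β * (x' * c) * ((h' : X) : G) * β⁻¹ := by group
            _ = β * (c * x') * ((h' : X) : G) * β⁻¹ := by rw [← hcw'.eq]
            _ = (β * c) * (x' * ((h' : X) : G) * β⁻¹) := by group
            _ = (c * β) * (x' * ((h' : X) : G) * β⁻¹) := by rw [← hβc.eq]
            _ = _ := by rw [ha₁, hb₁]; group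
        have e4 : (w' : X) * (h : X) = a₁ * b₁ := Subtype.ext (mul_left_cancel e3)
        have e6 : a₁⁻¹ * w' = b₁ * (h : X)⁻¹ := by
          rw [eq_mul_inv_iff_mul_eq, mul_assoc, e4, inv_mul_cancel_left]
        have e5 : a₁⁻¹ * w' = 1 := Subtype.ext (hzero _
          (e6 ▸ φ.range.mul_mem h4 (φ.range.inv_mem h.2))
          (show Commute c ((a₁ : G)⁻¹ * x') from hca.inv_right.mul_right hcw'))
        rw [inv_mul_eq_one] at e5
        have hβx : β ∈ CE x' := mem_CE.2 (mul_inv_eq_iff_eq_mul.1 (congrArg Subtype.val e5))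
        have hqq : q = q' := by
          rw [← Quotient.out_eq' q, ← Quotient.out_eq' q']
          exact QuotientGroup.eq.2 (show (q.out)⁻¹ * q'.out ∈ S.subgroupOf B from
            Subgroup.mem_subgroupOf.2 ⟨⟨hβB, mem_CE.2 hβc.symm⟩, hβx⟩)
        subst hqq
        have : β = 1 := inv_mul_cancel _
        rw [this, one_mul, inv_one, mul_one] at e1
        exact Prod.ext rfl (Subtype.ext (Subtype.ext (mul_left_cancel e1)))
      have h1 := Nat.card_le_card_of_injective Θ hΘ
      rwa [Nat.card_prod, Nat.card_coe_set_eq, Transfer.ClassDisconnected.ncard_cl] at h1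
    have hgm : cix g = m := by
      refine le_antisymm (hH.top _) (not_lt.1 fun hlt => ?_)
      have h0 : 0 < S.relIndex B := relIndex_pos _ _
      have h1 : Z.relIndex S * S.relIndex B = Z.relIndex B :=
        Subgroup.relIndex_mul_relIndex _ _ _ hZS (inf_le_left.trans inf_le_left)
      have h2 : n ≤ Z.relIndex B := by
        rw [← hrelB]
        exact Nat.le_of_dvd (relIndex_pos _ _)
          (Subgroup.relIndex_dvd_of_le_left B (Subgroup.center_le_centralizer _))
      have h3 := hH.second g hlt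
      have h4 : Z.relIndex B < cix g := by
        rw [← h1]
        calc Z.relIndex S * S.relIndex B < Nat.card φ.range * S.relIndex B :=
              Nat.mul_lt_mul_of_pos_right hcount1 h0
          _ ≤ cix g := by rw [mul_comm]; exact hcount2
      omega
    obtain ⟨h1, h2⟩ := CE_mul_le hcw'.symm (show (orderOf x').Coprime (orderOf c) by
      rw [hk]
      refine (((M.prime.coprime_iff_not_dvd).2 fun hd => hx₀o ?_).pow_left _).symm
      exact hd.trans (orderOf_dvd_of_pow_eq_one (hXo x' w'.2)))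
    rw [← hgdef] at h1 h2
    have hxZ : x' ∈ Subgroup.center G := by
      obtain ⟨P, hP⟩ := Transfer.ClassDisconnected.exists_sylow_le_centralizer (r := r) (u := g)
        (show ¬ r ∣ cix g by rwa [hgm])
      obtain ⟨t, ht⟩ := MulAction.exists_smul_eq G P₀ P
      have hy₀ : y ∈ (P₀ : Subgroup G) := hRP y (mem_CE.2 (Commute.refl y)) M.pow
      have h3 : t * y * t⁻¹ ∈ (P : Subgroup G) := by
        rw [← ht]
        exact (Frob.mem_smul_conj_iff t _).2
          (show t⁻¹ * (t * y * t⁻¹) * t ∈ (P₀ : Subgroup G) by simpa [mul_assoc] using hy₀)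
      have h4 : t⁻¹ * x' * t ∈ B := mem_CE.2 (by
        have h5 := (Commute.conj_iff t⁻¹).2 (mem_CE.1 (h1 (hP h3))).symm
        rw [inv_inv, show t⁻¹ * (t * y * t⁻¹) * t = y by group] at h5
        exact h5)
      have h6 := hXB _ (by simpa using hXn.conj_mem x' w'.2 t⁻¹) h4
      have h7 := (inferInstance : (Subgroup.center G).Normal).conj_mem _ h6 t
      simpa [mul_assoc] using h7
    have hcg : CE c = CE g := le_antisymm (fun u hu => mem_CE.2
      ((comm_center hxZ u).mul_right (mem_CE.1 hu))) h2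
    show (CE c).index = m
    rw [hcg]
    exact hgm
  -- every `r`-element of `B` is central in `B`
  suffices hcent : ∀ c ∈ B, (∃ k, orderOf c = r ^ k) → B ≤ CE c by
    intro a ha b hb
    have h : ∀ a ∈ B, B ≤ CE a := fun a ha c hc => by
      have : a ∈ CE c := Transfer.ClassDisconnected.mem_of_primary _ fun j q k hq ho => by
        by_cases hqr : q = r
        · subst hqr
          exact mem_CE.2 (mem_CE.1 (hcent _ (Subgroup.pow_mem _ ha j) ⟨k, ho⟩ hc)).symm
        · refine Subgroup.center_le_centralizer _ (hA _ (Subgroup.pow_mem _ ha j) ?_)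
          rw [ho]
          exact fun hd => hqr ((Nat.prime_dvd_prime_iff_eq M.prime hq).1
            (M.prime.dvd_of_dvd_pow hd)).symm
      exact mem_CE.2 (mem_CE.1 this).symm
    exact (mem_CE.1 (h b hb ha)).eq
  have hstep : ∀ {q : G} {k : ℕ} {T : G → Prop}, orderOf q = r ^ k → ¬ T q → T 1 →
      ∃ i, ¬ T (q ^ r ^ i) ∧ T ((q ^ r ^ i) ^ r) := by
    intro q k T hk hq h1
    have hex : ∃ i, T (q ^ r ^ i) := ⟨k, by rwa [← hk, pow_orderOf_eq_one]⟩
    have h0 : Nat.find hex ≠ 0 := fun h => hq (by simpa [h] using Nat.find_spec hex)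
    obtain ⟨i, hi⟩ := Nat.exists_eq_succ_of_ne_zero h0
    exact ⟨i, Nat.find_min hex (by omega), by
      rw [← pow_mul, ← pow_succ, ← Nat.succ_eq_add_one, ← hi]; exact Nat.find_spec hex⟩
  have hpow : ∀ {q : G} {k : ℕ} (i : ℕ), orderOf q = r ^ k → ∃ k', orderOf (q ^ r ^ i) = r ^ k' := by
    intro q k i hk
    obtain ⟨k', -, h⟩ := (Nat.dvd_prime_pow M.prime).1 (hk ▸ orderOf_pow_dvd (r ^ i) :
      orderOf (q ^ r ^ i) ∣ r ^ k)
    exact ⟨k', h⟩
  intro c₁ hc₁ ⟨k₁, hk₁⟩
  by_contra hne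
  obtain ⟨i, hci, hcr⟩ := hstep (T := fun q => B ≤ CE q) hk₁ hne (fun b _ => mem_CE.2 (Commute.one_right b))
  set c := c₁ ^ r ^ i with hcdef
  have hcB : c ∈ B := Subgroup.pow_mem _ hc₁ _
  have hcrZ : c ^ r ∈ Subgroup.center G := by
    by_contra hnz
    have h1 := M.eq_of_central (Subgroup.pow_mem _ hcB r) hcr hnz
    have h2 : CE c ≤ B := by
      rw [hBdef, ← h1]
      exact Transfer.ClassDisconnected.centralizer_le_pow c r
    exact hci (eq_of_index_le h2 (le_of_eq ((key c hcB (hpow i hk₁) hci).1.trans M.hy.symm))).ge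
  have hyZ : y ∉ Subgroup.center G := fun h => by
    have := Transfer.ClassDisconnected.cix_eq_one.2 h
    have := M.hy
    have := hH.lt
    have := hH.one_lt
    omega
  obtain ⟨ky, hky⟩ := M.pow
  obtain ⟨j, hzj, hzr⟩ := hstep (T := fun q => q ∈ Subgroup.center G) hky hyZ (one_mem _)
  set z₀ := y ^ r ^ j with hz₀def
  have hz₀B : z₀ ∈ B := Subgroup.pow_mem _ (mem_CE.2 (Commute.refl y)) _
  have hz₀C : B ≤ CE z₀ := Transfer.ClassDisconnected.centralizer_le_pow y _
  have hz₀eq : CE z₀ = B := M.eq_of_central hz₀B hz₀C hzj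
  have hcz : Commute c z₀ := mem_CE.1 (hz₀C hcB)
  letI : CommGroup X := { (inferInstance : Group X) with
    mul_comm := fun a b => Subtype.ext (hXc a a.2 b b.2).eq }
  let A : MulAut X := MulAut.conjNormal c
  let Bz : MulAut X := MulAut.conjNormal z₀
  have happ : ∀ (u : G) (e : X), ((MulAut.conjNormal u e : X) : G) = u * e * u⁻¹ := fun u e => rfl
  have hone : ∀ u : G, u ∈ Subgroup.center G → (MulAut.conjNormal u : MulAut X) = 1 := fun u hu =>
    MulEquiv.ext fun e => Subtype.ext (by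
      rw [happ, ← Subgroup.mem_center_iff.1 hu, mul_inv_cancel_right, MulAut.one_apply])
  have hfixed : ∀ (u : G) (e : X), (MulAut.conjNormal u : MulAut X) e = e → Commute u (e : G) :=
    fun u e h => mul_inv_eq_iff_eq_mul.1 ((happ u e).symm.trans (congrArg Subtype.val h))
  have hxpow : x₀ ^ r ∈ Subgroup.center G := by
    have := pow_mem_of_fixed M.prime A Bz (hcz.map _) (by rw [← map_pow]; exact hone _ hcrZ)
      (by rw [← map_pow]; exact hone _ hzr) ((Subgroup.center G).subgroupOf X) (fun l e h => ?_)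
      (fun e h => ?_) (fun e he => ?_) (⟨x₀, Subgroup.subset_normalClosure rfl⟩ : X)
    · exact this
    · rw [← map_pow, ← map_mul] at h
      have hl : c * z₀ ^ l ∈ B := B.mul_mem hcB (B.pow_mem hz₀B l)
      have hlnc : ¬ B ≤ CE (c * z₀ ^ l) := fun hle => hci fun b hb => mem_CE.2 (by
        have h1 := (mem_CE.1 (hle hb)).mul_right ((mem_CE.1 (hz₀C hb)).pow_right l).inv_right
        rwa [mul_inv_cancel_right] at h1)
      obtain ⟨k', hk'⟩ := hpow i hk₁
      obtain ⟨k'', hk''⟩ := hpow j hky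
      have hord : ∃ s, orderOf (c * z₀ ^ l) = r ^ s := by
        have h1 : (c * z₀ ^ l) ^ (r ^ k' * r ^ k'') = 1 := by
          have e1 : c ^ r ^ k' = 1 := hk' ▸ pow_orderOf_eq_one c
          have e2 : z₀ ^ r ^ k'' = 1 := hk'' ▸ pow_orderOf_eq_one z₀
          rw [(hcz.pow_right l).mul_pow, pow_mul, e1, one_pow, one_mul, ← pow_mul,
            show l * (r ^ k' * r ^ k'') = r ^ k'' * (l * r ^ k') by ring, pow_mul, e2, one_pow]
        rw [← pow_add] at h1
        obtain ⟨s, -, hs⟩ := (Nat.dvd_prime_pow M.prime).1 (orderOf_dvd_of_pow_eq_one h1)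
        exact ⟨s, hs⟩
      exact (key _ hl hord hlnc).2 _ e.2 (hfixed _ e h)
    · exact hXB _ e.2 (hz₀eq ▸ mem_CE.2 (hfixed z₀ e h).symm)
    · exact Subtype.ext (by
        rw [happ, Subgroup.mem_center_iff.1 (Subgroup.mem_subgroupOf.1 he) c, mul_inv_cancel_right])
  have hxc : x₀ ∈ Subgroup.center G := by
    obtain ⟨l, hl⟩ := exists_pow_eq_self_of_coprime
      (show r.Coprime (orderOf x₀) from (M.prime.coprime_iff_not_dvd).2 hx₀o)
    exact hl ▸ Subgroup.pow_mem _ hxpow l
  have h1 := Transfer.ClassDisconnected.cix_eq_one.2 hxc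
  rw [show cix x₀ = cix x from congrArg Subgroup.index hx₀, hH.hx] at h1
  have := hH.one_lt
  omega

theorem Max.comm (M : Max m n x y r) : ∀ a ∈ CE y, ∀ b ∈ CE y, a * b = b * a := by
  by_cases hA : ∀ a ∈ CE y, ¬ r ∣ orderOf a → a ∈ Subgroup.center G
  · exact M.comm_of_central hA
  push Not at hA
  obtain ⟨a, ha, hao, hanc⟩ := hA
  have hCa := M.eq_of_central ha (M.central_rprime ha hao) hanc
  have h : ∀ b ∈ CE y, CE y ≤ CE b := by
    intro b hb c hc
    have : b ∈ CE c := Transfer.ClassDisconnected.mem_of_primary _ fun j q k hq ho => by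
      have hbj : b ^ j ∈ CE y := Subgroup.pow_mem _ hb j
      refine mem_CE.2 (mem_CE.1 ((?_ : CE y ≤ CE (b ^ j)) hc)).symm
      by_cases hqr : q = r
      · obtain ⟨h1, h2⟩ := CE_mul_le (mem_CE.1 (hCa.symm ▸ hbj)).symm
          (show (orderOf a).Coprime (orderOf (b ^ j)) by
            rw [ho, hqr]
            exact (((M.prime.coprime_iff_not_dvd).2 hao).pow_left _).symm)
        have he : CE (a * b ^ j) = CE a := eq_of_index_le h1 (by
          rw [hCa]
          exact le_of_le_of_eq (M.hyp.top _) M.hy.symm)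
        exact hCa ▸ (he ▸ h2)
      · refine M.central_rprime hbj ?_
        rw [ho]
        exact fun hd => hqr ((Nat.prime_dvd_prime_iff_eq M.prime hq).1
          (M.prime.dvd_of_dvd_pow hd)).symm
    exact mem_CE.2 (mem_CE.1 this).symm
  exact fun u hu v hv => (mem_CE.1 (h v hv hu)).eq

/-- The centralizer of an element of maximal class size. -/
theorem Hyp.maximal (H : Hyp m n x) {y : G} (hy : cix y = m) :
    (∀ a ∈ CE y, ∀ b ∈ CE y, a * b = b * a) ∧
      (∀ u ∈ CE y, u ∉ Subgroup.center G → CE u = CE y) ∧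
      (∀ u ∈ CE x, u ∈ CE y → u ∈ Subgroup.center G) := by
  obtain ⟨y₁, r, k, hr, ho, he⟩ := H.exists_primary hy
  have M : Max m n x y₁ r := ⟨H, (congrArg Subgroup.index he).trans hy, hr, k, ho⟩
  have hc := M.comm
  have h2 : ∀ u ∈ CE y, u ∉ Subgroup.center G → CE u = CE y := fun u hu hnc =>
    he ▸ M.eq_of_central (he.symm ▸ hu)
      (fun c hc' => mem_CE.2 (hc c hc' u (he.symm ▸ hu))) hnc
  refine ⟨fun a ha b hb => hc a (he.symm ▸ ha) b (he.symm ▸ hb), h2, fun u hux huy => ?_⟩
  by_contra hnc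
  have hxy : x ∈ CE y := h2 u huy hnc ▸ mem_CE.2 (mem_CE.1 hux).symm
  have hle : CE y ≤ CE x := fun c hc' =>
    mem_CE.2 (hc c (he.symm ▸ hc') x (he.symm ▸ hxy))
  exact H.not_dvd (H.hx ▸ hy ▸ cix_dvd_of_le hle)

/-- `G / Z(G)` is a Frobenius group with abelian kernel `C(x) / Z(G)`. -/
theorem Hyp.frobenius (H : Hyp m n x) {y : G} (hy : cix y = m) :
    (∀ a ∈ CE x, ∀ b ∈ CE x, a * b = b * a) ∧
      IsFrobeniusComplement ((CE y).map (QuotientGroup.mk' (Subgroup.center G))) ∧
      frobeniusKernel ((CE y).map (QuotientGroup.mk' (Subgroup.center G))) =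
        ((CE x).map (QuotientGroup.mk' (Subgroup.center G)) : Set (G ⧸ Subgroup.center G)) := by
  classical
  set Z := Subgroup.center G with hZdef
  set B := CE y with hBdef
  set K := CE x with hKdef
  obtain ⟨hBc, hBu, hKB⟩ := H.maximal hy
  have hZB : Z ≤ B := Subgroup.center_le_centralizer _
  have hZK : Z ≤ K := Subgroup.center_le_centralizer _
  have hcop : K.index.Coprime B.index := by
    show (cix x).Coprime (cix y); rw [H.hx, hy]; exact H.cop.symm
  have hKBeq : K ⊓ B = Z := le_antisymm (fun u hu => hKB u hu.1 hu.2) (le_inf hZK hZB)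
  have hidx : Z.index = n * m := by
    rw [← hKBeq, Grp.HallConv.index_inf_of_coprime hcop]
    show cix x * cix y = _
    rw [H.hx, hy]
  have hrelK : Z.relIndex K = m := by
    have h1 := Subgroup.relIndex_mul_index hZK
    rw [hidx, show K.index = n from H.hx, mul_comm n] at h1
    exact Nat.eq_of_mul_eq_mul_right (by have := H.one_lt; omega) h1
  have hrelB : Z.relIndex B = n := by
    have h1 := Subgroup.relIndex_mul_index hZB
    rw [hidx, show B.index = m from hy] at h1
    exact Nat.eq_of_mul_eq_mul_right (by have := H.lt; omega) h1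
  have hcm : ∀ c ∈ K, c ^ m ∈ Z := by
    intro c hc
    have := (Z.subgroupOf K).pow_index_mem ⟨c, hc⟩
    rw [Subgroup.mem_subgroupOf, SubgroupClass.coe_pow] at this
    rwa [← hrelK]
  have hvn : ∀ v ∈ B, v ^ n ∈ Z := by
    intro v hv
    have := (Z.subgroupOf B).pow_index_mem ⟨v, hv⟩
    rw [Subgroup.mem_subgroupOf, SubgroupClass.coe_pow] at this
    rwa [← hrelB]
  have hsmallK : ∀ c ∈ K, c ∉ Z → cix c ≤ n := fun c hc hcZ => H.second c (lt_of_le_of_ne
    (H.top _) fun he => hcZ ((H.maximal he).2.2 c hc (mem_CE.2 (Commute.refl c))))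
  -- the normalizer
  have hnorm : ∀ g : G, ∀ u ∈ B, u ∉ Z → g * u * g⁻¹ ∈ B → g ∈ B := by
    intro g u hu hunc hgu
    have hgunc : g * u * g⁻¹ ∉ Z := fun h => hunc (by
      simpa [mul_assoc] using (inferInstance : Z.Normal).conj_mem _ h g⁻¹)
    have hNg : ∀ v ∈ B, g * v * g⁻¹ ∈ B := by
      intro v hv
      rw [show B = CE (g * u * g⁻¹) from (hBu _ hgu hgunc).symm, mem_CE]
      exact (Commute.conj_iff g).2 (hBc v hv u hu)
    obtain ⟨c, hc, b, hb, rfl⟩ := Grp.HallConv.exists_mul_of_coprime (H := B) (K := K) hcop.symm g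
    have hNc : ∀ v ∈ B, c * v * c⁻¹ ∈ B := fun v hv => by
      have := hNg (b⁻¹ * v * b) (B.mul_mem (B.mul_mem (B.inv_mem hb) hv) hb)
      rwa [show c * b * (b⁻¹ * v * b) * (c * b)⁻¹ = c * v * c⁻¹ by group] at this
    refine B.mul_mem ?_ hb
    by_contra hcB
    have hcZ : c ∉ Z := fun h => hcB (hZB h)
    have hXK : ∀ g : G, g * x * g⁻¹ ∈ K := fun g => by
      rw [show g * x * g⁻¹ = x * (x⁻¹ * (g * x * g⁻¹)) by group]
      refine K.mul_mem (mem_CE.2 (Commute.refl x)) ((le_of_coprime_index ?_ : nc x ≤ K) (gen_mem x g))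
      show (Nat.card (nc x)).Coprime (cix x)
      rw [H.hx]
      exact H.cop.coprime_dvd_left (H.card_nc_x hy)
    have hone : ∀ z ∈ Z, ∀ v ∈ B, c * v * c⁻¹ = v * z → z = 1 := by
      intro z hz v hv he
      have hzv : Commute v z := Subgroup.mem_center_iff.1 hz v
      have hzc : Commute z c := (Subgroup.mem_center_iff.1 hz c).symm
      have h1 := congrArg (fun t => t ^ n) he
      simp only [conj_pow, hzv.mul_pow] at h1
      rw [Subgroup.mem_center_iff.1 (hvn v hv) c, mul_inv_cancel_right, eq_comm, mul_eq_left] at h1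
      have h2 := Transfer.ClassDisconnected.conj_pow_formula he hzc m
      rw [← Subgroup.mem_center_iff.1 (hcm c hc) v, mul_inv_cancel_right, eq_comm, mul_eq_left] at h2
      exact eq_one_of_pow h2 h1 H.cop
    by_cases hcX : ∀ g : G, Commute c (g * x * g⁻¹)
    · refine hcB (mem_CE.2 (?_ : Commute c y))
      have hy' : y ∈ B := mem_CE.2 (Commute.refl y)
      set y' := c * y * c⁻¹ with hy'def
      have hKy : y⁻¹ * y' ∈ K := by
        have e1 : y' * x * y'⁻¹ = y * x * y⁻¹ := by
          have hcx : c⁻¹ * x * c = x := by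
            rw [mul_assoc, ← (mem_CE.1 hc).eq, inv_mul_cancel_left]
          calc y' * x * y'⁻¹ = c * (y * (c⁻¹ * x * c) * y⁻¹) * c⁻¹ := by rw [hy'def]; group
            _ = c * (y * x * y⁻¹) * c⁻¹ := by rw [hcx]
            _ = _ := by rw [(hcX y).eq, mul_inv_cancel_right]
        refine mem_CE.2 ?_
        show y⁻¹ * y' * x = x * (y⁻¹ * y')
        calc y⁻¹ * y' * x = y⁻¹ * (y' * x * y'⁻¹) * y' := by group
          _ = y⁻¹ * (y * x * y⁻¹) * y' := by rw [e1]
          _ = x * (y⁻¹ * y') := by group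
      have hz := hKB _ hKy (B.mul_mem (B.inv_mem hy') (hNc y hy'))
      have h1 := hone _ hz y hy' (by rw [hy'def]; group)
      rw [inv_mul_eq_one] at h1
      exact mul_inv_eq_iff_eq_mul.1 (h1.symm.trans rfl)
    · push Not at hcX
      obtain ⟨g₀, hg₀⟩ := hcX
      set u₀ := g₀ * x * g₀⁻¹
      have hu₀K : u₀ ∈ K := hXK g₀
      have hBc' : ∀ v ∈ B, Commute v c → v ∈ Z := by
        intro v hv hvc
        by_contra hvnc
        exact hcB ((SetLike.ext_iff.1 (hBu v hv hvnc) c).1 (mem_CE.2 hvc.symm))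
      let ψ : B ⧸ Z.subgroupOf B → cl c := fun q =>
        ⟨((q.out : B) : G) * c * ((q.out : B) : G)⁻¹, isConj_iff.2 ⟨_, rfl⟩⟩
      have hψ : Function.Injective ψ := by
        intro q q' h
        have h' : ((q.out : B) : G) * c * ((q.out : B) : G)⁻¹ =
          ((q'.out : B) : G) * c * ((q'.out : B) : G)⁻¹ := congrArg Subtype.val h
        rw [← Quotient.out_eq' q, ← Quotient.out_eq' q']
        refine QuotientGroup.eq.2 (show (q.out)⁻¹ * q'.out ∈ Z.subgroupOf B from
          Subgroup.mem_subgroupOf.2 (hBc' _ (B.mul_mem (B.inv_mem q.out.2) q'.out.2) ?_))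
        show ((q.out : B) : G)⁻¹ * ((q'.out : B) : G) * c = c * (((q.out : B) : G)⁻¹ * ((q'.out : B) : G))
        calc _ = ((q.out : B) : G)⁻¹ * (((q'.out : B) : G) * c * ((q'.out : B) : G)⁻¹) *
              ((q'.out : B) : G) := by group
          _ = ((q.out : B) : G)⁻¹ * (((q.out : B) : G) * c * ((q.out : B) : G)⁻¹) *
              ((q'.out : B) : G) := by rw [h']
          _ = _ := by group
      have hns : ¬ Function.Surjective ψ := by
        intro hs
        obtain ⟨q, hq⟩ := hs ⟨u₀ * c * u₀⁻¹, isConj_iff.2 ⟨u₀, rfl⟩⟩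
        have h' : ((q.out : B) : G) * c * ((q.out : B) : G)⁻¹ = u₀ * c * u₀⁻¹ := congrArg Subtype.val hq
        set v := ((q.out : B) : G)
        set z := c * v⁻¹ * c⁻¹ * v with hzdef
        have hvB : v ∈ B := q.out.2
        have hzB : v * c * v⁻¹ * c⁻¹ ∈ B := by
          rw [show v * c * v⁻¹ * c⁻¹ = v * (c * v⁻¹ * c⁻¹) by group]
          exact B.mul_mem hvB (hNc _ (B.inv_mem hvB))
        have hzK : v * c * v⁻¹ * c⁻¹ ∈ K := by
          rw [h']
          exact K.mul_mem (K.mul_mem (K.mul_mem hu₀K hc) (K.inv_mem hu₀K)) (K.inv_mem hc)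
        have hz := hKB _ hzK hzB
        have h1 : c * v⁻¹ * c⁻¹ = v⁻¹ * (v * c * v⁻¹ * c⁻¹) := by group
        have h2 := hone _ hz v⁻¹ (B.inv_mem hvB) h1
        rw [h'] at h2
        refine hg₀ (show Commute c u₀ from ?_)
        rw [mul_inv_eq_one] at h2
        exact (mul_inv_eq_iff_eq_mul.1 h2).symm
      have h1 := card_lt hψ hns
      rw [Nat.card_coe_set_eq, Transfer.ClassDisconnected.ncard_cl] at h1
      have h2 : Nat.card (B ⧸ Z.subgroupOf B) = n := hrelB
      have h3 := hsmallK c hc hcZ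
      omega
  set f := QuotientGroup.mk' Z with hf
  have hfs : Function.Surjective f := QuotientGroup.mk'_surjective _
  have hmem : ∀ {S : Subgroup G}, Z ≤ S → ∀ g : G, f g ∈ S.map f ↔ g ∈ S := by
    intro S hS g
    rw [← Subgroup.mem_comap, Subgroup.comap_map_eq_self (by rw [hf, QuotientGroup.ker_mk']; exact hS)]
  have hf1 : ∀ g : G, f g = 1 ↔ g ∈ Z := fun g => QuotientGroup.eq_one_iff g
  have hyZ : y ∉ Z := fun h => by
    have := Transfer.ClassDisconnected.cix_eq_one.2 h
    have := H.lt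
    have := H.one_lt
    omega
  have hFC : IsFrobeniusComplement (B.map f) := by
    refine ⟨fun h => ?_, fun h => ?_, fun γ hγ => ?_⟩
    · exact hyZ ((hf1 y).1 (Subgroup.mem_bot.1 (h ▸ Subgroup.mem_map_of_mem f (mem_CE.2 (Commute.refl y)))))
    · have h1 : B = ⊤ := eq_top_iff.2 fun g _ => (hmem hZB g).1 (h ▸ Subgroup.mem_top _)
      have h2 : cix y = 1 := by show B.index = 1; rw [h1, Subgroup.index_top]
      have := H.lt
      have := H.one_lt
      omega
    · obtain ⟨g, rfl⟩ := hfs γ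
      refine eq_bot_iff.2 fun ω hω => ?_
      obtain ⟨hω1, hω2⟩ := hω
      replace hω2 := (Frob.mem_smul_conj_iff (f g) ω).1 hω2
      obtain ⟨w, rfl⟩ := hfs ω
      replace hω1 := (hmem hZB w).1 hω1
      rw [← map_inv, ← map_mul, ← map_mul, hmem hZB] at hω2
      rw [Subgroup.mem_bot, hf1]
      by_contra hwc
      refine hγ ((hmem hZB g).2 (hnorm g (g⁻¹ * w * g) hω2 (fun h => hwc ?_) ?_))
      · simpa [mul_assoc] using (inferInstance : Z.Normal).conj_mem _ h g
      · simpa [mul_assoc] using hω1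
  have hker : frobeniusKernel (B.map f) = ((K.map f : Subgroup _) : Set (G ⧸ Z)) := by
    refine (Set.eq_of_subset_of_ncard_le ?_ ?_ (Set.toFinite _)).symm
    · rintro _ ⟨k, hk, rfl⟩
      rw [Frob.mem_kernel_iff]
      refine or_iff_not_imp_left.2 fun hk1 γ hγ => hk1 ?_
      obtain ⟨g, rfl⟩ := hfs γ
      rw [← map_inv, ← map_mul, ← map_mul, hmem hZB] at hγ
      rw [hf1]
      refine (H.maximal ((cix_conj y g).trans hy)).2.2 k hk (mem_CE.2 ?_)
      have h1 := (Commute.conj_iff g).2 (mem_CE.1 hγ)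
      rwa [show g * (g⁻¹ * k * g) * g⁻¹ = k by group] at h1
    · rw [← Nat.card_coe_set_eq, ← Nat.card_coe_set_eq, Frob.card_kernel hFC,
        Subgroup.index_map_eq _ hfs (by rw [hf, QuotientGroup.ker_mk']; exact hZB)]
      show cix y ≤ Nat.card ↥(K.map f)
      rw [hy, ← hrelK, ← Subgroup.relIndex_ker, hf, QuotientGroup.ker_mk']
  refine ⟨?_, hFC, hker⟩
  have hCK : ∀ w ∈ K, w ∉ Z → CE w ≤ K := by
    intro w hw hwZ g hg
    by_contra hgK
    have hgker : f g ∉ frobeniusKernel (B.map f) := by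
      rw [hker]; exact fun h => hgK ((hmem hZK g).1 h)
    obtain ⟨hg1, γ, hγ⟩ := Frob.exists_conj_mem_of_notMem_kernel hgker
    obtain ⟨h, rfl⟩ := hfs γ
    rw [← map_inv, ← map_mul, ← map_mul, hmem hZB] at hγ
    have hgnc : h⁻¹ * g * h ∉ Z := fun hz => hg1 ((hf1 g).2 (by
      simpa [mul_assoc] using (inferInstance : Z.Normal).conj_mem _ hz h))
    have h1 : h⁻¹ * w * h ∈ B := by
      rw [show B = CE (h⁻¹ * g * h) from (hBu _ hγ hgnc).symm, mem_CE]
      have h2 := (Commute.conj_iff h⁻¹).2 (mem_CE.1 hg).symm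
      rwa [inv_inv] at h2
    refine hwZ ((H.maximal ((cix_conj y h).trans hy)).2.2 w hw (mem_CE.2 ?_))
    have h3 := (Commute.conj_iff h).2 (mem_CE.1 h1)
    rwa [show h * (h⁻¹ * w * h) * h⁻¹ = w by group] at h3
  intro a ha b hb
  by_cases haZ : a ∈ Z
  · exact (Subgroup.mem_center_iff.1 haZ b).symm
  · have he : CE a = K := eq_of_index_le (hCK a ha haZ) (by
      show cix a ≤ cix x
      rw [H.hx]
      exact hsmallK a ha haZ)
    rw [← he] at hb
    exact (mem_CE.1 hb).eq.symm

end Cfsg.Agent.Block.CoprimeClasses
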