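import Cfsg.Agent.Lib.Block.Height
import Cfsg.Agent.Lib.Char.Clifford
import Cfsg.Agent.Lib.Grp.Cores

/-!
Blocks covering an invariant block of a normal subgroup, and covering blocks of largest defect.
-/

open scoped ComplexConjugate

namespace Cfsg.Agent.Block

set_option linter.unusedSectionVars false
set_option linter.style.haveILetI false

universe u

variable {G : Type u} [Group G] [Finite G] {p : ℕ} {M : Ideal AlgInt}

/-- A set of characters of a normal subgroup stable under conjugation. -/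
def ConjStable (N : Subgroup G) [hN : N.Normal] (b : Set (IrrCharacter N)) : Prop :=
  ∀ g : G, ∀ θ ∈ b, ∀ θ' : IrrCharacter N,
    (∀ n : N, (θ' : N → ℂ) n = (θ : N → ℂ) ⟨g * n * g⁻¹, hN.conj_mem n n.2 g⟩) → θ' ∈ b

variable (N : Subgroup G) [hN : N.Normal]

/-- Conjugation as a permutation of the irreducible characters of a normal subgroup. -/
noncomputable def conjPerm (g : G) : IrrCharacter N ≃ IrrCharacter N where
  toFun θ := ⟨Char.conjN N g (θ : N → ℂ), Cfsg.Agent.Char.IsIrr.conjN N θ.2 g⟩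
  invFun θ := ⟨Char.conjN N g⁻¹ (θ : N → ℂ), Cfsg.Agent.Char.IsIrr.conjN N θ.2 g⁻¹⟩
  left_inv θ := Subtype.ext (Cfsg.Agent.Char.conjN_inv_cancel N g _)
  right_inv θ := Subtype.ext (Cfsg.Agent.Char.conjN_cancel_inv N g _)

theorem conjStable_iff {b : Set (IrrCharacter N)} (hb : ConjStable N b) (g : G) (θ : IrrCharacter N) :
    conjPerm N g θ ∈ b ↔ θ ∈ b := by
  refine ⟨fun h => hb g⁻¹ _ h θ fun n => ?_, fun h => hb g θ h _ fun _ => rfl⟩
  show (θ : N → ℂ) n = Char.conjN N g⁻¹ (Char.conjN N g (θ : N → ℂ)) n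
  rw [Cfsg.Agent.Char.conjN_inv_cancel]

/-- The coefficient function of the idempotent of `b`, extended by zero. -/
noncomputable def covCoeff (b : Set (IrrCharacter N)) (g : G) : ℂ :=
  open Classical in if h : g ∈ N then coeffFun (blockInd b) (⟨g, h⟩ : N) else 0

theorem covCoeff_coe (b : Set (IrrCharacter N)) (n : N) :
    covCoeff N b (n : G) = coeffFun (blockInd b) n := by
  rw [covCoeff, dif_pos n.2]

theorem covCoeff_of_notMem (b : Set (IrrCharacter N)) {g : G} (h : g ∉ N) : covCoeff N b g = 0 := by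
  rw [covCoeff, dif_neg h]

theorem covCoeff_classFun {b : Set (IrrCharacter N)} (hb : ConjStable N b) :
    IsClassFunction G (covCoeff N b) := by
  intro g x
  by_cases h : g ∈ N
  · have h' : x * g * x⁻¹ ∈ N := hN.conj_mem g h x
    rw [covCoeff, covCoeff, dif_pos h', dif_pos h]
    cases nonempty_fintype (IrrCharacter N)
    rw [coeffFun_eq_sum, coeffFun_eq_sum]
    congr 1
    refine Fintype.sum_equiv (conjPerm N x) _ _ fun θ => ?_
    have h1 : blockInd b (conjPerm N x θ) = blockInd b θ := by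
      by_cases hθ : θ ∈ b
      · rw [blockInd_of_mem hθ, blockInd_of_mem ((conjStable_iff N hb x θ).2 hθ)]
      · rw [blockInd_of_notMem hθ, blockInd_of_notMem fun hh => hθ ((conjStable_iff N hb x θ).1 hh)]
    rw [h1]
    congr 1
    · congr 1
      show (θ : N → ℂ) 1 = (θ : N → ℂ) _
      exact congrArg _ (Subtype.ext (by simp))
    · show (θ : N → ℂ) _ = (θ : N → ℂ) _
      refine congrArg _ (Subtype.ext ?_)
      show (x * g * x⁻¹)⁻¹ = x * g⁻¹ * x⁻¹
      group
  · rw [covCoeff_of_notMem N b h, covCoeff_of_notMem N b fun h' => h (by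
      simpa [mul_assoc] using hN.conj_mem _ h' x⁻¹)]

theorem exists_constituent_res [Fintype N] (χ : IrrCharacter G) :
    ∃ θ : IrrCharacter N, classInner (fun n : N => (χ : G → ℂ) n) (θ : N → ℂ) ≠ 0 := by
  by_contra h
  push Not at h
  refine irr_one_ne_zero χ ?_
  have h0 := Cfsg.Agent.Char.classFunction_ext (G := N) (f := fun n : N => (χ : G → ℂ) n) (g := 0)
    (Cfsg.Agent.Char.IsChar.classFun (Cfsg.Agent.Char.IsChar.res (irr_isChar χ) N)) (fun _ _ => rfl)
    (fun ψ hψ => by rw [h ⟨ψ, hψ⟩, Cfsg.Agent.Char.classInner_zero_left])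
  exact congrFun h0 1

/-- A central element supported in `N` acts on `χ` as on any constituent of the restriction. -/
theorem omegaFun_cover [Fintype G] [Fintype N] {a : G → ℂ} (ha : IsClassFunction G a)
    (hsupp : ∀ g, g ∉ N → a g = 0) (χ : IrrCharacter G) {θ : IrrCharacter N}
    (hc : classInner (fun n : N => (χ : G → ℂ) n) (θ : N → ℂ) ≠ 0) :
    omegaFun χ a = omegaFun θ (fun n : N => a n) := by
  classical
  have h1 : ∑ g : G, a g * (χ : G → ℂ) g = ∑ n : N, a n * (χ : G → ℂ) n := by
    rw [← Finset.sum_subtype (Finset.univ.filter (· ∈ N)) (fun g => by simp)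
      (fun g => a g * (χ : G → ℂ) g), Finset.sum_filter]
    refine Finset.sum_congr rfl fun g _ => ?_
    split_ifs with h
    · rfl
    · rw [hsupp g h, zero_mul]
  set e := classInner (fun n : N => (χ : G → ℂ) n) (θ : N → ℂ)
  set O := Cfsg.Agent.Char.conjOrbit N (θ : N → ℂ)
  have hval : ∀ n : N, (χ : G → ℂ) n = e * ∑ ψ ∈ O, ψ n := fun n => by
    have := congrFun (Cfsg.Agent.Char.clifford N χ.2 θ.2 hc) n
    simpa [Finset.sum_apply] using this
  have horb : ∀ ψ ∈ O, ψ 1 = (θ : N → ℂ) 1 ∧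
      ∑ n : N, a n * ψ n = ∑ n : N, a n * (θ : N → ℂ) n := by
    intro ψ hψ
    obtain ⟨x, rfl⟩ := (Cfsg.Agent.Char.mem_conjOrbit N).1 hψ
    refine ⟨congrArg (θ : N → ℂ) (Subtype.ext (by simp)), ?_⟩
    rw [Cfsg.Agent.Char.conjN_eq_comp]
    refine Fintype.sum_equiv (Cfsg.Agent.Char.conjEquivN N x).toEquiv _ _ fun n => ?_
    show a n * _ = a ((Cfsg.Agent.Char.conjEquivN N x n : N) : G) * _
    rw [Cfsg.Agent.Char.conjEquivN_apply, ha (n : G) x]
    rfl
  have hsum : ∑ n : N, a n * (χ : G → ℂ) n = e * ((O.card : ℂ) * ∑ n : N, a n * (θ : N → ℂ) n) := by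
    rw [Finset.sum_congr rfl fun (n : N) _ => (show a n * (χ : G → ℂ) n = e * ∑ ψ ∈ O, a n * ψ n by
      rw [hval, ← mul_assoc, mul_comm (a n) e, mul_assoc, Finset.mul_sum]),
      ← Finset.mul_sum, Finset.sum_comm, Finset.sum_congr rfl fun ψ hψ => (horb ψ hψ).2,
      Finset.sum_const, nsmul_eq_mul]
  have hone : (χ : G → ℂ) 1 = e * ((O.card : ℂ) * (θ : N → ℂ) 1) := by
    have := hval 1
    rw [Finset.sum_congr rfl fun ψ hψ => (horb ψ hψ).1, Finset.sum_const, nsmul_eq_mul] at this
    simpa using this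
  have hne : e * (O.card : ℂ) ≠ 0 := by
    intro h
    apply irr_one_ne_zero χ
    rw [hone, ← mul_assoc, h, zero_mul]
  rw [omegaFun, omegaFun, h1, hsum, hone, ← mul_assoc, ← mul_assoc,
    mul_div_mul_left _ _ hne]

/-- The central character values of the extended idempotent. -/
noncomputable def covInd [Fintype G] (b : Set (IrrCharacter N)) (χ : IrrCharacter G) : ℂ :=
  omegaFun χ (covCoeff N b)

theorem covInd_eq [Fintype G] [Fintype N] {b : Set (IrrCharacter N)} (hb : ConjStable N b)
    (χ : IrrCharacter G) {θ : IrrCharacter N}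
    (hc : classInner (fun n : N => (χ : G → ℂ) n) (θ : N → ℂ) ≠ 0) :
    covInd N b χ = blockInd b θ := by
  rw [covInd, omegaFun_cover N (covCoeff_classFun N hb) (fun g => covCoeff_of_notMem N b) χ hc,
    funext (covCoeff_coe N b), omegaFun_coeffFun]

theorem covInd_zero_or_one [Fintype G] [Fintype N] {b : Set (IrrCharacter N)} (hb : ConjStable N b)
    (χ : IrrCharacter G) : covInd N b χ = 0 ∨ covInd N b χ = 1 := by
  obtain ⟨θ, hθ⟩ := exists_constituent_res N χ
  rw [covInd_eq N hb χ hθ]
  by_cases h : θ ∈ b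
  · exact Or.inr (blockInd_of_mem h)
  · exact Or.inl (blockInd_of_notMem h)

theorem covInd_eq_one_iff [Fintype G] [Fintype N] {b : Set (IrrCharacter N)} (hb : ConjStable N b)
    (χ : IrrCharacter G) : covInd N b χ = 1 ↔
      ∃ θ ∈ b, classInner (fun n : N => (χ : G → ℂ) n) (θ : N → ℂ) ≠ 0 := by
  refine ⟨fun h => ?_, fun ⟨θ, hθb, hθ⟩ => by rw [covInd_eq N hb χ hθ, blockInd_of_mem hθb]⟩
  obtain ⟨θ, hθ⟩ := exists_constituent_res N χ
  refine ⟨θ, ?_, hθ⟩
  by_contra hb'
  rw [covInd_eq N hb χ hθ, blockInd_of_notMem hb'] at h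
  exact zero_ne_one h

theorem cenInt_covInd [Fintype G] (hM : IsPModular p M) {b : Set (IrrCharacter N)}
    (hbb : IsPBlock M b) (hb : ConjStable N b) : CenInt M (covInd N b) := by
  intro g
  rw [show covInd N b = fun χ => omegaFun χ (covCoeff N b) from rfl,
    coeffFun_omegaFun (covCoeff_classFun N hb)]
  by_cases h : g ∈ N
  · rw [covCoeff, dif_pos h]
    exact cenInt_blockInd hM hbb _
  · rw [covCoeff_of_notMem N b h]
    exact ring_zero hM

theorem covInd_congr [Fintype G] [Fintype N] (hM : IsPModular p M) {b : Set (IrrCharacter N)}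
    (hbb : IsPBlock M b) (hb : ConjStable N b) {χ ψ : IrrCharacter G}
    (h : SameBlock M (χ : G → ℂ) (ψ : G → ℂ)) : covInd N b χ = covInd N b ψ := by
  have hd := (cenInt_covInd N hM hbb hb).congr_block hM h
  rcases covInd_zero_or_one N hb χ with h1 | h1 <;> rcases covInd_zero_or_one N hb ψ with h2 | h2
  · rw [h1, h2]
  · rw [h1, h2, zero_sub] at hd
    exact absurd (by simpa using ideal_neg hd) (ideal_one hM)
  · rw [h1, h2, sub_zero] at hd
    exact absurd hd (ideal_one hM)
  · rw [h1, h2]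

/-- The coefficient of the idempotent of `b` is a sum of coefficients of covering blocks. -/
theorem exists_covering_block_unit [Fintype G] [Fintype N] (hM : IsPModular p M)
    {b : Set (IrrCharacter N)} (hbb : IsPBlock M b) (hb : ConjStable N b) {g : G}
    (hg : ¬ MemLocalIdeal M (covCoeff N b g)) :
    ∃ B : Set (IrrCharacter G), IsPBlock M B ∧ (∀ χ ∈ B, covInd N b χ = 1) ∧
      ¬ MemLocalIdeal M (blockCoeff B g) := by
  classical
  by_contra hno
  push Not at hno
  apply hg
  rw [← congrFun (coeffFun_omegaFun (covCoeff_classFun N hb)) g, coeffFun_eq_sum,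
    ← Finset.sum_fiberwise_of_maps_to (t := Finset.univ.image fun χ : IrrCharacter G =>
      blockOf M (χ : G → ℂ)) (g := fun χ : IrrCharacter G => blockOf M (χ : G → ℂ))
      (fun χ hχ => Finset.mem_image_of_mem _ hχ), Finset.mul_sum]
  refine ideal_sum hM fun B hB => ?_
  obtain ⟨χ₀, -, rfl⟩ := Finset.mem_image.1 hB
  have hfib : (Finset.univ.filter fun χ : IrrCharacter G =>
      blockOf M (χ : G → ℂ) = blockOf M (χ₀ : G → ℂ)) =
      Finset.univ.filter fun χ : IrrCharacter G => χ ∈ blockOf M (χ₀ : G → ℂ) := by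
    ext χ
    simp only [Finset.mem_filter, Finset.mem_univ, true_and]
    exact ⟨fun h => h ▸ mem_blockOf_self hM χ,
      fun h => (pblock_eq_blockOf hM (isPBlock_blockOf χ₀) h).symm⟩
  have hconst : ∀ χ ∈ blockOf M (χ₀ : G → ℂ), covInd N b χ = covInd N b χ₀ := fun χ hχ =>
    (covInd_congr N hM hbb hb hχ).symm
  rw [hfib, Finset.sum_congr rfl (fun χ hχ => by
    rw [show omegaFun χ (covCoeff N b) = covInd N b χ₀ from hconst χ (Finset.mem_filter.1 hχ).2,
      mul_assoc]), ← Finset.mul_sum, ← mul_assoc, mul_comm ((Nat.card G : ℂ)⁻¹) _, mul_assoc]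
  rcases covInd_zero_or_one N hb χ₀ with h | h
  · rw [h, zero_mul]; exact ideal_zero hM
  · rw [h, one_mul]
    refine (ideal_congr hM (y := blockCoeff (blockOf M (χ₀ : G → ℂ)) g) ?_).2
      (hno _ (isPBlock_blockOf χ₀) fun χ hχ => (hconst χ hχ).trans h)
    rw [blockCoeff, finsum_mem_block]
    simp only [irr_apply_inv]
    rw [sub_self]
    exact ideal_zero hM

theorem index_centralizer_conj (x g : G) :
    (Subgroup.centralizer ({x * g * x⁻¹} : Set G)).index =
      (Subgroup.centralizer ({g} : Set G)).index := by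
  have h1 := (Subgroup.centralizer ({x * g * x⁻¹} : Set G)).card_mul_index
  rw [card_centralizer_conj, ← (Subgroup.centralizer ({g} : Set G)).card_mul_index] at h1
  exact Nat.eq_of_mul_eq_mul_left Nat.card_pos h1

/-- On a class meeting `N`, the central character of a covering character is a multiple of that
of the constituent. -/
theorem centralChar_cover [Fintype G] [Fintype N] [Fintype (ConjClasses N)] [Fact p.Prime]
    (hM : IsPModular p M) {b : Set (IrrCharacter N)} (hbb : IsPBlock M b) (hb : ConjStable N b)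
    (g : N) :
    ∃ t : ℕ, (Subgroup.centralizer ({(g : G)} : Set G)).index =
        t * (Subgroup.centralizer ({g} : Set N)).index ∧
      ∀ (χ : IrrCharacter G), ∀ θ ∈ b,
        classInner (fun n : N => (χ : G → ℂ) n) (θ : N → ℂ) ≠ 0 →
        MemLocalIdeal M (centralChar (χ : G → ℂ) (g : G) - (t : ℂ) * centralChar (θ : N → ℂ) g) := by
  classical
  set S := Finset.univ.filter fun C : ConjClasses N => IsConj (g : G) (C.out : G) with hS
  have hcls : IsClassFunction N (fun n : N => classInd (g : G) (n : G)) := fun n m => by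
    show classInd (g : G) ((m * n * m⁻¹ : N) : G) = classInd (g : G) (n : G)
    exact classInd_classFun (g : G) (n : G) (m : G)
  have hconjidx : ∀ C ∈ S, ∃ x : G, x * (g : G) * x⁻¹ = (C.out : G) := fun C hC =>
    isConj_iff.1 (Finset.mem_filter.1 hC).2
  have hNidx : ∀ C ∈ S, (Subgroup.centralizer ({C.out} : Set N)).index =
      (Subgroup.centralizer ({g} : Set N)).index := fun C hC => by
    obtain ⟨x, hx⟩ := hconjidx C hC
    have hC' : C.out = Cfsg.Agent.Char.conjEquivN N x g := by
      rw [Cfsg.Agent.Char.conjEquivN_apply]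
      exact Subtype.ext hx.symm
    have h1 := (Subgroup.centralizer ({C.out} : Set N)).card_mul_index
    have h2 : Nat.card (Subgroup.centralizer ({C.out} : Set N)) =
        Nat.card (Subgroup.centralizer ({g} : Set N)) := by
      refine Nat.card_congr ((Cfsg.Agent.Char.conjEquivN N x).toEquiv.subtypeEquiv fun u => ?_).symm
      simp only [MulEquiv.toEquiv_eq_coe, MulEquiv.coe_toEquiv,
        Subgroup.mem_centralizer_singleton_iff, hC', ← map_mul]
      exact ((Cfsg.Agent.Char.conjEquivN N x).injective.eq_iff).symm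
    rw [h2, ← (Subgroup.centralizer ({g} : Set N)).card_mul_index] at h1
    exact Nat.eq_of_mul_eq_mul_left Nat.card_pos h1
  refine ⟨S.card, ?_, fun χ θ hθ hc => ?_⟩
  · have h := omegaFun_cover N (classInd_classFun (g : G)) (fun x hx => by
      rw [classInd, if_neg]
      exact fun hh => hx (by
        obtain ⟨y, rfl⟩ := isConj_iff.1 hh
        exact hN.conj_mem _ g.2 y)) (trivialIrr G) (θ := trivialIrr N) (by
      show classInner (fun _ : N => (1 : ℂ)) (fun _ => 1) ≠ 0
      rw [show classInner (fun _ : N => (1 : ℂ)) (fun _ => 1) = 1 from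
        Cfsg.Agent.Char.classInner_self_irr Cfsg.Agent.Char.isIrr_one]
      exact one_ne_zero)
    rw [omegaFun_classInd, omegaFun_eq_sum_classes _ hcls] at h
    simp only [classInd, ite_mul, one_mul, zero_mul] at h
    rw [← Finset.sum_filter] at h
    simp only [centralChar, trivialIrr, mul_one, div_one] at h
    rw [Finset.sum_congr rfl fun C hC => congrArg (Nat.cast (R := ℂ)) (hNidx C hC),
      Finset.sum_const, nsmul_eq_mul] at h
    exact_mod_cast h
  · have h := omegaFun_cover N (classInd_classFun (g : G)) (fun x hx => by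
      rw [classInd, if_neg]
      exact fun hh => hx (by
        obtain ⟨y, rfl⟩ := isConj_iff.1 hh
        exact hN.conj_mem _ g.2 y)) χ hc
    rw [omegaFun_classInd, omegaFun_eq_sum_classes _ hcls] at h
    simp only [classInd, ite_mul, one_mul, zero_mul] at h
    rw [← Finset.sum_filter] at h
    rw [h, show (S.card : ℂ) * centralChar (θ : N → ℂ) g = ∑ _C ∈ S, centralChar (θ : N → ℂ) g by
      rw [Finset.sum_const, nsmul_eq_mul], ← Finset.sum_sub_distrib]
    refine ideal_sum hM fun C hC => ?_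
    obtain ⟨x, hx⟩ := hconjidx C hC
    have hval : (θ : N → ℂ) C.out = ((conjPerm N x θ : IrrCharacter N) : N → ℂ) g := by
      show _ = (θ : N → ℂ) _
      exact congrArg _ (Subtype.ext hx.symm)
    have hone : ((conjPerm N x θ : IrrCharacter N) : N → ℂ) 1 = (θ : N → ℂ) 1 := by
      show (θ : N → ℂ) _ = _
      exact congrArg _ (Subtype.ext (by simp))
    have heq : centralChar (θ : N → ℂ) C.out =
        centralChar ((conjPerm N x θ : IrrCharacter N) : N → ℂ) g := by
      rw [centralChar, centralChar, hNidx C hC, hval, hone]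
    rw [heq]
    exact pblock_sameBlock hM hbb ((conjStable_iff N hb x θ).2 hθ) hθ g

/-- Covering blocks of largest defect. -/
theorem covering_max_defect [Fact p.Prime] [Fintype G] [Fintype N] (hM : IsPModular p M)
    {b : Set (IrrCharacter N)} (hbb : IsPBlock M b) (hb : ConjStable N b)
    {B : Set (IrrCharacter G)} (hB : IsPBlock M B)
    (hcov : ∃ χ ∈ B, ∃ θ ∈ b, classInner (fun n : N => (χ : G → ℂ) n) (θ : N → ℂ) ≠ 0)
    (hmax : ∀ B' : Set (IrrCharacter G), IsPBlock M B' →
      (∃ χ ∈ B', ∃ θ ∈ b, classInner (fun n : N => (χ : G → ℂ) n) (θ : N → ℂ) ≠ 0) →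
      blockDefect p B' ≤ blockDefect p B)
    {P : Subgroup G} (hP : IsDefectGroup p M B P) :
    ¬ p ∣ (P ⊔ N).index ∧ IsDefectGroup p M b ((P ⊓ N).subgroupOf N) ∧
      blockDefect p B = blockDefect p b + N.index.factorization p := by
  classical
  have hp : p.Prime := Fact.out
  cases nonempty_fintype (ConjClasses G)
  cases nonempty_fintype (ConjClasses N)
  obtain ⟨χ₁, hχ₁, θ₁, hθ₁, hc₁⟩ := hcov
  have hone : covInd N b χ₁ = 1 := (covInd_eq_one_iff N hb χ₁).2 ⟨θ₁, hθ₁, hc₁⟩
  have hca := covCoeff_classFun N hb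
  have hcaring : ∀ g, MemLocalRing M (covCoeff N b g) := fun g => by
    rw [← congrFun (coeffFun_omegaFun hca) g]
    exact cenInt_covInd N hM hbb hb g
  obtain ⟨D, hD1, hD2⟩ : ∃ D : ConjClasses G, ¬ MemLocalIdeal M (covCoeff N b D.out) ∧
      ¬ MemLocalIdeal M (centralChar (χ₁ : G → ℂ) D.out) := by
    by_contra h
    push Not at h
    refine ideal_one hM ?_
    rw [← hone, covInd, omegaFun_eq_sum_classes _ hca]
    refine ideal_sum hM fun C _ => ?_
    by_cases hC : MemLocalIdeal M (covCoeff N b C.out)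
    · exact ideal_mul_right hM hC (centralChar_ring hM _ _)
    · exact ideal_mul_left hM (hcaring _) (h C hC)
  obtain ⟨g₀, rfl⟩ : ∃ g₀, g₀ = D.out := ⟨_, rfl⟩
  -- a covering block with the defect class at this class
  obtain ⟨B₀, hB₀, hB₀cov, hB₀u⟩ := exists_covering_block_unit N hM hbb hb hD1
  -- central characters of covering characters
  have hωN : ∀ g : N, ¬ MemLocalIdeal M (centralChar (χ₁ : G → ℂ) (g : G)) →
      ∃ t : ℕ, ¬ p ∣ t ∧ (Subgroup.centralizer ({(g : G)} : Set G)).index =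
        t * (Subgroup.centralizer ({g} : Set N)).index ∧
      (∀ θ ∈ b, ¬ MemLocalIdeal M (centralChar (θ : N → ℂ) g)) ∧
      (∀ χ : IrrCharacter G, covInd N b χ = 1 → ¬ MemLocalIdeal M (centralChar (χ : G → ℂ) (g : G))) := by
    intro g hg
    obtain ⟨t, ht, hcong⟩ := centralChar_cover N hM hbb hb g
    have h1 : ¬ MemLocalIdeal M ((t : ℂ) * centralChar (θ₁ : N → ℂ) g) := fun h =>
      hg ((ideal_congr hM (hcong χ₁ θ₁ hθ₁ hc₁)).2 h)
    have htp : ¬ p ∣ t := fun h => h1 (ideal_mul_right hM ((ideal_natCast_iff hM t).2 h)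
      (centralChar_ring hM _ _))
    have hθu : ∀ θ ∈ b, ¬ MemLocalIdeal M (centralChar (θ : N → ℂ) g) := fun θ hθ h =>
      h1 (ideal_mul_left hM (ring_natCast hM t)
        ((ideal_congr hM (pblock_sameBlock hM hbb hθ₁ hθ g)).2 h))
    refine ⟨t, htp, ht, hθu, fun χ hχ h => ?_⟩
    obtain ⟨θ, hθ, hc⟩ := (covInd_eq_one_iff N hb χ).1 hχ
    have h2 : MemLocalIdeal M ((t : ℂ) * centralChar (θ : N → ℂ) g) :=
      (ideal_congr hM (hcong χ θ hθ hc)).1 h
    rcases ideal_or_of_mul hM (ring_natCast hM t) (centralChar_ring hM _ _) h2 with h3 | h3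
    · exact htp ((ideal_natCast_iff hM t).1 h3)
    · exact hθu θ hθ h3
  have hmem₀ : D.out ∈ N := by
    by_contra h
    exact hD1 (covCoeff_of_notMem N b h ▸ ideal_zero hM)
  obtain ⟨-, -, -, -, hωall⟩ := hωN ⟨D.out, hmem₀⟩ hD2
  have hclass₀ : IsDefectClass M B₀ D.out :=
    ⟨blockCoeff_ring hM hB₀ _, hB₀u, fun χ hχ => hωall χ (hB₀cov χ hχ)⟩
  have Q₀ : Sylow p (Subgroup.centralizer ({D.out} : Set G)) := Classical.arbitrary _
  have hQ₀ : IsDefectGroup p M B₀ (csyl Q₀) := ⟨D.out, hclass₀, Q₀, rfl⟩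
  obtain ⟨x, hx⟩ := exists_conj_le_centralizer_of_omega hM hB hP hχ₁ hD2 Q₀
  have hle0 : blockDefect p B₀ ≤ blockDefect p B := by
    obtain ⟨χ₀, hχ₀⟩ := pblock_nonempty hM hB₀
    obtain ⟨θ, hθ, hc⟩ := (covInd_eq_one_iff N hb χ₀).1 (hB₀cov χ₀ hχ₀)
    exact hmax B₀ hB₀ ⟨χ₀, hχ₀, θ, hθ, hc⟩
  have heq : P.map (MulAut.conj x).toMonoidHom = csyl Q₀ := by
    refine Subgroup.eq_of_le_of_card_ge hx ?_
    rw [card_map_conj, card_defectGroup hM hB hP, card_defectGroup hM hB₀ hQ₀]
    exact Nat.pow_le_pow_right hp.pos hle0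
  -- move to the conjugate with `P` a Sylow subgroup of the centralizer
  set g' : G := x⁻¹ * D.out * x with hg'
  have hgN : g' ∈ N := by simpa [hg'] using hN.conj_mem _ hmem₀ x⁻¹
  have hconj : IsConj D.out g' := isConj_iff.2 ⟨x⁻¹, by rw [hg']; group⟩
  have hD1' : ¬ MemLocalIdeal M (covCoeff N b g') := by
    rwa [← Cfsg.Agent.Char.IsClass.eq_of_isConj hca hconj]
  have hD2' : ¬ MemLocalIdeal M (centralChar (χ₁ : G → ℂ) g') := by
    rwa [← centralChar_conj χ₁ hconj]
  obtain ⟨t, htp, htidx, hθu, -⟩ := hωN ⟨g', hgN⟩ hD2'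
  set g : N := ⟨g', hgN⟩
  have hclassN : IsDefectClass M b g := ⟨blockCoeff_ring hM hbb g, by
    rw [blockCoeff_eq, ← covCoeff_coe N b g]; exact hD1', hθu⟩
  set H := Subgroup.centralizer ({(g : G)} : Set G) with hH
  have hPH : P ≤ H := by
    intro u hu
    have h1 : x * u * x⁻¹ ∈ Subgroup.centralizer ({D.out} : Set G) :=
      csyl_le Q₀ (heq ▸ ⟨u, hu, rfl⟩)
    have h2 := Subgroup.mem_centralizer_singleton_iff.1 h1
    rw [hH, Subgroup.mem_centralizer_singleton_iff]
    show u * g' = g' * u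
    rw [hg']
    calc u * (x⁻¹ * D.out * x) = x⁻¹ * (x * u * x⁻¹ * D.out) * x := by group
      _ = x⁻¹ * (D.out * (x * u * x⁻¹)) * x := by rw [h2]
      _ = _ := by group
  have hcardH : Nat.card H = Nat.card (Subgroup.centralizer ({D.out} : Set G)) := by
    have := card_centralizer_conj x⁻¹ D.out
    rw [inv_inv] at this
    exact this
  have hPp : IsPGroup p P := IsDefectGroup.isPGroup hP
  have hPcard : Nat.card P = p ^ (Nat.card H).factorization p := by
    rw [← card_map_conj x P, heq, card_csyl, hcardH]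
  obtain ⟨Q, hQ⟩ := exists_csyl_ge hPp hPH
  have hPQ : csyl Q = P := by
    refine (Subgroup.eq_of_le_of_card_ge hQ ?_).symm
    rw [card_csyl, hPcard]
  -- the trace on `N`
  set K : Subgroup H := N.subgroupOf H with hK
  have hKcard : Nat.card K = Nat.card (Subgroup.centralizer ({g} : Set N)) := by
    refine Nat.card_congr (Equiv.ofBijective (fun u => ⟨⟨((u : H) : G), u.2⟩,
      Subgroup.mem_centralizer_singleton_iff.2 (Subtype.ext
        (Subgroup.mem_centralizer_singleton_iff.1 (u : H).2))⟩) ⟨?_, ?_⟩)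
    · intro u v h
      exact Subtype.ext (Subtype.ext (congrArg (fun w => ((w : N) : G))
        (congrArg Subtype.val h)))
    · rintro ⟨⟨u, hu⟩, huc⟩
      exact ⟨⟨⟨u, Subgroup.mem_centralizer_singleton_iff.2
        (congrArg Subtype.val (Subgroup.mem_centralizer_singleton_iff.1 huc))⟩, hu⟩, rfl⟩
  have hPN : Nat.card ↥(P ⊓ N) = p ^ (Nat.card (Subgroup.centralizer ({g} : Set N))).factorization p := by
    have hmap : ((Q : Subgroup H) ⊓ K).map H.subtype = P ⊓ N := by
      ext u
      constructor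
      · rintro ⟨v, hv, rfl⟩
        exact ⟨hPQ ▸ ⟨v, hv.1, rfl⟩, hv.2⟩
      · rintro ⟨hu, huN⟩
        rw [← hPQ] at hu
        obtain ⟨v, hv, rfl⟩ := hu
        exact ⟨v, ⟨hv, huN⟩, rfl⟩
    rw [← hmap, Subgroup.card_map_of_injective H.subtype_injective, ← hKcard]
    have hnd := Cfsg.Agent.Grp.sylow_inf_normal_relIndex Q K
    have hmul : Nat.card ↥((Q : Subgroup H) ⊓ K) * (Q : Subgroup H).relIndex K = Nat.card K := by
      have := Cfsg.Agent.Grp.relIndex_mul_card_inf K (Q : Subgroup H)
      rw [inf_comm] at this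
      exact this
    obtain ⟨k, hk⟩ := IsPGroup.iff_card.1
      ((Q.isPGroup').to_le (inf_le_left : (Q : Subgroup H) ⊓ K ≤ (Q : Subgroup H)))
    rw [hk]
    congr 1
    have hri : (Q : Subgroup H).relIndex K ≠ 0 := fun h => hnd (h ▸ dvd_zero p)
    rw [← hmul, hk, Nat.factorization_mul (pow_ne_zero _ hp.ne_zero) hri, Finsupp.add_apply,
      Nat.factorization_eq_zero_of_not_dvd hnd, add_zero, Nat.Prime.factorization_pow hp,
      Finsupp.single_eq_same]
  have hDgN : IsDefectGroup p M b ((P ⊓ N).subgroupOf N) := by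
    have hle : (P ⊓ N).subgroupOf N ≤ Subgroup.centralizer ({g} : Set N) := fun u hu =>
      Subgroup.mem_centralizer_singleton_iff.2 (Subtype.ext
        (Subgroup.mem_centralizer_singleton_iff.1 (hPH hu.1)))
    have hpg : IsPGroup p ((P ⊓ N).subgroupOf N) :=
      (hPp.to_le inf_le_left).of_equiv (Subgroup.subgroupOfEquivOfLe inf_le_right).symm
    obtain ⟨S, hS⟩ := exists_csyl_ge hpg hle
    refine ⟨g, hclassN, S, Subgroup.eq_of_le_of_card_ge hS ?_⟩
    rw [card_csyl, Nat.card_congr (Subgroup.subgroupOfEquivOfLe (inf_le_right : P ⊓ N ≤ N)).toEquiv,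
      hPN]
  have hb' := card_defectGroup hM hbb hDgN
  rw [Nat.card_congr (Subgroup.subgroupOfEquivOfLe (inf_le_right : P ⊓ N ≤ N)).toEquiv, hPN] at hb'
  have hdb : blockDefect p b = (Nat.card (Subgroup.centralizer ({g} : Set N))).factorization p :=
    (Nat.pow_right_injective hp.two_le hb').symm
  have hdB : blockDefect p B = (Nat.card H).factorization p :=
    (Nat.pow_right_injective hp.two_le ((hPcard).symm.trans (card_defectGroup hM hB hP))).symm
  -- the arithmetic
  have e1 := congrArg (fun n => n.factorization p) (H.card_mul_index)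
  have e2 := congrArg (fun n => n.factorization p) ((Subgroup.centralizer ({g} : Set N)).card_mul_index)
  have e3 := congrArg (fun n => n.factorization p) (N.card_mul_index)
  have ht0 : t ≠ 0 := fun h => htp (h ▸ dvd_zero p)
  rw [show H.index = t * (Subgroup.centralizer ({g} : Set N)).index from htidx] at e1
  simp only [Nat.factorization_mul Nat.card_pos.ne'
      (mul_ne_zero ht0 Subgroup.index_ne_zero_of_finite),
    Nat.factorization_mul ht0 Subgroup.index_ne_zero_of_finite,
    Nat.factorization_mul Nat.card_pos.ne' Subgroup.index_ne_zero_of_finite, Finsupp.add_apply,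
    Nat.factorization_eq_zero_of_not_dvd htp, zero_add] at e1 e2 e3
  have hdeq : blockDefect p B = blockDefect p b + N.index.factorization p := by
    omega
  refine ⟨fun hdvd => ?_, hDgN, hdeq⟩
  have h5 := Cfsg.Agent.Grp.card_sup_mul_card_inf_normal (H := P) (N := N)
  have e5 := congrArg (fun n => n.factorization p) h5
  have e6 := congrArg (fun n => n.factorization p) ((P ⊔ N).card_mul_index)
  simp only [hPcard, hPN, Nat.factorization_mul Nat.card_pos.ne' (pow_ne_zero _ hp.ne_zero),
    Nat.factorization_mul (pow_ne_zero _ hp.ne_zero) Nat.card_pos.ne',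
    Nat.factorization_mul Nat.card_pos.ne' Subgroup.index_ne_zero_of_finite, Finsupp.add_apply,
    Nat.Prime.factorization_pow hp, Finsupp.single_eq_same] at e5 e6
  have := hp.factorization_pos_of_dvd Subgroup.index_ne_zero_of_finite hdvd
  omega

end Cfsg.Agent.Block
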