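import Cfsg.Agent.Lib.Block.Covering
import Cfsg.Agent.Lib.Block.Principal
import Cfsg.Agent.Lib.Char.Quotient

/-!
Elementary facts on blocks covering blocks of normal subgroups.
-/

open scoped ComplexConjugate

namespace Cfsg.Agent.Block

set_option linter.unusedSectionVars false
set_option linter.style.haveILetI false

universe u

variable {G : Type u} [Group G] [Finite G] {p : ℕ} {M : Ideal AlgInt}

/-- The union of the conjugates of a set of characters of a normal subgroup. -/
def conjUnion (N : Subgroup G) [N.Normal] (b : Set (IrrCharacter N)) : Set (IrrCharacter N) :=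
  {ψ | ∃ g : G, conjPerm N g ψ ∈ b}

variable (N : Subgroup G) [hN : N.Normal]

theorem conjPerm_mul (x y : G) (θ : IrrCharacter N) :
    conjPerm N y (conjPerm N x θ) = conjPerm N (x * y) θ :=
  Subtype.ext (Cfsg.Agent.Char.conjN_mul N x y _).symm

theorem conjPerm_one (θ : IrrCharacter N) : conjPerm N 1 θ = θ :=
  Subtype.ext (Cfsg.Agent.Char.conjN_one N _)

theorem subset_conjUnion (b : Set (IrrCharacter N)) : b ⊆ conjUnion N b :=
  fun θ h => ⟨1, by rwa [conjPerm_one]⟩

theorem conjStable_conjUnion (b : Set (IrrCharacter N)) : ConjStable N (conjUnion N b) := by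
  intro g θ ⟨x, hx⟩ θ' h
  have hθ' : θ' = conjPerm N g θ := Subtype.ext (funext h)
  refine ⟨g⁻¹ * x, ?_⟩
  rw [hθ', conjPerm_mul, mul_inv_cancel_left]
  exact hx

theorem omegaFun_sum_classes_classInd [Fintype G] [Fintype N] [Fintype (ConjClasses G)]
    {a : G → ℂ} (ha : IsClassFunction G a) (θ : IrrCharacter N) :
    omegaFun θ (fun n : N => a n) =
      ∑ C : ConjClasses G, a C.out * omegaFun θ (fun n : N => classInd C.out (n : G)) := by
  classical
  have h : ∀ n : N, a n = ∑ C : ConjClasses G, a C.out * classInd C.out (n : G) := by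
    intro n
    have hmk : ∀ D : ConjClasses G, ConjClasses.mk D.out = D := fun D => Quotient.out_eq D
    rw [Finset.sum_eq_single (ConjClasses.mk (n : G))]
    · have hc : IsConj (ConjClasses.mk (n : G)).out (n : G) :=
        ConjClasses.mk_eq_mk_iff_isConj.1 (hmk _)
      rw [classInd, if_pos hc, mul_one, Cfsg.Agent.Char.IsClass.eq_of_isConj ha hc]
    · intro C _ hC
      rw [classInd, if_neg, mul_zero]
      exact fun hc => hC (by rw [← hmk C]; exact ConjClasses.mk_eq_mk_iff_isConj.2 hc)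
    · exact fun h => absurd (Finset.mem_univ _) h
  simp only [omegaFun]
  rw [Finset.sum_congr rfl fun (n : N) _ => by rw [h n, Finset.sum_mul]]
  rw [Finset.sum_comm, Finset.sum_div]
  refine Finset.sum_congr rfl fun C _ => ?_
  rw [← mul_div_assoc, Finset.mul_sum]
  exact congrArg (· / _) (Finset.sum_congr rfl fun n _ => by ring)

theorem inducedCentralChar_eq_omegaFun [Fintype N] (θ : IrrCharacter N) (g : G) :
    inducedCentralChar N (θ : N → ℂ) g = omegaFun θ (fun m : N => classInd g (m : G)) := by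
  classical
  rw [inducedCentralChar, finsum_mem_eq_sum_of_inter_support_eq _
    (t := Finset.univ.filter fun m : N => IsConj g (m : G)) (by ext; simp), omegaFun]
  simp only [classInd, ite_mul, one_mul, zero_mul]
  rw [← Finset.sum_filter, Finset.sum_div]

theorem classInd_support {g : G} (hg : g ∈ N) {x : G} (hx : x ∉ N) : classInd g x = 0 := by
  rw [classInd, if_neg]
  exact fun hh => hx (by obtain ⟨y, rfl⟩ := isConj_iff.1 hh; exact hN.conj_mem _ hg y)

theorem classInd_of_notMem {g : G} (hg : g ∉ N) (m : N) : classInd g (m : G) = 0 := by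
  rw [classInd, if_neg]
  exact fun hh => hg (by obtain ⟨y, hy⟩ := isConj_iff.1 hh.symm; rw [← hy]; exact hN.conj_mem _ m.2 y)

theorem centralChar_eq_induced [Fintype G] [Fintype N] {χ : IrrCharacter G} {θ : IrrCharacter N}
    (hc : classInner (fun n : N => (χ : G → ℂ) n) (θ : N → ℂ) ≠ 0) {g : G} (hg : g ∈ N) :
    centralChar (χ : G → ℂ) g = inducedCentralChar N (θ : N → ℂ) g := by
  rw [inducedCentralChar_eq_omegaFun, ← omegaFun_classInd g χ,
    omegaFun_cover N (classInd_classFun g) (fun x hx => classInd_support N hg hx) χ hc]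

theorem constituent_of_conj [Fintype G] [Fintype N] {χ : IrrCharacter G} {θ : IrrCharacter N} (g : G)
    (hc : classInner (fun n : N => (χ : G → ℂ) n) (θ : N → ℂ) ≠ 0) :
    classInner (fun n : N => (χ : G → ℂ) n) ((conjPerm N g θ : IrrCharacter N) : N → ℂ) ≠ 0 := by
  show classInner _ (Char.conjN N g (θ : N → ℂ)) ≠ 0
  rwa [Cfsg.Agent.Char.classInner_res_conjN N (irr_classFun χ)]

theorem covCoeff_sum_eq_one [Fintype G] [Fintype N] [Fintype (ConjClasses G)]
    {b : Set (IrrCharacter N)} (hb : ConjStable N b) {θ : IrrCharacter N} (hθ : θ ∈ b) :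
    ∑ C : ConjClasses G, covCoeff N b C.out * inducedCentralChar N (θ : N → ℂ) C.out = 1 := by
  simp only [inducedCentralChar_eq_omegaFun]
  rw [← omegaFun_sum_classes_classInd N (covCoeff_classFun N hb), funext (covCoeff_coe N b),
    omegaFun_coeffFun, blockInd_of_mem hθ]

theorem constituent_iff [Fintype G] [Fintype N] (χ : IrrCharacter G) (θ : IrrCharacter N) :
    classInner (fun n : N => (χ : G → ℂ) n) (θ : N → ℂ) ≠ 0 ↔
      ∀ n : N, centralChar (χ : G → ℂ) (n : G) = inducedCentralChar N (θ : N → ℂ) (n : G) := by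
  classical
  refine ⟨fun h n => centralChar_eq_induced N h n.2, fun h => ?_⟩
  cases nonempty_fintype (ConjClasses G)
  set b := conjUnion N ({θ} : Set (IrrCharacter N))
  have hst : ConjStable N b := conjStable_conjUnion N _
  have h1 : covInd N b χ = 1 := by
    rw [covInd, omegaFun_eq_sum_classes _ (covCoeff_classFun N hst),
      ← covCoeff_sum_eq_one N hst (subset_conjUnion N _ rfl)]
    refine Finset.sum_congr rfl fun C _ => ?_
    by_cases hC : C.out ∈ N
    · rw [show centralChar (χ : G → ℂ) C.out = _ from h ⟨_, hC⟩]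
    · rw [covCoeff_of_notMem N b hC, zero_mul, zero_mul]
  obtain ⟨ψ, ⟨g, hg⟩, hc⟩ := (covInd_eq_one_iff N hst χ).1 h1
  rw [Set.mem_singleton_iff] at hg
  rw [← hg]
  exact constituent_of_conj N g hc

theorem centralChar_conjPerm (g : G) (θ : IrrCharacter N) (n : N) :
    centralChar ((conjPerm N g θ : IrrCharacter N) : N → ℂ) n =
      centralChar (θ : N → ℂ) (Cfsg.Agent.Char.conjEquivN N g n) := by
  have h0 : Nat.card (Subgroup.centralizer ({n} : Set N)) =
      Nat.card (Subgroup.centralizer ({Cfsg.Agent.Char.conjEquivN N g n} : Set N)) := by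
    refine Nat.card_congr ((Cfsg.Agent.Char.conjEquivN N g).toEquiv.subtypeEquiv fun u => ?_)
    simp only [MulEquiv.toEquiv_eq_coe, MulEquiv.coe_toEquiv,
      Subgroup.mem_centralizer_singleton_iff, ← map_mul]
    exact ((Cfsg.Agent.Char.conjEquivN N g).injective.eq_iff).symm
  have h1 : (Subgroup.centralizer ({n} : Set N)).index =
      (Subgroup.centralizer ({Cfsg.Agent.Char.conjEquivN N g n} : Set N)).index := by
    have := (Subgroup.centralizer ({n} : Set N)).card_mul_index
    rw [h0, ← (Subgroup.centralizer ({Cfsg.Agent.Char.conjEquivN N g n} : Set N)).card_mul_index] at this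
    exact Nat.eq_of_mul_eq_mul_left Nat.card_pos this
  have hv : ∀ m : N, ((conjPerm N g θ : IrrCharacter N) : N → ℂ) m =
      (θ : N → ℂ) (Cfsg.Agent.Char.conjEquivN N g m) := fun m => by
    rw [Cfsg.Agent.Char.conjEquivN_apply]; rfl
  rw [centralChar, centralChar, hv, hv, map_one, h1]

theorem sameBlock_conjPerm (g : G) {θ η : IrrCharacter N}
    (h : SameBlock M (θ : N → ℂ) (η : N → ℂ)) :
    SameBlock M ((conjPerm N g θ : IrrCharacter N) : N → ℂ)
      ((conjPerm N g η : IrrCharacter N) : N → ℂ) := fun n => by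
  rw [centralChar_conjPerm, centralChar_conjPerm]
  exact h _

theorem cenInt_union (hM : IsPModular p M) {S : Set (IrrCharacter G)}
    (hS : ∀ χ ∈ S, ∀ ψ : IrrCharacter G, SameBlock M (χ : G → ℂ) (ψ : G → ℂ) → ψ ∈ S) :
    CenInt M (blockInd S) := by
  classical
  haveI := Fintype.ofFinite (IrrCharacter G)
  set T := (Finset.univ.filter (· ∈ S)).image fun χ : IrrCharacter G => blockOf M (χ : G → ℂ)
  have hsum : blockInd S = ∑ B ∈ T, blockInd B := by
    funext χ
    rw [Finset.sum_apply]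
    by_cases hχ : χ ∈ S
    · rw [blockInd_of_mem hχ, Finset.sum_eq_single (blockOf M (χ : G → ℂ)),
        blockInd_of_mem (mem_blockOf_self hM χ)]
      · intro B hB hne
        obtain ⟨χ₀, -, rfl⟩ := Finset.mem_image.1 hB
        exact blockInd_of_notMem fun h => hne (blockOf_eq hM h)
      · exact fun h => absurd
          (Finset.mem_image_of_mem _ (Finset.mem_filter.2 ⟨Finset.mem_univ _, hχ⟩)) h
    · rw [blockInd_of_notMem hχ, Finset.sum_eq_zero fun B hB => ?_]
      obtain ⟨χ₀, hχ₀, rfl⟩ := Finset.mem_image.1 hB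
      exact blockInd_of_notMem fun h => hχ (hS χ₀ (Finset.mem_filter.1 hχ₀).2 χ h)
  rw [hsum]
  refine Finset.sum_induction _ (CenInt M) (fun _ _ => CenInt.add hM) ?_ fun B hB => ?_
  · intro g
    simp [coeffFun_eq_sum, ring_zero hM]
  · obtain ⟨χ₀, -, rfl⟩ := Finset.mem_image.1 hB
    exact cenInt_blockInd hM (isPBlock_blockOf χ₀)

theorem conjUnion_closed (hM : IsPModular p M) {b : Set (IrrCharacter N)} (hb : IsPBlock M b) :
    ∀ θ ∈ conjUnion N b, ∀ η : IrrCharacter N, SameBlock M (θ : N → ℂ) (η : N → ℂ) →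
      η ∈ conjUnion N b := by
  rintro θ ⟨g, hg⟩ η h
  exact ⟨g, pblock_mem_of_sameBlock hM hb hg (sameBlock_conjPerm N g h)⟩

theorem covInd_congr' [Fintype G] [Fintype N] (hM : IsPModular p M) {b : Set (IrrCharacter N)}
    (hbi : CenInt M (blockInd b)) (hb : ConjStable N b) {χ ψ : IrrCharacter G}
    (h : SameBlock M (χ : G → ℂ) (ψ : G → ℂ)) : covInd N b χ = covInd N b ψ := by
  have hf : CenInt M (covInd N b) := fun g => by
    rw [show covInd N b = fun χ => omegaFun χ (covCoeff N b) from rfl,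
      coeffFun_omegaFun (covCoeff_classFun N hb)]
    by_cases h : g ∈ N
    · rw [covCoeff, dif_pos h]
      exact hbi _
    · rw [covCoeff_of_notMem N b h]
      exact ring_zero hM
  have hd := hf.congr_block hM h
  rcases covInd_zero_or_one N hb χ with h1 | h1 <;> rcases covInd_zero_or_one N hb ψ with h2 | h2
  · rw [h1, h2]
  · rw [h1, h2, zero_sub] at hd
    exact absurd (by simpa using ideal_neg hd) (ideal_one hM)
  · rw [h1, h2, sub_zero] at hd
    exact absurd hd (ideal_one hM)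
  · rw [h1, h2]

theorem constituents_in_conjugates [Fintype G] [Fintype N] (hM : IsPModular p M)
    {B : Set (IrrCharacter G)} (hB : IsPBlock M B) {b : Set (IrrCharacter N)} (hb : IsPBlock M b)
    {χ : IrrCharacter G} (hχ : χ ∈ B) {θ : IrrCharacter N} (hθ : θ ∈ b)
    (hcon : classInner (fun n : N => (χ : G → ℂ) n) (θ : N → ℂ) ≠ 0)
    {χ' : IrrCharacter G} (hχ' : χ' ∈ B) {ψ : IrrCharacter N}
    (hψ : classInner (fun n : N => (χ' : G → ℂ) n) (ψ : N → ℂ) ≠ 0) :
    ∃ g : G, ∃ θ' ∈ b, ∀ n : N,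
      (ψ : N → ℂ) n = (θ' : N → ℂ) ⟨g * n * g⁻¹, hN.conj_mem n n.2 g⟩ := by
  have hst := conjStable_conjUnion N b
  have h1 : covInd N (conjUnion N b) χ' = 1 := by
    rw [← covInd_congr' N hM (cenInt_union hM (conjUnion_closed N hM hb)) hst
      (pblock_sameBlock hM hB hχ hχ')]
    exact (covInd_eq_one_iff N hst χ).2 ⟨θ, subset_conjUnion N b hθ, hcon⟩
  rw [covInd_eq N hst χ' hψ] at h1
  obtain ⟨g, hg⟩ : ψ ∈ conjUnion N b := by
    by_contra h
    rw [blockInd_of_notMem h] at h1
    exact zero_ne_one h1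
  refine ⟨g⁻¹, _, hg, fun n => ?_⟩
  show _ = Char.conjN N g⁻¹ ((conjPerm N g ψ : IrrCharacter N) : N → ℂ) n
  exact (congrFun (Cfsg.Agent.Char.conjN_inv_cancel N g (ψ : N → ℂ)) n).symm

theorem inducedCentralChar_congr [Fintype N] (hM : IsPModular p M) {b : Set (IrrCharacter N)}
    (hb : IsPBlock M b) {θ η : IrrCharacter N} (hθ : θ ∈ b) (hη : η ∈ b) (g : G) :
    MemLocalIdeal M (inducedCentralChar N (θ : N → ℂ) g - inducedCentralChar N (η : N → ℂ) g) := by
  rw [inducedCentralChar_eq_omegaFun, inducedCentralChar_eq_omegaFun]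
  have hcls : IsClassFunction N (fun m : N => classInd g (m : G)) := fun m k => by
    show classInd g ((k * m * k⁻¹ : N) : G) = classInd g (m : G)
    exact classInd_classFun g (m : G) (k : G)
  have hf : CenInt M (fun ξ : IrrCharacter N => omegaFun ξ (fun m : N => classInd g (m : G))) :=
    fun m => by
      rw [coeffFun_omegaFun hcls]
      simp only [classInd]
      split_ifs
      · exact ring_one hM
      · exact ring_zero hM
  exact hf.congr_block hM (pblock_sameBlock hM hb hθ hη)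

theorem covers_iff_congr [Fintype G] [Fintype N] (hM : IsPModular p M) {B : Set (IrrCharacter G)}
    (hB : IsPBlock M B) {b : Set (IrrCharacter N)} (hb : IsPBlock M b) :
    (∃ χ ∈ B, ∃ θ ∈ b, classInner (fun n : N => (χ : G → ℂ) n) (θ : N → ℂ) ≠ 0) ↔
      ∀ χ ∈ B, ∀ θ ∈ b, ∀ n : N, MemLocalIdeal M
        (centralChar (χ : G → ℂ) (n : G) - inducedCentralChar N (θ : N → ℂ) (n : G)) := by
  classical
  cases nonempty_fintype (ConjClasses G)
  constructor
  · rintro ⟨χ₀, hχ₀, θ₀, hθ₀, hc⟩ χ hχ θ hθ n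
    have h1 := pblock_sameBlock hM hB hχ hχ₀ (n : G)
    have h2 := inducedCentralChar_congr N hM hb hθ₀ hθ (n : G)
    rw [centralChar_eq_induced N hc n.2] at h1
    simpa using ideal_add hM h1 h2
  · intro h
    obtain ⟨χ, hχ⟩ := pblock_nonempty hM hB
    obtain ⟨θ, hθ⟩ := pblock_nonempty hM hb
    have hst := conjStable_conjUnion N b
    have hci := cenInt_union hM (conjUnion_closed N hM hb)
    have hd : MemLocalIdeal M (covInd N (conjUnion N b) χ - 1) := by
      rw [covInd, omegaFun_eq_sum_classes _ (covCoeff_classFun N hst),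
        ← covCoeff_sum_eq_one N hst (subset_conjUnion N b hθ), ← Finset.sum_sub_distrib]
      refine ideal_sum hM fun C _ => ?_
      by_cases hC : C.out ∈ N
      · rw [← mul_sub, covCoeff, dif_pos hC]
        exact ideal_mul_left hM (hci _) (h χ hχ θ hθ ⟨_, hC⟩)
      · rw [covCoeff_of_notMem N _ hC, zero_mul, zero_mul, sub_self]
        exact ideal_zero hM
    have h1 : covInd N (conjUnion N b) χ = 1 := by
      refine (covInd_zero_or_one N hst χ).resolve_left fun h0 => ?_
      rw [h0, zero_sub] at hd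
      exact ideal_one hM (by simpa using ideal_neg hd)
    obtain ⟨ψ, ⟨g, hg⟩, hc⟩ := (covInd_eq_one_iff N hst χ).1 h1
    exact ⟨χ, hχ, _, hg, constituent_of_conj N g hc⟩

theorem exists_over [Fintype G] [Fintype N] (θ : IrrCharacter N) :
    ∃ χ : IrrCharacter G, classInner (fun n : N => (χ : G → ℂ) n) (θ : N → ℂ) ≠ 0 := by
  classical
  by_contra h
  push Not at h
  have h0 : ∑ χ : IrrCharacter G, (χ : G → ℂ) 1 *
      classInner (fun n : N => (χ : G → ℂ) n) (θ : N → ℂ) = 0 :=
    Finset.sum_eq_zero fun χ _ => by rw [h χ, mul_zero]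
  simp only [classInner, Finset.mul_sum] at h0
  rw [Finset.sum_comm] at h0
  have h1 : ∀ n : N, ∑ χ : IrrCharacter G, (χ : G → ℂ) 1 *
      ((Nat.card N : ℂ)⁻¹ * ((χ : G → ℂ) n * conj ((θ : N → ℂ) n))) =
      (Nat.card N : ℂ)⁻¹ * conj ((θ : N → ℂ) n) * if n = 1 then (Nat.card G : ℂ) else 0 := by
    intro n
    rw [show (if n = 1 then (Nat.card G : ℂ) else 0) = if (n : G) = 1 then (Nat.card G : ℂ) else 0
      from if_congr OneMemClass.coe_eq_one.symm rfl rfl, ← Cfsg.Agent.Char.regular_expansion,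
      Finset.mul_sum]
    exact Finset.sum_congr rfl fun χ _ => by ring
  rw [Finset.sum_congr rfl fun n _ => h1 n] at h0
  simp only [mul_ite, mul_zero, Finset.sum_ite_eq', Finset.mem_univ, if_true] at h0
  rcases mul_eq_zero.1 h0 with h2 | h2
  · rcases mul_eq_zero.1 h2 with h3 | h3
    · exact Nat.cast_ne_zero.2 Nat.card_pos.ne' (inv_eq_zero.1 h3)
    · exact irr_one_ne_zero θ ((map_eq_zero conj).1 h3)
  · exact Nat.cast_ne_zero.2 Nat.card_pos.ne' h2

theorem unique_cover_pPow [Fact p.Prime] [Fintype G] [Fintype N] (hM : IsPModular p M)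
    (hidx : ∃ k : ℕ, N.index = p ^ k) {b : Set (IrrCharacter N)} (hb : IsPBlock M b) :
    ∃! B : Set (IrrCharacter G), IsPBlock M B ∧
      ∃ χ ∈ B, ∃ θ ∈ b, classInner (fun n : N => (χ : G → ℂ) n) (θ : N → ℂ) ≠ 0 := by
  classical
  obtain ⟨k, hk⟩ := hidx
  obtain ⟨θ, hθ⟩ := pblock_nonempty hM hb
  obtain ⟨χ, hχ⟩ := exists_over N θ
  refine ⟨blockOf M (χ : G → ℂ), ⟨isPBlock_blockOf χ, χ, mem_blockOf_self hM χ, θ, hθ, hχ⟩, ?_⟩
  rintro B ⟨hB, χ', hχ', θ', hθ', hc'⟩
  have hcls := coeffFun_classFun (blockInd B)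
  have hsupp : ∀ g, g ∉ N → coeffFun (blockInd B) g = 0 := fun g hg => by
    rw [← blockCoeff_eq]
    exact blockCoeff_singular hM hB (not_not.1 fun h => hg (regular_mem_of_index_pPow hk h))
  have key : ∀ (ξ : IrrCharacter G) (η : IrrCharacter N),
      classInner (fun n : N => (ξ : G → ℂ) n) (η : N → ℂ) ≠ 0 →
      blockInd B ξ = omegaFun η (fun n : N => coeffFun (blockInd B) n) := fun ξ η h => by
    rw [← omegaFun_cover N hcls hsupp ξ h, omegaFun_coeffFun]
  have hf : CenInt M (fun η : IrrCharacter N =>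
      omegaFun η (fun n : N => coeffFun (blockInd B) n)) := fun n => by
    rw [coeffFun_omegaFun (a := fun n : N => coeffFun (blockInd B) n) fun m t =>
      hcls (m : G) (t : G)]
    exact cenInt_blockInd hM hB _
  have hd := hf.congr_block hM (pblock_sameBlock hM hb hθ' hθ)
  simp only [← key χ' θ' hc', ← key χ θ hχ] at hd
  rw [blockInd_of_mem hχ'] at hd
  have hmem : χ ∈ B := by
    by_contra h
    rw [blockInd_of_notMem h, sub_zero] at hd
    exact ideal_one hM hd
  exact pblock_eq_blockOf hM hB hmem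

theorem pPrime_block_of_quotient (hM : IsPModular p M) (hcop : ¬ p ∣ Nat.card N)
    (χ : IrrCharacter (G ⧸ N)) (ψ : IrrCharacter G)
    (hψ : ψ ∈ blockOf M ((χ : G ⧸ N → ℂ) ∘ QuotientGroup.mk)) :
    ∃ ψ' : IrrCharacter (G ⧸ N), (ψ : G → ℂ) = (ψ' : G ⧸ N → ℂ) ∘ QuotientGroup.mk ∧
      SameBlock M (χ : G ⧸ N → ℂ) (ψ' : G ⧸ N → ℂ) := by
  classical
  cases nonempty_fintype G
  cases nonempty_fintype N
  cases nonempty_fintype (G ⧸ N)
  let χ₀ : IrrCharacter G := ⟨(χ : G ⧸ N → ℂ) ∘ QuotientGroup.mk,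
    Cfsg.Agent.Char.IsIrr.comp_surjective (QuotientGroup.mk' N) (QuotientGroup.mk'_surjective N) χ.2⟩
  set T : Set (IrrCharacter N) := {trivialIrr N}
  have hst : ConjStable N T := fun g θ hθ θ' h => by
    rw [Set.mem_singleton_iff] at hθ
    subst hθ
    exact Subtype.ext (funext h)
  have hci : CenInt M (blockInd T) := fun n => by
    rw [coeffFun_eq_sum, Finset.sum_eq_single (trivialIrr N)]
    · rw [blockInd_of_mem (Set.mem_singleton _)]
      simp only [trivialIrr, mul_one]
      exact ring_inv_natCast hM hcop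
    · intro ξ _ hξ
      rw [blockInd_of_notMem (show ξ ∉ T from hξ), zero_mul, zero_mul]
    · exact fun h => absurd (Finset.mem_univ _) h
  have hconst : ∀ θ : IrrCharacter N, θ ∈ T → (θ : N → ℂ) = fun _ => 1 := fun θ h => by
    rw [Set.mem_singleton_iff.1 h]; rfl
  have hχ₀ : covInd N T χ₀ = 1 := by
    refine (covInd_eq_one_iff N hst χ₀).2 ⟨trivialIrr N, rfl, ?_⟩
    have hval : ∀ n : N, (χ₀ : G → ℂ) n = (χ : G ⧸ N → ℂ) 1 := fun n =>
      congrArg (χ : G ⧸ N → ℂ) ((QuotientGroup.eq_one_iff (n : G)).2 n.2)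
    simp only [classInner, hval, trivialIrr, map_one, mul_one, Finset.sum_const, Finset.card_univ,
      nsmul_eq_mul, ← Nat.card_eq_fintype_card, ← mul_assoc]
    rw [inv_mul_cancel₀ (Nat.cast_ne_zero.2 Nat.card_pos.ne'), one_mul]
    exact irr_one_ne_zero χ
  have hψ₁ : covInd N T ψ = 1 := by
    rw [← covInd_congr' N hM hci hst (show SameBlock M (χ₀ : G → ℂ) (ψ : G → ℂ) from hψ)]
    exact hχ₀
  obtain ⟨θ, hθT, hθ⟩ := (covInd_eq_one_iff N hst ψ).1 hψ₁
  have hker : ∀ k ∈ N, (ψ : G → ℂ) k = (ψ : G → ℂ) 1 := by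
    intro k hk
    have horb : ∀ φ ∈ Cfsg.Agent.Char.conjOrbit N (θ : N → ℂ), φ = fun _ => 1 := fun φ hφ => by
      obtain ⟨x, rfl⟩ := (Cfsg.Agent.Char.mem_conjOrbit N).1 hφ
      rw [hconst θ hθT]
      rfl
    have h1 := congrFun (Cfsg.Agent.Char.clifford N ψ.2 θ.2 hθ) ⟨k, hk⟩
    have h2 := congrFun (Cfsg.Agent.Char.clifford N ψ.2 θ.2 hθ) 1
    simp only [Pi.smul_apply, Finset.sum_apply, smul_eq_mul] at h1 h2
    rw [Finset.sum_congr rfl fun φ hφ => congrFun (horb φ hφ) _] at h1 h2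
    exact h1.trans h2.symm
  obtain ⟨ψ', hψ'irr, hψ'⟩ := Cfsg.Agent.Char.IsIrr.exists_factor_quotient ψ.2 N hker
  refine ⟨⟨ψ', hψ'irr⟩, funext fun g => (hψ' g).symm, fun q => ?_⟩
  set a : G → ℂ := fun g => classInd q (g : G ⧸ N) with ha
  have hcls : IsClassFunction G a := fun g t => by
    simp only [ha, QuotientGroup.mk_mul, QuotientGroup.mk_inv]
    exact classInd_classFun q (g : G ⧸ N) (t : G ⧸ N)
  have hf : CenInt M (fun ξ : IrrCharacter G => omegaFun ξ a) := fun g => by
    rw [coeffFun_omegaFun hcls]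
    simp only [ha, classInd]
    split_ifs
    · exact ring_one hM
    · exact ring_zero hM
  have hom : ∀ (ξ : IrrCharacter G) (ξ' : IrrCharacter (G ⧸ N)),
      (∀ g : G, (ξ : G → ℂ) g = (ξ' : G ⧸ N → ℂ) (g : G ⧸ N)) →
      omegaFun ξ a = (Nat.card N : ℂ) * centralChar (ξ' : G ⧸ N → ℂ) q := by
    intro ξ ξ' hξ
    rw [← omegaFun_classInd q ξ', omegaFun, omegaFun, hξ 1, QuotientGroup.mk_one,
      ← mul_div_assoc]
    congr 1
    have h := Cfsg.Agent.Char.sum_comp_surjective (QuotientGroup.mk' N)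
      (QuotientGroup.mk'_surjective N) (fun x => classInd q x * (ξ' : G ⧸ N → ℂ) x)
    rw [QuotientGroup.ker_mk'] at h
    rw [← h]
    exact Finset.sum_congr rfl fun g _ => by rw [hξ]; rfl
  have e1 : omegaFun χ₀ a = (Nat.card N : ℂ) * centralChar (χ : G ⧸ N → ℂ) q :=
    hom χ₀ χ fun _ => rfl
  have e2 : omegaFun ψ a = (Nat.card N : ℂ) * centralChar ψ' q :=
    hom ψ ⟨ψ', hψ'irr⟩ fun g => (hψ' g).symm
  have hd : MemLocalIdeal M (omegaFun χ₀ a - omegaFun ψ a) :=
    hf.congr_block (χ := χ₀) (ψ := ψ) hM hψ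
  rw [e1, e2, ← mul_sub] at hd
  exact (ideal_or_of_mul hM (ring_natCast hM _)
    (ring_sub hM (centralChar_ring hM χ q) (centralChar_ring hM ⟨ψ', hψ'irr⟩ q)) hd).resolve_left
    (fun h => hcop ((ideal_natCast_iff hM _).1 h))

theorem normal_pC_induces [Fact p.Prime] [Fintype G] (hM : IsPModular p M) (Q : Subgroup G)
    [Q.Normal] (hQ : IsPGroup p Q) [Fintype ↥(Q ⊔ Subgroup.centralizer (Q : Set G))]
    {b : Set (IrrCharacter ↥(Q ⊔ Subgroup.centralizer (Q : Set G)))} (hb : IsPBlock M b) :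
    InducedBlockDefined M (Q ⊔ Subgroup.centralizer (Q : Set G)) b ∧
      ∀ B : Set (IrrCharacter G), IsPBlock M B →
        (∃ χ ∈ B, ∃ θ ∈ b, classInner
          (fun n : ↥(Q ⊔ Subgroup.centralizer (Q : Set G)) => (χ : G → ℂ) n)
          (θ : ↥(Q ⊔ Subgroup.centralizer (Q : Set G)) → ℂ) ≠ 0) →
        IsInducedBlock M (Q ⊔ Subgroup.centralizer (Q : Set G)) b B := by
  haveI : (Subgroup.centralizer (Q : Set G)).Normal := Subgroup.normal_centralizer
  refine ⟨inducedBlockDefined_brauer hM hQ le_sup_left le_sup_right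
    (by rw [Subgroup.normalizer_eq_top]; exact le_top) hb, fun B hB hcov => ?_⟩
  refine ⟨hb, hB, fun ξ hξ χ hχ g => ?_⟩
  by_cases hg : g ∈ Q ⊔ Subgroup.centralizer (Q : Set G)
  · exact ideal_sub_comm ((covers_iff_congr _ hM hB hb).1 hcov χ hχ ξ hξ ⟨g, hg⟩)
  · rw [inducedCentralChar_eq_omegaFun, omegaFun]
    simp only [classInd_of_notMem _ hg, zero_mul, Finset.sum_const_zero, zero_div, zero_sub]
    refine ideal_neg ?_
    by_contra h
    obtain ⟨D, hD⟩ := exists_isDefectGroup hM hB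
    obtain ⟨x, hx⟩ := exists_conj_le_centralizer_of_omega hM hB hD hχ h
      (Classical.arbitrary (Sylow p (Subgroup.centralizer ({g} : Set G))))
    refine hg (Subgroup.mem_sup_right (Subgroup.mem_centralizer_iff.2 fun u hu => ?_))
    have hu' : x⁻¹ * u * x ∈ D := normal_le_defectGroup hM hB hD hQ
      (by simpa using Subgroup.Normal.conj_mem inferInstance u hu x⁻¹)
    have h2 := csyl_le _ (hx ⟨_, hu', rfl⟩)
    simp only [MulEquiv.coe_toMonoidHom, MulAut.conj_apply] at h2
    rw [show x * (x⁻¹ * u * x) * x⁻¹ = u by group] at h2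
    exact Subgroup.mem_centralizer_singleton_iff.1 h2

end Cfsg.Agent.Block
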