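import Cfsg.Agent.Lib.Block.Central

/-!
Landau's bound: boundedly many conjugacy classes force a bounded order.
-/

namespace Cfsg.Agent.Block

set_option linter.unusedSectionVars false

universe u

theorem exists_bound_unit_fractions (k : ℕ) : ∀ r : ℚ, 0 < r → ∃ N : ℕ, ∀ (α : Type) (s : Finset α)
    (n : α → ℕ), s.card ≤ k → (∀ i ∈ s, 0 < n i) → ∑ i ∈ s, (n i : ℚ)⁻¹ = r →
      ∀ i ∈ s, n i ≤ N := by
  induction k with
  | zero =>
    intro r hr
    refine ⟨0, fun α s n hc _ hs => ?_⟩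
    rw [Finset.card_eq_zero.1 (Nat.le_zero.1 hc), Finset.sum_empty] at hs
    exact absurd hs hr.ne
  | succ k ih =>
    intro r hr
    classical
    set m₀ := ⌈((k : ℚ) + 1) / r⌉₊ with hm₀
    have hN : ∀ m : ℕ, ∃ N : ℕ, ∀ (α : Type) (s : Finset α) (n : α → ℕ), s.card ≤ k →
        (∀ i ∈ s, 0 < n i) → ∑ i ∈ s, (n i : ℚ)⁻¹ = r - (m : ℚ)⁻¹ → ∀ i ∈ s, n i ≤ N := by
      intro m
      by_cases hm : 0 < r - (m : ℚ)⁻¹
      · exact ih _ hm
      · refine ⟨0, fun α s n _ hpos hs i hi => absurd ?_ hm⟩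
        rw [← hs]
        exact Finset.sum_pos (fun j hj => by have := hpos j hj; positivity) ⟨i, hi⟩
    choose N hN using hN
    refine ⟨m₀ + ∑ m ∈ Finset.range (m₀ + 1), N m, fun α s n hc hpos hs i hi => ?_⟩
    obtain ⟨j, hj, hjmin⟩ := s.exists_min_image n ⟨i, hi⟩
    have hjle : n j ≤ m₀ := by
      have hjp : (0 : ℚ) < n j := by exact_mod_cast hpos j hj
      have h1 : r ≤ ((k : ℚ) + 1) * (n j : ℚ)⁻¹ := by
        rw [← hs]
        calc ∑ l ∈ s, (n l : ℚ)⁻¹ ≤ ∑ _l ∈ s, (n j : ℚ)⁻¹ := Finset.sum_le_sum fun l hl =>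
              inv_anti₀ hjp (by exact_mod_cast hjmin l hl)
          _ = (s.card : ℚ) * (n j : ℚ)⁻¹ := by rw [Finset.sum_const, nsmul_eq_mul]
          _ ≤ _ := by
            refine mul_le_mul_of_nonneg_right ?_ (inv_nonneg.2 hjp.le)
            exact_mod_cast hc
      have h2 : (n j : ℚ) ≤ ((k : ℚ) + 1) / r := by
        rw [le_div_iff₀ hr]
        calc (n j : ℚ) * r ≤ (n j : ℚ) * (((k : ℚ) + 1) * (n j : ℚ)⁻¹) :=
              mul_le_mul_of_nonneg_left h1 hjp.le
          _ = (k : ℚ) + 1 := by field_simp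
      rw [hm₀]
      exact Nat.cast_le.1 (h2.trans (Nat.le_ceil _))
    by_cases hij : i = j
    · subst hij; omega
    refine le_trans (hN (n j) α (s.erase j) n ?_ (fun l hl => hpos l (Finset.mem_of_mem_erase hl))
      ?_ i (Finset.mem_erase.2 ⟨hij, hi⟩)) ?_
    · have := Finset.card_erase_of_mem hj; omega
    · rw [← hs, ← Finset.add_sum_erase s _ hj]; ring
    · exact le_trans (Finset.single_le_sum (f := N) (fun l _ => Nat.zero_le _)
        (Finset.mem_range.2 (Nat.lt_succ_of_le hjle))) (Nat.le_add_left _ _)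

/-- Landau: the order of a finite group is bounded by a function of its class number. -/
theorem exists_order_bound (k : ℕ) : ∃ N : ℕ, ∀ (G : Type u) [Group G] [Finite G],
    Nat.card (ConjClasses G) ≤ k → Nat.card G ≤ N := by
  obtain ⟨N, hN⟩ := exists_bound_unit_fractions k 1 one_pos
  refine ⟨N, fun G _ _ hk => ?_⟩
  classical
  cases nonempty_fintype G
  cases nonempty_fintype (ConjClasses G)
  obtain ⟨m, ⟨e⟩⟩ := Finite.exists_equiv_fin (ConjClasses G)
  let n : Fin m → ℕ := fun i => Nat.card (Subgroup.centralizer ({(e.symm i).out} : Set G))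
  have hsum : ∑ i : Fin m, (n i : ℚ)⁻¹ = 1 := by
    have h := sum_classFun_conjClasses (F := fun _ : G => (1 : ℂ)) (fun _ _ => rfl)
    simp only [Finset.sum_const, Finset.card_univ, nsmul_eq_mul, mul_one] at h
    rw [← Nat.card_eq_fintype_card] at h
    have hq : (Nat.card G : ℚ) =
        ∑ C : ConjClasses G, ((Subgroup.centralizer ({C.out} : Set G)).index : ℚ) := by
      rw [← Nat.cast_sum, Nat.cast_inj]
      exact_mod_cast h
    have hterm : ∀ C : ConjClasses G, ((Subgroup.centralizer ({C.out} : Set G)).index : ℚ) =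
        (Nat.card G : ℚ) * (Nat.card (Subgroup.centralizer ({C.out} : Set G)) : ℚ)⁻¹ := fun C => by
      rw [← (Subgroup.centralizer ({C.out} : Set G)).card_mul_index]
      push_cast
      field_simp
    rw [Finset.sum_congr rfl fun C _ => hterm C, ← Finset.mul_sum,
      ← Equiv.sum_comp e.symm] at hq
    have hG : (Nat.card G : ℚ) ≠ 0 := Nat.cast_ne_zero.2 Nat.card_pos.ne'
    exact (mul_eq_left₀ hG).1 hq.symm
  have h1 : n (e (ConjClasses.mk 1)) = Nat.card G := by
    have hout : (ConjClasses.mk (1 : G)).out = 1 := by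
      have h : ConjClasses.mk (ConjClasses.mk (1 : G)).out = ConjClasses.mk 1 := Quotient.out_eq _
      exact isConj_one_right.1 (ConjClasses.mk_eq_mk_iff_isConj.1 h).symm
    simp only [n, Equiv.symm_apply_apply, hout]
    rw [centralizer_one_eq_top, Subgroup.card_top]
  rw [← h1]
  refine hN (Fin m) Finset.univ n ?_ (fun i _ => Nat.card_pos) hsum _ (Finset.mem_univ _)
  rw [Finset.card_univ, Fintype.card_fin]
  exact le_of_eq_of_le (Nat.card_eq_of_equiv_fin e).symm hk

end Cfsg.Agent.Block
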