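import Cfsg.Agent.Lib.Block.InvolutionBound
import Cfsg.Agent.Lib.Block.Principal
import Cfsg.Agent.Lib.Block.Landau
import Cfsg.Agent.Lib.Char.Contrib
import Cfsg.Agent.Lib.Char.Complete

/-!
When every non-principal `2`-block has small defect and there is a large elementary abelian
`2`-subgroup, the order of the group is bounded.
-/

namespace Cfsg.Agent.Block

set_option linter.unusedSectionVars false

universe u

variable {G : Type u} [Group G] [Finite G] {M : Ideal AlgInt}

/-- The centralizer of an abelian `p`-subgroup of order at least `p ^ r` has one block. -/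
theorem single_block_centralizer {p : ℕ} [Fact p.Prime] (hM : IsPModular p M) {r k : ℕ}
    (hB : ∀ B : Set (IrrCharacter G), IsPBlock M B → B ≠ principalBlock M G → blockDefect p B < r)
    {U : Subgroup G} (hUc : U ≤ Subgroup.centralizer (U : Set G)) (hU : Nat.card U = p ^ k)
    (hrk : r ≤ k) (χ : IrrCharacter (Subgroup.centralizer (U : Set G))) :
    χ ∈ principalBlock M (Subgroup.centralizer (U : Set G)) := by
  have hUp : IsPGroup p U := IsPGroup.of_card hU
  have hb : IsPBlock M (blockOf M (χ : (Subgroup.centralizer (U : Set G)) → ℂ)) := isPBlock_blockOf χ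
  have hdef : InducedBlockDefined M (Subgroup.centralizer (U : Set G)) (blockOf M (χ : (Subgroup.centralizer (U : Set G)) → ℂ)) :=
    inducedBlockDefined_brauer hM hUp hUc le_rfl (Subgroup.centralizer_le_normalizer _) hb
  obtain ⟨B, hBi⟩ := hdef
  obtain ⟨D, hD⟩ := exists_isDefectGroup hM hb
  haveI : (U.subgroupOf (Subgroup.centralizer (U : Set G))).Normal := ⟨fun x hx g => by
    rw [Subgroup.mem_subgroupOf] at hx ⊢
    have h : (g : G) * x * (g : G)⁻¹ = x := by
      rw [← (Subgroup.mem_centralizer_iff.1 g.2 _ hx), mul_inv_cancel_right]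
    rw [Subgroup.coe_mul, Subgroup.coe_mul, Subgroup.coe_inv, h]
    exact hx⟩
  have hUD : U.subgroupOf (Subgroup.centralizer (U : Set G)) ≤ D :=
    normal_le_defectGroup hM hb hD (hUp.of_equiv (Subgroup.subgroupOfEquivOfLe hUc).symm)
  obtain ⟨E, hE, hDE⟩ := exists_defectGroup_ge_map hM hBi hD
  have hUE : U ≤ E := fun x hx => hDE ⟨⟨x, hUc hx⟩, hUD hx, rfl⟩
  have hcard := Subgroup.card_le_of_le hUE
  rw [hU, card_defectGroup hM hBi.2.1 hE] at hcard
  have hd : r ≤ blockDefect p B :=
    hrk.trans ((Nat.pow_le_pow_iff_right (Fact.out : p.Prime).one_lt).1 hcard)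
  have hBp : B = principalBlock M G := by
    by_contra h
    exact absurd (hB B hBi.2.1 h) (not_lt.2 hd)
  have hprin := (principal_third_main hM ⟨B, hBi⟩).1 (hBp ▸ hBi)
  exact Eq.mp (congrArg (fun S => χ ∈ S) hprin) (mem_blockOf_self hM χ)

/-- The class number of a group with one block is bounded by its `p`-part. -/
theorem card_conjClasses_of_single_block {p : ℕ} [Fact p.Prime] (hM : IsPModular p M)
    (h : ∀ χ : IrrCharacter G, χ ∈ principalBlock M G) {a : ℕ}
    (ha : (Nat.card G).factorization p ≤ a) :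
    Nat.card (ConjClasses G) ≤ p ^ (2 * a) + 4 := by
  cases nonempty_fintype G
  have h1 := Cfsg.Agent.Char.Contrib.card_le_bound hM (isPBlock_principalBlock (G := G) (M := M))
  have h2 : Nat.card (principalBlock M G) = Nat.card (IrrCharacter G) := by
    rw [Set.eq_univ_of_forall h, Nat.card_univ]
  rw [h2, Cfsg.Agent.Char.card_irrCharacter] at h1
  have h3 : p ^ (2 * blockDefect p (principalBlock M G)) ≤ p ^ (2 * a) :=
    Nat.pow_le_pow_right (Fact.out : p.Prime).pos
      (Nat.mul_le_mul_left _ ((blockDefect_le _).trans ha))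
  omega

theorem card_centralizer_subgroupOf (H : Subgroup G) (v : H) :
    Nat.card (Subgroup.centralizer ({v} : Set H)) =
      Nat.card (H ⊓ Subgroup.centralizer ({(v : G)} : Set G) : Subgroup G) := by
  refine Nat.card_congr (Equiv.ofBijective (fun x => ⟨((x : H) : G), (x : H).2,
    Subgroup.mem_centralizer_singleton_iff.2
      (congrArg Subtype.val (Subgroup.mem_centralizer_singleton_iff.1 x.2))⟩) ⟨?_, ?_⟩)
  · intro x y h
    have := congrArg Subtype.val h
    exact Subtype.ext (Subtype.ext this)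
  · rintro ⟨x, hx1, hx2⟩
    exact ⟨⟨⟨x, hx1⟩, Subgroup.mem_centralizer_singleton_iff.2
      (Subtype.ext (Subgroup.mem_centralizer_singleton_iff.1 hx2))⟩, rfl⟩

theorem elementary_sup_card {E U : Subgroup G} (hcomm : ∀ x ∈ E, ∀ y ∈ E, x * y = y * x)
    (hsq : ∀ x ∈ E, x * x = 1) (hU : U ≤ E) {v : G} (hv : v ∈ E) (hvU : v ∉ U) :
    U ⊔ Subgroup.zpowers v ≤ E ∧ Nat.card (U ⊔ Subgroup.zpowers v : Subgroup G) = 2 * Nat.card U := by
  refine ⟨sup_le hU (Subgroup.zpowers_le.2 hv), ?_⟩
  have hv2 : orderOf v = 2 := orderOf_eq_prime (by rw [pow_two]; exact hsq v hv)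
    (fun h => hvU (h ▸ U.one_mem))
  have hle : Subgroup.zpowers v ≤ Subgroup.normalizer (U : Set G) := Subgroup.zpowers_le.2
    (Subgroup.centralizer_le_normalizer _ fun x hx => hcomm x (hU hx) v hv)
  have hdisj : U ⊓ Subgroup.zpowers v = ⊥ := by
    rw [eq_bot_iff]
    rintro x ⟨hxU, hxv⟩
    obtain ⟨n, rfl⟩ := Subgroup.mem_zpowers_iff.1 hxv
    rcases Int.even_or_odd n with ⟨j, rfl⟩ | ⟨j, rfl⟩
    · rw [Subgroup.mem_bot, ← two_mul, zpow_mul, zpow_ofNat, pow_two, hsq v hv, one_zpow]
    · exfalso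
      apply hvU
      rwa [zpow_add, zpow_mul, zpow_ofNat, pow_two, hsq v hv, one_zpow, one_mul, zpow_one] at hxU
  have h := Grp.card_sup_mul_card_inf hle
  rw [inf_comm, hdisj, Subgroup.card_bot, mul_one, Nat.card_zpowers, hv2, sup_comm] at h
  rw [h]

theorem centralizer_inf_singleton (U : Subgroup G) (v : G) :
    Subgroup.centralizer (U : Set G) ⊓ Subgroup.centralizer ({v} : Set G) ≤
      Subgroup.centralizer ((U ⊔ Subgroup.zpowers v : Subgroup G) : Set G) := by
  rw [Subgroup.sup_eq_closure, Subgroup.centralizer_closure]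
  rintro x ⟨hxU, hxv⟩ y (hy | hy)
  · exact hxU y hy
  · obtain ⟨n, rfl⟩ := hy
    exact ((show Commute x v from Subgroup.mem_centralizer_singleton_iff.1 hxv).zpow_right n).eq.symm

/-- The order bound. -/
theorem exists_bound_of_defect (a : ℕ) : ∀ j : ℕ, ∃ N : ℕ, ∀ (G : Type u) [Group G] [Finite G]
    (M : Ideal AlgInt) (r : ℕ) (E U : Subgroup G), IsPModular 2 M →
    (Nat.card G).factorization 2 ≤ a →
    (∀ B : Set (IrrCharacter G), IsPBlock M B → B ≠ principalBlock M G → blockDefect 2 B < r) →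
    (∀ x ∈ E, ∀ y ∈ E, x * y = y * x) → (∀ x ∈ E, x * x = 1) → Nat.card E = 2 ^ (r + 1) →
    U ≤ E → 2 ^ (r + 1) ≤ Nat.card U * 2 ^ (j + 1) →
    Nat.card (Subgroup.centralizer (U : Set G)) ≤ N := by
  haveI : Fact (Nat.Prime 2) := ⟨Nat.prime_two⟩
  obtain ⟨N₀, hN₀⟩ := exists_order_bound.{u} (2 ^ (2 * a) + 4)
  intro j
  induction j with
  | zero =>
    refine ⟨N₀, fun G _ _ M r E U hM ha hB hcomm hsq hE hU hcard => ?_⟩
    obtain ⟨k, hkr, hk⟩ := (Nat.dvd_prime_pow Nat.prime_two).1 (hE ▸ Subgroup.card_dvd_of_le hU)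
    rw [hk, ← pow_add] at hcard
    have hrk : r ≤ k := by
      have := (Nat.pow_le_pow_iff_right (le_refl 2)).1 hcard
      omega
    refine hN₀ _ (card_conjClasses_of_single_block hM
      (single_block_centralizer hM hB (fun x hx y hy => hcomm y (hU hy) x (hU hx)) hk hrk) ?_)
    exact le_trans ((Nat.factorization_le_iff_dvd Nat.card_pos.ne' Nat.card_pos.ne').2
      (Subgroup.card_subgroup_dvd_card _) 2) ha
  | succ j ih =>
    obtain ⟨N, hN⟩ := ih
    obtain ⟨F, hF⟩ := exists_bound_of_four_group.{u} a N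
    refine ⟨max N (F * 2 ^ a), fun G _ _ M r E U hM ha hB hcomm hsq hE hU hcard => ?_⟩
    by_cases hsmall : 2 ^ (r + 1) ≤ Nat.card U * 2 ^ (j + 1)
    · exact le_trans (hN G M r E U hM ha hB hcomm hsq hE hU hsmall) (le_max_left _ _)
    refine le_trans ?_ (le_max_right _ _)
    push Not at hsmall
    have hne : ∀ V : Subgroup G, Nat.card V < 2 ^ (r + 1) → ∃ v ∈ E, v ∉ V := fun V hV => by
      by_contra h
      push Not at h
      exact absurd (hE ▸ Subgroup.card_le_of_le h) (not_le.2 hV)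
    have h2j : 2 ≤ 2 ^ (j + 1) := le_self_pow₀ one_le_two (Nat.succ_ne_zero j)
    have hU0 : 0 < Nat.card U := Nat.card_pos
    obtain ⟨v, hvE, hvU⟩ := hne U (by nlinarith)
    obtain ⟨hU1, hU1c⟩ := elementary_sup_card hcomm hsq hU hvE hvU
    obtain ⟨w, hwE, hwU1⟩ := hne (U ⊔ Subgroup.zpowers v) (by rw [hU1c]; nlinarith)
    have hwU : w ∉ U := fun h => hwU1 (Subgroup.mem_sup_left h)
    set H := Subgroup.centralizer (U : Set G) with hH
    have hUH : U ≤ H := fun x hx y hy => hcomm y (hU hy) x (hU hx)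
    haveI hUn : (U.subgroupOf H).Normal := ⟨fun x hx g => by
      rw [Subgroup.mem_subgroupOf] at hx ⊢
      have h : (g : G) * x * (g : G)⁻¹ = x := by
        rw [← (Subgroup.mem_centralizer_iff.1 g.2 _ hx), mul_inv_cancel_right]
      rw [Subgroup.coe_mul, Subgroup.coe_mul, Subgroup.coe_inv, h]
      exact hx⟩
    have hEH : E ≤ H := fun x hx y hy => hcomm y (hU hy) x hx
    let v' : H := ⟨v, hEH hvE⟩
    let w' : H := ⟨w, hEH hwE⟩
    have hbound : ∀ z : H, (z : G) ∈ E → (z : G) ∉ U → Nat.card (Subgroup.centralizer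
        ({(z : H ⧸ U.subgroupOf H)} : Set (H ⧸ U.subgroupOf H))) ≤ N := fun z hzE hzU => by
      refine (card_centralizer_quotient_le _ z).trans ?_
      rw [card_centralizer_subgroupOf]
      refine (Subgroup.card_le_of_le (centralizer_inf_singleton U (z : G))).trans ?_
      obtain ⟨hle, hc⟩ := elementary_sup_card hcomm hsq hU hzE hzU
      refine hN G M r E _ hM ha hB hcomm hsq hE hle ?_
      rw [hc]
      calc 2 ^ (r + 1) ≤ Nat.card U * 2 ^ (j + 1 + 1) := hcard
        _ = 2 * Nat.card U * 2 ^ (j + 1) := by rw [pow_succ]; ring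
    have hord : ∀ z : H, (z : G) ∈ E → (z : G) ∉ U →
        orderOf (z : H ⧸ U.subgroupOf H) = 2 := fun z hzE hzU => orderOf_eq_prime
      (by rw [← QuotientGroup.mk_pow, pow_two,
        show z * z = 1 from Subtype.ext (hsq _ hzE), QuotientGroup.mk_one])
      (fun h => hzU ((QuotientGroup.eq_one_iff z).1 h))
    have hvwU : ((v' * w' : H) : G) ∉ U := fun h => hwU1 (by
      have : w = v⁻¹ * (v * w) := by group
      rw [this]
      exact Subgroup.mul_mem _ (Subgroup.inv_mem _ (Subgroup.mem_sup_right (Subgroup.mem_zpowers v)))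
        (Subgroup.mem_sup_left h))
    have hne' : (v' : H ⧸ U.subgroupOf H) ≠ (w' : H ⧸ U.subgroupOf H) := fun h => hvwU (by
      have h' : v'⁻¹ * w' ∈ U.subgroupOf H := QuotientGroup.eq.1 h
      rw [show v'⁻¹ = v' from inv_eq_of_mul_eq_one_right (Subtype.ext (hsq v hvE))] at h'
      exact h')
    have hX : Nat.card (H ⧸ U.subgroupOf H) ≤ F := by
      refine hF _ (v' : H ⧸ U.subgroupOf H) (w' : H ⧸ U.subgroupOf H) (hord v' hvE hvU)
        (hord w' hwE hwU)
        (congrArg (QuotientGroup.mk' (U.subgroupOf H))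
          (show v' * w' = w' * v' from Subtype.ext (hcomm v hvE w hwE))) hne'
        (hbound v' hvE hvU) (hbound w' hwE hwU) ?_ ?_
      · exact hbound (v' * w') (E.mul_mem hvE hwE) hvwU
      · exact le_trans ((Nat.factorization_le_iff_dvd Nat.card_pos.ne' Nat.card_pos.ne').2
          ((Subgroup.card_quotient_dvd_card _).trans (Subgroup.card_subgroup_dvd_card _)) 2) ha
    rw [Subgroup.card_eq_card_quotient_mul_card_subgroup (U.subgroupOf H)]
    refine Nat.mul_le_mul hX ?_
    rw [Nat.card_congr (Subgroup.subgroupOfEquivOfLe hUH).toEquiv]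
    obtain ⟨k, -, hk⟩ := (Nat.dvd_prime_pow Nat.prime_two).1 (hE ▸ Subgroup.card_dvd_of_le hU)
    rw [hk]
    refine Nat.pow_le_pow_right two_pos (le_trans
      ((Nat.prime_two.pow_dvd_iff_le_factorization Nat.card_pos.ne').1 ?_) ha)
    exact hk ▸ Subgroup.card_subgroup_dvd_card U

end Cfsg.Agent.Block
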