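import Mathlib
import Cfsg.Agent.Lib.Block.PPartDerived
import Cfsg.Agent.Lib.Grp.CoprimeAbelian

/-!
Characters of defect zero in `p`-solvable groups without elements of order `p q`.
-/

set_option linter.unusedSectionVars false

namespace Cfsg.Agent.Block.DefectZeroPair

open scoped ComplexConjugate Pointwise
open Cfsg Cfsg.Agent.Block Cfsg.Agent.Char Cfsg.Agent.Block.PPartDerived

universe u

variable {G : Type u} [Group G] [Finite G]

/-- An inertia group without elements of order `r` gives a character of `r`-defect zero. -/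
theorem full_of_inertia {r : ℕ} [hr : Fact r.Prime] (L : Subgroup G) [L.Normal] [Fintype L]
    [Fintype G] (θ : IrrCharacter L) (h : ∀ y : G, orderOf y = r → y ∉ inertia L (θ : L → ℂ)) :
    ∃ χ : IrrCharacter G,
      (charDegree (χ : G → ℂ)).factorization r = (Nat.card G).factorization r := by
  set T := inertia L (θ : L → ℂ) with hT
  have hLT : L ≤ T := le_inertia L (IsIrr.classFun θ.2)
  haveI := Fintype.ofFinite T
  obtain ⟨χ, hχ⟩ := exists_above L θ
  obtain ⟨ψ, hψ, hind, -⟩ := Corr.exists_correspondent L θ.2 hT hLT χ.2 hχ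
  have hdeg : charDegree (χ : G → ℂ) = T.index * charDegree ψ := by
    have h1 := congrFun hind 1
    rw [indFun_one_eq, charDeg_spec' χ, charDeg_spec (IsIrr.isCharacter hψ), ← Nat.cast_mul,
      Nat.cast_inj] at h1
    exact h1.symm
  have hTr : ¬ r ∣ Nat.card T := fun hd => by
    obtain ⟨y, hy⟩ := exists_prime_orderOf_dvd_card' (G := T) r hd
    exact h (y : G) (by rw [Subgroup.orderOf_coe, hy]) y.2
  refine ⟨χ, le_antisymm ?_ ?_⟩
  · exact (Nat.factorization_le_iff_dvd (charDeg_pos χ).ne' Nat.card_pos.ne').mpr (charDeg_dvd χ) r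
  · have h1 : T.index ∣ charDegree (χ : G → ℂ) := hdeg ▸ dvd_mul_right _ _
    have h2 := (Nat.factorization_le_iff_dvd Subgroup.index_ne_zero_of_finite
      (charDeg_pos χ).ne').mpr h1 r
    have h3 := congrArg (fun n => n.factorization r) (Subgroup.card_mul_index T)
    simp only [Nat.factorization_mul Nat.card_pos.ne' Subgroup.index_ne_zero_of_finite,
      Finsupp.add_apply, Nat.factorization_eq_zero_of_not_dvd hTr, zero_add] at h3
    omega

/-- Defect zero lifts from a quotient by a subgroup of order prime to `r`. -/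
theorem full_quotient {r : ℕ} (L : Subgroup G) [L.Normal] (hL : ¬ r ∣ Nat.card L)
    (h : ∃ χ : IrrCharacter (G ⧸ L),
      (charDegree (χ : G ⧸ L → ℂ)).factorization r = (Nat.card (G ⧸ L)).factorization r) :
    ∃ χ : IrrCharacter G,
      (charDegree (χ : G → ℂ)).factorization r = (Nat.card G).factorization r := by
  obtain ⟨χ, hχ⟩ := h
  refine ⟨⟨fun g => (χ : G ⧸ L → ℂ) (QuotientGroup.mk' L g),
    IsIrr.comp_surjective _ (QuotientGroup.mk'_surjective L) χ.2⟩, ?_⟩
  rw [Subgroup.card_eq_card_quotient_mul_card_subgroup L,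
    Nat.factorization_mul Nat.card_pos.ne' Nat.card_pos.ne', Finsupp.add_apply,
    Nat.factorization_eq_zero_of_not_dvd hL, add_zero, ← hχ]
  rfl

/-- A character fixed by an element without fixed points is trivial. -/
theorem fixed_trivial (M : Subgroup G) [hM : M.Normal] [Fintype M] (y : G)
    (hcop : (Nat.card M).Coprime (orderOf y))
    (hC : M ⊓ Subgroup.centralizer ({y} : Set G) = ⊥) (θ : IrrCharacter M)
    (hθ : y ∈ inertia M (θ : M → ℂ)) : (θ : M → ℂ) = fun _ => 1 := by
  classical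
  haveI := Fintype.ofFinite G
  set S := Subgroup.zpowers y with hS
  have hnorm : ∀ s ∈ S, ∀ l ∈ M, s * l * s⁻¹ ∈ M := fun s _ l hl => hM.conj_mem l hl s
  have hsolv : Group.IsSolvable S :=
    haveI : IsMulCommutative S := ⟨⟨fun a b => by
      obtain ⟨i, hi⟩ := a.2
      obtain ⟨j, hj⟩ := b.2
      refine Subtype.ext ?_
      show (a : G) * b = b * a
      rw [← show y ^ i = (a : G) from hi, ← show y ^ j = (b : G) from hj, zpow_mul_comm]⟩⟩
    Group.isSolvable_of_comm fun a b => IsMulCommutative.is_comm.comm a b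
  have hcop' : (Nat.card M).Coprime (Nat.card S) := by rwa [hS, Nat.card_zpowers]
  have hgood := (Glaub.good_conjHom M S hnorm hcop' hsolv).count
  rw [CopDeg.card_fixed_classes M S hnorm hcop' (Or.inl hsolv)] at hgood
  have hC' : M ⊓ Subgroup.centralizer (S : Set G) = ⊥ := by
    rw [hS, ← Cfsg.Agent.Grp.centralizer_singleton_eq_zpowers, hC]
  haveI : Subsingleton ↥(M ⊓ Subgroup.centralizer (S : Set G)) := by rw [hC']; infer_instance
  haveI : Subsingleton (ConjClasses ↥(M ⊓ Subgroup.centralizer (S : Set G))) := ⟨fun a b => by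
    obtain ⟨a, rfl⟩ := a.exists_rep
    obtain ⟨b, rfl⟩ := b.exists_rep
    rw [Subsingleton.elim a b]⟩
  rw [Nat.card_eq_one_iff_unique.mpr ⟨inferInstance, ⟨ConjClasses.mk 1⟩⟩] at hgood
  obtain ⟨hs, -⟩ := Nat.card_eq_one_iff_unique.mp hgood
  have hinv : ∀ s ∈ S, ∀ g g' : M, (g' : G) = s * g * s⁻¹ → (θ : M → ℂ) g' = (θ : M → ℂ) g := by
    intro s hs' g g' e
    have hsI : s ∈ inertia M (θ : M → ℂ) := (Subgroup.zpowers_le.mpr hθ) hs'
    refine Eq.trans ?_ (congrFun ((mem_inertia M).mp hsI) g)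
    exact congrArg _ (Subtype.ext e)
  have h := hs.elim ⟨θ, (Glaub.inv_conjHom_iff _ _ _ _).mpr hinv⟩
    ⟨trivialIrr M, fun _ _ _ => rfl⟩
  exact congrArg Subtype.val (congrArg Subtype.val h)

theorem exists_nontrivial (M : Subgroup G) [Fintype M] (hM : M ≠ ⊥) :
    ∃ θ : IrrCharacter M, (θ : M → ℂ) ≠ fun _ => 1 := by
  by_contra hno
  push Not at hno
  obtain ⟨x, hx, hx1⟩ := (Subgroup.bot_or_exists_ne_one M).resolve_left hM
  refine hx1 (congrArg Subtype.val (isConj_one_left.mp
    ((isConj_iff_irr (⟨x, hx⟩ : M) 1).mpr fun θ => ?_)))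
  rw [hno θ]

theorem main {p q : ℕ} [hp : Fact p.Prime] [hq : Fact q.Prime] (hpq : p ≠ q)
    (hs : IsPSolvable p G) (hpG : p ∣ Nat.card G)
    (hcomm : ∀ x y : G, orderOf x = p → orderOf y = q → x * y ≠ y * x) :
    (∃ χ : IrrCharacter G, (charDegree (χ : G → ℂ)).factorization p = (Nat.card G).factorization p) ∨
      ∃ χ : IrrCharacter G, (charDegree (χ : G → ℂ)).factorization q = (Nat.card G).factorization q := by
  classical
  haveI := Fintype.ofFinite G
  haveI hLn : (pPrimeCore p G).Normal := Grp.pPrimeCore_isNormal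
  set L := pPrimeCore p G with hL
  haveI := Fintype.ofFinite L
  set f := QuotientGroup.mk' L with hf
  have hsurj : Function.Surjective f := QuotientGroup.mk'_surjective L
  haveI hMn : (pCore p (G ⧸ L)).Normal := Grp.pCore_isNormal
  set M := pCore p (G ⧸ L) with hM
  have hMp : IsPGroup p M := Grp.pCore_isPGroup
  have hpQ : p ∣ Nat.card (G ⧸ L) := by
    rw [Subgroup.card_eq_card_quotient_mul_card_subgroup L] at hpG
    exact (hp.out.dvd_mul.mp hpG).resolve_right Grp.pPrimeCore_not_dvd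
  have hM0 : M ≠ ⊥ := fun h => by
    have htop := Grp.isPSolvable_eq_top_of_cores (Grp.isPSolvable_map hs f hsurj) h
      pPrimeCore_quotient_eq_bot
    have h1 : Nat.card (G ⧸ L) = 1 := by
      rw [← Subgroup.card_top (G := G ⧸ L), htop, Subgroup.card_bot]
    rw [h1] at hpQ
    exact hp.out.one_lt.ne' (Nat.dvd_one.mp hpQ)
  by_cases hqL : q ∣ Nat.card L
  swap
  · -- defect zero at `q`
    refine Or.inr (full_quotient L hqL ?_)
    haveI := Fintype.ofFinite M
    haveI := Fintype.ofFinite (G ⧸ L)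
    obtain ⟨θ, hθ⟩ := exists_nontrivial M hM0
    refine full_of_inertia M θ fun y hy hyT => hθ (fixed_trivial M y ?_ ?_ θ hyT)
    · obtain ⟨k, hk⟩ := IsPGroup.iff_card.mp hMp
      rw [hk, hy]
      exact ((Nat.coprime_primes hp.out hq.out).2 hpq).pow_left k
    · by_contra hne
      obtain ⟨x, hx, hxp⟩ := Cfsg.Agent.Grp.exists_prime_order_mem hne
      obtain ⟨k, hk⟩ := hMp ⟨x, (Subgroup.mem_inf.mp hx).1⟩
      have hox : orderOf x = p := (Nat.prime_dvd_prime_iff_eq hxp hp.out).mp
        (hxp.dvd_of_dvd_pow (orderOf_dvd_iff_pow_eq_one.2 (congrArg Subtype.val hk)))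
      have hxy : Commute x y :=
        Subgroup.mem_centralizer_singleton_iff.mp (Subgroup.mem_inf.mp hx).2
      obtain ⟨g, hg⟩ := hsurj (x * y)
      have hor : orderOf (x * y) = p * q := by
        rw [hxy.orderOf_mul_eq_mul_orderOf_of_coprime, hox, hy]
        rw [hox, hy]; exact (Nat.coprime_primes hp.out hq.out).2 hpq
      have hdvd : p * q ∣ orderOf g := by
        rw [← hor, ← hg]
        exact orderOf_map_dvd f g
      obtain ⟨c, hc⟩ := hdvd
      have hg0 : 0 < orderOf g := orderOf_pos g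
      have hc0 : c ≠ 0 := fun h => by rw [hc, h, mul_zero] at hg0; omega
      refine hcomm (g ^ (q * c)) (g ^ (p * c)) ?_ ?_
        (((Commute.refl g).pow_pow _ _).eq)
      · rw [orderOf_pow' g (Nat.mul_ne_zero hq.out.ne_zero hc0), hc,
          show p * q * c = p * (q * c) by ring, Nat.gcd_mul_left_left,
          Nat.mul_div_cancel _ (Nat.pos_of_ne_zero (Nat.mul_ne_zero hq.out.ne_zero hc0))]
      · rw [orderOf_pow' g (Nat.mul_ne_zero hp.out.ne_zero hc0), hc,
          show p * q * c = q * (p * c) by ring, Nat.gcd_mul_left_left,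
          Nat.mul_div_cancel _ (Nat.pos_of_ne_zero (Nat.mul_ne_zero hp.out.ne_zero hc0))]
  -- defect zero at `p`
  refine Or.inl ?_
  haveI hRn : (M.comap f).Normal := hMn.comap f
  set R := M.comap f with hR
  have hLR : L ≤ R := fun x hx => by
    show f x ∈ M
    rw [show f x = 1 from (QuotientGroup.eq_one_iff x).mpr hx]
    exact one_mem _
  obtain ⟨P⟩ := (inferInstance : Nonempty (Sylow p G))
  haveI : Group.IsNilpotent (P : Subgroup G) := P.isPGroup'.isNilpotent
  set RP := R.subgroupOf (P : Subgroup G) with hRP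
  have hsupR : ∀ r ∈ R, ∃ l ∈ L, ∃ s ∈ (P : Subgroup G), l * s = r ∧ s ∈ R := by
    intro r hr
    have hMle : M ≤ (P.mapSurjective hsurj : Subgroup (G ⧸ L)) := Grp.pCore_le_sylow _
    have h1 := hMle (show f r ∈ M from hr)
    rw [Sylow.coe_mapSurjective] at h1
    obtain ⟨s, hs', hsr⟩ := h1
    refine ⟨r * s⁻¹, (QuotientGroup.eq_one_iff _).mp ?_, s, hs', inv_mul_cancel_right r s, ?_⟩
    · show f (r * s⁻¹) = 1
      rw [map_mul, map_inv, hsr, mul_inv_cancel]
    · show f s ∈ M
      rw [hsr]; exact hr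
  have hRP0 : RP ≠ ⊥ := fun h => hM0 (eq_bot_iff.mpr fun x hx => by
    obtain ⟨r, rfl⟩ := hsurj x
    obtain ⟨l, hl, s, hs', e, hsR⟩ := hsupR r hx
    have h1 : (⟨s, hs'⟩ : (P : Subgroup G)) ∈ RP := hsR
    rw [h, Subgroup.mem_bot] at h1
    rw [← e, show s = 1 from congrArg Subtype.val h1, mul_one]
    exact Subgroup.mem_bot.mpr ((QuotientGroup.eq_one_iff l).mpr hl))
  haveI : RP.Normal := Subgroup.Normal.subgroupOf inferInstance _
  obtain ⟨z, hz, hzp⟩ := Cfsg.Agent.Grp.exists_prime_order_mem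
    (Cfsg.Agent.Grp.inf_center_ne_bot RP hRP0)
  obtain ⟨hzR, hzc⟩ := Subgroup.mem_inf.mp hz
  have hoz : orderOf (z : G) = p := by
    obtain ⟨k, hk⟩ := P.isPGroup' z
    rw [Subgroup.orderOf_coe]
    exact (Nat.prime_dvd_prime_iff_eq hzp hp.out).mp
      (hzp.dvd_of_dvd_pow (orderOf_dvd_iff_pow_eq_one.2 hk))
  -- a `q`-element of `L` is never centralized by an element of order `p`
  have hfree : ∀ (a : G) (V : Subgroup G), orderOf a = p → IsPGroup q V →
      V ⊓ Subgroup.centralizer {a} = ⊥ := by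
    intro a V ha hV
    by_contra hne
    obtain ⟨v, hv, hvp⟩ := Cfsg.Agent.Grp.exists_prime_order_mem hne
    obtain ⟨k, hk⟩ := hV ⟨v, (Subgroup.mem_inf.mp hv).1⟩
    exact hcomm a v ha ((Nat.prime_dvd_prime_iff_eq hvp hq.out).mp
      (hvp.dvd_of_dvd_pow (orderOf_dvd_iff_pow_eq_one.2 (congrArg Subtype.val hk))))
      (Subgroup.mem_centralizer_singleton_iff.mp (Subgroup.mem_inf.mp hv).2).symm
  have huniq : ∀ y ∈ (P : Subgroup G), orderOf y = p → ∃ k : ℕ, y = (z : G) ^ k := by
    intro y hyP hy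
    by_contra hno
    push Not at hno
    have hzy : ∀ w ∈ (P : Subgroup G), (z : G) * w = w * z := fun w hw =>
      congrArg Subtype.val (Subgroup.mem_center_iff.mp hzc ⟨w, hw⟩).symm
    set A : Subgroup G := Subgroup.closure {(z : G), y} with hA
    have hAP : A ≤ (P : Subgroup G) := (Subgroup.closure_le _).mpr (by
      rintro w (rfl | rfl)
      exacts [z.2, hyP])
    have hpow : ∀ a ∈ A, a ^ p = 1 ∧ ∀ w ∈ ({(z : G), y} : Set G), a * w = w * a := by
      intro a ha
      have hcl : A ≤ Subgroup.centralizer (({(z : G), y} : Set G)) := by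
        refine (Subgroup.closure_le _).mpr ?_
        rintro w (rfl | rfl) <;> refine Subgroup.mem_centralizer_iff.mpr ?_ <;> rintro v (rfl | rfl)
        · rfl
        · exact (hzy _ hyP).symm
        · exact hzy _ hyP
        · rfl
      refine ⟨?_, fun w hw => (Subgroup.mem_centralizer_iff.mp (hcl ha) w hw).symm⟩
      induction ha using Subgroup.closure_induction with
      | mem w hw =>
        rcases hw with rfl | rfl
        · exact orderOf_dvd_iff_pow_eq_one.1 hoz.dvd
        · rw [← hy, pow_orderOf_eq_one]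
      | one => exact one_pow _
      | mul a b ha hb iha ihb =>
        have hc : Commute a b := by
          have h1 : a ∈ Subgroup.centralizer (A : Set G) := by
            rw [hA, Subgroup.centralizer_closure]
            exact hcl ha
          exact (Subgroup.mem_centralizer_iff.mp h1 b hb).symm
        rw [hc.mul_pow, iha, ihb, one_mul]
      | inv a ha iha => rw [inv_pow, iha, inv_one]
    haveI hAc : IsMulCommutative A := by
      refine ⟨⟨fun a b => Subtype.ext ?_⟩⟩
      have h1 : (a : G) ∈ Subgroup.centralizer ({(z : G), y} : Set G) :=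
        Subgroup.mem_centralizer_iff.mpr fun w hw => ((hpow a a.2).2 w hw).symm
      rw [← Subgroup.centralizer_closure] at h1
      exact (Subgroup.mem_centralizer_iff.mp h1 b b.2).symm
    have hncyc : ¬ IsCyclic A := fun hc => by
      obtain ⟨g, hg⟩ := hc.exists_generator
      have hz' : (⟨z, Subgroup.subset_closure (Set.mem_insert _ _)⟩ : A) ≠ 1 := fun e => by
        have := congrArg Subtype.val e
        rw [show ((z : G)) = 1 from this, orderOf_one] at hoz
        exact hp.out.one_lt.ne hoz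
      have hgp : orderOf g ∣ p := orderOf_dvd_iff_pow_eq_one.2 (Subtype.ext (hpow g g.2).1)
      have hcard : Nat.card A ∣ p := by
        rw [← orderOf_eq_card_of_forall_mem_zpowers hg]; exact hgp
      haveI : Fintype A := Fintype.ofFinite A
      have hA' : Nat.card A = p := ((Nat.dvd_prime hp.out).1 hcard).resolve_left fun e => hz' (by
        haveI := (Nat.card_eq_one_iff_unique.mp e).1
        exact Subsingleton.elim _ _)
      have hzy' : (y : G) ∈ Subgroup.zpowers (z : G) := by
        have e : Subgroup.zpowers (z : G) = A := Subgroup.eq_of_le_of_card_ge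
          (Subgroup.zpowers_le.mpr (Subgroup.subset_closure (Set.mem_insert _ _)))
          (by rw [Nat.card_zpowers, hoz, hA'])
        rw [e]
        exact Subgroup.subset_closure (Set.mem_insert_of_mem _ rfl)
      rw [← mem_powers_iff_mem_zpowers, Submonoid.mem_powers_iff] at hzy'
      obtain ⟨k, hk⟩ := hzy'
      exact hno k hk.symm
    have hAL : A ≤ Subgroup.normalizer (L : Set G) := by
      rw [Subgroup.normalizer_eq_top_iff.2 hLn]; exact le_top
    have hApg : IsPGroup p A := P.isPGroup'.to_le hAP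
    obtain ⟨ka, hka⟩ := IsPGroup.iff_card.mp hApg
    have hcopAL : (Nat.card A).Coprime (Nat.card L) := by
      rw [hka]; exact ((Grp.pPrimeCore_coprime (p := p) (G := G)).symm).pow_left ka
    obtain ⟨X, hX, hAX⟩ := Cfsg.Agent.Grp.exists_invariant_sylow A L hAL hcopAL
      (Or.inl (Group.isSolvable_of_comm fun a b => IsMulCommutative.is_comm.comm a b)) q
    have hX0 : X ≠ ⊥ := fun e => by
      have h1 := hX.2.2
      rw [e, Subgroup.relIndex_bot_left] at h1
      exact h1 hqL
    haveI : Group.IsNilpotent X := IsPGroup.isNilpotent (p := q) hX.2.1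
    set V : Subgroup G := (Subgroup.center X).map X.subtype with hV
    have hV0 : V ≠ ⊥ := fun e => by
      haveI : Nontrivial X := (Subgroup.nontrivial_iff_ne_bot X).mpr hX0
      exact Group.IsNilpotent.center_ne_bot (G := X)
        ((Subgroup.map_eq_bot_iff_of_injective _ X.subtype_injective).mp e)
    haveI : IsMulCommutative V := ⟨⟨fun a b => by
      obtain ⟨_, ⟨x, hx, rfl⟩⟩ := a
      obtain ⟨_, ⟨x', hx', rfl⟩⟩ := b
      exact Subtype.ext (congrArg Subtype.val (Subgroup.mem_center_iff.mp hx x').symm :)⟩⟩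
    have hAV : A ≤ Subgroup.normalizer (V : Set G) := by
      intro a ha
      refine Subgroup.mem_normalizer_iff.2 fun v => ?_
      have hxa := Subgroup.mem_normalizer_iff.1 (hAX ha)
      have key : ∀ b : G, (∀ x, x ∈ X ↔ b * x * b⁻¹ ∈ X) → ∀ w ∈ V, b * w * b⁻¹ ∈ V := by
        rintro b hb _ ⟨x, hx, rfl⟩
        refine ⟨⟨b * x * b⁻¹, (hb x).1 x.2⟩, Subgroup.mem_center_iff.mpr fun t => Subtype.ext ?_, rfl⟩
        have hu : b⁻¹ * (t : G) * b ∈ X := (hb _).2 (by
          rw [show b * (b⁻¹ * (t : G) * b) * b⁻¹ = t by group]; exact t.2)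
        have h1 : b⁻¹ * (t : G) * b * x = x * (b⁻¹ * (t : G) * b) :=
          congrArg Subtype.val (Subgroup.mem_center_iff.mp hx ⟨_, hu⟩)
        show (t : G) * (b * x * b⁻¹) = b * x * b⁻¹ * t
        calc (t : G) * (b * x * b⁻¹) = b * (b⁻¹ * (t : G) * b * x) * b⁻¹ := by group
          _ = b * ((x : G) * (b⁻¹ * (t : G) * b)) * b⁻¹ := by rw [h1]
          _ = b * x * b⁻¹ * t := by group
      refine ⟨key a hxa v, fun hv => ?_⟩
      have h1 := key a⁻¹ (Subgroup.mem_normalizer_iff.1 (inv_mem (hAX ha))) _ hv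
      rwa [show a⁻¹ * (a * v * a⁻¹) * a⁻¹⁻¹ = v by group] at h1
    obtain ⟨a, ha, ha1, hne⟩ :=
      Cfsg.Agent.Grp.exists_centralizer_ne_bot A V hncyc hV0 hAV
    refine hne (hfree a V ?_ (IsPGroup.to_le (p := q) hX.2.1 (Subgroup.map_subtype_le _)))
    exact ((Nat.dvd_prime hp.out).1 (orderOf_dvd_iff_pow_eq_one.2 (hpow a ha).1)).resolve_left
      fun e => ha1 (orderOf_eq_one_iff.mp e)
  -- a character of `L` moved by `z`
  have hcop : (Nat.card L).Coprime (Nat.card (Subgroup.zpowers (z : G))) := by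
    rw [Nat.card_zpowers, hoz]; exact Grp.pPrimeCore_coprime
  obtain ⟨θ, hθ⟩ : ∃ θ : IrrCharacter L, (z : G) ∉ inertia L (θ : L → ℂ) := by
    by_contra hno
    push Not at hno
    have hc := centralizes_of_fix (Subgroup.zpowers (z : G)) L
      (Group.isSolvable_of_comm fun a b => IsMulCommutative.is_comm.comm a b) hcop
      (fun θ s hs g g' e => Eq.trans (congrArg _ (Subtype.ext e))
        (congrFun ((mem_inertia L).mp ((Subgroup.zpowers_le.mpr (hno θ)) hs)) g))
    obtain ⟨v, hv⟩ := exists_prime_orderOf_dvd_card' (G := L) q hqL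
    exact hcomm z v hoz (by rw [Subgroup.orderOf_coe, hv])
      (Subgroup.mem_centralizer_iff.mp (hc (Subgroup.mem_zpowers _)) v v.2).symm
  refine full_of_inertia L θ fun y hy hyT => hθ ?_
  -- every element of order `p` lies in `R`, conjugate by `L` to a power of `z`
  obtain ⟨Q, hQ⟩ : ∃ Q : Sylow p G, Subgroup.zpowers y ≤ (Q : Subgroup G) :=
    IsPGroup.exists_le_sylow (IsPGroup.of_card (n := 1) (by rw [Nat.card_zpowers, hy, pow_one]))
  obtain ⟨g, hg⟩ := MulAction.exists_smul_eq G Q P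
  have hgy : g * y * g⁻¹ ∈ (P : Subgroup G) := by
    rw [← hg]
    show g * y * g⁻¹ ∈ (MulAut.conj g • (Q : Subgroup G))
    exact Subgroup.smul_mem_pointwise_smul _ (MulAut.conj g) _ (hQ (Subgroup.mem_zpowers y))
  obtain ⟨k, hk⟩ := huniq _ hgy (by
    rw [show g * y * g⁻¹ = MulAut.conj g y from rfl, MulEquiv.orderOf_eq, hy])
  have hyR : y ∈ R := by
    have h1 : (z : G) ^ k ∈ R := pow_mem hzR k
    rw [← hk] at h1
    have := hRn.conj_mem _ h1 g⁻¹
    simpa [mul_assoc] using this
  -- move `y` into `P` by an element of `L`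
  obtain ⟨QR⟩ := (inferInstance : Nonempty (Sylow p R))
  have hPR : IsPGroup p ((P : Subgroup G).subgroupOf R) := P.isPGroup'.comap_subtype
  obtain ⟨SR, hSR⟩ := hPR.exists_le_sylow
  have hSReq : (SR : Subgroup R) = (P : Subgroup G).subgroupOf R := by
    refine le_antisymm (fun s hs' => ?_) hSR
    have hidx : ¬ p ∣ ((P : Subgroup G).subgroupOf R).index :=
      Grp.sylow_inf_normal_relIndex P R
    obtain ⟨j, hj⟩ := IsPGroup.iff_card.mp SR.isPGroup'
    have h1 := Subgroup.relIndex_mul_index hSR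
    have h2 : ((P : Subgroup G).subgroupOf R).relIndex (SR : Subgroup R) ∣ p ^ j :=
      hj ▸ Subgroup.relIndex_dvd_card _ _
    obtain ⟨i, -, hi⟩ := (Nat.dvd_prime_pow hp.out).mp h2
    cases i with
    | zero => exact Subgroup.relIndex_eq_one.mp (by rw [hi, pow_zero]) hs'
    | succ i => exact absurd (h1 ▸ hi ▸ (dvd_pow_self p i.succ_ne_zero).mul_right _) hidx
  obtain ⟨SY, hSY⟩ := (IsPGroup.of_card (n := 1) (show Nat.card (Subgroup.zpowers (⟨y, hyR⟩ : R)) = p ^ 1 by
    rw [Nat.card_zpowers, Subgroup.orderOf_mk, hy, pow_one])).exists_le_sylow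
  obtain ⟨r, hr⟩ := MulAction.exists_smul_eq R SY SR
  have hry : (r : G) * y * (r : G)⁻¹ ∈ (P : Subgroup G) := by
    have h1 : r * ⟨y, hyR⟩ * r⁻¹ ∈ (SR : Subgroup R) := by
      rw [← hr]
      show r * ⟨y, hyR⟩ * r⁻¹ ∈ (MulAut.conj r • (SY : Subgroup R))
      exact Subgroup.smul_mem_pointwise_smul _ (MulAut.conj r) _ (hSY (Subgroup.mem_zpowers _))
    rw [hSReq] at h1
    exact h1
  obtain ⟨i, hi⟩ := huniq _ hry (by
    rw [show (r : G) * y * (r : G)⁻¹ = MulAut.conj (r : G) y from rfl, MulEquiv.orderOf_eq, hy])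
  obtain ⟨l, hl, s, hs', hls, -⟩ := hsupR (r : G)⁻¹ (inv_mem r.2)
  have hzs : s * (z : G) ^ i * s⁻¹ = (z : G) ^ i := by
    have hc : Commute (z : G) s :=
      congrArg Subtype.val (Subgroup.mem_center_iff.mp hzc ⟨s, hs'⟩).symm
    rw [(hc.pow_left i).symm.eq, mul_inv_cancel_right]
  have hy' : y = l * (z : G) ^ i * l⁻¹ := by
    calc y = (r : G)⁻¹ * ((r : G) * y * (r : G)⁻¹) * (r : G) := by group
      _ = (l * s) * (z : G) ^ i * (l * s)⁻¹ := by rw [hi, hls, inv_inv]
      _ = l * (s * (z : G) ^ i * s⁻¹) * l⁻¹ := by group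
      _ = l * (z : G) ^ i * l⁻¹ := by rw [hzs]
  have hLT : L ≤ inertia L (θ : L → ℂ) := le_inertia L (IsIrr.classFun θ.2)
  have hzi : (z : G) ^ i ∈ inertia L (θ : L → ℂ) := by
    have := mul_mem (mul_mem (inv_mem (hLT hl)) (hy' ▸ hyT)) (hLT hl)
    simpa [mul_assoc] using this
  have hi0 : ¬ p ∣ i := fun h => by
    obtain ⟨j, rfl⟩ := h
    rw [pow_mul, orderOf_dvd_iff_pow_eq_one.1 hoz.dvd, one_pow, mul_one, mul_inv_cancel] at hy'
    rw [hy', orderOf_one] at hy
    exact hp.out.one_lt.ne hy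
  obtain ⟨j, hj⟩ := exists_pow_eq_self_of_coprime (x := (z : G)) (n := i)
    (by rw [hoz]; exact (hp.out.coprime_iff_not_dvd.mpr hi0).symm)
  rw [← hj]
  exact pow_mem hzi j

end Cfsg.Agent.Block.DefectZeroPair
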