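import Mathlib.RingTheory.Valuation.LocalSubring
import Mathlib.Analysis.Complex.Basic
import Mathlib
import Cfsg.Agent.Lib.Block.Residue
import Cfsg.Agent.Lib.Char.Constituent

/-!
Integral forms of complex representations over a valuation subring, and the fixed vectors of the
normalizer of a TI Sylow subgroup in small representations.
-/

set_option autoImplicit false

namespace Cfsg.Agent.Block.TIFixed

open Cfsg Matrix
open scoped Pointwise

set_option linter.unusedSectionVars false

universe u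

/-- A valuation subring of `ℂ` in which `p` is not a unit. -/
theorem exists_valuation {p : ℕ} (hp : p.Prime) :
    ∃ V : ValuationSubring ℂ, V.valuation (p : ℂ) < 1 := by
  set A : Subring ℂ := (Int.castRingHom ℂ).range with hA
  set a : A := ⟨(p : ℂ), ⟨(p : ℤ), by simp⟩⟩ with ha
  have hI : (Ideal.span {a} : Ideal A) ≠ ⊤ := by
    rw [Ne, Ideal.span_singleton_eq_top, isUnit_iff_exists_inv]
    rintro ⟨⟨b, m, hm⟩, h⟩
    have h1 : (p : ℂ) * b = 1 := congrArg Subtype.val h
    rw [← hm] at h1
    simp only [eq_intCast] at h1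
    have h2 : (p : ℤ) * m = 1 := by exact_mod_cast h1
    have h3 := Int.eq_one_of_mul_eq_one_right (by positivity) h2
    exact hp.ne_one (by exact_mod_cast h3)
  obtain ⟨V, -, hV⟩ := (Ideal.span {a}).image_subset_nonunits_valuationSubring hI
  exact ⟨V, V.mem_nonunits_iff.1 (hV ⟨a, Ideal.mem_span_singleton_self a, rfl⟩)⟩

variable {G : Type u} [Group G]

/-- An integral form of a representation by matrices. -/
theorem exists_integral [Finite G] (V : ValuationSubring ℂ) {n : ℕ}
    (R : G →* Matrix (Fin n) (Fin n) ℂ) :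
    ∃ A : G →* Matrix (Fin n) (Fin n) ℂ, (∀ g i j, A g i j ∈ V) ∧ ∀ g, (A g).trace = (R g).trace := by
  classical
  haveI := Fintype.ofFinite G
  let Bm : (Fin n → G × Fin n) → Matrix (Fin n) (Fin n) ℂ :=
    fun σ => Matrix.of fun i j => R (σ j).1 i (σ j).2
  obtain ⟨σ, -, hσ⟩ := Finset.exists_max_image Finset.univ (fun σ => V.valuation (Bm σ).det)
    ⟨fun j => ((1 : G), j), Finset.mem_univ _⟩
  set B := Bm σ with hB
  have hd : B.det ≠ 0 := by
    intro h0
    have h1 := hσ (fun j => ((1 : G), j)) (Finset.mem_univ _)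
    have e : Bm (fun j => ((1 : G), j)) = 1 := by
      ext i j
      simp [Bm]
    rw [show (Bm σ).det = 0 from h0, e, Matrix.det_one, map_one, map_zero] at h1
    exact absurd h1 (not_le.2 zero_lt_one)
  have hu : IsUnit B.det := isUnit_iff_ne_zero.2 hd
  have hcoord : ∀ (h : G) (c : Fin n) (j : Fin n), (B⁻¹ *ᵥ fun i => R h i c) j ∈ V := by
    intro h c j
    set w := fun i => R h i c
    have e : B⁻¹ *ᵥ w = B.det⁻¹ • B.cramer w := by
      rw [Matrix.cramer_eq_adjugate_mulVec, ← Matrix.smul_mulVec, Matrix.inv_def, Ring.inverse_eq_inv']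
    rw [e, Pi.smul_apply, smul_eq_mul, ← V.valuation_le_one_iff, map_mul, map_inv₀,
      Matrix.cramer_apply]
    have e2 : B.updateCol j w = Bm (Function.update σ j (h, c)) := by
      ext i k
      by_cases hk : k = j
      · subst hk; simp [Bm, w]
      · simp [Bm, B, hk]
    rw [e2, inv_mul_le_iff₀ (zero_lt_iff.2 (V.valuation.ne_zero_iff.2 hd)), mul_one]
    exact hσ _ (Finset.mem_univ _)
  let A : G →* Matrix (Fin n) (Fin n) ℂ :=
    { toFun := fun g => B⁻¹ * R g * B
      map_one' := by rw [map_one, mul_one, Matrix.nonsing_inv_mul B hu]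
      map_mul' := fun a b => by
        rw [map_mul]
        calc B⁻¹ * (R a * R b) * B = B⁻¹ * R a * (B * B⁻¹) * (R b * B) := by
              rw [Matrix.mul_nonsing_inv B hu, mul_one]; simp only [mul_assoc]
          _ = _ := by simp only [mul_assoc] }
  refine ⟨A, fun g i j => ?_, fun g => ?_⟩
  · have e : (B⁻¹ * R g * B) i j = (B⁻¹ *ᵥ fun k => R (g * (σ j).1) k (σ j).2) i := by
      rw [map_mul, mul_assoc, Matrix.mul_apply, Matrix.mulVec, dotProduct]
      refine Finset.sum_congr rfl fun k _ => ?_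
      congr 1
    show (B⁻¹ * R g * B) i j ∈ V
    rw [e]
    exact hcoord _ _ _
  · show (B⁻¹ * R g * B).trace = _
    rw [Matrix.trace_mul_cycle, Matrix.mul_nonsing_inv B hu, one_mul]

variable {p : ℕ} [Fact p.Prime]

/-- In dimension below the order of a `p`-group the norm map vanishes modulo the maximal ideal. -/
theorem norm_nonunit {P : Type u} [Group P] [Fintype P] (hP : IsPGroup p P) (V : ValuationSubring ℂ)
    (hV : V.valuation (p : ℂ) < 1) {n : ℕ} (hn : n < Nat.card P)
    (A : P →* Matrix (Fin n) (Fin n) ℂ) (hA : ∀ g i j, A g i j ∈ V) (i j : Fin n) :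
    V.valuation ((∑ g, A g) i j) < 1 := by
  classical
  let π : V →+* IsLocalRing.ResidueField V := IsLocalRing.residue V
  haveI : CharP (IsLocalRing.ResidueField V) p :=
    (CharP.charP_iff_prime_eq_zero (Fact.out : p.Prime)).2 (by
      rw [← map_natCast π]
      refine (IsLocalRing.residue_eq_zero_iff _).2 ?_
      rw [V.valuation_lt_one_iff]
      simpa using hV)
  let A' : P →* Matrix (Fin n) (Fin n) V :=
    { toFun := fun g => Matrix.of fun i j => ⟨A g i j, hA g i j⟩
      map_one' := by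
        ext i j
        simp [Matrix.one_apply]
        split_ifs <;> simp
      map_mul' := fun a b => by
        ext i j
        simp [Matrix.mul_apply] }
  let Ab : P →* Matrix (Fin n) (Fin n) (IsLocalRing.ResidueField V) :=
    (RingHom.mapMatrix π).toMonoidHom.comp A'
  set k := IsLocalRing.ResidueField V
  suffices h0 : ∑ g, Ab g = 0 by
    have h1 : π ((∑ g, A' g) i j) = 0 := by
      have := congrFun (congrFun h0 i) j
      rw [Matrix.sum_apply] at this ⊢
      rw [map_sum]
      exact this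
    rw [IsLocalRing.residue_eq_zero_iff, V.valuation_lt_one_iff] at h1
    convert h1 using 2
    rw [Matrix.sum_apply, Matrix.sum_apply]
    push_cast
    rfl
  suffices hrow : ∀ v : Fin n → k, v ᵥ* (∑ g, Ab g) = 0 by
    ext a b
    have := congrFun (hrow (Pi.single a 1)) b
    simpa using this
  intro v
  let Φ : MonoidAlgebra k P →ₗ[k] (Fin n → k) :=
    { toFun := fun f => v ᵥ* (MonoidAlgebra.lift k (Matrix (Fin n) (Fin n) k) P Ab f)
      map_add' := fun a b => by rw [map_add, Matrix.vecMul_add]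
      map_smul' := fun c a => by rw [map_smul, Matrix.vecMul_smul, RingHom.id_apply] }
  haveI : Module.Finite k (MonoidAlgebra k P) :=
    Module.Finite.of_basis (MonoidAlgebra.basis P k)
  have hker : LinearMap.ker Φ ≠ ⊥ := by
    refine Φ.ker_ne_bot_of_finrank_lt ?_
    rw [Module.finrank_fintype_fun_eq_card, Fintype.card_fin,
      Module.finrank_eq_card_basis (MonoidAlgebra.basis P k), ← Nat.card_eq_fintype_card]
    exact hn
  have hmul : ∀ (f : MonoidAlgebra k P) (u : P),
      Φ (f * MonoidAlgebra.single u (1 : k)) = Φ f ᵥ* Ab u := fun f u => by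
    show v ᵥ* _ = (v ᵥ* _) ᵥ* _
    rw [map_mul, MonoidAlgebra.lift_single, one_smul, Matrix.vecMul_vecMul]
  obtain ⟨f, hf, hf0, hfix⟩ := Cfsg.Agent.Block.exists_fixed_ne_zero (p := p) (⊤ : Subgroup P)
    (hP.of_equiv Subgroup.topEquiv.symm) (LinearMap.ker Φ) (fun u _ g hg => by
      rw [LinearMap.mem_ker] at hg ⊢
      rw [hmul, hg, Matrix.zero_vecMul]) hker
  have hconst : ∀ u : P, f.coeff u = f.coeff 1 := fun u => by
    have h := congrArg (fun x : MonoidAlgebra k P => x.coeff u) (hfix u (Subgroup.mem_top u))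
    simp only [MonoidAlgebra.coeff_mul_single_apply, mul_inv_cancel, mul_one] at h
    exact h.symm
  have hc : f.coeff 1 ≠ 0 := fun h => hf0 (MonoidAlgebra.ext (Finsupp.ext fun u => by simp [hconst u, h]))
  have hlift : MonoidAlgebra.lift k (Matrix (Fin n) (Fin n) k) P Ab f = f.coeff 1 • ∑ g, Ab g := by
    rw [MonoidAlgebra.lift_apply, Finsupp.sum_fintype _ _ (fun g => by simp), Finset.smul_sum]
    exact Finset.sum_congr rfl fun g _ => by rw [hconst g]
  have h2 : Φ f = 0 := hf
  rw [show Φ f = v ᵥ* (MonoidAlgebra.lift k (Matrix (Fin n) (Fin n) k) P Ab f) from rfl, hlift,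
    Matrix.vecMul_smul, smul_eq_zero] at h2
  exact h2.resolve_left hc

/-- No fixed vector of the normalizer of a TI Sylow subgroup in a small representation without
fixed vectors of the group. -/
theorem no_fixed [Fintype G] (P : Sylow p G)
    (hTI : ∀ g : G, g ∉ Subgroup.normalizer ((P : Subgroup G) : Set G) →
      (P : Subgroup G) ⊓ (MulAut.conj g • (P : Subgroup G)) = ⊥)
    {n : ℕ} (hn : n < Nat.card (P : Subgroup G)) (R : G →* Matrix (Fin n) (Fin n) ℂ)
    (h0 : (∑ g, R g).trace = 0) :
    ∀ [Fintype (Subgroup.normalizer ((P : Subgroup G) : Set G))],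
      ∑ h : Subgroup.normalizer ((P : Subgroup G) : Set G), (R h).trace = 0 := by
  classical
  obtain ⟨V, hV⟩ := exists_valuation (Fact.out : p.Prime)
  obtain ⟨A, hA, htr⟩ := exists_integral V R
  set N := Subgroup.normalizer ((P : Subgroup G) : Set G) with hN
  intro hft
  -- the sum over the group vanishes
  have hsum : ∑ g, A g = 0 := by
    set S := ∑ g, A g with hS
    have hSS : S * S = (Nat.card G : ℂ) • S := by
      have h1 : ∀ g, A g * S = S := fun g => by
        rw [hS, Finset.mul_sum]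
        exact Fintype.sum_equiv (Equiv.mulLeft g) _ _ fun x => (map_mul A g x).symm
      conv_lhs => arg 1; rw [hS]
      rw [Finset.sum_mul, Finset.sum_congr rfl fun g _ => h1 g, Finset.sum_const, Finset.card_univ,
        ← Nat.card_eq_fintype_card, Nat.cast_smul_eq_nsmul]
    have hc : (Nat.card G : ℂ) ≠ 0 := Nat.cast_ne_zero.2 Nat.card_pos.ne'
    set E := (Nat.card G : ℂ)⁻¹ • S with hE
    have hEE : E * E = E := by
      rw [hE, smul_mul_smul_comm, hSS, smul_smul, mul_assoc, inv_mul_cancel₀ hc, mul_one]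
    have hidem : IsIdempotentElem (Matrix.toLin' E) := by
      rw [IsIdempotentElem, Module.End.mul_eq_comp, ← Matrix.toLin'_mul, hEE]
    have htr0 : E.trace = 0 := by
      rw [hE, Matrix.trace_smul, hS, Matrix.trace_sum, Finset.sum_congr rfl fun g _ => htr g,
        ← Matrix.trace_sum, h0, smul_zero]
    have h2 := (LinearMap.IsIdempotentElem.isProj_range _ hidem).trace
    rw [Matrix.trace_toLin'_eq, htr0] at h2
    have h3 : LinearMap.range (Matrix.toLin' E) = ⊥ :=
      Submodule.finrank_eq_zero.1 (by exact_mod_cast h2.symm)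
    have h4 : E = 0 := Matrix.toLin'.injective (by
      rw [map_zero]; exact LinearMap.range_eq_bot.1 h3)
    rw [hE, smul_eq_zero] at h4
    exact h4.resolve_left (inv_ne_zero hc)
  by_contra hne
  have hne' : (∑ h : N, A h).trace ≠ 0 := by
    rw [Matrix.trace_sum]
    intro h
    refine hne ?_
    rw [← h]
    exact Fintype.sum_equiv (Equiv.refl _) _ _ fun g => (htr g).symm
  obtain ⟨c, hc⟩ : ∃ c : Fin n, (∑ h : N, A h) c c ≠ 0 := by
    by_contra hall
    push Not at hall
    exact hne' (Finset.sum_eq_zero fun c _ => hall c)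
  set v₀ : Fin n → ℂ := fun i => (∑ h : N, A h) i c with hv₀
  have hfix₀ : ∀ h : N, A h *ᵥ v₀ = v₀ := fun h => by
    have h1 : A h * (∑ x : N, A x) = ∑ x : N, A x := by
      rw [Finset.mul_sum]
      exact Fintype.sum_equiv (Equiv.mulLeft h) _ _ fun x => (map_mul A (h : G) (x : G)).symm
    funext i
    show (A h *ᵥ v₀) i = (∑ x : N, A x) i c
    conv_rhs => rw [← h1]
    rw [Matrix.mul_apply]
    rfl
  obtain ⟨m, -, hm⟩ := Finset.exists_max_image Finset.univ (fun i => V.valuation (v₀ i))
    ⟨c, Finset.mem_univ c⟩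
  have hm0 : v₀ m ≠ 0 := fun h => by
    have h1 := hm c (Finset.mem_univ c)
    rw [h, map_zero, le_zero_iff, V.valuation.zero_iff] at h1
    exact hc h1
  set v : Fin n → ℂ := (v₀ m)⁻¹ • v₀ with hvdef
  have hvV : ∀ i, V.valuation (v i) ≤ 1 := fun i => by
    rw [hvdef, Pi.smul_apply, smul_eq_mul, map_mul, map_inv₀,
      inv_mul_le_iff₀ (zero_lt_iff.2 (V.valuation.ne_zero_iff.2 hm0)), mul_one]
    exact hm i (Finset.mem_univ i)
  have hvm : v m = 1 := by rw [hvdef, Pi.smul_apply, smul_eq_mul, inv_mul_cancel₀ hm0]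
  have hvfix : ∀ h : N, A h *ᵥ v = v := fun h => by rw [hvdef, Matrix.mulVec_smul, hfix₀]
  let F : G ⧸ N → Fin n → ℂ := Quotient.lift (fun g : G => A g *ᵥ v) fun a b h => by
    have h' : a⁻¹ * b ∈ N := QuotientGroup.leftRel_apply.1 h
    have := hvfix ⟨_, h'⟩
    show A a *ᵥ v = A b *ᵥ v
    conv_lhs => rw [← this]
    rw [Matrix.mulVec_mulVec, ← map_mul]
    simp
  haveI := Fintype.ofFinite (G ⧸ N)
  haveI := Fintype.ofFinite (P : Subgroup G)
  have hFsum : ∑ q, F q = 0 := by
    have h1 : ∑ g : G, F (g : G ⧸ N) = 0 := by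
      show ∑ g : G, A g *ᵥ v = 0
      rw [← Matrix.sum_mulVec, hsum, Matrix.zero_mulVec]
    have h2 : ∀ q : G ⧸ N, ∑ g ∈ Finset.univ.filter (fun g : G => (g : G ⧸ N) = q), F (g : G ⧸ N) =
        (Nat.card N : ℂ) • F q := by
      intro q
      rw [Finset.sum_congr rfl (g := fun _ => F q) fun g hg => by rw [(Finset.mem_filter.1 hg).2],
        Finset.sum_const, Nat.cast_smul_eq_nsmul]
      congr 1
      obtain ⟨g₀, rfl⟩ := QuotientGroup.mk_surjective q
      rw [← Fintype.card_subtype, ← Nat.card_eq_fintype_card]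
      exact Nat.card_congr
        { toFun := fun g => ⟨g₀⁻¹ * g.1, QuotientGroup.eq.1 g.2.symm⟩
          invFun := fun x => ⟨g₀ * x.1, (QuotientGroup.eq.2 (by simp)).symm⟩
          left_inv := fun g => by simp
          right_inv := fun x => by simp }
    rw [← Finset.sum_fiberwise Finset.univ (fun g : G => (g : G ⧸ N)), Finset.sum_congr rfl
      fun q _ => h2 q, ← Finset.smul_sum, smul_eq_zero] at h1
    exact h1.resolve_left (Nat.cast_ne_zero.2 Nat.card_pos.ne')
  -- free orbits off the base coset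
  have hfree : ∀ q : G ⧸ N, q ≠ ((1 : G) : G ⧸ N) → ∀ u : (P : Subgroup G), u • q = q → u = 1 := by
    intro q hq u hu
    obtain ⟨g, rfl⟩ := QuotientGroup.mk_surjective q
    have hg : g ∉ N := fun h => hq (QuotientGroup.eq.2 (by simpa using h))
    have hgu : g⁻¹ * (u : G) * g ∈ N := by
      have : ((((u : G) * g : G)) : G ⧸ N) = (g : G ⧸ N) := hu
      have h1 := QuotientGroup.eq.1 this.symm
      simpa [mul_assoc] using h1
    have hpz : IsPGroup p (Subgroup.zpowers (g⁻¹ * (u : G) * g)) := by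
      obtain ⟨k, hk⟩ := P.isPGroup' u
      refine IsPGroup.of_card_dvd_pow (n := k) ?_
      rw [Nat.card_zpowers]
      refine (orderOf_dvd_of_pow_eq_one (n := p ^ k) ?_)
      have hu1 : (u : G) ^ p ^ k = 1 := congrArg Subtype.val hk
      have := conj_pow (i := p ^ k) (a := g⁻¹) (b := (u : G))
      rw [inv_inv, hu1, mul_one, inv_mul_cancel] at this
      exact this
    have h2 : g⁻¹ * (u : G) * g ∈ (P : Subgroup G) := by
      have h3 := IsPGroup.inf_normalizer_sylow hpz P
      have h4 : g⁻¹ * (u : G) * g ∈ Subgroup.zpowers (g⁻¹ * (u : G) * g) ⊓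
          Subgroup.normalizer (P : Set G) :=
        ⟨Subgroup.mem_zpowers _, hgu⟩
      rw [h3] at h4
      exact h4.2
    have h5 : (u : G) ∈ (P : Subgroup G) ⊓ (MulAut.conj g • (P : Subgroup G)) := by
      refine ⟨u.2, ?_⟩
      show (u : G) ∈ MulAut.conj g • (P : Subgroup G)
      rw [Subgroup.mem_pointwise_smul_iff_inv_smul_mem]
      simpa [mul_assoc] using h2
    rw [hTI g hg, Subgroup.mem_bot] at h5
    exact Subtype.ext h5
  -- the orbit sums are nonunits
  have hlt : V.valuation (∑ q ∈ Finset.univ.filter (fun q : G ⧸ N => q ≠ ((1 : G) : G ⧸ N)), F q m) < 1 := by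
    rw [← Finset.sum_fiberwise _ (fun q => (⟦q⟧ : MulAction.orbitRel.Quotient (P : Subgroup G) (G ⧸ N)))]
    refine Valuation.map_sum_lt _ one_ne_zero fun o _ => ?_
    rcases Finset.eq_empty_or_nonempty ((Finset.univ.filter
      (fun q : G ⧸ N => q ≠ ((1 : G) : G ⧸ N))).filter
      (fun q => (⟦q⟧ : MulAction.orbitRel.Quotient (P : Subgroup G) (G ⧸ N)) = o)) with he | ⟨q₀, hq₀⟩
    · rw [he, Finset.sum_empty, map_zero]; exact zero_lt_one
    simp only [Finset.mem_filter, Finset.mem_univ, true_and] at hq₀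
    have hbase : ∀ u : (P : Subgroup G), u • ((1 : G) : G ⧸ N) = ((1 : G) : G ⧸ N) := fun u => by
      show (((u : G) * 1 : G) : G ⧸ N) = _
      rw [mul_one]
      exact QuotientGroup.eq.2 (by simpa using N.inv_mem (Subgroup.le_normalizer u.2))
    have hset : (Finset.univ.filter (fun q : G ⧸ N => q ≠ ((1 : G) : G ⧸ N))).filter
        (fun q => (⟦q⟧ : MulAction.orbitRel.Quotient (P : Subgroup G) (G ⧸ N)) = o) =
        Finset.univ.image (fun u : (P : Subgroup G) => u • q₀) := by
      ext q
      simp only [Finset.mem_filter, Finset.mem_univ, true_and, Finset.mem_image]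
      constructor
      · rintro ⟨-, h⟩
        exact MulAction.orbitRel_apply.1 (Quotient.exact (h.trans hq₀.2.symm))
      · rintro ⟨u, rfl⟩
        refine ⟨fun h => hq₀.1 ?_, (Quotient.sound (MulAction.orbitRel_apply.2 ⟨u, rfl⟩)).trans hq₀.2⟩
        rw [← inv_smul_smul u q₀, h, hbase]
    rw [hset, Finset.sum_image fun a _ b _ h => by
      have : (b⁻¹ * a) • q₀ = q₀ := by rw [mul_smul, h, inv_smul_smul]
      exact (inv_mul_eq_one.1 (hfree q₀ hq₀.1 _ this)).symm]
    have hF : ∀ u : (P : Subgroup G), F (u • q₀) = A (u : G) *ᵥ F q₀ := by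
      intro u
      obtain ⟨g, rfl⟩ := QuotientGroup.mk_surjective q₀
      show A ((u : G) * g) *ᵥ v = A (u : G) *ᵥ (A g *ᵥ v)
      rw [Matrix.mulVec_mulVec, map_mul]
    rw [← Finset.sum_apply, Finset.sum_congr rfl fun u _ => hF u, ← Matrix.sum_mulVec]
    rw [Matrix.mulVec, dotProduct]
    refine Valuation.map_sum_lt _ one_ne_zero fun j _ => ?_
    rw [map_mul]
    refine mul_lt_one_of_lt_of_le (norm_nonunit P.isPGroup' V hV hn (A.comp (P : Subgroup G).subtype)
      (fun g i j => hA g i j) m j) ?_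
    obtain ⟨g, rfl⟩ := QuotientGroup.mk_surjective q₀
    show V.valuation ((A g *ᵥ v) j) ≤ 1
    rw [Matrix.mulVec, dotProduct]
    refine Valuation.map_sum_le _ fun i _ => ?_
    rw [map_mul]
    exact mul_le_one' ((V.valuation_le_one_iff _).2 (hA g j i)) (hvV i)
  have h1 : ∑ q, F q m = 0 := by
    rw [← Finset.sum_apply, hFsum]; rfl
  rw [← Finset.sum_filter_add_sum_filter_not Finset.univ (fun q : G ⧸ N => q ≠ ((1 : G) : G ⧸ N)),
    show Finset.univ.filter (fun q : G ⧸ N => ¬ q ≠ ((1 : G) : G ⧸ N)) = {((1 : G) : G ⧸ N)} by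
      ext q; simp, Finset.sum_singleton,
    show F ((1 : G) : G ⧸ N) = v by
      show A 1 *ᵥ v = v
      rw [map_one, Matrix.one_mulVec], hvm, add_eq_zero_iff_eq_neg] at h1
  rw [h1, Valuation.map_neg, map_one] at hlt
  exact lt_irrefl _ hlt

end Cfsg.Agent.Block.TIFixed
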