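import Cfsg.Agent.Lib.Block.Zas.PrimePlusOne
import Cfsg.Agent.Lib.Block.OrderPrimeCases

/-!
Simple groups of order `(p + 1) p (p - 1) / 2` in which `p + 1` is the only possible Sylow number.
-/

set_option autoImplicit false

namespace Cfsg.Agent.Block.OrdP

universe u v

theorem psl_congr' {K : Type u} {L : Type v} [Field K] [Field L] {n : ℕ} (e : K ≃+* L) :
    Nonempty (Matrix.ProjectiveSpecialLinearGroup (Fin n) K ≃*
      Matrix.ProjectiveSpecialLinearGroup (Fin n) L) := by
  refine Zas.nonempty_quotient_center_congr (MonoidHom.toMulEquiv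
    (Matrix.SpecialLinearGroup.map (e : K →+* L)) (Matrix.SpecialLinearGroup.map (e.symm : L →+* K))
    ?_ ?_)
  · refine MonoidHom.ext fun g => ?_
    ext i j
    exact e.symm_apply_apply _
  · refine MonoidHom.ext fun g => ?_
    ext i j
    exact e.apply_symm_apply _

/-- Identification of `PSL₂(p)` by order and Sylow number. -/
theorem iso_psl_of_card {G : Type*} [Group G] [Finite G] [IsSimpleGroup G] {p m : ℕ} [hp : Fact p.Prime]
    {F : Type*} [Field F] [Fintype F] (hF : Fintype.card F = p) (hp5 : 5 ≤ p)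
    (hG : Nat.card G = p * m) (hm : 2 * m = (p + 1) * (p - 1))
    (honly : ∀ k : ℕ, 0 < k → p * k + 1 ∣ m → k = 1) (hmer : ∀ q : ℕ, p + 1 ≠ 2 ^ q) :
    Nonempty (G ≃* Matrix.ProjectiveSpecialLinearGroup (Fin 2) F) := by
  classical
  have hna : ¬ IsMulCommutative G := small_not_comm (by
    rw [hG]; intro h
    have h1 : m = 1 ∨ m ≠ 1 := em _
    rcases h1 with rfl | h1
    · have : 5 * 4 ≤ (p + 1) * (p - 1) := Nat.mul_le_mul (by omega) (by omega)
      omega
    · exact Nat.not_prime_mul hp.out.ne_one h1 h)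
  obtain ⟨P⟩ : Nonempty (Sylow p G) := inferInstance
  obtain ⟨k, hk0, hn, hkm, -, -, -⟩ :=
    small_sylow_number hna P (a := 1) (m := m) (by rw [pow_one, hG]) one_ne_zero
  obtain rfl := honly k hk0 hkm
  have hkm' : Nat.card (Sylow p G) = p + 1 := by rw [hn, mul_one]
  letI := Fintype.ofFinite (Sylow p G)
  let f : G →* Equiv.Perm (Sylow p G) := MulAction.toPermHom G (Sylow p G)
  have hinj : Function.Injective f := by
    rw [← MonoidHom.ker_eq_bot_iff]
    refine (IsSimpleGroup.eq_bot_or_eq_top_of_normal f.ker inferInstance).resolve_right fun h => ?_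
    haveI : Nontrivial (Sylow p G) := by
      rw [← Finite.one_lt_card_iff_nontrivial, hkm']
      omega
    obtain ⟨Q, hQ⟩ := exists_ne P
    obtain ⟨g, hg⟩ := MulAction.exists_smul_eq G P Q
    refine hQ ?_
    have hgk : g ∈ f.ker := h ▸ Subgroup.mem_top g
    rw [← hg]
    exact Equiv.congr_fun (MonoidHom.mem_ker.mp hgk) P
  have e : G ≃* f.range := MonoidHom.ofInjective hinj
  haveI : MulAction.IsPretransitive f.range (Sylow p G) := ⟨fun x y => by
    obtain ⟨g, hg⟩ := MulAction.exists_smul_eq G x y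
    exact ⟨⟨f g, g, rfl⟩, hg⟩⟩
  have hp2 : p % 2 = 1 := hp.out.eq_two_or_odd.resolve_left (by omega)
  have hm' : m = (p + 1) * ((p - 1) / 2) := by
    have h2 : p - 1 = 2 * ((p - 1) / 2) := by omega
    rw [h2, ← mul_assoc, mul_comm (p + 1) 2, mul_assoc] at hm
    omega
  rcases Zas.prime_plus_one (d := (p - 1) / 2) hp.out
      (by rw [← Nat.card_eq_fintype_card, hkm']) f.range
      (by rw [← Nat.card_congr e.toEquiv, hG, hm']; ring) (by omega) with h | h | h
  · omega
  · obtain ⟨-, ⟨g⟩⟩ := h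
    obtain ⟨c⟩ := psl_congr' (n := 2) (FiniteField.ringEquivOfCardEq (K := ZMod p) (K' := F)
      (by rw [hF, ZMod.card]))
    exact ⟨e.trans (g.trans c)⟩
  · obtain ⟨q, -, hq, -⟩ := h
    exact absurd hq (hmer q)

end Cfsg.Agent.Block.OrdP
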