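import Mathlib

/-!
Exhaustive check of the multisets of a given size drawn from a list of weight vectors.
-/

namespace Cfsg.Agent.Block.OrdP

variable {V : Type*} [AddCommMonoid V]

/-- Every way to pick `n` vectors from `vs` with repetition, added to `acc`, passes the test. -/
def allPicks (f : V → Bool) : List V → ℕ → V → Bool
  | [], 0, acc => f acc
  | [], _ + 1, _ => true
  | v :: vs, n, acc => (List.range (n + 1)).all fun j => allPicks f vs (n - j) (acc + j • v)

theorem allPicks_sound {ι : Type*} (f : V → Bool) :
    ∀ (vs : List V) (n : ℕ) (acc : V), allPicks f vs n acc = true →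
      ∀ (Z : Finset ι) (g : ι → V), Z.card = n → (∀ x ∈ Z, g x ∈ vs) →
        f (acc + ∑ x ∈ Z, g x) = true := by
  classical
  intro vs
  induction vs with
  | nil =>
    intro n acc h Z g hn hg
    have hZ : Z = ∅ := Finset.eq_empty_of_forall_notMem fun x hx => List.not_mem_nil (hg x hx)
    subst hZ
    simp at hn
    subst hn
    simpa [allPicks] using h
  | cons v vs ih =>
    intro n acc h Z g hn hg
    rw [allPicks, List.all_eq_true] at h
    set A := Z.filter fun x => g x = v with hA
    set B := Z.filter fun x => ¬ g x = v with hB
    have hcard : A.card + B.card = n := by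
      rw [hA, hB, Finset.card_filter_add_card_filter_not, hn]
    have hj := ih (n - A.card) (acc + A.card • v)
      (h A.card (List.mem_range.2 (by omega))) B g (by omega) fun x hx => by
        obtain ⟨hxZ, hxv⟩ := Finset.mem_filter.1 hx
        exact (List.mem_cons.1 (hg x hxZ)).resolve_left hxv
    rw [add_assoc] at hj
    rw [← Finset.sum_filter_add_sum_filter_not Z fun x => g x = v, ← hA, ← hB,
      Finset.sum_congr rfl (g := fun _ => v) fun x hx => (Finset.mem_filter.1 hx).2, Finset.sum_const]
    exact hj

end Cfsg.Agent.Block.OrdP
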