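import Cfsg.Agent.Lib.Block.Order168Dihedral

/-!
Simple groups of order 168: Klein four-subgroups and their normalizers.
-/

set_option autoImplicit false

open scoped Pointwise

namespace Cfsg.Agent.Block

universe u

/-- The two four-groups in the dihedral group of order 8. -/
def d4Four (i : Fin 2) : Subgroup (DihedralGroup 4) where
  carrier := {x | x = 1 ∨ x = .r 2 ∨ x = .sr (i.val : ZMod 4) ∨ x = .sr ((i.val : ZMod 4) + 2)}
  one_mem' := Or.inl rfl
  mul_mem' := by
    intro a b ha hb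
    simp only [Set.mem_ofPred_eq] at *
    revert a b
    revert i
    decide
  inv_mem' := by
    intro a ha
    simp only [Set.mem_ofPred_eq] at *
    revert a
    revert i
    decide

theorem mem_d4Four {i : Fin 2} {x : DihedralGroup 4} :
    x ∈ d4Four i ↔ x = 1 ∨ x = .r 2 ∨ x = .sr (i.val : ZMod 4) ∨ x = .sr ((i.val : ZMod 4) + 2) :=
  Iff.rfl

theorem d4Four_facts : ∀ i : Fin 2, ∀ a : DihedralGroup 4,
    ((a = 1 ∨ a = .r 2 ∨ a = .sr (i.val : ZMod 4) ∨ a = .sr ((i.val : ZMod 4) + 2)) →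
      a * a = 1 ∧ ∀ c : DihedralGroup 4,
        (c * a * c⁻¹ = 1 ∨ c * a * c⁻¹ = .r 2 ∨ c * a * c⁻¹ = .sr (i.val : ZMod 4) ∨
          c * a * c⁻¹ = .sr ((i.val : ZMod 4) + 2))) ∧
      (a * .r 2 = .r 2 * a) ∧
      (a * .sr (i.val : ZMod 4) = .sr (i.val : ZMod 4) * a →
        a = 1 ∨ a = .r 2 ∨ a = .sr (i.val : ZMod 4) ∨ a = .sr ((i.val : ZMod 4) + 2)) := by
  decide

theorem d4_pair : ∀ a b : DihedralGroup 4, a * a = 1 → b * b = 1 → a * b = b * a → a ≠ 1 → b ≠ 1 →
    a ≠ b → ∃ i : Fin 2, ∀ x : DihedralGroup 4,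
      (x = 1 ∨ x = .r 2 ∨ x = .sr (i.val : ZMod 4) ∨ x = .sr ((i.val : ZMod 4) + 2)) →
      x = 1 ∨ x = a ∨ x = b ∨ x = a * b := by
  decide

theorem d4_center : ∀ x : DihedralGroup 4, (∀ y, y * x = x * y) → x = 1 ∨ x = .r 2 := by decide

theorem d4Four_card (i : Fin 2) : Nat.card (d4Four i) = 4 := by
  have : ∀ i : Fin 2, (Finset.univ.filter (fun x : DihedralGroup 4 =>
      x = 1 ∨ x = .r 2 ∨ x = .sr (i.val : ZMod 4) ∨ x = .sr ((i.val : ZMod 4) + 2))).card = 4 := by
    decide
  classical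
  refine Eq.trans ?_ (this i)
  rw [Nat.card_eq_fintype_card, Fintype.card_subtype]
  congr 1
  ext x
  simp [mem_d4Four]

theorem d4Four_ne : d4Four 0 ≠ d4Four 1 := by
  intro h
  have : DihedralGroup.sr (0 : ZMod 4) ∈ d4Four 1 := h ▸ (Or.inr (Or.inr (Or.inl rfl)))
  revert this
  rw [mem_d4Four]
  decide

theorem isKleinFour_of {H : Type u} [Group H] (hc : Nat.card H = 4) (hsq : ∀ x : H, x * x = 1) :
    IsKleinFour H := by
  refine ⟨hc, ?_⟩
  have h1 : Monoid.exponent H ∣ 2 :=
    Monoid.exponent_dvd_of_forall_pow_eq_one fun x => by rw [pow_two]; exact hsq x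
  rcases (Nat.dvd_prime Nat.prime_two).1 h1 with e | e
  · exfalso
    haveI := Monoid.exp_eq_one_iff.1 e
    rw [Nat.card_unique] at hc
    omega
  · exact e

theorem kleinFour_sq {H : Type u} [Group H] [hH : IsKleinFour H] (x : H) : x * x = 1 := by
  rw [← pow_two, ← hH.exponent_two, Monoid.pow_exponent_eq_one]

variable {G : Type u} [Group G] [Finite G] [IsSimpleGroup G]

theorem mem_smul_sylow {p : ℕ} {T : Sylow p G} {g y : G} :
    y ∈ ((g • T : Sylow p G) : Subgroup G) ↔ g⁻¹ * y * g ∈ (T : Subgroup G) := by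
  show y ∈ MulAut.conj g • (T : Subgroup G) ↔ _
  rw [Subgroup.mem_pointwise_smul_iff_inv_smul_mem]
  simp [MulAut.smul_def]

theorem mem_map_conj {U : Subgroup G} {g y : G} :
    y ∈ U.map (MulAut.conj g).toMonoidHom ↔ g⁻¹ * y * g ∈ U := by
  simp only [Subgroup.mem_map, MulEquiv.coe_toMonoidHom, MulAut.conj_apply]
  constructor
  · rintro ⟨x, hx, rfl⟩
    simpa [mul_assoc] using hx
  · intro hy
    exact ⟨_, hy, by group⟩

theorem map_conj_map_conj {U : Subgroup G} {g k : G} :
    (U.map (MulAut.conj g).toMonoidHom).map (MulAut.conj k).toMonoidHom =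
      U.map (MulAut.conj (k * g)).toMonoidHom := by
  ext y
  simp only [mem_map_conj]
  simp [mul_assoc]

/-- The `i`-th four-group of a Sylow 2-subgroup. -/
noncomputable def sylFour (h : Nat.card G = 168) (T : Sylow 2 G) (i : Fin 2) : Subgroup G :=
  ((d4Four i).map (o168_dihedral h T).some.symm.toMonoidHom).map (T : Subgroup G).subtype

theorem mem_sylFour (h : Nat.card G = 168) (T : Sylow 2 G) (i : Fin 2) {x : G} :
    x ∈ sylFour h T i ↔ ∃ hx : x ∈ (T : Subgroup G),
      (o168_dihedral h T).some ⟨x, hx⟩ ∈ d4Four i := by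
  set e := (o168_dihedral h T).some
  simp only [sylFour, Subgroup.mem_map, MulEquiv.coe_toMonoidHom, Subgroup.coe_subtype]
  constructor
  · rintro ⟨w, ⟨d, hd, rfl⟩, rfl⟩
    exact ⟨(e.symm d).2, (e.apply_symm_apply d).symm ▸ hd⟩
  · rintro ⟨hx, hd⟩
    exact ⟨⟨x, hx⟩, ⟨_, hd, e.symm_apply_apply _⟩, rfl⟩

theorem sylFour_le (h : Nat.card G = 168) (T : Sylow 2 G) (i : Fin 2) :
    sylFour h T i ≤ (T : Subgroup G) := fun _ hx => ((mem_sylFour h T i).1 hx).1

theorem sylFour_klein (h : Nat.card G = 168) (T : Sylow 2 G) (i : Fin 2) :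
    IsKleinFour (sylFour h T i) := by
  refine isKleinFour_of ?_ fun x => ?_
  · rw [sylFour, Subgroup.card_map_of_injective (Subgroup.subtype_injective _),
      Subgroup.card_map_of_injective (MulEquiv.injective _), d4Four_card]
  · obtain ⟨hx, hd⟩ := (mem_sylFour h T i).1 x.2
    have h1 := ((d4Four_facts i _).1 hd).1
    rw [← map_mul, map_eq_one_iff _ (MulEquiv.injective _)] at h1
    refine Subtype.ext ?_
    show (x : G) * x = 1
    exact congrArg Subtype.val h1

theorem klein_in_sylow (h : Nat.card G = 168) (T : Sylow 2 G) {U : Subgroup G}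
    (hU : U ≤ (T : Subgroup G)) (hK : IsKleinFour U) : ∃ i, U = sylFour h T i := by
  classical
  set e := (o168_dihedral h T).some with he
  haveI : Nontrivial U := Finite.one_lt_card_iff_nontrivial.1 (by rw [hK.card_four]; norm_num)
  obtain ⟨a, ha⟩ := exists_ne (1 : U)
  obtain ⟨b, hb1, hba⟩ : ∃ b : U, b ≠ 1 ∧ b ≠ a := by
    have := Fintype.ofFinite U
    obtain ⟨b, hb⟩ := (Finset.card_pos (s := ({1, a} : Finset U)ᶜ)).1 (by
      have := Finset.card_le_two (a := (1 : U)) (b := a)
      rw [Finset.card_compl, ← Nat.card_eq_fintype_card, hK.card_four]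
      omega)
    simp only [Finset.mem_compl, Finset.mem_insert, Finset.mem_singleton, not_or] at hb
    exact ⟨b, hb⟩
  let ι : U →* DihedralGroup 4 := e.toMonoidHom.comp (Subgroup.inclusion hU)
  have hι : Function.Injective ι := e.injective.comp (Subgroup.inclusion_injective hU)
  have hcomm : a * b = b * a := by
    have e1 := kleinFour_sq (a * b)
    have e2 := eq_inv_of_mul_eq_one_left e1
    rw [mul_inv_rev, ← eq_inv_of_mul_eq_one_left (kleinFour_sq a),
      ← eq_inv_of_mul_eq_one_left (kleinFour_sq b)] at e2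
    exact e2
  obtain ⟨i, hi⟩ := d4_pair (ι a) (ι b) (by rw [← map_mul, kleinFour_sq, map_one])
    (by rw [← map_mul, kleinFour_sq, map_one]) (by rw [← map_mul, hcomm, map_mul])
    (fun e => ha (hι (e.trans (map_one ι).symm))) (fun e => hb1 (hι (e.trans (map_one ι).symm)))
    (fun e => hba (hι e).symm)
  refine ⟨i, (Subgroup.eq_of_le_of_card_ge ?_ ?_).symm⟩
  · intro x hx
    obtain ⟨hxT, hd⟩ := (mem_sylFour h T i).1 hx
    have : ∃ u : U, ι u = e ⟨x, hxT⟩ := by
      rcases hi _ hd with q | q | q | q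
      · exact ⟨1, (map_one ι).trans q.symm⟩
      · exact ⟨a, q.symm⟩
      · exact ⟨b, q.symm⟩
      · exact ⟨a * b, (map_mul ι a b).trans q.symm⟩
    obtain ⟨u, hu⟩ := this
    have h2 : Subgroup.inclusion hU u = ⟨x, hxT⟩ := e.injective hu
    have h3 : (u : G) = x := congrArg Subtype.val h2
    exact h3 ▸ u.2
  · rw [hK.card_four, (sylFour_klein h T i).card_four]

theorem sylFour_ne (h : Nat.card G = 168) (T : Sylow 2 G) : sylFour h T 0 ≠ sylFour h T 1 := fun e =>
  d4Four_ne (Subgroup.map_injective (MulEquiv.injective _)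
    (Subgroup.map_injective (Subgroup.subtype_injective _) e))

theorem sylow_normalizes_klein (h : Nat.card G = 168) (T : Sylow 2 G) {U : Subgroup G}
    (hU : U ≤ (T : Subgroup G)) (hK : IsKleinFour U) :
    (T : Subgroup G) ≤ Subgroup.normalizer (U : Set G) := by
  obtain ⟨i, rfl⟩ := klein_in_sylow h T hU hK
  set e := (o168_dihedral h T).some
  have hcl : ∀ t ∈ (T : Subgroup G), ∀ x ∈ sylFour h T i, t * x * t⁻¹ ∈ sylFour h T i := by
    intro t ht x hx
    obtain ⟨hxT, hd⟩ := (mem_sylFour h T i).1 hx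
    refine (mem_sylFour h T i).2 ⟨mul_mem (mul_mem ht hxT) (inv_mem ht), ?_⟩
    have h1 := ((d4Four_facts i _).1 hd).2 (e ⟨t, ht⟩)
    rw [← map_inv, ← map_mul, ← map_mul] at h1
    exact h1
  intro t ht
  rw [Subgroup.mem_normalizer_iff]
  refine fun x => ⟨hcl t ht x, fun hx => ?_⟩
  have := hcl t⁻¹ (inv_mem ht) _ hx
  simpa [mul_assoc] using this

theorem exists_sylow_of_klein (h : Nat.card G = 168) {U : Subgroup G} (hK : IsKleinFour U) :
    ∃ T : Sylow 2 G, U ≤ (T : Subgroup G) :=
  (IsPGroup.of_card (n := 2) (by rw [hK.card_four]; norm_num) : IsPGroup 2 U).exists_le_sylow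

theorem o168_proper_card_le (h : Nat.card G = 168) {M : Subgroup G} (hM : M ≠ ⊤) :
    Nat.card M ≤ 24 := by
  have h1 := M.card_mul_index
  have h2 := small_two_card_dvd (o168_not_comm h) M hM
  rw [h] at h1 h2
  by_contra hlt
  push Not at hlt
  have h3 : M.index ≤ 6 := by
    by_contra h3
    have : 25 * 7 ≤ Nat.card M * M.index := Nat.mul_le_mul hlt (by omega)
    omega
  generalize M.index = i at *
  interval_cases i <;> norm_num [Nat.factorial] at h2

theorem klein_normalizer_card (h : Nat.card G = 168) {U : Subgroup G} (hK : IsKleinFour U) :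
    Nat.card (Subgroup.normalizer (U : Set G)) = 24 := by
  haveI := Fact.mk Nat.prime_two
  obtain ⟨T, hT⟩ := exists_sylow_of_klein h hK
  obtain ⟨hT8, -, -⟩ := o168_two h T
  have hTN := sylow_normalizes_klein h T hT hK
  set N := Subgroup.normalizer (U : Set G) with hNdef
  have hne : N ≠ ⊤ := by
    intro e
    haveI : U.Normal := Subgroup.normalizer_eq_top_iff.1 (hNdef ▸ e)
    rcases IsSimpleGroup.eq_bot_or_eq_top_of_normal U inferInstance with r | r
    · have := hK.card_four
      rw [r, Subgroup.card_bot] at this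
      omega
    · have := hK.card_four
      rw [r, Subgroup.card_top, h] at this
      omega
  have hle := o168_proper_card_le h hne
  have h8 := Subgroup.card_dvd_of_le hTN
  have hG : Nat.card N ∣ 168 := h ▸ Subgroup.card_subgroup_dvd_card N
  rw [hT8] at h8
  have hne8 : Nat.card N ≠ 8 := by
    intro e
    have hNT : (T : Subgroup G) = N := Subgroup.eq_of_le_of_card_ge hTN (by rw [hT8, e])
    -- a non-central involution of `U` is central in another Sylow subgroup
    obtain ⟨z, hzT, hz1, hzc⟩ := o168_exists_central h T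
    haveI : Nontrivial U := Finite.one_lt_card_iff_nontrivial.1 (by rw [hK.card_four]; norm_num)
    classical
    have := Fintype.ofFinite U
    obtain ⟨t, ht⟩ := (Finset.card_pos
      (s := Finset.univ.filter (fun x : U => (x : G) ≠ 1 ∧ (x : G) ≠ z))).1 (by
      by_contra h0
      rw [not_lt, Nat.le_zero, Finset.card_eq_zero, Finset.filter_eq_empty_iff] at h0
      have h5 : Fintype.card U ≤ 2 := by
        rw [← Finset.card_univ]
        refine le_trans ?_ (Finset.card_le_two (a := (1 : G)) (b := z))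
        refine Finset.card_le_card_of_injOn (fun x : U => (x : G)) (fun x _ => ?_)
          Subtype.val_injective.injOn
        by_cases hx1 : (x : G) = 1
        · simp [hx1]
        · have h6 : (x : G) = z := by
            by_contra hxz
            exact h0 (Finset.mem_univ x) ⟨hx1, hxz⟩
          simp [h6]
      rw [← Nat.card_eq_fintype_card, hK.card_four] at h5
      omega)
    simp only [Finset.mem_filter, Finset.mem_univ, true_and] at ht
    have ht2 : orderOf (t : G) = 2 :=
      orderOf_eq_prime (by rw [pow_two]; exact congrArg Subtype.val (kleinFour_sq t)) ht.1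
    obtain ⟨hz2, hzC⟩ := o168_central h T hzT hz1 hzc
    obtain ⟨c, hc⟩ := isConj_iff.1 ((o168_two_classes h).2.2.2.2.1 z t hz2 ht2)
    let T' : Sylow 2 G := c • T
    have htT' : (t : G) ∈ (T' : Subgroup G) := by
      rw [mem_smul_sylow, ← hc]; simpa [mul_assoc] using hzT
    have htc : ∀ s ∈ (T' : Subgroup G), s * (t : G) = t * s := by
      intro s hs
      rw [mem_smul_sylow] at hs
      have := hzc _ hs
      rw [← hc]
      calc s * (c * z * c⁻¹) = c * ((c⁻¹ * s * c) * z) * c⁻¹ := by group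
        _ = c * (z * (c⁻¹ * s * c)) * c⁻¹ := by rw [this]
        _ = c * z * c⁻¹ * s := by group
    obtain ⟨-, htC⟩ := o168_central h T' htT' ht.1 htc
    have hUT' : U ≤ (T' : Subgroup G) := by
      rw [← htC]
      intro x hx
      rw [Subgroup.mem_centralizer_singleton_iff]
      have h1 := kleinFour_sq (⟨x, hx⟩ * t : U)
      have h2 := eq_inv_of_mul_eq_one_left h1
      rw [mul_inv_rev, ← eq_inv_of_mul_eq_one_left (kleinFour_sq (⟨x, hx⟩ : U)),
        ← eq_inv_of_mul_eq_one_left (kleinFour_sq t)] at h2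
      exact congrArg Subtype.val h2
    have h1 := sylow_normalizes_klein h T' hUT' hK
    rw [← hNdef, ← hNT] at h1
    have hTT : (T' : Subgroup G) = T := Subgroup.eq_of_le_of_card_ge h1 (by
      rw [T.card_eq_multiplicity, T'.card_eq_multiplicity])
    exact ht.2 (o168_central_unique h T (hT t.2) ht.1 (by rwa [hTT] at htc) hzT hz1 hzc)
  obtain ⟨k, hk⟩ := h8
  rw [hk] at hle hG hne8 ⊢
  have : k ≤ 3 := by omega
  interval_cases k <;> omega

theorem order24_iso (h : Nat.card G = 168) {M : Subgroup G}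
    (hM : Nat.card M = 12 ∨ Nat.card M = 24) :
    ∃ ψ : M →* Equiv.Perm (Fin 4), Function.Injective ψ := by
  classical
  haveI := Fact.mk (show Nat.Prime 3 by norm_num)
  have hcardM : Nat.card M = 3 ^ 1 * (Nat.card M / 3) := by omega
  have hfac : (Nat.card M).factorization 3 = 1 := by
    rw [hcardM, Nat.factorization_mul (by norm_num) (by omega), Finsupp.add_apply,
      Nat.Prime.factorization_pow (by norm_num), Finsupp.single_eq_same,
      Nat.factorization_eq_zero_of_not_dvd (by omega : ¬ 3 ∣ Nat.card M / 3)]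
  -- Sylow subgroups of `M` are Sylow subgroups of `G`
  have hup : ∀ P : Sylow 3 M, ∃ Q : Sylow 3 G, (P : Subgroup M).map M.subtype = (Q : Subgroup G) := by
    intro P
    obtain ⟨Q, hQ⟩ := (P.isPGroup'.map M.subtype).exists_le_sylow
    refine ⟨Q, Subgroup.eq_of_le_of_card_ge hQ ?_⟩
    rw [(o168_three h Q).1, Subgroup.card_map_of_injective M.subtype_injective,
      P.card_eq_multiplicity, hfac, pow_one]
  have hPc : ∀ P : Sylow 3 M, Nat.card (P : Subgroup M) = 3 := fun P => by
    rw [P.card_eq_multiplicity, hfac, pow_one]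
  have hN6 : ∀ P : Sylow 3 M,
      Nat.card (Subgroup.normalizer ((P : Subgroup M) : Set M)) ∣ 6 := by
    intro P
    obtain ⟨Q, hQ⟩ := hup P
    rw [← (o168_three h Q).2.2.1, ← hQ, ← Subgroup.card_map_of_injective M.subtype_injective]
    exact Subgroup.card_dvd_of_le (Subgroup.le_normalizer_map M.subtype)
  obtain ⟨P⟩ : Nonempty (Sylow 3 M) := inferInstance
  have hn : Nat.card (Sylow 3 M) = 4 := by
    have h1 := card_sylow_modEq_one 3 M
    have h2 : Nat.card (Sylow 3 M) ∣ Nat.card M / 3 := by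
      have h3 := P.card_dvd_index
      have h4 := (P : Subgroup M).card_mul_index
      rw [hPc] at h4
      exact h3.trans (dvd_of_eq (by omega))
    have h5 : Nat.card (Subgroup.normalizer ((P : Subgroup M) : Set M)) * Nat.card (Sylow 3 M) = Nat.card M := by
      rw [P.card_eq_index_normalizer]; exact Subgroup.card_mul_index _
    have h6 := Nat.le_of_dvd (by norm_num) (hN6 P)
    have h7 := Nat.mul_le_mul_right (Nat.card (Sylow 3 M)) h6
    rw [h5] at h7
    rw [Nat.ModEq] at h1
    have h8 := Nat.le_of_dvd (by omega) h2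
    generalize Nat.card (Sylow 3 M) = n at *
    have h9 : n ≤ 8 := by omega
    rcases hM with e | e <;> rw [e] at h2 h5 h7 h8 <;>
      interval_cases n <;> norm_num at * <;> omega
  have := Fintype.ofFinite (Sylow 3 M)
  let σ : Sylow 3 M ≃ Fin 4 := Fintype.equivFinOfCardEq (by rw [← Nat.card_eq_fintype_card, hn])
  let φ : M →* Equiv.Perm (Sylow 3 M) := MulAction.toPermHom M (Sylow 3 M)
  refine ⟨σ.permCongrHom.toMonoidHom.comp φ, σ.permCongrHom.injective.comp ?_⟩
  rw [← MonoidHom.ker_eq_bot_iff]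
  set K := φ.ker with hKdef
  have hKN : ∀ R : Sylow 3 M, K ≤ Subgroup.normalizer ((R : Subgroup M) : Set M) := by
    intro R x hx
    exact Sylow.smul_eq_iff_mem_normalizer.1 (DFunLike.congr_fun (MonoidHom.mem_ker.1 hx) R)
  have h3K : ¬ 3 ∣ Nat.card K := by
    intro h3
    obtain ⟨x, hx⟩ := exists_prime_orderOf_dvd_card' (G := K) 3 h3
    have hx' : orderOf (x : M) = 3 := by rw [Subgroup.orderOf_coe, hx]
    have hall : ∀ R : Sylow 3 M, (R : Subgroup M) = Subgroup.zpowers (x : M) := by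
      intro R
      have hz : IsPGroup 3 (Subgroup.zpowers (x : M)) :=
        IsPGroup.of_card (n := 1) (by rw [Nat.card_zpowers, hx', pow_one])
      have h4 := R.is_maximal'
        (hz.to_sup_of_normal_right' R.isPGroup' (Subgroup.zpowers_le.2 (hKN R x.2))) le_sup_right
      exact (Subgroup.eq_of_le_of_card_ge (h4 ▸ le_sup_left) (by rw [hPc, Nat.card_zpowers, hx'])).symm
    have : Subsingleton (Sylow 3 M) := ⟨fun a b => Sylow.ext ((hall a).trans (hall b).symm)⟩
    have h5 := Nat.card_of_subsingleton P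
    omega
  have hK6 := (Subgroup.card_dvd_of_le (hKN P)).trans (hN6 P)
  by_contra hbot
  have hK2 : Nat.card K = 2 := by
    have h1 : Nat.card K ≠ 1 := fun e => hbot (Subgroup.card_eq_one.1 e)
    have h2 := Nat.le_of_dvd (by norm_num) hK6
    generalize Nat.card K = n at *
    interval_cases n <;> omega
  obtain ⟨k, hk1⟩ : ∃ k : K, k ≠ 1 :=
    haveI : Nontrivial K := Finite.one_lt_card_iff_nontrivial.1 (by omega)
    exists_ne 1
  obtain ⟨x, hx⟩ := exists_prime_orderOf_dvd_card' (G := M) 3 (by omega)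
  have hcen : x * (k : M) * x⁻¹ = k := by
    have hmem : x * (k : M) * x⁻¹ ∈ K := (MonoidHom.normal_ker φ).conj_mem _ k.2 x
    have := Nat.card_eq_two_iff' (1 : K) |>.1 hK2
    obtain ⟨w, hw, huniq⟩ := this
    have e1 := huniq k hk1
    have e2 := huniq ⟨_, hmem⟩ (fun e => hk1 (Subtype.ext (by
      have e' : x * (k : M) * x⁻¹ = 1 := congrArg Subtype.val e
      simpa using e')))
    exact congrArg Subtype.val (e2.trans e1.symm)
  have hx' : orderOf (x : G) = 3 := by rw [Subgroup.orderOf_coe, hx]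
  have hkG : ((k : M) : G) ∈ Subgroup.centralizer ({(x : G)} : Set G) :=
    Subgroup.mem_centralizer_singleton_iff.2
      (congrArg Subtype.val (mul_inv_eq_iff_eq_mul.1 hcen)).symm
  have h6 := orderOf_dvd_natCard (⟨_, hkG⟩ : Subgroup.centralizer ({(x : G)} : Set G))
  rw [Subgroup.orderOf_mk, o168_centralizer_prime h (Or.inl rfl) hx', Subgroup.orderOf_coe,
    Subgroup.orderOf_coe] at h6
  have h7 : orderOf k ∣ 2 := hK2 ▸ orderOf_dvd_natCard k
  exact hk1 (orderOf_eq_one_iff.1 (Nat.dvd_one.1 (by simpa using Nat.dvd_gcd h6 h7)))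

theorem order24_perm (h : Nat.card G = 168) {M : Subgroup G} (hM : Nat.card M = 24) :
    Nonempty (M ≃* Equiv.Perm (Fin 4)) := by
  obtain ⟨ψ, hψ⟩ := order24_iso h (Or.inr hM)
  refine ⟨MulEquiv.ofBijective ψ ((Nat.bijective_iff_injective_and_card ψ).2 ⟨hψ, ?_⟩)⟩
  rw [hM, Nat.card_perm, Nat.card_fin]
  rfl

/-- The normal four-group of the symmetric group of degree 4. -/
def s4Four : Subgroup (Equiv.Perm (Fin 4)) where
  carrier := {x | x = 1 ∨ x = Equiv.swap 0 1 * Equiv.swap 2 3 ∨ x = Equiv.swap 0 2 * Equiv.swap 1 3 ∨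
    x = Equiv.swap 0 3 * Equiv.swap 1 2}
  one_mem' := Or.inl rfl
  mul_mem' := by
    intro a b ha hb
    simp only [Set.mem_ofPred_eq] at *
    rcases ha with rfl | rfl | rfl | rfl <;> rcases hb with rfl | rfl | rfl | rfl <;> decide
  inv_mem' := by
    intro a ha
    simp only [Set.mem_ofPred_eq] at *
    rcases ha with rfl | rfl | rfl | rfl <;> decide

theorem mem_s4Four {x : Equiv.Perm (Fin 4)} :
    x ∈ s4Four ↔ x = 1 ∨ x = Equiv.swap 0 1 * Equiv.swap 2 3 ∨ x = Equiv.swap 0 2 * Equiv.swap 1 3 ∨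
      x = Equiv.swap 0 3 * Equiv.swap 1 2 := Iff.rfl

theorem s4Four_facts : (∀ c x : Equiv.Perm (Fin 4),
      (x = 1 ∨ x = Equiv.swap 0 1 * Equiv.swap 2 3 ∨ x = Equiv.swap 0 2 * Equiv.swap 1 3 ∨
        x = Equiv.swap 0 3 * Equiv.swap 1 2) →
      (Equiv.Perm.sign x = 1 ∧ x * x = 1 ∧ (c * x * c⁻¹ = 1 ∨ c * x * c⁻¹ = Equiv.swap 0 1 * Equiv.swap 2 3 ∨
        c * x * c⁻¹ = Equiv.swap 0 2 * Equiv.swap 1 3 ∨ c * x * c⁻¹ = Equiv.swap 0 3 * Equiv.swap 1 2))) ∧
    (Finset.univ.filter (fun x : Equiv.Perm (Fin 4) => x = 1 ∨ x = Equiv.swap 0 1 * Equiv.swap 2 3 ∨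
      x = Equiv.swap 0 2 * Equiv.swap 1 3 ∨ x = Equiv.swap 0 3 * Equiv.swap 1 2)).card = 4 := by
  decide

theorem s4Four_card : Nat.card s4Four = 4 := by
  classical
  refine Eq.trans ?_ s4Four_facts.2
  rw [Nat.card_eq_fintype_card, Fintype.card_subtype]
  congr 1
  ext x
  simp [mem_s4Four]

/-- A subgroup of order 12 or 24 normalizes a four-group. -/
theorem exists_normal_klein (h : Nat.card G = 168) {M : Subgroup G}
    (hM : Nat.card M = 12 ∨ Nat.card M = 24) :
    ∃ V : Subgroup G, IsKleinFour V ∧ M ≤ Subgroup.normalizer (V : Set G) := by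
  classical
  obtain ⟨ψ, hψ⟩ := order24_iso h hM
  have hrange : s4Four ≤ ψ.range := by
    have hc : Nat.card ψ.range = Nat.card M := (Nat.card_congr (MonoidHom.ofInjective hψ).toEquiv).symm
    have hidx := ψ.range.card_mul_index
    rw [hc, Nat.card_perm, Nat.card_fin] at hidx
    rcases hM with e | e
    · have : ψ.range.index = 2 := by rw [e] at hidx; rw [show Nat.factorial 4 = 24 from rfl] at hidx; omega
      rw [Equiv.Perm.eq_alternatingGroup_of_index_eq_two this]
      intro x hx
      exact Equiv.Perm.mem_alternatingGroup.2 ((s4Four_facts.1 1 x hx).1)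
    · have : ψ.range.index = 1 := by rw [e] at hidx; rw [show Nat.factorial 4 = 24 from rfl] at hidx; omega
      rw [Subgroup.index_eq_one.1 this]
      exact le_top
  let W : Subgroup M := s4Four.comap ψ
  have hW : Nat.card W = 4 := by
    rw [← s4Four_card, ← Subgroup.card_map_of_injective hψ, Subgroup.map_comap_eq_self hrange]
  refine ⟨W.map M.subtype, isKleinFour_of ?_ ?_, ?_⟩
  · rw [Subgroup.card_map_of_injective M.subtype_injective, hW]
  · rintro ⟨_, w, hw, rfl⟩
    apply Subtype.ext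
    have := (s4Four_facts.1 1 _ hw).2.1
    rw [← map_mul, map_eq_one_iff _ hψ] at this
    show (w : G) * (w : G) = 1
    exact congrArg Subtype.val this
  · have hcl : ∀ m : M, ∀ w ∈ W, m * w * m⁻¹ ∈ W := by
      intro m w hw
      show ψ (m * w * m⁻¹) ∈ s4Four
      rw [map_mul, map_mul, map_inv]
      exact (s4Four_facts.1 (ψ m) _ hw).2.2
    intro x hx
    rw [Subgroup.mem_normalizer_iff]
    intro y
    constructor
    · rintro ⟨w, hw, rfl⟩
      exact ⟨⟨x, hx⟩ * w * ⟨x, hx⟩⁻¹, hcl _ w hw, rfl⟩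
    · rintro ⟨w, hw, hwy⟩
      refine ⟨(⟨x, hx⟩ : M)⁻¹ * w * (⟨x, hx⟩ : M)⁻¹⁻¹, hcl _ w hw, ?_⟩
      have hwy' : (w : G) = x * y * x⁻¹ := hwy
      simp [hwy', mul_assoc]

theorem sylFour_not_conj (h : Nat.card G = 168) (T : Sylow 2 G) {U W : Subgroup G}
    (hU : U ≤ (T : Subgroup G)) (hW : W ≤ (T : Subgroup G)) (hKU : IsKleinFour U) (hKW : IsKleinFour W)
    (hne : U ≠ W) (g : G) : U.map (MulAut.conj g).toMonoidHom ≠ W := by
  haveI := Fact.mk Nat.prime_two
  intro he
  set N := Subgroup.normalizer (W : Set G) with hN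
  have h1 : (T : Subgroup G) ≤ N := sylow_normalizes_klein h T hW hKW
  have hKW' : IsKleinFour W := hKW
  have hWgT : W ≤ ((g • T : Sylow 2 G) : Subgroup G) := by
    rw [← he]
    intro y hy
    rw [mem_smul_sylow]
    exact hU (mem_map_conj.1 hy)
  have h2 : ((g • T : Sylow 2 G) : Subgroup G) ≤ N := sylow_normalizes_klein h _ hWgT hKW'
  obtain ⟨⟨k, hk⟩, hk'⟩ := MulAction.exists_smul_eq N ((g • T).subtype h2) (T.subtype h1)
  have hkT : (k * g) • T = T := by
    rw [mul_smul]
    rw [Sylow.smul_subtype] at hk'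
    exact Sylow.subtype_injective hk'
  replace hkT : k * g ∈ Subgroup.normalizer ((T : Subgroup G) : Set G) :=
    Sylow.smul_eq_iff_mem_normalizer.1 hkT
  rw [(o168_two h T).2.2] at hkT
  have h3 : U.map (MulAut.conj (k * g)).toMonoidHom = U := by
    have h4 := sylow_normalizes_klein h T hU hKU hkT
    ext y
    rw [mem_map_conj]
    have h5 := Subgroup.mem_normalizer_iff.1 (inv_mem h4) y
    rw [inv_inv] at h5
    exact h5.symm
  have h6 : W.map (MulAut.conj k).toMonoidHom = W := by
    ext y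
    rw [mem_map_conj]
    have h5 := Subgroup.mem_normalizer_iff.1 (N.inv_mem hk) y
    rw [inv_inv] at h5
    exact h5.symm
  rw [← map_conj_map_conj, he, h6] at h3
  exact hne h3.symm

theorem klein_conj_class (h : Nat.card G = 168) (T : Sylow 2 G) {U : Subgroup G} (hK : IsKleinFour U) :
    ∃ g : G, ∃ i, U = (sylFour h T i).map (MulAut.conj g).toMonoidHom := by
  haveI := Fact.mk Nat.prime_two
  obtain ⟨T', hT'⟩ := exists_sylow_of_klein h hK
  obtain ⟨g, rfl⟩ := MulAction.exists_smul_eq G T T'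
  let U' := U.map (MulAut.conj g⁻¹).toMonoidHom
  have hU' : U' ≤ (T : Subgroup G) := by
    intro y hy
    have := mem_smul_sylow.1 (hT' (mem_map_conj.1 hy))
    simpa [mul_assoc] using this
  have hK' : IsKleinFour U' := by
    refine isKleinFour_of ?_ ?_
    · rw [Subgroup.card_map_of_injective (MulEquiv.injective _)]; exact hK.card_four
    · rintro ⟨_, w, hw, rfl⟩
      apply Subtype.ext
      show _ * _ = (1 : G)
      rw [← map_mul]
      have := congrArg Subtype.val (kleinFour_sq (⟨w, hw⟩ : U))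
      simp only [Subgroup.coe_mul, Subgroup.coe_one] at this
      rw [this, map_one]
  obtain ⟨i, hi⟩ := klein_in_sylow h T hU' hK'
  refine ⟨g, i, ?_⟩
  rw [← hi, map_conj_map_conj, mul_inv_cancel]
  ext y
  rw [mem_map_conj]
  simp

end Cfsg.Agent.Block
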