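import Cfsg.Agent.Lib.Block.Order168

/-!
Simple groups of order 168: Sylow 2-subgroup, element orders, conjugacy classes.
-/

set_option autoImplicit false

namespace Cfsg.Agent.Block

universe u

variable {G : Type u} [Group G] [Finite G] [IsSimpleGroup G]

theorem o168_commutative_false (h : Nat.card G = 168) (T : Sylow 2 G)
    (hN : Subgroup.normalizer ((T : Subgroup G) : Set G) = (T : Subgroup G)) :
    ¬ ∀ a ∈ (T : Subgroup G), ∀ b ∈ (T : Subgroup G), a * b = b * a := by
  haveI := Fact.mk Nat.prime_two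
  intro hab
  refine small_no_burnside (o168_not_comm h) T (by rw [h]; norm_num) ?_
  rw [hN]
  exact fun a ha b hb => hab b hb a ha

theorem o168_two (h : Nat.card G = 168) (T : Sylow 2 G) :
    Nat.card (T : Subgroup G) = 8 ∧ Nat.card (Sylow 2 G) = 21 ∧
      Subgroup.normalizer ((T : Subgroup G) : Set G) = (T : Subgroup G) := by
  classical
  haveI := Fact.mk Nat.prime_two
  haveI := Fact.mk (show Nat.Prime 3 by norm_num)
  have hG := o168_not_comm h
  have hT : Nat.card (T : Subgroup G) = 8 := by
    rw [T.card_eq_multiplicity, h, show (168 : ℕ) = 2 ^ 3 * 21 by norm_num,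
      Nat.factorization_mul (by norm_num) (by norm_num), Finsupp.add_apply,
      Nat.Prime.factorization_pow (by norm_num), Finsupp.single_eq_same,
      Nat.factorization_eq_zero_of_not_dvd (by norm_num : ¬ 2 ∣ 21)]
    norm_num
  obtain ⟨k, hk, hn, hkd, -, hN, hfac⟩ := small_sylow_number hG T (a := 3) (m := 21)
    (by rw [h]; norm_num) (by norm_num)
  rw [h] at hN hfac
  set N := Subgroup.normalizer ((T : Subgroup G) : Set G) with hNdef
  have h3 : ¬ 3 ∣ Nat.card N := by
    intro h3
    obtain ⟨g, hg⟩ := exists_prime_orderOf_dvd_card' (G := N) 3 h3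
    have hg' : orderOf (g : G) = 3 := by rw [Subgroup.orderOf_coe, hg]
    obtain ⟨P, hP⟩ := (IsPGroup.of_card (n := 1) (by rw [Nat.card_zpowers, hg', pow_one]) :
      IsPGroup 3 (Subgroup.zpowers (g : G))).exists_le_sylow
    obtain ⟨hP3, -, -, hPC⟩ := o168_three h P
    have hPz : Subgroup.zpowers (g : G) = (P : Subgroup G) :=
      Subgroup.eq_of_le_of_card_ge hP (by rw [hP3, Nat.card_zpowers, hg'])
    let Z := Subgroup.zpowers (ConjAct.toConjAct (g : G))
    have hZp : IsPGroup 3 Z := IsPGroup.of_card (n := 1) (by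
      rw [Nat.card_zpowers]
      rw [show orderOf (ConjAct.toConjAct (g : G)) = orderOf (g : G) from
        (MulEquiv.orderOf_eq ConjAct.toConjAct (g : G)), hg', pow_one])
    have := Fintype.ofFinite G
    have hinv : ∀ (z : Z) (a : G), ((z : ConjAct G) • a ∈ (T : Subgroup G) ↔ a ∈ (T : Subgroup G)) := by
      intro z a
      have hz : ConjAct.ofConjAct (z : ConjAct G) ∈ N := by
        obtain ⟨i, hi⟩ := Subgroup.mem_zpowers_iff.1 z.2
        rw [← hi, map_zpow, ConjAct.ofConjAct_toConjAct]
        exact N.zpow_mem g.2 i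
      rw [ConjAct.smul_def]
      exact (Subgroup.mem_normalizer_iff.1 hz a).symm
    have h1 := sum_eq_sum_fixed (A := ZMod 3) (fun x => by rw [nsmul_eq_mul, show ((3 : ℕ) : ZMod 3) = 0 from rfl, zero_mul]) hZp
      (fun a : G => if a ∈ (T : Subgroup G) then (1 : ZMod 3) else 0)
      (fun z a => if_congr (hinv z a) rfl rfl)
    rw [finsum_mem_eq_finite_toFinset_sum _ (Set.toFinite _)] at h1
    rw [Finset.sum_boole, Finset.sum_boole] at h1
    have e1 : (Finset.univ.filter (fun a => a ∈ (T : Subgroup G))).card = 8 := by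
      rw [← hT, Nat.card_eq_fintype_card, Fintype.card_subtype]
    have e2 : ((Set.toFinite (MulAction.fixedPoints Z G)).toFinset.filter
        (fun a => a ∈ (T : Subgroup G))).card = 1 := by
      rw [Finset.card_eq_one]
      refine ⟨1, Finset.eq_singleton_iff_unique_mem.2 ⟨?_, ?_⟩⟩
      · simp only [Finset.mem_filter, Set.Finite.mem_toFinset, MulAction.mem_fixedPoints]
        exact ⟨fun z => smul_one (z : ConjAct G), one_mem _⟩
      · intro a ha
        simp only [Finset.mem_filter, Set.Finite.mem_toFinset, MulAction.mem_fixedPoints] at ha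
        have h4 : (g : G) * a * (g : G)⁻¹ = a := by
          have := ha.1 ⟨_, Subgroup.mem_zpowers _⟩
          exact this
        have h5 : a ∈ Subgroup.centralizer ((P : Subgroup G) : Set G) := by
          rw [← hPz]
          intro y hy
          obtain ⟨i, rfl⟩ := Subgroup.mem_zpowers_iff.1 hy
          exact ((show Commute a (g : G) from ((mul_inv_eq_iff_eq_mul.1 h4)).symm).zpow_right i).eq.symm
        rw [hPC] at h5
        have ha' := orderOf_dvd_natCard (⟨a, h5⟩ : (P : Subgroup G))
        have hb' := orderOf_dvd_natCard (⟨a, ha.2⟩ : (T : Subgroup G))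
        rw [Subgroup.orderOf_mk, hP3] at ha'
        rw [Subgroup.orderOf_mk, hT] at hb'
        have h6 := Nat.dvd_gcd ha' hb'
        exact orderOf_eq_one_iff.1 (Nat.dvd_one.1 (by simpa using h6))
    rw [e1, e2] at h1
    rw [ZMod.natCast_eq_natCast_iff] at h1
    exact absurd h1 (by norm_num [Nat.ModEq])
  have hk10 : k = 10 := by
    have := Nat.le_of_dvd (by norm_num) hkd
    have h4 : k ≠ 1 := fun e => by subst e; norm_num [Nat.factorial] at hfac
    have h5 : k ≠ 3 := by
      rintro rfl
      exact h3 ⟨8, by omega⟩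
    have : k ≤ 10 := by omega
    interval_cases k <;> omega
  subst hk10
  refine ⟨hT, hn, (Subgroup.eq_of_le_of_card_ge Subgroup.le_normalizer ?_).symm⟩
  rw [hT, ← hNdef]
  omega

/-- Centralizer of an element of order 3 or 7. -/
theorem o168_centralizer_prime (h : Nat.card G = 168) {p : ℕ} (hp : p = 3 ∨ p = 7) {x : G}
    (hx : orderOf x = p) : Nat.card (Subgroup.centralizer ({x} : Set G)) = p := by
  have hpp : p.Prime := by rcases hp with rfl | rfl <;> norm_num
  haveI := Fact.mk hpp
  obtain ⟨P, hP⟩ := (IsPGroup.of_card (n := 1) (by rw [Nat.card_zpowers, hx, pow_one]) :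
    IsPGroup p (Subgroup.zpowers x)).exists_le_sylow
  have hPc : Nat.card (P : Subgroup G) = p ∧ Subgroup.centralizer ((P : Subgroup G) : Set G) = (P : Subgroup G) := by
    rcases hp with rfl | rfl
    · exact ⟨(o168_three h P).1, (o168_three h P).2.2.2⟩
    · exact ⟨(o168_seven h P).1, (o168_seven h P).2.2.2⟩
  have hPz : Subgroup.zpowers x = (P : Subgroup G) :=
    Subgroup.eq_of_le_of_card_ge hP (by rw [hPc.1, Nat.card_zpowers, hx])
  have : Subgroup.centralizer ({x} : Set G) = (P : Subgroup G) := by
    rw [← hPc.2, ← hPz]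
    ext y
    rw [Subgroup.mem_centralizer_singleton_iff]
    constructor
    · intro hy z hz
      obtain ⟨i, rfl⟩ := Subgroup.mem_zpowers_iff.1 hz
      exact ((show Commute y x from hy).zpow_right i).eq.symm
    · intro hy
      exact (hy x (Subgroup.mem_zpowers x)).symm
  rw [this, hPc.1]

theorem o168_orders (h : Nat.card G = 168) (g : G) :
    orderOf g = 1 ∨ orderOf g = 2 ∨ orderOf g = 3 ∨ orderOf g = 4 ∨ orderOf g = 7 := by
  have hd : orderOf g ∣ 168 := h ▸ orderOf_dvd_natCard g
  have key : ∀ p, (p = 3 ∨ p = 7) → p ∣ orderOf g → orderOf g = p := by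
    intro p hp hpd
    have hpp : p.Prime := by rcases hp with rfl | rfl <;> norm_num
    have hx : orderOf (g ^ (orderOf g / p)) = p :=
      orderOf_pow_orderOf_div (orderOf_pos g).ne' hpd
    have hmem : g ∈ Subgroup.centralizer ({g ^ (orderOf g / p)} : Set G) :=
      Subgroup.mem_centralizer_singleton_iff.2 (Commute.self_pow g _).eq
    have h1 := orderOf_dvd_natCard (⟨g, hmem⟩ : Subgroup.centralizer ({g ^ (orderOf g / p)} : Set G))
    rw [Subgroup.orderOf_mk, o168_centralizer_prime h hp hx] at h1
    rcases (Nat.dvd_prime hpp).1 h1 with e | e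
    · rw [e] at hpd
      exact absurd (Nat.dvd_one.1 hpd) hpp.ne_one
    · exact e
  by_cases h3 : 3 ∣ orderOf g
  · exact Or.inr (Or.inr (Or.inl (key 3 (Or.inl rfl) h3)))
  by_cases h7 : 7 ∣ orderOf g
  · exact Or.inr (Or.inr (Or.inr (Or.inr (key 7 (Or.inr rfl) h7))))
  have h8 : orderOf g ∣ 8 := by
    refine Nat.Coprime.dvd_of_dvd_mul_left (m := 21) ?_ (by simpa using hd)
    rw [show (21 : ℕ) = 3 * 7 by norm_num]
    exact Nat.Coprime.mul_right
      ((Nat.Prime.coprime_iff_not_dvd (by norm_num)).2 h3).symm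
      ((Nat.Prime.coprime_iff_not_dvd (by norm_num)).2 h7).symm
  rw [show (8 : ℕ) = 2 ^ 3 by norm_num] at h8
  obtain ⟨i, hi, hgi⟩ := (Nat.dvd_prime_pow Nat.prime_two).1 h8
  rcases (show i = 0 ∨ i = 1 ∨ i = 2 ∨ i = 3 by omega) with rfl | rfl | rfl | rfl
  · exact Or.inl (by simpa using hgi)
  · exact Or.inr (Or.inl (by simpa using hgi))
  · exact Or.inr (Or.inr (Or.inr (Or.inl (by simpa using hgi))))
  · exfalso
    haveI := Fact.mk Nat.prime_two
    obtain ⟨T, hT⟩ := (IsPGroup.of_card (n := 3) (by rw [Nat.card_zpowers, hgi]) :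
      IsPGroup 2 (Subgroup.zpowers g)).exists_le_sylow
    obtain ⟨hT8, -, hTN⟩ := o168_two h T
    have hTz : Subgroup.zpowers g = (T : Subgroup G) :=
      Subgroup.eq_of_le_of_card_ge hT (by rw [hT8, Nat.card_zpowers, hgi]; norm_num)
    refine o168_commutative_false h T hTN ?_
    rw [← hTz]
    intro a ha b hb
    obtain ⟨i, rfl⟩ := Subgroup.mem_zpowers_iff.1 ha
    obtain ⟨j, rfl⟩ := Subgroup.mem_zpowers_iff.1 hb
    rw [← zpow_add, ← zpow_add, add_comm]

/-- Number of elements of prime order `p` when the Sylow subgroups have order `p`. -/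
theorem card_orderOf_prime {H : Type u} [Group H] [Finite H] {p : ℕ} [hp : Fact p.Prime]
    (hP : ∀ P : Sylow p H, Nat.card (P : Subgroup H) = p) :
    Nat.card {g : H // orderOf g = p} = Nat.card (Sylow p H) * (p - 1) := by
  classical
  let f : (Σ P : Sylow p H, {g : (P : Subgroup H) // g ≠ 1}) → {g : H // orderOf g = p} :=
    fun x => ⟨(x.2.1 : H), by
      rw [Subgroup.orderOf_coe]
      rcases (Nat.dvd_prime hp.out).1 (hP x.1 ▸ orderOf_dvd_natCard x.2.1) with e | e
      · exact absurd (orderOf_eq_one_iff.1 e) x.2.2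
      · exact e⟩
  have key : ∀ (P : Sylow p H) (g : H), g ∈ (P : Subgroup H) → orderOf g = p →
      Subgroup.zpowers g = (P : Subgroup H) := fun P g hg ho =>
    Subgroup.eq_of_le_of_card_ge (Subgroup.zpowers_le.2 hg) (by rw [hP P, Nat.card_zpowers, ho])
  have hf : Function.Bijective f := by
    constructor
    · rintro ⟨P, g, hg⟩ ⟨Q, g', hg'⟩ he
      have e1 : (g : H) = (g' : H) := congrArg Subtype.val he
      have e2 : P = Q := Sylow.ext (((key P g g.2 (f ⟨P, g, hg⟩).2).symm).trans
        (key Q g (e1 ▸ g'.2) (f ⟨P, g, hg⟩).2))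
      subst e2
      have e3 : g = g' := Subtype.ext e1
      subst e3
      rfl
    · rintro ⟨g, hg⟩
      obtain ⟨P, hP'⟩ := (IsPGroup.of_card (n := 1) (by rw [Nat.card_zpowers, hg, pow_one]) :
        IsPGroup p (Subgroup.zpowers g)).exists_le_sylow
      refine ⟨⟨P, ⟨g, hP' (Subgroup.mem_zpowers g)⟩, fun e => ?_⟩, rfl⟩
      have : g = 1 := congrArg Subtype.val e
      rw [this, orderOf_one] at hg
      exact hp.out.ne_one hg.symm
  have := Fintype.ofFinite (Sylow p H)
  rw [← Nat.card_congr (Equiv.ofBijective f hf), Nat.card_sigma]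
  have : ∀ P : Sylow p H, Nat.card {g : (P : Subgroup H) // g ≠ 1} = p - 1 := by
    intro P
    have := Fintype.ofFinite (P : Subgroup H)
    rw [Nat.card_eq_fintype_card, Fintype.card_subtype_compl, Fintype.card_subtype_eq,
      ← Nat.card_eq_fintype_card, hP P]
  simp [this, Nat.card_eq_fintype_card]

/-- Class size times centralizer order. -/
theorem card_conj_mul_centralizer {H : Type u} [Group H] [Finite H] (x : H) :
    Nat.card {g : H // IsConj x g} * Nat.card (Subgroup.centralizer ({x} : Set H)) = Nat.card H := by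
  have h1 := Nat.card_congr (MulAction.orbitProdStabilizerEquivGroup (ConjAct H) x)
  rw [Nat.card_prod] at h1
  have h2 : Nat.card (MulAction.orbit (ConjAct H) x) = Nat.card {g : H // IsConj x g} :=
    Nat.card_congr (Equiv.subtypeEquivRight fun g => by
      rw [ConjAct.mem_orbit_conjAct]; exact isConj_comm)
  have h3 : Nat.card (MulAction.stabilizer (ConjAct H) x) =
      Nat.card (Subgroup.centralizer ({x} : Set H)) := by
    refine Nat.card_congr
      { toFun := fun c => ⟨ConjAct.ofConjAct (c : ConjAct H), ?_⟩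
        invFun := fun c => ⟨ConjAct.toConjAct (c : H), ?_⟩
        left_inv := fun c => Subtype.ext (ConjAct.toConjAct_ofConjAct _)
        right_inv := fun c => Subtype.ext (ConjAct.ofConjAct_toConjAct _) }
    · have hc : (c : ConjAct H) • x = x := c.2
      rw [ConjAct.smul_def] at hc
      exact Subgroup.mem_centralizer_singleton_iff.2 (mul_inv_eq_iff_eq_mul.1 hc)
    · rw [MulAction.mem_stabilizer_iff, ConjAct.smul_def, ConjAct.ofConjAct_toConjAct,
        mul_inv_eq_iff_eq_mul]
      exact Subgroup.mem_centralizer_singleton_iff.1 c.2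
  rw [h2, h3] at h1
  exact h1.trans rfl

/-- The centralizer of a central involution of a Sylow 2-subgroup. -/
theorem o168_central (h : Nat.card G = 168) (T : Sylow 2 G) {z : G} (hzT : z ∈ (T : Subgroup G))
    (hz1 : z ≠ 1) (hzc : ∀ t ∈ (T : Subgroup G), t * z = z * t) :
    orderOf z = 2 ∧ Subgroup.centralizer ({z} : Set G) = (T : Subgroup G) := by
  haveI := Fact.mk Nat.prime_two
  obtain ⟨hT8, -, hTN⟩ := o168_two h T
  have hle : (T : Subgroup G) ≤ Subgroup.centralizer ({z} : Set G) := fun t ht =>
    Subgroup.mem_centralizer_singleton_iff.2 (hzc t ht)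
  have h2g : ∀ g : G, g ∈ Subgroup.centralizer ({z} : Set G) → orderOf g ∣ 8 := by
    intro g hg
    rcases o168_orders h g with e | e | e | e | e <;> rw [e] <;> try norm_num
    all_goals
      exfalso
      have hz' : z ∈ Subgroup.centralizer ({g} : Set G) :=
        Subgroup.mem_centralizer_singleton_iff.2 (Subgroup.mem_centralizer_singleton_iff.1 hg).symm
      have h1 := orderOf_dvd_natCard (⟨z, hz'⟩ : Subgroup.centralizer ({g} : Set G))
      have h2 := orderOf_dvd_natCard (⟨z, hzT⟩ : (T : Subgroup G))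
      rw [Subgroup.orderOf_mk, o168_centralizer_prime h (by omega) e] at h1
      rw [Subgroup.orderOf_mk, hT8] at h2
      exact hz1 (orderOf_eq_one_iff.1 (Nat.dvd_one.1 (by simpa using Nat.dvd_gcd h1 h2)))
  have hpC : IsPGroup 2 (Subgroup.centralizer ({z} : Set G)) := fun c => by
    refine ⟨3, ?_⟩
    refine Subtype.ext ?_
    exact orderOf_dvd_iff_pow_eq_one.1 (h2g c c.2)
  have hC := T.is_maximal' hpC hle
  refine ⟨?_, hC⟩
  rcases o168_orders h z with e | e | e | e | e
  · exact absurd (orderOf_eq_one_iff.1 e) hz1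
  · exact e
  · have h2 := orderOf_dvd_natCard (⟨z, hzT⟩ : (T : Subgroup G))
    rw [Subgroup.orderOf_mk, hT8, e] at h2
    norm_num at h2
  · exfalso
    refine o168_commutative_false h T hTN ?_
    have hle4 : Subgroup.zpowers z ≤ (T : Subgroup G) := Subgroup.zpowers_le.2 hzT
    -- `T` is generated by `z` and one more element
    obtain ⟨t, htT, htz⟩ : ∃ t ∈ (T : Subgroup G), t ∉ Subgroup.zpowers z := by
      by_contra hno
      push Not at hno
      have := Subgroup.card_le_of_le (show (T : Subgroup G) ≤ Subgroup.zpowers z from hno)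
      rw [hT8, Nat.card_zpowers, e] at this
      omega
    let A : Subgroup G := Subgroup.centralizer {z, t} ⊓ (T : Subgroup G)
    have hA : (T : Subgroup G) ≤ A := by
      have hzA : Subgroup.zpowers z ≤ A := by
        refine Subgroup.zpowers_le.2 (Subgroup.mem_inf.2 ⟨?_, hzT⟩)
        rintro y (rfl | rfl)
        · rfl
        · exact hzc y htT
      have htA : t ∈ A := by
        refine Subgroup.mem_inf.2 ⟨?_, htT⟩
        rintro y (rfl | rfl)
        · exact (hzc t htT).symm
        · rfl
      have h1 : Subgroup.zpowers z < A := lt_of_le_not_ge hzA fun h' => htz (h' htA)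
      have h2 := Set.Finite.card_lt_card (Set.toFinite (A : Set G)) h1
      have h3 : Nat.card A ∣ Nat.card (T : Subgroup G) := Subgroup.card_dvd_of_le inf_le_right
      rw [hT8] at h3
      have h2 : Nat.card (Subgroup.zpowers z) < Nat.card A := h2
      rw [Nat.card_zpowers, e] at h2
      have h4 : Nat.card A = 8 := by
        have h5 := Nat.le_of_dvd (by norm_num) h3
        have h6 : 4 < Nat.card A := h2
        generalize Nat.card A = a at *
        interval_cases a <;> omega
      exact (Subgroup.eq_of_le_of_card_ge inf_le_right (by rw [hT8, h4])).ge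
    have hcen : ∀ a ∈ (T : Subgroup G), a * t = t * a := fun a ha =>
      ((hA ha).1 t (Or.inr rfl)).symm
    intro a ha b hb
    have key : (T : Subgroup G) ≤ Subgroup.centralizer ({a} : Set G) ⊓ (T : Subgroup G) := by
      have hza : z ∈ Subgroup.centralizer ({a} : Set G) :=
        Subgroup.mem_centralizer_singleton_iff.2 (hzc a ha).symm
      have hta : t ∈ Subgroup.centralizer ({a} : Set G) :=
        Subgroup.mem_centralizer_singleton_iff.2 (hcen a ha).symm
      have hzB : Subgroup.zpowers z ≤ Subgroup.centralizer ({a} : Set G) ⊓ (T : Subgroup G) :=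
        Subgroup.zpowers_le.2 (Subgroup.mem_inf.2 ⟨hza, hzT⟩)
      have h1 : Subgroup.zpowers z < Subgroup.centralizer ({a} : Set G) ⊓ (T : Subgroup G) :=
        lt_of_le_not_ge hzB fun h' => htz (h' (Subgroup.mem_inf.2 ⟨hta, htT⟩))
      have h2 := Set.Finite.card_lt_card
        (Set.toFinite ((Subgroup.centralizer ({a} : Set G) ⊓ (T : Subgroup G) : Subgroup G) : Set G)) h1
      have h3 : Nat.card (Subgroup.centralizer ({a} : Set G) ⊓ (T : Subgroup G) : Subgroup G) ∣
          Nat.card (T : Subgroup G) := Subgroup.card_dvd_of_le inf_le_right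
      rw [hT8] at h3
      have h2 : Nat.card (Subgroup.zpowers z) <
          Nat.card (Subgroup.centralizer ({a} : Set G) ⊓ (T : Subgroup G) : Subgroup G) := h2
      rw [Nat.card_zpowers, e] at h2
      refine (Subgroup.eq_of_le_of_card_ge inf_le_right ?_).ge
      rw [hT8]
      have h5 := Nat.le_of_dvd (by norm_num) h3
      have h6 : 4 < Nat.card (Subgroup.centralizer ({a} : Set G) ⊓ (T : Subgroup G) : Subgroup G) := h2
      generalize Nat.card (Subgroup.centralizer ({a} : Set G) ⊓ (T : Subgroup G) : Subgroup G) = n at *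
      interval_cases n <;> omega
    exact (Subgroup.mem_centralizer_singleton_iff.1 (key hb).1).symm
  · have h2 := orderOf_dvd_natCard (⟨z, hzT⟩ : (T : Subgroup G))
    rw [Subgroup.orderOf_mk, hT8, e] at h2
    norm_num at h2

theorem o168_exists_central (h : Nat.card G = 168) (T : Sylow 2 G) :
    ∃ z ∈ (T : Subgroup G), z ≠ 1 ∧ ∀ t ∈ (T : Subgroup G), t * z = z * t := by
  haveI := Fact.mk Nat.prime_two
  obtain ⟨hT8, -⟩ := o168_two h T
  haveI : Nontrivial (T : Subgroup G) := Finite.one_lt_card_iff_nontrivial.1 (by rw [hT8]; norm_num)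
  haveI := T.isPGroup'.center_nontrivial
  obtain ⟨⟨⟨z, hz⟩, hzc⟩, hne⟩ := exists_ne (1 : Subgroup.center (T : Subgroup G))
  refine ⟨z, hz, fun e => hne (Subtype.ext (Subtype.ext e)), fun t ht => ?_⟩
  exact congrArg Subtype.val (Subgroup.mem_center_iff.1 hzc ⟨t, ht⟩)

/-- Counts and conjugacy of elements of orders 2 and 4. -/
theorem o168_two_classes (h : Nat.card G = 168) :
    Nat.card {g : G // orderOf g = 3} = 56 ∧ Nat.card {g : G // orderOf g = 7} = 48 ∧
      Nat.card {g : G // orderOf g = 2} = 21 ∧ Nat.card {g : G // orderOf g = 4} = 42 ∧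
      (∀ s t : G, orderOf s = 2 → orderOf t = 2 → IsConj s t) ∧
      ∀ s t : G, orderOf s = 4 → orderOf t = 4 → IsConj s t := by
  classical
  have := Fintype.ofFinite G
  haveI := Fact.mk Nat.prime_two
  haveI := Fact.mk (show Nat.Prime 3 by norm_num)
  haveI := Fact.mk (show Nat.Prime 7 by norm_num)
  obtain ⟨T⟩ : Nonempty (Sylow 2 G) := inferInstance
  obtain ⟨P3⟩ : Nonempty (Sylow 3 G) := inferInstance
  obtain ⟨P7⟩ : Nonempty (Sylow 7 G) := inferInstance
  have h3 : Nat.card {g : G // orderOf g = 3} = 56 := by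
    rw [card_orderOf_prime (fun P => (o168_three h P).1), (o168_three h P3).2.1]
  have h7 : Nat.card {g : G // orderOf g = 7} = 48 := by
    rw [card_orderOf_prime (fun P => (o168_seven h P).1), (o168_seven h P7).2.1]
  obtain ⟨hT8, -, hTN⟩ := o168_two h T
  obtain ⟨z, hzT, hz1, hzc⟩ := o168_exists_central h T
  obtain ⟨hz2, hzC⟩ := o168_central h T hzT hz1 hzc
  -- an element of order four
  obtain ⟨f, hfT, hf4⟩ : ∃ f ∈ (T : Subgroup G), orderOf f = 4 := by
    by_contra hno
    push Not at hno
    refine o168_commutative_false h T hTN fun a ha b hb => ?_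
    have hsq : ∀ y ∈ (T : Subgroup G), y * y = 1 := by
      intro y hy
      have h2 := orderOf_dvd_natCard (⟨y, hy⟩ : (T : Subgroup G))
      rw [Subgroup.orderOf_mk, hT8] at h2
      rw [← pow_two, ← orderOf_dvd_iff_pow_eq_one]
      rcases o168_orders h y with e | e | e | e | e
      · rw [e]; norm_num
      · rw [e]
      · rw [e] at h2; norm_num at h2
      · exact absurd e (hno y hy)
      · rw [e] at h2; norm_num at h2
    have ea := eq_inv_of_mul_eq_one_left (hsq a ha)
    have eb := eq_inv_of_mul_eq_one_left (hsq b hb)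
    have eab := eq_inv_of_mul_eq_one_left (hsq _ (mul_mem ha hb))
    rw [mul_inv_rev, ← ea, ← eb] at eab
    exact eab
  have hfC : Nat.card (Subgroup.centralizer ({f} : Set G)) ≤ 4 := by
    set C := Subgroup.centralizer ({f} : Set G)
    have hC2 : ∀ c : C, orderOf (c : G) ∣ 8 := by
      intro c
      rcases o168_orders h (c : G) with e | e | e | e | e <;> rw [e] <;> try norm_num
      all_goals
        exfalso
        have hf' : f ∈ Subgroup.centralizer ({(c : G)} : Set G) :=
          Subgroup.mem_centralizer_singleton_iff.2 (Subgroup.mem_centralizer_singleton_iff.1 c.2).symm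
        have h1 := orderOf_dvd_natCard (⟨f, hf'⟩ : Subgroup.centralizer ({(c : G)} : Set G))
        rw [Subgroup.orderOf_mk, o168_centralizer_prime h (by omega) e, hf4] at h1
        norm_num at h1
    have hCp : IsPGroup 2 C := fun c => ⟨3, Subtype.ext (orderOf_dvd_iff_pow_eq_one.1 (hC2 c))⟩
    obtain ⟨S, hS⟩ := hCp.exists_le_sylow
    obtain ⟨hS8, -⟩ := o168_two h S
    have hd := Subgroup.card_dvd_of_le hS
    rw [hS8] at hd
    by_contra h4
    push Not at h4
    have h5 := Nat.le_of_dvd (by norm_num) hd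
    have hc8 : Nat.card C = 8 := by generalize Nat.card C = n at *; interval_cases n <;> omega
    have hCS : C = (S : Subgroup G) := Subgroup.eq_of_le_of_card_ge hS (by rw [hS8, hc8])
    have hfS : f ∈ (S : Subgroup G) := hCS ▸ Subgroup.mem_centralizer_singleton_iff.2 rfl
    have := (o168_central h S hfS (fun e => by rw [e, orderOf_one] at hf4; omega) fun t ht =>
      Subgroup.mem_centralizer_singleton_iff.1 (hCS ▸ ht : t ∈ C)).1
    omega
  -- the two classes
  have hz21 : Nat.card {g : G // IsConj z g} = 21 := by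
    have h1 := card_conj_mul_centralizer z
    rw [hzC, hT8, h] at h1
    omega
  have hf42 : 42 ≤ Nat.card {g : G // IsConj f g} := by
    have h1 := card_conj_mul_centralizer f
    rw [h] at h1
    nlinarith
  have horder : ∀ {a b : G}, IsConj a b → orderOf b = orderOf a := by
    intro a b hab
    obtain ⟨c, rfl⟩ := isConj_iff.1 hab
    exact ((SemiconjBy.conj_mk c a).orderOf_eq c).symm
  let Z : Finset G := Finset.univ.filter (fun g => IsConj z g)
  let F : Finset G := Finset.univ.filter (fun g => IsConj f g)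
  let O : ℕ → Finset G := fun n => Finset.univ.filter (fun g => orderOf g = n)
  have hO : ∀ n, Nat.card {g : G // orderOf g = n} = (O n).card := fun n => by
    rw [Nat.card_eq_fintype_card, Fintype.card_subtype]
  have hZ : Z ⊆ O 2 := fun g hg => by
    rw [Finset.mem_filter] at hg ⊢
    exact ⟨hg.1, (horder hg.2).trans hz2⟩
  have hF : F ⊆ O 4 := fun g hg => by
    rw [Finset.mem_filter] at hg ⊢
    exact ⟨hg.1, (horder hg.2).trans hf4⟩
  have hZc : Z.card = 21 := by
    rw [← hz21, Nat.card_eq_fintype_card, Fintype.card_subtype]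
  have hFc : 42 ≤ F.card := by
    rw [Nat.card_eq_fintype_card, Fintype.card_subtype] at hf42
    exact hf42
  have hsum : (O 1).card + ((O 2).card + ((O 3).card + ((O 4).card + (O 7).card))) = 168 := by
    have h1 := Finset.card_eq_sum_card_fiberwise (f := fun g : G => orderOf g)
      (s := (Finset.univ : Finset G)) (t := ({1, 2, 3, 4, 7} : Finset ℕ)) (fun g _ => by
        simp only [Finset.coe_insert, Finset.coe_singleton, Set.mem_insert_iff, Set.mem_singleton_iff]
        exact o168_orders h g)
    rw [Finset.card_univ, ← Nat.card_eq_fintype_card, h] at h1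
    rw [h1]
    simp [O]
  have hO1 : (O 1).card = 1 := Finset.card_eq_one.2 ⟨1, by ext; simp [O]⟩
  rw [hO] at h3 h7
  have h2c := Finset.card_le_card hZ
  have h4c := Finset.card_le_card hF
  have e2 : (O 2).card = 21 := by omega
  have e4 : (O 4).card = 42 := by omega
  refine ⟨by rw [hO]; exact h3, by rw [hO]; exact h7, by rw [hO]; exact e2, by rw [hO]; exact e4, ?_, ?_⟩
  · intro s t hs ht
    have hEq : Z = O 2 := Finset.eq_of_subset_of_card_le hZ (by omega)
    have e : ∀ s, orderOf s = 2 → IsConj z s := fun s hs => by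
      have : s ∈ Z := hEq ▸ Finset.mem_filter.2 ⟨Finset.mem_univ _, hs⟩
      exact (Finset.mem_filter.1 this).2
    exact (e s hs).symm.trans (e t ht)
  · intro s t hs ht
    have hEq : F = O 4 := Finset.eq_of_subset_of_card_le hF (by omega)
    have e : ∀ s, orderOf s = 4 → IsConj f s := fun s hs => by
      have : s ∈ F := hEq ▸ Finset.mem_filter.2 ⟨Finset.mem_univ _, hs⟩
      exact (Finset.mem_filter.1 this).2
    exact (e s hs).symm.trans (e t ht)

end Cfsg.Agent.Block
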