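import Cfsg.Agent.Lib.Block.KleinFour
import Cfsg.Agent.Lib.Block.ClassMul
import Cfsg.Agent.Lib.Invol.KleinSylow

/-!
The order formula from the principal `2`-block for a Klein four Sylow `2`-subgroup with one class
of involutions.
-/

open scoped ComplexConjugate

namespace Cfsg.Agent.Block.KleinOrder

open Cfsg.Agent.Block

set_option linter.unusedSectionVars false
set_option linter.style.haveILetI false

universe u

variable {G : Type u} [Group G] [Finite G] {P : Sylow 2 G}

theorem sylow_klein (hP : IsKleinFour (P : Subgroup G)) (Q : Sylow 2 G) :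
    IsKleinFour (Q : Subgroup G) := by
  refine ⟨?_, ?_⟩
  · rw [Nat.card_congr (Sylow.equiv Q P).toEquiv]; exact hP.card_four
  · rw [Monoid.exponent_eq_of_mulEquiv (Sylow.equiv Q P)]; exact hP.exponent_two

theorem card_centralizer_sylow (Q : Sylow 2 G) :
    Nat.card (Subgroup.centralizer ((Q : Subgroup G) : Set G)) =
      Nat.card (Subgroup.centralizer ((P : Subgroup G) : Set G)) := by
  haveI : Fact (Nat.Prime 2) := ⟨Nat.prime_two⟩
  obtain ⟨g, hg⟩ := MulAction.exists_smul_eq G Q P
  have hmem : ∀ w, w ∈ (P : Subgroup G) ↔ g⁻¹ * w * g ∈ (Q : Subgroup G) := by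
    intro w
    rw [← hg, Sylow.coe_subgroup_smul, Subgroup.mem_pointwise_smul_iff_inv_smul_mem]
    simp [MulAut.smul_def]
  refine Nat.card_congr
    { toFun := fun t => ⟨g * t.1 * g⁻¹, Subgroup.mem_centralizer_iff.2 fun w hw => ?_⟩
      invFun := fun t => ⟨g⁻¹ * t.1 * g, Subgroup.mem_centralizer_iff.2 fun w hw => ?_⟩
      left_inv := fun t => Subtype.ext (by simp [mul_assoc])
      right_inv := fun t => Subtype.ext (by simp [mul_assoc]) }
  · have h := Subgroup.mem_centralizer_iff.1 t.2 _ ((hmem w).1 hw)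
    calc w * (g * t.1 * g⁻¹) = g * (g⁻¹ * w * g * t.1) * g⁻¹ := by group
      _ = g * (t.1 * (g⁻¹ * w * g)) * g⁻¹ := by rw [h]
      _ = _ := by group
  · have h := Subgroup.mem_centralizer_iff.1 t.2 (g * w * g⁻¹)
      ((hmem _).2 (by
        have e : g⁻¹ * (g * w * g⁻¹) * g = w := by group
        rw [e]; exact hw))
    calc w * (g⁻¹ * t.1 * g) = g⁻¹ * (g * w * g⁻¹ * t.1) * g := by group
      _ = g⁻¹ * (t.1 * (g * w * g⁻¹)) * g := by rw [h]
      _ = _ := by group

theorem exists_sylow_pair {a b : G} (ha : a * a = 1) (hb : b * b = 1) (hab : a * b = b * a) :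
    ∃ Q : Sylow 2 G, a ∈ (Q : Subgroup G) ∧ b ∈ (Q : Subgroup G) := by
  haveI : Fact (Nat.Prime 2) := ⟨Nat.prime_two⟩
  have hsq : ∀ w : G, w * w = 1 → IsPGroup 2 (Subgroup.zpowers w) := fun w hw => by
    have h2 : orderOf w ∣ 2 ^ 1 := orderOf_dvd_of_pow_eq_one (by rw [pow_one, pow_two, hw])
    obtain ⟨k, -, hk⟩ := (Nat.dvd_prime_pow Nat.prime_two).1 h2
    exact IsPGroup.of_card (n := k) (by rw [Nat.card_zpowers, hk])
  have hnorm : Subgroup.zpowers a ≤ Subgroup.normalizer ((Subgroup.zpowers b : Subgroup G) : Set G) := by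
    refine Subgroup.zpowers_le.2 (Subgroup.mem_normalizer_iff.2 fun w => ?_)
    constructor
    · intro hw
      obtain ⟨i, rfl⟩ := Subgroup.mem_zpowers_iff.1 hw
      rw [((show Commute a b from hab).zpow_right i).eq, mul_inv_cancel_right]
      exact hw
    · intro hw
      obtain ⟨i, hi⟩ := Subgroup.mem_zpowers_iff.1 hw
      have : w = b ^ i := by
        have e : a * w * a⁻¹ = a * b ^ i * a⁻¹ := by
          rw [((show Commute a b from hab).zpow_right i).eq, mul_inv_cancel_right, hi]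
        exact mul_left_cancel (mul_right_cancel e)
      exact this ▸ Subgroup.zpow_mem _ (Subgroup.mem_zpowers b) i
  obtain ⟨Q, hQ⟩ := ((hsq a ha).to_sup_of_normal_right' (hsq b hb) hnorm).exists_le_sylow
  exact ⟨Q, hQ (Subgroup.mem_sup_left (Subgroup.mem_zpowers a)),
    hQ (Subgroup.mem_sup_right (Subgroup.mem_zpowers b))⟩

theorem mem_four {Q : Sylow 2 G} (hQ : IsKleinFour (Q : Subgroup G)) {a b w : G}
    (ha : a ∈ (Q : Subgroup G)) (hb : b ∈ (Q : Subgroup G)) (ha1 : a ≠ 1) (hb1 : b ≠ 1)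
    (hab : a ≠ b) (hw : w ∈ (Q : Subgroup G)) : w = 1 ∨ w = a ∨ w = b ∨ w = a * b := by
  haveI := hQ
  by_cases h1 : w = 1
  · exact .inl h1
  by_cases h2 : w = a
  · exact .inr (.inl h2)
  by_cases h3 : w = b
  · exact .inr (.inr (.inl h3))
  exact .inr (.inr (.inr (congrArg Subtype.val (IsKleinFour.eq_mul_of_ne_all
    (x := (⟨a, ha⟩ : (Q : Subgroup G))) (y := ⟨b, hb⟩) (z := ⟨w, hw⟩)
    (fun e => ha1 (congrArg Subtype.val e)) (fun e => hb1 (congrArg Subtype.val e))
    (fun e => hab (congrArg Subtype.val e)) (fun e => h1 (congrArg Subtype.val e))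
    (fun e => h2 (congrArg Subtype.val e)) (fun e => h3 (congrArg Subtype.val e))))))

theorem centralizer_pair {Q : Sylow 2 G} (hQ : IsKleinFour (Q : Subgroup G)) {a b : G}
    (ha : a ∈ (Q : Subgroup G)) (hb : b ∈ (Q : Subgroup G)) (ha1 : a ≠ 1) (hb1 : b ≠ 1)
    (hab : a ≠ b) (g : G) :
    g ∈ Subgroup.centralizer ((Q : Subgroup G) : Set G) ↔ g * a = a * g ∧ g * b = b * g := by
  rw [Subgroup.mem_centralizer_iff]
  refine ⟨fun h => ⟨(h a ha).symm, (h b hb).symm⟩, fun h w hw => ?_⟩
  rcases mem_four hQ ha hb ha1 hb1 hab hw with e | e | e | e <;> subst e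
  · simp
  · exact h.1.symm
  · exact h.2.symm
  · exact ((Commute.mul_right h.1 h.2).eq).symm

/-- The local picture at an involution `a`: the classes in its centralizer. -/
theorem conj_iff_of_pair (hP : IsKleinFour (P : Subgroup G)) {a : G} {Q : Sylow 2 G}
    (ha : a ∈ (Q : Subgroup G)) (ha1 : a ≠ 1)
    {C : Subgroup G} (hC : C = Subgroup.centralizer ({a} : Set G))
    {K : Subgroup C} (hKn : K.Normal) (hK : ¬ 2 ∣ Nat.card K)
    (hidx : K.index = 2 ^ 2) :
    (∀ w ∈ (Q : Subgroup G), w ∈ C) ∧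
    (∀ t : C, ∃ q : C,
      (q : G) ∈ (Q : Subgroup G) ∧ (t : C ⧸ K) = q) ∧
    (∀ q q' : C, (q : G) ∈ (Q : Subgroup G) →
      (q' : G) ∈ (Q : Subgroup G) →
      (q : C ⧸ K) = q' → q = q') ∧
    (∀ t c : C,
      ((c * t * c⁻¹ : C) :
        C ⧸ K) = t) ∧
    (∀ t q : C, t * t = 1 → (q : G) ∈ (Q : Subgroup G) →
      (t : C ⧸ K) = q → IsConj q t) := by
  classical
  haveI : Fact (Nat.Prime 2) := ⟨Nat.prime_two⟩
  have hQ := sylow_klein hP Q
  haveI := hQ
  haveI := hKn
  have hCmem : ∀ {w : G}, w ∈ C ↔ w * a = a * w := fun {w} => by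
    rw [hC, Subgroup.mem_centralizer_singleton_iff]
  have hcomm : ∀ x ∈ (Q : Subgroup G), ∀ y ∈ (Q : Subgroup G), x * y = y * x := fun x hx y hy =>
    Invol.klein_comm Q hQ hx hy
  have hle : (Q : Subgroup G) ≤ C := fun w hw =>
    hCmem.2 (hcomm w hw a ha)
  have hinj : ∀ q q' : C, (q : G) ∈ (Q : Subgroup G) → (q' : G) ∈ (Q : Subgroup G) →
      (q : C ⧸ K) = q' → q = q' := by
    intro q q' hq hq' h
    rw [QuotientGroup.eq] at h
    have hm : ((q⁻¹ * q' : C) : G) ∈ (Q : Subgroup G) := mul_mem (inv_mem hq) hq'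
    obtain ⟨k, hk⟩ := Q.isPGroup' ⟨_, hm⟩
    have h1 : orderOf (q⁻¹ * q') ∣ 2 ^ k := by
      rw [← Subgroup.orderOf_coe]
      exact orderOf_dvd_of_pow_eq_one (by simpa using congrArg Subtype.val hk)
    obtain ⟨j, -, hj⟩ := (Nat.dvd_prime_pow Nat.prime_two).1 h1
    have h2 : orderOf (q⁻¹ * q') = 1 := by
      rcases Nat.eq_zero_or_pos j with h0 | h0
      · rw [hj, h0, pow_zero]
      · refine absurd ?_ hK
        have h3 := orderOf_dvd_natCard (⟨_, h⟩ : K)
        rw [← Subgroup.orderOf_coe] at h3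
        exact (dvd_pow_self 2 h0.ne').trans (hj ▸ h3)
    exact inv_mul_eq_one.1 (orderOf_eq_one_iff.1 h2)
  have hsurj : ∀ t : C, ∃ q : C, (q : G) ∈ (Q : Subgroup G) ∧ (t : C ⧸ K) = q := by
    let f : ↥(Q : Subgroup G) → C ⧸ K := fun w => ((⟨w.1, hle w.2⟩ : C) : C ⧸ K)
    have hf : Function.Injective f := fun w w' h => by
      have h0 := hinj ⟨w.1, hle w.2⟩ ⟨w'.1, hle w'.2⟩ w.2 w'.2 h
      exact Subtype.ext (congrArg Subtype.val h0 :)
    have hc : Nat.card (Q : Subgroup G) = Nat.card (C ⧸ K) := by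
      rw [IsKleinFour.card_four, ← Subgroup.index_eq_card, hidx]; norm_num
    have hb := (Nat.bijective_iff_injective_and_card f).2 ⟨hf, hc⟩
    intro t
    obtain ⟨w, hw⟩ := hb.2 (t : C ⧸ K)
    exact ⟨⟨w.1, hle w.2⟩, w.2, hw.symm⟩
  have hab : ∀ t c : C, ((c * t * c⁻¹ : C) : C ⧸ K) = t := by
    intro t c
    obtain ⟨q, hq, hqt⟩ := hsurj t
    obtain ⟨q', hq', hqc⟩ := hsurj c
    rw [QuotientGroup.mk_mul, QuotientGroup.mk_mul, QuotientGroup.mk_inv, hqt, hqc,
      ← QuotientGroup.mk_inv, ← QuotientGroup.mk_mul, ← QuotientGroup.mk_mul]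
    congr 1
    exact mul_inv_eq_iff_eq_mul.2 (Subtype.ext (hcomm _ hq' _ hq))
  refine ⟨fun w hw => hle hw, hsurj, hinj, hab, fun t q ht hq hqt => ?_⟩
  have hta : (t : G) * a = a * (t : G) := hCmem.1 t.2
  obtain ⟨Q', hQa, hQt⟩ := exists_sylow_pair (a := a) (b := (t : G))
    (by
      have := congrArg Subtype.val (IsKleinFour.mul_self (⟨a, ha⟩ : (Q : Subgroup G)))
      simpa using this)
    (by simpa using congrArg Subtype.val ht) hta.symm
  have hQ' := sylow_klein hP Q'
  have hle' : (Q' : Subgroup G) ≤ C := fun w hw =>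
    hCmem.2 (Invol.klein_comm Q' hQ' hw hQa)
  obtain ⟨c, hc⟩ := MulAction.exists_smul_eq C (Q'.subtype hle') (Q.subtype hle)
  have hmem : ((c * t * c⁻¹ : C) : G) ∈ (Q : Subgroup G) := by
    have : c * t * c⁻¹ ∈ ((c • Q'.subtype hle' : Sylow 2 C) : Subgroup C) := by
      rw [Sylow.coe_subgroup_smul, Subgroup.mem_pointwise_smul_iff_inv_smul_mem]
      simp [MulAut.smul_def, Sylow.coe_subtype, Subgroup.mem_subgroupOf, mul_assoc, hQt]
    rw [hc, Sylow.coe_subtype, Subgroup.mem_subgroupOf] at this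
    exact this
  have he := hinj _ q hmem hq ((hab t c).trans hqt)
  exact (isConj_iff.2 ⟨c, he⟩).symm

/-- The size of a class in the centralizer of a commuting involution. -/
theorem card_class_pair (hP : IsKleinFour (P : Subgroup G)) {a b : G}
    {Q : Sylow 2 G} (ha : a ∈ (Q : Subgroup G)) (hb : b ∈ (Q : Subgroup G)) (ha1 : a ≠ 1)
    (hb1 : b ≠ 1) (hab : a ≠ b) (hbC : b ∈ Subgroup.centralizer ({a} : Set G))
    (s : Finset (Subgroup.centralizer ({a} : Set G)))
    (hs : ∀ t, t ∈ s ↔ IsConj (⟨b, hbC⟩ : Subgroup.centralizer ({a} : Set G)) t) :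
    s.card * Nat.card (Subgroup.centralizer ((P : Subgroup G) : Set G)) =
      Nat.card (Subgroup.centralizer ({a} : Set G)) := by
  classical
  letI := Fintype.ofFinite (Subgroup.centralizer ({a} : Set G))
  let bC : Subgroup.centralizer ({a} : Set G) := ⟨b, hbC⟩
  have hQ := sylow_klein hP Q
  have hcent : Nat.card (Subgroup.centralizer ({bC} : Set (Subgroup.centralizer ({a} : Set G)))) =
      Nat.card (Subgroup.centralizer ((P : Subgroup G) : Set G)) := by
    rw [← card_centralizer_sylow Q]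
    refine Nat.card_congr
      { toFun := fun t => ⟨((t.1 : Subgroup.centralizer ({a} : Set G)) : G), (centralizer_pair hQ ha hb ha1 hb1 hab _).2
          ⟨Subgroup.mem_centralizer_singleton_iff.1 t.1.2,
            congrArg Subtype.val (Subgroup.mem_centralizer_singleton_iff.1 t.2)⟩⟩
        invFun := fun t => ⟨⟨t.1, Subgroup.mem_centralizer_singleton_iff.2
            ((centralizer_pair hQ ha hb ha1 hb1 hab _).1 t.2).1⟩,
          Subgroup.mem_centralizer_singleton_iff.2
            (Subtype.ext ((centralizer_pair hQ ha hb ha1 hb1 hab _).1 t.2).2)⟩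
        left_inv := fun t => rfl
        right_inv := fun t => rfl }
  rw [← hcent, show s.card = (Subgroup.centralizer ({bC} : Set (Subgroup.centralizer ({a} : Set G)))).index by
    rw [← Cfsg.Agent.Char.card_conjClass_finset bC]
    exact congrArg _ (Finset.ext fun t => (hs t).trans (by simp only [Finset.mem_filter, Finset.mem_univ, true_and]; rfl)), Subgroup.index_mul_card]

/-- A Klein four Sylow subgroup and no normal complement: one class of involutions. -/
theorem setup_of_no_complement (P : Sylow 2 G) {g₀ : ℕ} (hg₀ : Odd g₀) (hG : Nat.card G = 4 * g₀)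
    (hnc : ¬ ∃ N : Subgroup G, N.Normal ∧ Nat.card N = g₀) :
    IsKleinFour (P : Subgroup G) ∧
      ∀ s t : G, orderOf s = 2 → orderOf t = 2 → IsConj s t := by
  classical
  haveI : Fact (Nat.Prime 2) := ⟨Nat.prime_two⟩
  have hf : (Nat.card G).factorization 2 = 2 := by
    rw [hG, Nat.factorization_mul (by norm_num) (by rcases hg₀ with ⟨m, rfl⟩; omega),
      Finsupp.add_apply, Nat.factorization_eq_zero_of_not_dvd (n := g₀)
        (fun h => (Nat.not_even_iff_odd.2 hg₀) (even_iff_two_dvd.2 h)),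
      show (4 : ℕ) = 2 ^ 2 by norm_num, Nat.Prime.factorization_pow Nat.prime_two,
      Finsupp.single_eq_same]
  have h4 : Nat.card (P : Subgroup G) = 4 := by
    rw [P.card_eq_multiplicity, hf]; norm_num
  have hnpc : ¬ Subgroup.normalizer ((P : Subgroup G) : Set G) ≤
      Subgroup.centralizer ((P : Subgroup G) : Set G) := by
    intro hN
    have hcomp := MonoidHom.ker_transferSylow_isComplement' P hN
    refine hnc ⟨(MonoidHom.transferSylow P hN).ker, inferInstance, ?_⟩
    have := (MonoidHom.transferSylow P hN).ker.card_mul_index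
    rw [hcomp.symm.index_eq_card, h4, hG] at this
    omega
  haveI : Nontrivial (P : Subgroup G) := Finite.one_lt_card_iff_nontrivial.1 (by omega)
  have hK : IsKleinFour (P : Subgroup G) := by
    by_cases hc : IsCyclic (P : Subgroup G)
    · refine absurd (IsCyclic.normalizer_le_centralizer (P := P) (hP := hc) ?_) hnpc
      exact Nat.minFac_eq_two_iff _ |>.2 (hG ▸ Dvd.dvd.mul_right (by norm_num) g₀)
    · refine ⟨h4, (Monoid.exponent_eq_prime_iff Nat.prime_two).2 fun w hw => ?_⟩
      have hd : orderOf w ∣ 2 ^ 2 := by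
        have h := orderOf_dvd_natCard w
        rwa [h4] at h
      obtain ⟨k, hk, hk'⟩ := (Nat.dvd_prime_pow Nat.prime_two).1 hd
      interval_cases k
      · exact absurd (orderOf_eq_one_iff.1 (by simpa using hk')) hw
      · simpa using hk'
      · exact absurd (isCyclic_of_orderOf_eq_card w (by rw [hk', h4]; norm_num)) hc
  refine ⟨hK, ?_⟩
  have hfused : ¬ Invol.KleinUnfused P := by
    intro hun
    refine hnpc fun n hn => Subgroup.mem_centralizer_iff.2 fun x hx => ?_
    have hx' : n * x * n⁻¹ ∈ (P : Subgroup G) := (Subgroup.mem_normalizer_iff.1 hn x).1 hx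
    have := hun x hx _ hx' (isConj_iff.2 ⟨n, rfl⟩)
    exact (mul_inv_eq_iff_eq_mul.1 this.symm).symm
  haveI : Subsingleton (Invol.InvolClass G) :=
    (Nat.card_eq_one_iff_unique.1 (Invol.card_involClass_of_fused P hK hfused)).1
  intro s t hs ht
  exact ConjClasses.mk_eq_mk_iff_isConj.1 (congrArg Subtype.val
    (Subsingleton.elim (⟨_, s, hs, rfl⟩ : Invol.InvolClass G) ⟨_, t, ht, rfl⟩))

/-- The two-part of a product of involutions commutes with both. -/
theorem comm_of_pPart {s t u : G} (hs : s * s = 1) (ht : t * t = 1) (hu : u * u = 1)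
    (h : u ∈ Subgroup.zpowers (s * t)) : u * s = s * u ∧ u * t = t * u := by
  obtain ⟨i, hi⟩ := Subgroup.mem_zpowers_iff.1 h
  have huu : u⁻¹ = u := inv_eq_of_mul_eq_one_right hu
  have hs' : s⁻¹ = s := inv_eq_of_mul_eq_one_right hs
  have ht' : t⁻¹ = t := inv_eq_of_mul_eq_one_right ht
  have h1 : s * u * s⁻¹ = u := by
    rw [← hi, ← conj_zpow]
    have : s * (s * t) * s⁻¹ = (s * t)⁻¹ := by
      rw [mul_inv_rev, ← mul_assoc, hs, one_mul, ht', hs']
    rw [this, inv_zpow, hi, huu]
  have h2 : t * u * t⁻¹ = u := by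
    rw [← hi, ← conj_zpow]
    have : t * (s * t) * t⁻¹ = (s * t)⁻¹ := by
      rw [mul_inv_rev, mul_assoc, mul_assoc, mul_inv_cancel, mul_one, ht', hs']
    rw [this, inv_zpow, hi, huu]
  exact ⟨(mul_inv_eq_iff_eq_mul.1 h1).symm, (mul_inv_eq_iff_eq_mul.1 h2).symm⟩

/-- The involution in a cyclic group. -/
theorem eq_half {g u : G} (hu : orderOf u = 2) (h : u ∈ Subgroup.zpowers g) :
    u = g ^ (orderOf g / 2) := by
  obtain ⟨m, hm⟩ : 2 ∣ orderOf g := hu ▸ orderOf_dvd_of_mem_zpowers h
  obtain ⟨a, rfl⟩ := Subgroup.mem_zpowers_iff.1 h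
  have h1 : (g ^ a) ^ (2 : ℤ) = 1 := by
    rw [show (2 : ℤ) = ((2 : ℕ) : ℤ) by rfl, zpow_natCast, ← hu, pow_orderOf_eq_one]
  rw [← zpow_mul] at h1
  have h2 := orderOf_dvd_iff_zpow_eq_one.2 h1
  rw [hm, Nat.cast_mul, mul_comm a, Nat.cast_ofNat] at h2
  obtain ⟨k, rfl⟩ := (mul_dvd_mul_iff_left (by norm_num : (2 : ℤ) ≠ 0)).1 h2
  rw [hm, Nat.mul_div_cancel_left _ (by norm_num : 0 < 2)]
  rw [zpow_mul, zpow_natCast] at hu ⊢
  have h3 : (g ^ m) * (g ^ m) = 1 := by
    rw [← pow_add, ← two_mul, ← hm, pow_orderOf_eq_one]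
  rcases Int.even_or_odd k with ⟨j, rfl⟩ | ⟨j, rfl⟩
  · rw [zpow_add, ← (Commute.refl (g ^ m)).mul_zpow, h3, one_zpow, orderOf_one] at hu
    omega
  · rw [zpow_add, zpow_one, two_mul, zpow_add, ← (Commute.refl (g ^ m)).mul_zpow, h3, one_zpow,
      one_mul]

/-- The involutions whose product with `J` has even order, counted. -/
theorem count_singular [Fintype G] [DecidableEq G] (hP : IsKleinFour (P : Subgroup G))
    (hone : ∀ s t : G, orderOf s = 2 → orderOf t = 2 → IsConj s t) {J : G}
    (hJP : J ∈ (P : Subgroup G)) (hJ : orderOf J = 2) :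
    (Finset.univ.filter (fun t : G => orderOf t = 2 ∧ 2 ∣ orderOf (J * t))).card *
        Nat.card (Subgroup.centralizer ((P : Subgroup G) : Set G)) ^ 2 =
      2 * Nat.card (Subgroup.centralizer ({J} : Set G)) ^ 2 := by
  classical
  haveI : Fact (Nat.Prime 2) := ⟨Nat.prime_two⟩
  haveI := hP
  set cP := Nat.card (Subgroup.centralizer ((P : Subgroup G) : Set G)) with hcP
  set c := Nat.card (Subgroup.centralizer ({J} : Set G)) with hc
  have hsq : ∀ {w : G}, orderOf w = 2 → w * w = 1 := fun {w} hw => by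
    rw [← pow_two, ← hw, pow_orderOf_eq_one]
  have hord : ∀ {w : G}, w * w = 1 → w ≠ 1 → orderOf w = 2 := fun {w} hw h1 =>
    orderOf_eq_prime (by rw [pow_two, hw]) h1
  have hne : ∀ {w : G}, orderOf w = 2 → w ≠ 1 := fun {w} hw h => by simp [h] at hw
  have hcard : ∀ {w : G}, orderOf w = 2 →
      Nat.card (Subgroup.centralizer ({w} : Set G)) = c := by
    intro w hw
    have hidx : (Subgroup.centralizer ({w} : Set G)).index =
        (Subgroup.centralizer ({J} : Set G)).index := by
      rw [← Cfsg.Agent.Char.card_conjClass_finset w, ← Cfsg.Agent.Char.card_conjClass_finset J]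
      have hwJ := hone w J hw hJ
      exact congrArg _ (Finset.ext fun x => by
        simp only [Finset.mem_filter, Finset.mem_univ, true_and]
        exact ⟨fun h => hwJ.symm.trans h, fun h => hwJ.trans h⟩)
    have h1 := Subgroup.index_mul_card (Subgroup.centralizer ({w} : Set G))
    have h2 := Subgroup.index_mul_card (Subgroup.centralizer ({J} : Set G))
    rw [hidx, ← h2] at h1
    exact mul_left_cancel₀ Subgroup.index_ne_zero_of_finite h1
  have hJ1 := hne hJ
  obtain ⟨u₀', hu₀'⟩ : ∃ u : (P : Subgroup G), u ≠ 1 ∧ (u : G) ≠ J := by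
    by_contra hno
    simp only [not_exists, not_and, not_not] at hno
    have hle : Nat.card (P : Subgroup G) ≤ Nat.card (({1, J} : Finset G) : Set G) := by
      refine Nat.card_le_card_of_injective (fun u => ⟨u.1, ?_⟩) fun a b h =>
        Subtype.ext (congrArg Subtype.val h :)
      by_cases h : u = 1
      · simp [h]
      · simp [hno u h]
    rw [IsKleinFour.card_four, Nat.card_coe_set_eq, Set.ncard_coe_finset] at hle
    exact absurd (hle.trans Finset.card_le_two) (by norm_num)
  set u₀ : G := (u₀' : G) with hu₀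
  have hu₀1 : u₀ ≠ 1 := fun h => hu₀'.1 (Subtype.ext h)
  have hPsq : ∀ w ∈ (P : Subgroup G), w * w = 1 := fun w hw =>
    congrArg Subtype.val (IsKleinFour.mul_self (⟨w, hw⟩ : (P : Subgroup G)))
  have hJu : J * u₀ ∈ (P : Subgroup G) := mul_mem hJP u₀'.2
  have hJu1 : J * u₀ ≠ 1 := fun h => hu₀'.2 (by
    have h' : J * u₀ = J * J := by rw [h, hsq hJ]
    exact mul_left_cancel h')
  have hJuJ : J * u₀ ≠ J := fun h => hu₀1 (by simpa using h)
  set C := Subgroup.centralizer ({J} : Set G) with hC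
  letI := Fintype.ofFinite C
  obtain ⟨K, hKn, hK, hidx⟩ := Block.klein_centralizer_complement P hP hJP hJ1
  obtain ⟨hle, hsurj, hinj, hconjq, hclass⟩ := conj_iff_of_pair hP hJP hJ1 hC hKn hK hidx
  have hcl : ∀ (w : G) (hw : w ∈ (P : Subgroup G)), w ≠ 1 → w ≠ J →
      (Finset.univ.filter (fun t : C => IsConj (⟨w, hle w hw⟩ : C) t)).card * cP = c :=
    fun w hw h1 h2 => card_class_pair hP hJP hw hJ1 h1 (Ne.symm h2) (hle w hw) _ fun t => by
      simp only [Finset.mem_filter, Finset.mem_univ, true_and]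
  -- the possible two-parts
  set U := (Finset.univ : Finset C).filter (fun u : C => orderOf (u : G) = 2 ∧ (u : G) ≠ J) with hU
  have hUcard : U.card * cP = 2 * c := by
    have e : U = (Finset.univ.filter (fun t : C => IsConj (⟨u₀, hle _ u₀'.2⟩ : C) t)) ∪
        (Finset.univ.filter (fun t : C => IsConj (⟨J * u₀, hle _ hJu⟩ : C) t)) := by
      ext t
      simp only [U, Finset.mem_filter, Finset.mem_univ, true_and, Finset.mem_union]
      constructor
      · rintro ⟨ht, htJ⟩
        obtain ⟨q, hq, hqt⟩ := hsurj t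
        have htt : t * t = 1 := Subtype.ext (hsq ht)
        have hc' := hclass t q htt hq hqt
        rcases mem_four hP hJP u₀'.2 hJ1 hu₀1 (Ne.symm hu₀'.2) hq with e | e | e | e
        · rw [show q = 1 from Subtype.ext e, isConj_one_right] at hc'
          exact absurd (congrArg Subtype.val hc') (hne ht)
        · refine absurd ?_ htJ
          obtain ⟨g, hg⟩ := isConj_iff.1 hc'
          have h1 := congrArg Subtype.val hg
          simp only [Subgroup.coe_mul, Subgroup.coe_inv, e] at h1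
          rw [← h1, Subgroup.mem_centralizer_singleton_iff.1 g.2, mul_inv_cancel_right]
        · exact .inl ((show q = ⟨u₀, hle _ u₀'.2⟩ from Subtype.ext e) ▸ hc')
        · exact .inr ((show q = ⟨J * u₀, hle _ hJu⟩ from Subtype.ext e) ▸ hc')
      · have key : ∀ (w : G) (hw : w ∈ (P : Subgroup G)), w ≠ 1 → w ≠ J →
            IsConj (⟨w, hle w hw⟩ : C) t → orderOf (t : G) = 2 ∧ (t : G) ≠ J := by
          intro w hw h1 h2 hcj
          obtain ⟨g, rfl⟩ := isConj_iff.1 hcj
          show orderOf ((g : G) * w * (g : G)⁻¹) = 2 ∧ (g : G) * w * (g : G)⁻¹ ≠ J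
          refine ⟨(MulEquiv.orderOf_eq (MulAut.conj (g : G)) w).trans (hord (hPsq w hw) h1),
            fun h => h2 ?_⟩
          have hg := Subgroup.mem_centralizer_singleton_iff.1 g.2
          calc w = (g : G)⁻¹ * ((g : G) * w * (g : G)⁻¹) * g := by group
            _ = (g : G)⁻¹ * (J * g) := by rw [h]; group
            _ = J := by rw [← hg]; group
        rintro (h | h)
        · exact key _ u₀'.2 hu₀1 hu₀'.2 h
        · exact key _ hJu hJu1 hJuJ h
    rw [e, Finset.card_union_of_disjoint, add_mul, hcl _ u₀'.2 hu₀1 hu₀'.2,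
      hcl _ hJu hJu1 hJuJ]
    · ring
    · refine Finset.disjoint_filter.2 fun t _ h1 h2 => hJ1 ?_
      obtain ⟨g, hg⟩ := isConj_iff.1 h1
      obtain ⟨g', hg'⟩ := isConj_iff.1 h2
      have e1 := hconjq ⟨u₀, hle _ u₀'.2⟩ g
      have e2 := hconjq ⟨J * u₀, hle _ hJu⟩ g'
      rw [hg] at e1; rw [hg'] at e2
      have := congrArg Subtype.val (hinj _ _ u₀'.2 hJu (e1.symm.trans e2))
      simpa using this.symm
  -- the fibre over one two-part
  set W := Finset.univ.filter (fun t : G => orderOf t = 2 ∧ 2 ∣ orderOf (J * t)) with hW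
  let T : G → Finset G := fun u => W.filter (fun t => u ∈ Subgroup.zpowers (J * t))
  have huniq : ∀ g u u' : G, orderOf u = 2 → orderOf u' = 2 → u ∈ Subgroup.zpowers g →
      u' ∈ Subgroup.zpowers g → u = u' := fun g u u' hu hu' h h' => by
    rw [eq_half hu h, eq_half hu' h']
  have hpart : W = U.biUnion fun u => T (u : G) := by
    ext t
    simp only [Finset.mem_biUnion, T, Finset.mem_filter]
    refine ⟨fun htW => ?_, fun ⟨_, _, h, _⟩ => h⟩
    obtain ⟨ht, heven⟩ := (Finset.mem_filter.1 htW).2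
    set g := J * t with hg
    obtain ⟨m, hm⟩ := heven
    have hu : orderOf (g ^ m) = 2 := by
      have hm0 : m ≠ 0 := fun h => (orderOf_pos g).ne' (by rw [hm, h, mul_zero])
      rw [orderOf_pow' _ hm0, hm, Nat.gcd_eq_right (dvd_mul_left m 2),
        Nat.mul_div_cancel _ (Nat.pos_of_ne_zero hm0)]
    have hmem : g ^ m ∈ Subgroup.zpowers g := Subgroup.npow_mem_zpowers g m
    obtain ⟨hcJ, hct⟩ := comm_of_pPart (hsq hJ) (hsq ht) (hsq hu) hmem
    refine ⟨⟨g ^ m, Subgroup.mem_centralizer_singleton_iff.2 hcJ⟩,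
      Finset.mem_filter.2 ⟨Finset.mem_univ _, hu, fun h => ?_⟩, htW, hmem⟩
    -- `t` would have odd order
    have htC : t ∈ C := Subgroup.mem_centralizer_singleton_iff.2 (by rw [← h]; exact hct.symm)
    obtain ⟨q, hq, hqt⟩ := hsurj ⟨t, htC⟩
    have hc' := hclass ⟨t, htC⟩ q (Subtype.ext (hsq ht)) hq hqt
    obtain ⟨γ, hγ⟩ := isConj_iff.1 hc'
    have hγ' : (γ : G) * q * (γ : G)⁻¹ = t := congrArg Subtype.val hγ
    have hJγ := Subgroup.mem_centralizer_singleton_iff.1 γ.2
    have e2 : J * t = (γ : G) * (J * q) * (γ : G)⁻¹ := by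
      rw [← hγ', ← mul_assoc, ← mul_assoc, ← hJγ]; group
    have ho : orderOf g ∣ 2 := by
      rw [hg, e2, show orderOf ((γ : G) * (J * q) * (γ : G)⁻¹) = orderOf (J * q) from
        MulEquiv.orderOf_eq (MulAut.conj (γ : G)) _]
      exact orderOf_dvd_of_pow_eq_one (by rw [pow_two]; exact hPsq _ (mul_mem hJP hq))
    have hg1 : g = J := by
      have h3 : orderOf g = 2 := by
        rcases (Nat.dvd_prime Nat.prime_two).1 ho with h3 | h3
        · omega
        · exact h3
      rw [h3] at hm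
      have h4 : g ^ m = g := by rw [show m = 1 by omega, pow_one]
      exact h4.symm.trans h
    exact hne ht (by simpa [hg] using hg1)
  have hT : ∀ u ∈ U, (T (u : G)).card * cP = c := by
    intro u hu
    obtain ⟨hu2, huJ⟩ := (Finset.mem_filter.1 hu).2
    have huc : (u : G) * J = J * u := Subgroup.mem_centralizer_singleton_iff.1 u.2
    obtain ⟨Q, hQu, hQJ⟩ := exists_sylow_pair (hsq hu2) (hsq hJ) huc
    set D := Subgroup.centralizer ({(u : G)} : Set G) with hD
    letI := Fintype.ofFinite D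
    obtain ⟨L, hLn, hL, hLidx⟩ :=
      Block.klein_centralizer_complement Q (sylow_klein hP Q) hQu (hne hu2)
    obtain ⟨hle', hsurj', hinj', hconjq', hclass'⟩ := conj_iff_of_pair hP hQu (hne hu2) hD hLn hL hLidx
    have hJQ : J * u ∈ (Q : Subgroup G) := mul_mem hQJ hQu
    have h1 : J * (u : G) ≠ 1 := fun h => huJ (by
      have h' : J * (u : G) = J * J := by rw [h, hsq hJ]
      exact mul_left_cancel h')
    have h2 : J * (u : G) ≠ u := fun h => hJ1 (by simpa using h)
    have e : (Finset.univ.filter (fun t : D => IsConj (⟨J * u, hle' _ hJQ⟩ : D) t)).card =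
        (T (u : G)).card := by
      refine Finset.card_bij (fun t _ => (t : G)) (fun t ht => ?_) (fun a _ b _ h => Subtype.ext h) ?_
      · obtain ⟨γ, hγ⟩ := isConj_iff.1 (Finset.mem_filter.1 ht).2
        have hto : orderOf (t : G) = 2 := by
          rw [← hγ]
          show orderOf ((γ : G) * (J * u) * (γ : G)⁻¹) = 2
          rw [show orderOf ((γ : G) * (J * u) * (γ : G)⁻¹) = orderOf (J * u) from
            MulEquiv.orderOf_eq (MulAut.conj (γ : G)) _]
          refine hord ?_ h1
          rw [mul_assoc, ← mul_assoc (u : G), huc, mul_assoc J u, hsq hu2, mul_one, hsq hJ]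
        let v : D := ⟨J, hle' _ hQJ⟩ * t * ⟨u, hle' _ hQu⟩
        have hvL : v ∈ L := by
          haveI := hLn
          rw [← QuotientGroup.eq_one_iff, QuotientGroup.mk_mul, QuotientGroup.mk_mul, ← hγ,
            hconjq', ← QuotientGroup.mk_mul, ← QuotientGroup.mk_mul, ← QuotientGroup.mk_one]
          congr 1
          refine Subtype.ext ?_
          show J * (J * u) * u = 1
          rw [← mul_assoc, hsq hJ, one_mul, hsq hu2]
        have hut : Commute (t : G) (u : G) := Subgroup.mem_centralizer_singleton_iff.1 t.2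
        have hJtu : J * (t : G) = (v : G) * u := by
          show J * (t : G) = J * t * u * u
          rw [mul_assoc (J * (t : G)), hsq hu2, mul_one]
        have hvu : Commute (u : G) (v : G) := (Subgroup.mem_centralizer_singleton_iff.1 v.2).symm
        have hm : (u : G) ∈ Subgroup.zpowers (J * (t : G)) :=
          Block.mem_zpowers_of_pPart (p := 2) ⟨(v : G), by rw [hJtu, hvu.eq], hvu,
            ⟨1, by rw [hu2, pow_one]⟩, fun h => hL (by
              rw [Subgroup.orderOf_coe, ← Subgroup.orderOf_mk v hvL] at h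
              exact h.trans (orderOf_dvd_natCard _))⟩
        refine Finset.mem_filter.2 ⟨Finset.mem_filter.2 ⟨Finset.mem_univ _, hto, ?_⟩, hm⟩
        have := orderOf_dvd_of_mem_zpowers hm
        rwa [hu2] at this
      · intro t ht
        obtain ⟨htW, htu⟩ := Finset.mem_filter.1 ht
        obtain ⟨hto, -⟩ := (Finset.mem_filter.1 htW).2
        obtain ⟨-, hct⟩ := comm_of_pPart (hsq hJ) (hsq hto) (hsq hu2) htu
        have htD : t ∈ D := Subgroup.mem_centralizer_singleton_iff.2 hct.symm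
        refine ⟨⟨t, htD⟩, Finset.mem_filter.2 ⟨Finset.mem_univ _, ?_⟩, rfl⟩
        obtain ⟨q, hq, hqt⟩ := hsurj' ⟨t, htD⟩
        have hc' := hclass' ⟨t, htD⟩ q (Subtype.ext (hsq hto)) hq hqt
        obtain ⟨γ, hγ⟩ := isConj_iff.1 hc'
        have hγ' : (γ : G) * q * (γ : G)⁻¹ = t := congrArg Subtype.val hγ
        rcases mem_four (sylow_klein hP Q) hQu hQJ (hne hu2) hJ1 huJ hq with e | e | e | e
        · exact absurd (by rw [← hγ', e]; simp) (hne hto)
        · exfalso
          have htu' : t = u := by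
            rw [← hγ', e, Subgroup.mem_centralizer_singleton_iff.1 γ.2, mul_inv_cancel_right]
          rw [htu'] at htu
          obtain ⟨i, hi⟩ := Subgroup.mem_zpowers_iff.1 htu
          have hJu' : Commute J (u : G) := huc.symm
          rw [hJu'.mul_zpow] at hi
          rcases Int.even_or_odd i with ⟨j, rfl⟩ | ⟨j, rfl⟩
          · rw [zpow_add, zpow_add, ← (Commute.refl J).mul_zpow, ← (Commute.refl (u : G)).mul_zpow,
              hsq hJ, hsq hu2, one_zpow, one_mul] at hi
            exact hne hu2 hi.symm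
          · rw [two_mul, zpow_add, zpow_add, zpow_one, zpow_add, zpow_add, zpow_one,
              ← (Commute.refl J).mul_zpow, ← (Commute.refl (u : G)).mul_zpow, hsq hJ, hsq hu2,
              one_zpow, one_mul, one_mul] at hi
            exact hJ1 (by simpa using hi)
        · exfalso
          -- `t` conjugate to `J` modulo the complement
          haveI := hLn
          have h5 : ((⟨J, hle' _ hQJ⟩ * ⟨t, htD⟩ : D) : D ⧸ L) = 1 := by
            rw [QuotientGroup.mk_mul, hqt, show q = ⟨J, hle' _ hQJ⟩ from Subtype.ext e,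
              ← QuotientGroup.mk_mul, ← QuotientGroup.mk_one]
            congr 1
            exact Subtype.ext (hsq hJ)
          rw [QuotientGroup.eq_one_iff] at h5
          refine hL ?_
          have h6 : orderOf (J * t) ∣ Nat.card L := by
            have := orderOf_dvd_natCard (⟨_, h5⟩ : L)
            rwa [← Subgroup.orderOf_coe, ← Subgroup.orderOf_coe] at this
          refine dvd_trans ?_ h6
          have := orderOf_dvd_of_mem_zpowers htu
          rwa [hu2] at this
        · have : q = ⟨J * u, hle' _ hJQ⟩ := Subtype.ext (e.trans huc)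
          exact this ▸ hc'
    rw [← e]
    exact (card_class_pair hP hQu hJQ (hne hu2) h1 (Ne.symm h2) (hle' _ hJQ) _
      (fun t => by simp only [Finset.mem_filter, Finset.mem_univ, true_and])).trans (hcard hu2)
  have hdisj : (U : Set C).PairwiseDisjoint fun u => T (u : G) := by
    intro u hu v hv hne'
    refine Finset.disjoint_left.2 fun t ht ht' => hne' ?_
    exact Subtype.ext (huniq _ _ _ (Finset.mem_filter.1 hu).2.1 (Finset.mem_filter.1 hv).2.1
      (Finset.mem_filter.1 ht).2 (Finset.mem_filter.1 ht').2)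
  rw [hpart, Finset.card_biUnion hdisj, pow_two cP, ← mul_assoc, Finset.sum_mul,
    Finset.sum_congr rfl hT, Finset.sum_const, smul_eq_mul, mul_assoc, mul_comm c cP, ← mul_assoc,
    hUcard]
  ring

variable {M : Ideal AlgInt}

/-- Every singular element is conjugate into `J` times the complement, and there are `#G / 4`. -/
theorem singular_facts [Fintype G] (hP : IsKleinFour (P : Subgroup G))
    (hone : ∀ s t : G, orderOf s = 2 → orderOf t = 2 → IsConj s t) {z : G}
    (hz2 : orderOf z = 2) {C : Subgroup G} (hC : C = Subgroup.centralizer ({z} : Set G))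
    {K : Subgroup C} (hKn : K.Normal) (hK : ¬ 2 ∣ Nat.card K) (hidx : K.index = 2 ^ 2) :
    (∀ g : G, 2 ∣ orderOf g → ∃ (t : G) (k : C), k ∈ K ∧ t * (z * (k : G)) * t⁻¹ = g) ∧
      4 * (Finset.univ.filter (fun g : G => 2 ∣ orderOf g)).card = Nat.card G := by
  classical
  haveI : Fact (Nat.Prime 2) := ⟨Nat.prime_two⟩
  haveI := hP
  haveI := hKn
  letI := Fintype.ofFinite C
  have hCmem : ∀ {w : G}, w ∈ C ↔ w * z = z * w := fun {w} => by
    rw [hC, Subgroup.mem_centralizer_singleton_iff]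
  set Sg := Finset.univ.filter (fun g : G => 2 ∣ orderOf g) with hSg
  let f : (G ⧸ C) × K → G := fun w => w.1.out * (z * ((w.2 : C) : G)) * w.1.out⁻¹
  have hKodd : ∀ k : K, ¬ 2 ∣ orderOf (k : C) := fun k h => hK (by
    rw [Subgroup.orderOf_coe] at h
    exact h.trans (orderOf_dvd_natCard k))
  have hordconj : ∀ t g : G, orderOf (t * g * t⁻¹) = orderOf g := fun t g =>
    MulEquiv.orderOf_eq (MulAut.conj t) g
  have hpp : ∀ (t : G) (k : K), IsPPart 2 (t * (z * ((k : C) : G)) * t⁻¹) (t * z * t⁻¹) :=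
    fun t k => by
      have hc : Commute z ((k : C) : G) := (hCmem.1 (k : C).2).symm
      refine ⟨t * ((k : C) : G) * t⁻¹, by rw [conj_mul], ?_, ⟨1, by rw [hordconj, hz2, pow_one]⟩, ?_⟩
      · show t * z * t⁻¹ * (t * ((k : C) : G) * t⁻¹) = t * ((k : C) : G) * t⁻¹ * (t * z * t⁻¹)
        rw [conj_mul, conj_mul, hc.eq]
      · rw [hordconj, Subgroup.orderOf_coe]; exact hKodd k
  have hfSg : ∀ w, f w ∈ Sg := fun w => by
    refine Finset.mem_filter.2 ⟨Finset.mem_univ _, ?_⟩
    have hz' := Block.mem_zpowers_of_pPart (hpp w.1.out w.2)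
    have := orderOf_dvd_of_mem_zpowers hz'
    rwa [hordconj, hz2] at this
  have hfinj : Function.Injective f := by
    rintro ⟨q, k⟩ ⟨q', k'⟩ h
    have h1 : IsPPart 2 (f (q', k')) (q.out * z * q.out⁻¹) := h ▸ hpp q.out k
    have h2 := Block.pPart_unique h1 (hpp q'.out k')
    have hq : q = q' := by
      rw [← QuotientGroup.out_eq' q, ← QuotientGroup.out_eq' q', QuotientGroup.eq]
      refine hCmem.2 ?_
      calc q.out⁻¹ * q'.out * z = q.out⁻¹ * (q'.out * z * q'.out⁻¹) * q'.out := by group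
        _ = q.out⁻¹ * (q.out * z * q.out⁻¹) * q'.out := by rw [h2]
        _ = z * (q.out⁻¹ * q'.out) := by group
    subst hq
    simp only [f, mul_left_inj, mul_right_inj] at h
    exact Prod.ext rfl (Subtype.ext (Subtype.ext h))
  have hconjf : ∀ g ∈ Sg, ∃ w, f w = g := by
    intro g hg
    obtain ⟨u, v, huv, hcom, ⟨j, hj⟩, hv, -, -⟩ := Block.exists_pPart_zpowers (p := 2) g
    have hu1 : u ≠ 1 := fun h => by
      rw [h, one_mul] at huv
      exact hv (huv ▸ (Finset.mem_filter.1 hg).2)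
    obtain ⟨Q, hQ⟩ := (IsPGroup.of_card (n := j) (G := Subgroup.zpowers u)
      (by rw [Nat.card_zpowers, hj])).exists_le_sylow
    have hu2 : orderOf u = 2 := Invol.klein_orderOf Q (sylow_klein hP Q)
      (hQ (Subgroup.mem_zpowers u)) hu1
    obtain ⟨t, ht⟩ := isConj_iff.1 (hone z u hz2 hu2)
    set q : G ⧸ C := (t : G ⧸ C)
    obtain ⟨c, hc⟩ := QuotientGroup.mk_out_eq_mul C t
    have hu' : u = q.out * z * q.out⁻¹ := by
      rw [show q.out = t * (c : G) from hc, ← ht]
      have := hCmem.1 c.2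
      calc t * z * t⁻¹ = t * (z * (c : G)) * (c : G)⁻¹ * t⁻¹ := by group
        _ = t * ((c : G) * z) * (c : G)⁻¹ * t⁻¹ := by rw [this]
        _ = _ := by group
    have hvC : q.out⁻¹ * v * q.out ∈ C := by
      refine hCmem.2 ?_
      calc q.out⁻¹ * v * q.out * z = q.out⁻¹ * (v * u) * q.out := by rw [hu']; group
        _ = q.out⁻¹ * (u * v) * q.out := by rw [hcom.eq]
        _ = _ := by rw [hu']; group
    have hvo : ¬ 2 ∣ orderOf (⟨_, hvC⟩ : C) := by
      rw [← Subgroup.orderOf_coe]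
      have := hordconj q.out⁻¹ v
      rw [inv_inv] at this
      rwa [this]
    refine ⟨(q, ⟨⟨_, hvC⟩, Block.regular_mem_of_index_pPow hidx hvo⟩), ?_⟩
    show q.out * (z * (q.out⁻¹ * v * q.out)) * q.out⁻¹ = g
    rw [← huv, hu']
    group
  refine ⟨fun g hg => ?_, ?_⟩
  · obtain ⟨w, hw⟩ := hconjf g (Finset.mem_filter.2 ⟨Finset.mem_univ _, hg⟩)
    exact ⟨w.1.out, w.2, w.2.2, hw⟩
  · have e : Sg.card = (Finset.univ : Finset ((G ⧸ C) × K)).card :=
      (Finset.card_bij (fun w _ => f w) (fun w _ => hfSg w) (fun a _ b _ h => hfinj h)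
        fun g hg => (hconjf g hg).imp fun w hw => ⟨Finset.mem_univ w, hw⟩).symm
    rw [e, Finset.card_univ, ← Nat.card_eq_fintype_card, Nat.card_prod, ← Subgroup.index_eq_card,
      ← Subgroup.index_mul_card C, ← K.card_mul_index, hidx]
    ring

/-- In the principal block the value at `z * k` is the value at `z`. -/
theorem value_const [Fintype G] (hM : IsPModular 2 M) {z : G} (hz2 : orderOf z = 2)
    {K : Subgroup (Subgroup.centralizer ({z} : Set G))} (hKn : K.Normal) (hK : ¬ 2 ∣ Nat.card K)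
    {χ : IrrCharacter G} (hχ : χ ∈ principalBlock M G)
    {k : Subgroup.centralizer ({z} : Set G)} (hk : k ∈ K) :
    (χ : G → ℂ) (z * (k : G)) = (χ : G → ℂ) z := by
  classical
  haveI : Fact (Nat.Prime 2) := ⟨Nat.prime_two⟩
  haveI := hKn
  letI := Fintype.ofFinite (Subgroup.centralizer ({z} : Set G))
  have hzp : ∃ k : ℕ, orderOf z = 2 ^ k := ⟨1, by rw [hz2, pow_one]⟩
  have hP : IsPGroup 2 (Subgroup.zpowers z) :=
    IsPGroup.of_card (n := 1) (by rw [Nat.card_zpowers, hz2, pow_one])
  have hk1 : ¬ 2 ∣ orderOf k := fun h => hK (h.trans (by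
    have := orderOf_dvd_natCard (⟨k, hk⟩ : K)
    rwa [← Subgroup.orderOf_coe] at this))
  have hfilter : ∀ ξ : IrrCharacter (Subgroup.centralizer ({z} : Set G)), IsInducedBlock M (Subgroup.centralizer ({z} : Set G)) (blockOf M (ξ : Subgroup.centralizer ({z} : Set G) → ℂ))
      (principalBlock M G) → ξ ∈ principalBlock M (Subgroup.centralizer ({z} : Set G)) := by
    intro ξ h
    rw [principal_third_main hM ⟨_, h⟩] at h
    exact h ▸ mem_blockOf_self hM ξ
  have h1 := value_eq_sum_inducing hM hzp isPBlock_principalBlock (y := k) hk1 χ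
  have h2 := value_eq_sum_inducing hM hzp isPBlock_principalBlock (y := (1 : Subgroup.centralizer ({z} : Set G))) (by simp) χ
  rw [if_pos hχ] at h1 h2
  rw [OneMemClass.coe_one, mul_one] at h2
  rw [← h1, ← h2]
  refine Finset.sum_congr rfl fun ξ hξ => ?_
  rw [principal_ker_of_coprime hM hK (hfilter ξ (Finset.mem_filter.1 hξ).2) hk]

/-- The inner product with the indicator of the singular elements. -/
theorem inner_singular [Fintype G] (hM : IsPModular 2 M) (hP : IsKleinFour (P : Subgroup G))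
    (hone : ∀ s t : G, orderOf s = 2 → orderOf t = 2 → IsConj s t) {J : G}
    (hJP : J ∈ (P : Subgroup G)) (hJ : orderOf J = 2)
    [DecidablePred (· ∈ principalBlock M G)] (χ : IrrCharacter G) :
    classInner (fun g : G => if 2 ∣ orderOf g then (1 : ℂ) else 0) (χ : G → ℂ) =
      if χ ∈ principalBlock M G then (χ : G → ℂ) J / 4 else 0 := by
  classical
  haveI : Fact (Nat.Prime 2) := ⟨Nat.prime_two⟩
  have hJJ : J * J = 1 := by rw [← pow_two, ← hJ, pow_orderOf_eq_one]
  have hJ1 : J ≠ 1 := fun h => by simp [h] at hJ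
  obtain ⟨K, hKn, hK, hidx⟩ := Block.klein_centralizer_complement P hP hJP hJ1
  obtain ⟨hsing, hsingcard⟩ := singular_facts hP hone hJ rfl hKn hK hidx
  set f : G → ℂ := fun g => if 2 ∣ orderOf g then 1 else 0 with hf
  have hG0 : (Nat.card G : ℂ) ≠ 0 := Nat.cast_ne_zero.2 Nat.card_pos.ne'
  have hint : conj ((χ : G → ℂ) J) = (χ : G → ℂ) J := by
    obtain ⟨n, hn⟩ := char_involution_int χ hJJ
    rw [hn, map_intCast]
  have e : classInner f (χ : G → ℂ) = (Nat.card G : ℂ)⁻¹ *
      ∑ g ∈ Finset.univ.filter (fun g : G => 2 ∣ orderOf g), conj ((χ : G → ℂ) g) := by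
    rw [classInner, Finset.sum_filter]
    congr 1
    refine Finset.sum_congr rfl fun g _ => ?_
    by_cases hg : 2 ∣ orderOf g <;> simp [hf, hg]
  rw [e]
  split_ifs with hχ
  · rw [Finset.sum_congr rfl (g := fun _ => (χ : G → ℂ) J) fun g hg => by
      obtain ⟨t, k, hk, rfl⟩ := hsing g (Finset.mem_filter.1 hg).2
      rw [Block.irr_classFun χ, value_const hM hJ hKn hK hχ hk, hint],
      Finset.sum_const, nsmul_eq_mul]
    have h4 : (Nat.card G : ℂ) =
        4 * ((Finset.univ.filter (fun g : G => 2 ∣ orderOf g)).card : ℂ) := by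
      exact_mod_cast hsingcard.symm
    rw [h4] at hG0 ⊢
    have h5 := (mul_ne_zero_iff.1 hG0).2
    field_simp
  · have h1 := reg_orth hM (χ := trivialIrr G) (ψ := χ) fun h => hχ
      (pblock_mem_of_sameBlock hM isPBlock_principalBlock (trivial_mem_principalBlock hM) h)
    have h2 := Cfsg.Agent.Char.classInner_irr_ne (trivialIrr G).2 χ.2
      (fun h => hχ ((Subtype.ext h : trivialIrr G = χ) ▸ trivial_mem_principalBlock hM))
    rw [classInner, mul_eq_zero] at h2
    have h3 := h2.resolve_left (inv_ne_zero hG0)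
    rw [regSum_eq_sum] at h1
    rw [← Finset.sum_filter_add_sum_filter_not _ (fun g : G => ¬ 2 ∣ orderOf g), h1, zero_add] at h3
    simp only [show ∀ g, ((trivialIrr G : IrrCharacter G) : G → ℂ) g = 1 from fun _ => rfl,
      one_mul, not_not] at h3
    rw [h3, mul_zero]

/-- The order formula. -/
theorem order_formula [Fintype G] (hM : IsPModular 2 M) (hP : IsKleinFour (P : Subgroup G))
    (hone : ∀ s t : G, orderOf s = 2 → orderOf t = 2 → IsConj s t) {J : G}
    (hJP : J ∈ (P : Subgroup G)) (hJ : orderOf J = 2)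
    [DecidablePred (· ∈ principalBlock M G)] :
    8 * (Nat.card (Subgroup.centralizer ({J} : Set G)) : ℂ) ^ 3 =
      (Nat.card G : ℂ) * (Nat.card (Subgroup.centralizer ((P : Subgroup G) : Set G)) : ℂ) ^ 2 *
        ∑ χ ∈ Finset.univ.filter (· ∈ principalBlock M G),
          (χ : G → ℂ) J ^ 3 / (χ : G → ℂ) 1 := by
  classical
  haveI : Fact (Nat.Prime 2) := ⟨Nat.prime_two⟩
  set C := Subgroup.centralizer ({J} : Set G) with hC
  set c := Nat.card C with hc
  letI := Fintype.ofFinite C
  have hJJ : J * J = 1 := by rw [← pow_two, ← hJ, pow_orderOf_eq_one]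
  have hJ1 : J ≠ 1 := fun h => by simp [h] at hJ
  obtain ⟨K, hKn, hK, hidx⟩ := Block.klein_centralizer_complement P hP hJP hJ1
  obtain ⟨hsing, hsingcard⟩ := singular_facts hP hone hJ hC hKn hK hidx
  set f : G → ℂ := fun g => if 2 ∣ orderOf g then 1 else 0 with hf
  have hfc : IsClassFunction G f := fun g u => by
    show (if 2 ∣ orderOf (u * g * u⁻¹) then (1 : ℂ) else 0) = _
    rw [show orderOf (u * g * u⁻¹) = orderOf g from MulEquiv.orderOf_eq (MulAut.conj u) g]
  have hG0 : (Nat.card G : ℂ) ≠ 0 := Nat.cast_ne_zero.2 Nat.card_pos.ne'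
  have hkey := sum_classFun_mul_conj hfc J J
  -- the side of the count
  set W := Finset.univ.filter (fun t : G => orderOf t = 2 ∧ 2 ∣ orderOf (J * t)) with hW
  have hL : ∑ g : G, f (J * (g * J * g⁻¹)) = (c : ℂ) * (W.card : ℂ) := by
    set I := Finset.univ.filter (fun t : G => orderOf t = 2) with hI
    have hmaps : ∀ g ∈ (Finset.univ : Finset G), g * J * g⁻¹ ∈ I := fun g _ =>
      Finset.mem_filter.2 ⟨Finset.mem_univ _, (MulEquiv.orderOf_eq (MulAut.conj g) J).trans hJ⟩
    rw [← Finset.sum_fiberwise_of_maps_to hmaps fun g => f (J * (g * J * g⁻¹))]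
    have hfib : ∀ t ∈ I, ∑ g ∈ Finset.univ.filter (fun g : G => g * J * g⁻¹ = t),
        f (J * (g * J * g⁻¹)) = (c : ℂ) * f (J * t) := by
      intro t ht
      obtain ⟨g₀, hg₀⟩ := isConj_iff.1 (hone J t hJ (Finset.mem_filter.1 ht).2)
      rw [Finset.sum_congr rfl fun g hg => by rw [(Finset.mem_filter.1 hg).2], Finset.sum_const,
        nsmul_eq_mul]
      congr 2
      rw [hc, Nat.card_eq_fintype_card, ← Finset.card_univ]
      refine (Finset.card_bij (s := (Finset.univ : Finset C)) (fun (u : C) _ => g₀ * (u : G)) (fun u _ => ?_)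
        (fun a _ b _ h => ?_) fun g hg => ?_).symm
      · refine Finset.mem_filter.2 ⟨Finset.mem_univ _, ?_⟩
        have hu := Subgroup.mem_centralizer_singleton_iff.1 u.2
        rw [← hg₀]
        calc g₀ * (u : G) * J * (g₀ * (u : G))⁻¹ = g₀ * ((u : G) * J) * (u : G)⁻¹ * g₀⁻¹ := by group
          _ = g₀ * (J * (u : G)) * (u : G)⁻¹ * g₀⁻¹ := by rw [hu]
          _ = _ := by group
      · exact Subtype.ext (mul_left_cancel h :)
      · have hg' := (Finset.mem_filter.1 hg).2
        refine ⟨⟨g₀⁻¹ * g, Subgroup.mem_centralizer_singleton_iff.2 ?_⟩, Finset.mem_univ _,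
          mul_inv_cancel_left g₀ g⟩
        rw [← hg₀] at hg'
        calc g₀⁻¹ * g * J = g₀⁻¹ * (g * J * g⁻¹) * g := by group
          _ = g₀⁻¹ * (g₀ * J * g₀⁻¹) * g := by rw [hg']
          _ = _ := by group
    rw [Finset.sum_congr rfl hfib, ← Finset.mul_sum]
    congr 1
    rw [hf, Finset.sum_boole, hW, hI, Finset.filter_filter]
  -- the side of the characters
  have hint : ∀ χ : IrrCharacter G, conj ((χ : G → ℂ) J) = (χ : G → ℂ) J := fun χ => by
    obtain ⟨n, hn⟩ := char_involution_int χ hJJ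
    rw [hn, map_intCast]
  have hinner : ∀ χ : IrrCharacter G, classInner f (χ : G → ℂ) =
      if χ ∈ principalBlock M G then (χ : G → ℂ) J / 4 else 0 :=
    inner_singular hM hP hone hJP hJ
  rw [hL] at hkey
  have hsum : ∑ χ : IrrCharacter G,
      classInner f (χ : G → ℂ) * (χ : G → ℂ) J * (χ : G → ℂ) J / (χ : G → ℂ) 1 =
      (∑ χ ∈ Finset.univ.filter (· ∈ principalBlock M G), (χ : G → ℂ) J ^ 3 / (χ : G → ℂ) 1) / 4 := by
    rw [Finset.sum_div, Finset.sum_filter]
    refine Finset.sum_congr rfl fun χ _ => ?_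
    rw [hinner]
    split_ifs <;> ring
  rw [hsum] at hkey
  have hcount : (W.card : ℂ) *
      (Nat.card (Subgroup.centralizer ((P : Subgroup G) : Set G)) : ℂ) ^ 2 = 2 * (c : ℂ) ^ 2 := by
    exact_mod_cast count_singular hP hone hJP hJ
  have hkey' : (c : ℂ) * W.card * 4 = (Nat.card G : ℂ) *
      ∑ χ ∈ Finset.univ.filter (· ∈ principalBlock M G), (χ : G → ℂ) J ^ 3 / (χ : G → ℂ) 1 := by
    field_simp at hkey
    linear_combination hkey
  linear_combination (Nat.card (Subgroup.centralizer ((P : Subgroup G) : Set G)) : ℂ) ^ 2 * hkey' -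
    4 * (c : ℂ) * hcount

end Cfsg.Agent.Block.KleinOrder
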