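import Cfsg.Prelude.Def_DegreeGraph
import Cfsg.Agent.Lib.Block.OrderPrimeBase
import Cfsg.Agent.Lib.Char.Clifford
import Cfsg.Agent.Lib.Char.Quotient

/-!
Degree primes: monotone in normal subgroups and quotients; a nonabelian simple group has, for
each prime `p` dividing its order and each prime `q`, a degree prime different from `p` and `q`.
-/

set_option autoImplicit false

namespace Cfsg.Agent.Block.DegP

open Cfsg Cfsg.Agent.Char Cfsg.Agent.Block Module

variable {G : Type*} [Group G] [Finite G]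

theorem degreePrimes_quotient (N : Subgroup G) [N.Normal] :
    degreePrimes (G ⧸ N) ⊆ degreePrimes G := by
  rintro p ⟨hp, d, ⟨χ, rfl⟩, hd⟩
  refine ⟨hp, _, ⟨⟨fun g => (χ : G ⧸ N → ℂ) (QuotientGroup.mk' N g),
    IsIrr.comp_surjective _ (QuotientGroup.mk'_surjective N) χ.2⟩, rfl⟩, ?_⟩
  simpa [charDegree] using hd

theorem degreePrimes_normal (N : Subgroup G) [N.Normal] :
    degreePrimes N ⊆ degreePrimes G := by
  classical
  haveI := Fintype.ofFinite G
  haveI := Fintype.ofFinite N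
  rintro p ⟨hp, d, ⟨θ, rfl⟩, hd⟩
  obtain ⟨χ, hχ⟩ := IsChar.exists_constituent' (isCharacter_indFun N (IsIrr.isCharacter θ.2))
    (by rw [indFun_one_eq]
        exact mul_ne_zero (Nat.cast_ne_zero.2 Subgroup.index_ne_zero_of_finite)
          (irr_one_ne_zero θ))
  rw [classInner_indFun N _ (IsIrr.classFun χ.2)] at hχ
  have hne : classInner (fun n : N => (χ : G → ℂ) n) (θ : N → ℂ) ≠ 0 := by
    rw [← classInner_conj_symm]
    exact fun h => hχ (by simpa using h)
  obtain ⟨a, ha, -⟩ := IsChar.exists_decomp_inner (IsChar.res (IsIrr.isCharacter χ.2) N)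
  have h := clifford_one N χ.2 θ.2 hne
  rw [ha θ, charDeg_spec', charDeg_spec'] at h
  refine ⟨hp, _, ⟨χ, rfl⟩, ?_⟩
  have h' : charDegree (χ : G → ℂ) =
      a θ * (inertia N (θ : N → ℂ)).index * charDegree (θ : N → ℂ) := by exact_mod_cast h
  rw [h']
  exact dvd_mul_of_dvd_right hd _

variable {S : Type*} [Group S] [Finite S] [IsSimpleGroup S]

theorem eq_zero_of_coprime (hna : ¬ IsMulCommutative S) {χ : IrrCharacter S}
    (hne : χ ≠ trivialIrr S) {g : S} (hg : g ≠ 1)
    (hcop : Nat.Coprime (charDegree (χ : S → ℂ)) (Subgroup.centralizer ({g} : Set S)).index) :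
    (χ : S → ℂ) g = 0 := by
  classical
  obtain ⟨f, n, ρ, hρ, rfl⟩ := χ
  have hn : charDegree ρ.character = finrank ℂ (Fin n → ℂ) := by
    simp [charDegree, Representation.char_one]
  rcases character_eq_zero_or_norm_eq ρ g (hn ▸ hcop) with h0 | h0
  · exact h0
  exfalso
  obtain ⟨ω, hω⟩ := (norm_character_eq_iff ρ g).mp h0
  rcases (inferInstance : (MonoidHom.ker ρ).Normal).eq_bot_or_eq_top with hk | hk
  · refine hna ⟨⟨comm_of_central_ne_one hg (Subgroup.mem_center_iff.mpr fun x => ?_)⟩⟩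
    refine (MonoidHom.ker_eq_bot_iff ρ).mp hk ?_
    rw [map_mul, map_mul, hω, ← Module.End.one_eq_id, mul_smul_comm, smul_mul_assoc, one_mul,
      mul_one]
  · refine hg (OrdP.eq_one_of_value hne ?_)
    show ρ.character g = ρ.character 1
    simp [Representation.character,
      show ρ g = 1 from MonoidHom.mem_ker.mp (hk ▸ Subgroup.mem_top g : g ∈ MonoidHom.ker ρ)]

theorem exists_other_prime (hna : ¬ IsMulCommutative S) {p q : ℕ} [hp : Fact p.Prime]
    (hq : q.Prime) (hpS : p ∣ Nat.card S) :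
    ∃ r ∈ degreePrimes S, r ≠ p ∧ r ≠ q := by
  classical
  haveI := Fintype.ofFinite S
  obtain ⟨P⟩ := (inferInstance : Nonempty (Sylow p S))
  have hP1 : (P : Subgroup S) ≠ ⊥ := P.ne_bot_of_dvd_card hpS
  haveI : Nontrivial (P : Subgroup S) := (Subgroup.nontrivial_iff_ne_bot _).2 hP1
  haveI := P.isPGroup'.center_nontrivial
  obtain ⟨⟨x, hxc⟩, hx1⟩ := exists_ne (1 : Subgroup.center (P : Subgroup S))
  have hx : (x : S) ≠ 1 := fun h => hx1 (Subtype.ext (Subtype.ext h))
  have hle : (P : Subgroup S) ≤ Subgroup.centralizer ({(x : S)} : Set S) := by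
    intro y hy
    rw [Subgroup.mem_centralizer_singleton_iff]
    exact congrArg Subtype.val (Subgroup.mem_center_iff.mp hxc ⟨y, hy⟩)
  have hidx : ¬ p ∣ (Subgroup.centralizer ({(x : S)} : Set S)).index := fun h =>
    P.not_dvd_index (h.trans (Subgroup.index_dvd_of_le hle))
  by_contra hcon
  push Not at hcon
  have hz : ∀ χ : IrrCharacter S, χ ≠ trivialIrr S →
      q ∣ charDegree (χ : S → ℂ) ∨ (χ : S → ℂ) (x : S) = 0 := by
    intro χ hχ
    by_cases hqd : q ∣ charDegree (χ : S → ℂ)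
    · exact Or.inl hqd
    refine Or.inr (eq_zero_of_coprime hna hχ hx (Nat.coprime_of_dvd fun r hr hrd hri => ?_))
    rcases eq_or_ne r p with rfl | hrp
    · exact hidx hri
    exact hqd (hcon r ⟨hr, _, ⟨χ, rfl⟩, hrd⟩ hrp ▸ hrd)
  have h1 := regular_expansion (x : S)
  rw [if_neg hx, ← Finset.add_sum_erase _ _ (Finset.mem_univ (trivialIrr S))] at h1
  have hint : IsIntegral ℤ ((∑ χ ∈ Finset.univ.erase (trivialIrr S),
      (χ : S → ℂ) 1 * (χ : S → ℂ) (x : S)) / (q : ℂ)) := by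
    rw [Finset.sum_div]
    refine IsIntegral.sum _ fun χ hχ => ?_
    rcases hz χ (Finset.ne_of_mem_erase hχ) with h | h
    · obtain ⟨m, hm⟩ := h
      obtain ⟨n, ρ, hρ, hρχ⟩ := χ.2
      rw [charDeg_spec', hm, Nat.cast_mul, mul_assoc,
        mul_div_cancel_left₀ _ (Nat.cast_ne_zero.mpr hq.ne_zero), ← hρχ]
      exact (isIntegral_algebraMap (R := ℤ) (x := (m : ℤ))).mul (isIntegral_character ρ _) |>
        fun h => by simpa using h
    · rw [h, mul_zero, zero_div]; exact isIntegral_zero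
  have h0 : ((trivialIrr S : IrrCharacter S) : S → ℂ) 1 *
      ((trivialIrr S : IrrCharacter S) : S → ℂ) (x : S) = 1 := by simp [trivialIrr]
  rw [h0] at h1
  rw [show (∑ χ ∈ Finset.univ.erase (trivialIrr S), (χ : S → ℂ) 1 * (χ : S → ℂ) (x : S)) = -1 by
    linear_combination h1, neg_div] at hint
  exact hq.ne_one (Nat.dvd_one.mp (nat_dvd_of_isIntegral_div hq.ne_zero
    (a := 1) (by simpa using hint.neg)))

theorem degreePrimes_dvd_card {p : ℕ} (h : p ∈ degreePrimes G) : p ∣ Nat.card G := by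
  obtain ⟨-, d, ⟨χ, rfl⟩, hd⟩ := h
  exact hd.trans (charDeg_dvd χ)

theorem simple_three (hna : ¬ IsMulCommutative S) : ∃ p q r : ℕ, p ≠ q ∧ q ≠ r ∧ p ≠ r ∧
    p ∈ degreePrimes S ∧ q ∈ degreePrimes S ∧ r ∈ degreePrimes S := by
  obtain ⟨s, hs, hd⟩ := Nat.exists_prime_and_dvd (show Nat.card S ≠ 1 from
    (Finite.one_lt_card (α := S)).ne')
  haveI := Fact.mk hs
  obtain ⟨p, hp, -, -⟩ := exists_other_prime hna hs hd
  haveI := Fact.mk hp.1
  obtain ⟨q, hq, hqp, -⟩ := exists_other_prime hna hp.1 (degreePrimes_dvd_card hp)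
  obtain ⟨r, hr, hrp, hrq⟩ := exists_other_prime hna hq.1 (degreePrimes_dvd_card hp)
  exact ⟨p, q, r, hqp.symm, hrq.symm, hrp.symm, hp, hq, hr⟩

theorem nonsolvable_three : ∀ (n : ℕ) (G : Type _) [Group G] [Finite G], Nat.card G = n →
    ¬ Group.IsSolvable G → ∃ p q r : ℕ, p ≠ q ∧ q ≠ r ∧ p ≠ r ∧
      p ∈ degreePrimes G ∧ q ∈ degreePrimes G ∧ r ∈ degreePrimes G := by
  intro n
  induction n using Nat.strong_induction_on with
  | _ n ih =>
  intro G _ _ hn hG
  haveI : Nontrivial G := by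
    by_contra h
    haveI := not_nontrivial_iff_subsingleton.mp h
    exact hG inferInstance
  by_cases hs : IsSimpleGroup G
  · refine simple_three fun hc => hG ?_
    exact isSolvable_of_comm fun a b => hc.1.comm a b
  obtain ⟨N, hN, hb, ht⟩ : ∃ N : Subgroup G, N.Normal ∧ N ≠ ⊥ ∧ N ≠ ⊤ := by
    by_contra h
    push Not at h
    exact hs ⟨fun N hN => or_iff_not_imp_left.2 (h N hN)⟩
  have hmul := N.card_mul_index
  have hb1 : 1 < Nat.card N := (Subgroup.one_lt_card_iff_ne_bot N).2 hb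
  have ht1 : 1 < N.index := Subgroup.one_lt_index_of_ne_top ht
  by_cases hNs : Group.IsSolvable N
  · have hQ : ¬ Group.IsSolvable (G ⧸ N) := fun h =>
      hG (solvable_of_ker_le_range N.subtype (QuotientGroup.mk' N)
        (by rw [QuotientGroup.ker_mk', Subgroup.range_subtype]))
    obtain ⟨p, q, r, h1, h2, h3, hp, hq, hr⟩ := ih (Nat.card (G ⧸ N)) (by
      rw [← hn, ← hmul, ← Subgroup.index_eq_card]
      exact lt_mul_left (by omega) hb1) (G ⧸ N) rfl hQ
    exact ⟨p, q, r, h1, h2, h3, degreePrimes_quotient N hp, degreePrimes_quotient N hq,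
      degreePrimes_quotient N hr⟩
  · obtain ⟨p, q, r, h1, h2, h3, hp, hq, hr⟩ := ih (Nat.card N) (by
      rw [← hn, ← hmul]
      exact lt_mul_right (by omega) ht1) N rfl hNs
    exact ⟨p, q, r, h1, h2, h3, degreePrimes_normal N hp, degreePrimes_normal N hq,
      degreePrimes_normal N hr⟩

end Cfsg.Agent.Block.DegP
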