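import Mathlib
import Cfsg.Agent.Lib.Grp.Zassenhaus.Complement
import Cfsg.Agent.Lib.Grp.Zassenhaus.Structure

/-!
# Non-solvable groups regular on the non-zero vectors

A copy of the binary icosahedral group acting without fixed points generates a quaternion algebra
over the field obtained by adjoining a root of `t ^ 2 + t - 1`; regularity on the non-zero
vectors forces the module to be free of rank one over the column space of this algebra.
-/

set_option autoImplicit false

namespace Cfsg.Agent.Block.SharpTwo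

open Module

variable {K : Type*} [Field K] {V : Type*} [AddCommGroup V] [Module K V]

/-- The relations between four operators coming from the binary icosahedral group. -/
structure Ico (I J X U : End K V) : Prop where
  two : (2 : K) ≠ 0
  II : I * I = -1
  JJ : J * J = -1
  JI : J * I = -(I * J)
  UU : U * U = -1
  xx : X * X + X + 1 = 0
  XJ : X * J = I * X
  XK : X * (I * J) = J * X
  UI : U * I + I * U = -1
  UX : U * X + X * U + U = -1

variable {I J X U : End K V}

theorem Ico.cancel (h : Ico I J X U) {a b : End K V} (e : a + a = b + b) : a = b := by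
  rw [← two_smul K a, ← two_smul K b] at e
  exact smul_right_injective (End K V) h.two e

theorem Ico.II' (h : Ico I J X U) (a : End K V) : I * (I * a) = -a := by
  rw [← mul_assoc, h.II, neg_one_mul]

theorem Ico.JJ' (h : Ico I J X U) (a : End K V) : J * (J * a) = -a := by
  rw [← mul_assoc, h.JJ, neg_one_mul]

theorem Ico.JI' (h : Ico I J X U) (a : End K V) : J * (I * a) = -(I * (J * a)) := by
  rw [← mul_assoc, h.JI, neg_mul, mul_assoc]

theorem Ico.UU' (h : Ico I J X U) (a : End K V) : U * (U * a) = -a := by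
  rw [← mul_assoc, h.UU, neg_one_mul]

/-- An element commuting with the quaternions has independent coordinates. -/
theorem Ico.indep (h : Ico I J X U) {a b : End K V} (ha : a * I = I * a) (hb : b * I = I * b)
    (e : a + b * (I + J + I * J) = 0) : a = 0 ∧ b = 0 := by
  have ha' : ∀ c, a * (I * c) = I * (a * c) := fun c => by rw [← mul_assoc, ha, mul_assoc]
  have hb' : ∀ c, b * (I * c) = I * (b * c) := fun c => by rw [← mul_assoc, hb, mul_assoc]
  have e2 : I * (a + b * (I + J + I * J)) * I = 0 := by rw [e, mul_zero, zero_mul]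
  have e3 : I * (a + b * (I + J + I * J)) * I = -a - b * I + b * J + b * (I * J) := by
    simp only [mul_add, add_mul, mul_assoc, h.II, h.II', h.JI, h.JI', ha, ha', hb, hb', mul_neg,
      neg_mul, neg_neg, mul_one]
    abel
  have e4 : b * (J + I * J) = 0 := by
    refine h.cancel ?_
    rw [add_zero]
    calc b * (J + I * J) + b * (J + I * J)
        = (a + b * (I + J + I * J)) + (-a - b * I + b * J + b * (I * J)) := by
          simp only [mul_add]; abel
      _ = 0 := by rw [e, ← e3, e2, add_zero]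
  have sq : (J + I * J) * (J + I * J) = -1 + -1 := by
    simp only [mul_add, add_mul, mul_assoc, h.II, h.II', h.JJ, h.JJ', h.JI, h.JI', mul_neg,
      neg_mul, neg_neg, mul_one]
    abel
  have hb0 : b = 0 := by
    refine neg_eq_zero.1 (h.cancel ?_)
    have e5 : b * ((J + I * J) * (J + I * J)) = 0 := by rw [← mul_assoc, e4, zero_mul]
    rw [sq, mul_add, mul_neg, mul_one] at e5
    rw [e5, add_zero]
  subst hb0
  rw [zero_mul, add_zero] at e
  exact ⟨e, rfl⟩

/-- The element of order three is determined by the quaternions. -/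
theorem Ico.X_eq (h : Ico I J X U) : X + X = -1 + I + J + I * J := by
  set W : End K V := -1 + I + J + I * J with hW
  set S : End K V := 1 + I + J + I * J with hS
  have hSI : S * I = J * S := by
    simp only [hS, mul_add, add_mul, mul_assoc, h.II, h.JJ, h.JI, h.JI', h.II', h.JJ', mul_neg,
      neg_neg, mul_one, one_mul]
    abel
  have hSJ : S * J = I * J * S := by
    simp only [hS, mul_add, add_mul, mul_assoc, h.II, h.JJ, h.JI, h.JI', h.II', h.JJ', mul_neg,
      neg_neg, mul_one, one_mul]
    abel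
  set T := X * S with hT
  have hTI : T * I = I * T := by rw [hT, mul_assoc, hSI, ← mul_assoc, h.XJ, mul_assoc]
  have hTJ : T * J = J * T := by rw [hT, mul_assoc, hSJ, ← mul_assoc, h.XK, mul_assoc]
  have hTW : T * W = W * T := by
    rw [hW]
    simp only [mul_add, add_mul, ← mul_assoc, hTI, hTJ, neg_one_mul, mul_neg, mul_one]
    simp only [mul_assoc, hTJ]
  have hSW : S * W = -((1 + 1) + (1 + 1)) := by
    simp only [hS, hW, mul_add, add_mul, mul_assoc, h.II, h.JJ, h.JI, h.JI', h.II', h.JJ', mul_neg,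
      neg_neg, mul_one, one_mul]
    abel
  have hWW : W * W = -(W + W) - ((1 + 1) + (1 + 1)) := by
    simp only [hW, mul_add, add_mul, mul_assoc, h.II, h.JJ, h.JI, h.JI', h.II', h.JJ', mul_neg,
      neg_neg, mul_one, one_mul, neg_mul]
    abel
  have hX4 : T * W = -((X + X) + (X + X)) := by
    rw [hT, mul_assoc, hSW, mul_neg]
    simp only [mul_add, mul_one]
  set F : End K V := (1 + 1) + (1 + 1) with hF
  have e1 : T * T * (W * W) - F * (T * W) + F * F = 0 := by
    have hc : T * W * (T * W) = T * T * (W * W) := by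
      rw [mul_assoc T W (T * W), ← mul_assoc W T W, ← hTW, mul_assoc T W W, ← mul_assoc T T (W * W)]
    rw [← hc, hX4, show -(X + X + (X + X)) = -(X * F) by rw [hF]; simp only [mul_add, mul_one]]
    have hFc : ∀ a : End K V, F * a = a * F := fun a => by
      simp only [hF, mul_add, add_mul, mul_one, one_mul]
    rw [hFc (-(X * F))]
    calc -(X * F) * -(X * F) - -(X * F) * F + F * F = (X * X + X + 1) * (F * F) := by
          simp only [neg_mul, mul_neg, neg_neg, sub_neg_eq_add, add_mul, one_mul]
          rw [mul_assoc X F (X * F), ← mul_assoc F X F, hFc X]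
          simp only [mul_assoc]
      _ = 0 := by rw [h.xx, zero_mul]
  set b : End K V := -(T * T + T * T) - F * T with hb
  set a : End K V := -(F * (T * T)) + F * F - b with ha
  have hFI : ∀ c : End K V, F * c = c * F := fun c => by
    simp only [hF, mul_add, add_mul, mul_one, one_mul]
  have hTT : T * T * I = I * (T * T) := by rw [mul_assoc, hTI, ← mul_assoc, hTI, mul_assoc]
  have hbI : b * I = I * b := by
    simp only [hb, hF, add_mul, one_mul, sub_mul, neg_mul, hTT, hTI, mul_sub, mul_add, mul_neg]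
  have haI : a * I = I * a := by
    simp only [ha, hF, add_mul, one_mul, sub_mul, neg_mul, hTT, hTI, hbI, mul_sub, mul_add, mul_neg, mul_one]
  have e2 : a + b * (I + J + I * J) = 0 := by
    rw [← e1, hWW]
    have hWd : I + J + I * J = W + 1 := by rw [hW]; abel
    rw [hWd, ha, hb]
    simp only [hF, mul_add, add_mul, mul_sub, sub_mul, mul_one, one_mul, neg_mul, mul_neg, mul_assoc]
    abel
  obtain ⟨za, zb⟩ := h.indep haI hbI e2
  have zF : F * (T * T) = F * F := by
    rw [ha, zb, sub_zero, neg_add_eq_zero] at za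
    exact za
  have hTT4 : T * T = F := by
    have : (T * T + T * T) + (T * T + T * T) = (F + F) + (F + F) := by
      calc _ = F * (T * T) := by simp only [hF, add_mul, one_mul]
        _ = F * F := zF
        _ = _ := by nth_rewrite 1 [hF]; simp only [add_mul, one_mul]
    exact h.cancel (h.cancel this)
  have hT2 : T = -(1 + 1) := by
    rw [hb, hTT4, sub_eq_zero] at zb
    have : (T + T) + (T + T) = (-(1 + 1) + -(1 + 1)) + (-(1 + 1) + -(1 + 1)) := by
      calc _ = F * T := by simp only [hF, add_mul, one_mul]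
        _ = -(F + F) := zb.symm
        _ = _ := by rw [hF]; abel
    exact h.cancel (h.cancel this)
  refine h.cancel ?_
  rw [hT2, neg_mul, neg_inj, add_mul, one_mul] at hX4
  exact hX4.symm

/-- The two scalar coordinates of the involution outside the tetrahedral group. -/
theorem Ico.structure_eq (h : Ico I J X U) :
    ((U * J + J * U) * I = I * (U * J + J * U) ∧ (U * J + J * U) * J = J * (U * J + J * U) ∧
      (U * J + J * U) * U = U * (U * J + J * U)) ∧
    U + U = I - (U * J + J * U) * J + (1 + (U * J + J * U)) * (I * J) ∧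
    (U * J + J * U) * (U * J + J * U) + (U * J + J * U) = 1 := by
  set P := U * J + J * U with hP
  have hUI : U * I = -1 - I * U := eq_sub_of_add_eq h.UI
  have hUI' : ∀ c, U * (I * c) = -c - I * (U * c) := fun c => by
    rw [← mul_assoc, hUI, sub_mul, neg_one_mul, mul_assoc]
  have hPI : P * I = I * P := by
    simp only [hP, add_mul, mul_add, mul_assoc, hUI, h.JI, h.JI', hUI', mul_neg, mul_sub, mul_one]
    abel
  have hPJ : P * J = J * P := by
    simp only [hP, add_mul, mul_add, mul_assoc, h.JJ, h.JJ', mul_neg, mul_one]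
    abel
  have hPU : P * U = U * P := by
    simp only [hP, add_mul, mul_add, mul_assoc, h.UU, h.UU', mul_neg, mul_one]
    abel
  have hPI' : ∀ c, P * (I * c) = I * (P * c) := fun c => by rw [← mul_assoc, hPI, mul_assoc]
  have hPJ' : ∀ c, P * (J * c) = J * (P * c) := fun c => by rw [← mul_assoc, hPJ, mul_assoc]
  have hQ : U * (I * J) + I * J * U = -1 - P := by
    have e : U * (X + X) + (X + X) * U + (U + U) = -1 + -1 := by
      calc _ = (U * X + X * U + U) + (U * X + X * U + U) := by
            simp only [mul_add, add_mul]; abel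
        _ = _ := by rw [h.UX]
    rw [h.X_eq] at e
    have e' : (U * I + I * U) + P + (U * (I * J) + I * J * U) = -1 + -1 := by
      rw [← e, hP]
      simp only [mul_add, add_mul, mul_neg, neg_mul, one_mul, mul_one]
      abel
    rw [h.UI] at e'
    calc U * (I * J) + I * J * U = (-1 + P + (U * (I * J) + I * J * U)) + 1 - P := by abel
      _ = _ := by rw [e']; abel
  set Z : End K V := U + U - (I - P * J + (1 + P) * (I * J)) with hZ
  have hZI : Z * I = -(I * Z) := by
    simp only [hZ, sub_mul, mul_sub, add_mul, mul_add, mul_assoc, one_mul, hUI, h.II, h.II', h.JI,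
      h.JI', hPI', hPJ', hPJ, hPI, mul_neg, neg_neg, mul_one]
    abel
  have hZJ : Z * J = -(J * Z) := by
    have hUJ : U * J = P - J * U := eq_sub_of_add_eq hP.symm
    simp only [hZ, sub_mul, mul_sub, add_mul, mul_add, mul_assoc, one_mul, hUJ, h.II, h.II', h.JJ,
      h.JJ', h.JI, h.JI', hPI', hPJ', hPJ, hPI, mul_neg, neg_neg, mul_one]
    abel
  have hZK : Z * (I * J) + I * J * Z = 0 := by
    have e : Z * (I * J) + I * J * Z = (U * (I * J) + I * J * U) + (U * (I * J) + I * J * U)
        + ((1 + P) + (1 + P)) := by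
      simp only [hZ, sub_mul, mul_sub, add_mul, mul_add, mul_assoc, one_mul, h.II, h.II', h.JJ,
        h.JJ', h.JI, h.JI', hPI', hPJ', hPJ, hPI, mul_neg, neg_neg, mul_one]
      abel
    rw [e, hQ]; abel
  have hZK2 : Z * (I * J) = I * J * Z := by
    rw [← mul_assoc, hZI, neg_mul, mul_assoc, hZJ, mul_neg, neg_neg, mul_assoc]
  have hKZ : I * J * Z = 0 := by
    refine h.cancel ?_
    rw [add_zero]; nth_rewrite 1 [← hZK2]; exact hZK
  have hZ0 : Z = 0 := by
    have : J * (I * (I * J * Z)) = 0 := by rw [hKZ, mul_zero, mul_zero]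
    simp only [mul_assoc, h.II', h.JJ', mul_neg, neg_neg] at this
    exact this
  have hU2 : U + U = I - P * J + (1 + P) * (I * J) := sub_eq_zero.1 hZ0
  refine ⟨⟨hPI, hPJ, hPU⟩, hU2, ?_⟩
  have e : (U + U) * (U + U) = (I - P * J + (1 + P) * (I * J)) * (I - P * J + (1 + P) * (I * J)) := by
    rw [hU2]
  simp only [sub_mul, mul_sub, add_mul, mul_add, mul_assoc, one_mul, h.UU, h.II, h.II', h.JJ,
    h.JJ', h.JI, h.JI', hPI', hPJ', hPJ, hPI, mul_neg, neg_neg, mul_one] at e
  refine h.cancel ?_
  rw [← sub_eq_zero] at e ⊢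
  rw [← e]
  abel


variable {E : Type*}

/-- The span of an orbit. -/
def orbSpan (ψ : E → End K V) (x : V) : Submodule K V :=
  Submodule.span K (Set.range fun g => ψ g x)

theorem apply_mem_orbSpan {ψ : E → End K V} {f : End K V}
    (hf : f ∈ Submodule.span K (Set.range ψ)) (x : V) : f x ∈ orbSpan ψ x := by
  have := Submodule.mem_map_of_mem (f := LinearMap.applyₗ (R := K) x) hf
  rwa [Submodule.map_span, ← Set.range_comp] at this

theorem orbSpan_le_of_mem [Group E] (ψ : E →* End K V) {x z : V} (hz : z ∈ orbSpan (ψ : E → End K V) x) :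
    orbSpan (ψ : E → End K V) z ≤ orbSpan (ψ : E → End K V) x := by
  refine Submodule.span_le.2 ?_
  rintro _ ⟨g, rfl⟩
  have hle : orbSpan (ψ : E → End K V) x ≤ (orbSpan (ψ : E → End K V) x).comap (ψ g) := by
    refine Submodule.span_le.2 ?_
    rintro _ ⟨e, rfl⟩
    show ψ g (ψ e x) ∈ orbSpan (ψ : E → End K V) x
    rw [← Module.End.mul_apply, ← map_mul]
    exact Submodule.subset_span ⟨g * e, rfl⟩
  exact hle hz

theorem self_mem_orbSpan [Group E] (ψ : E →* End K V) (x : V) : x ∈ orbSpan (ψ : E → End K V) x :=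
  Submodule.subset_span ⟨1, by show ψ 1 x = x; rw [map_one, Module.End.one_apply]⟩

/-- The module of a regular group with a quaternionic operator set: it is spanned by the column of
a fixed vector. -/
theorem exists_column [FiniteDimensional K V] [Nontrivial V] {I J X U : End K V} (h : Ico I J X U)
    {α β : K} (hab : α ^ 2 + β ^ 2 = -1) [Group E] (ψ : E →* End K V)
    (hI : ∃ g, ψ g = I) (hJ : ∃ g, ψ g = J)
    (hgen : ∀ W : Submodule K V, (∀ w ∈ W, I w ∈ W ∧ J w ∈ W ∧ U w ∈ W) → ∀ (g : E), ∀ w ∈ W, ψ g w ∈ W)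
    (htr : ∀ x y : V, x ≠ 0 → y ≠ 0 →
      finrank K (orbSpan (ψ : E → End K V) x) = finrank K (orbSpan (ψ : E → End K V) y)) :
    ∃ (v : V) (D : Submodule K V), v ≠ 0 ∧ D = Submodule.span K ({v, (U * J + J * U) v} : Set V) ∧
      finrank K V = 2 * finrank K D ∧
      ∀ T : End K V, T * I = I * T → T * J = J * T → T * U = U * T →
        T v ∈ D ∧ (∀ T' : End K V, T' * I = I * T' → T' * J = J * T' → T' * U = U * T' →
          T v = T' v → T = T') := by
  classical
  obtain ⟨⟨hPI, hPJ, hPU⟩, hU2, hP2⟩ := h.structure_eq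
  set P := U * J + J * U with hP
  set L : End K V := α • I + β • J with hL
  have hLL : L * L = 1 := by
    calc L * L = (α ^ 2) • (I * I) + (β ^ 2) • (J * J) + (α * β) • (I * J + J * I) := by
          simp only [hL, add_mul, mul_add, smul_mul_assoc, mul_smul_comm, smul_smul, sq, smul_add,
            mul_comm β α]
          abel
      _ = _ := by
          rw [h.II, h.JJ, h.JI, add_neg_cancel, smul_zero, add_zero, ← add_smul, hab, neg_smul,
            one_smul, neg_neg]
  set N : End K V := I * J with hN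
  have hNN : N * N = -1 := by
    simp only [hN, mul_assoc, h.JI', h.JJ, h.II, mul_neg, mul_one, neg_neg]
  have hLN : L * N = -(N * L) := by
    simp only [hL, hN, add_mul, mul_add, smul_mul_assoc, mul_smul_comm, mul_assoc, h.II', h.JI, h.JI',
      h.JJ, mul_neg, mul_one, neg_neg, neg_add, smul_neg]
  have hPL : P * L = L * P := by
    simp only [hL, mul_add, add_mul, mul_smul_comm, smul_mul_assoc, hPI, hPJ]
  have hPN : P * N = N * P := by rw [hN, ← mul_assoc, hPI, mul_assoc, hPJ, ← mul_assoc]
  have Ninj : ∀ x, N x = 0 → x = 0 := fun x hx => by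
    have := LinearMap.congr_fun hNN x
    rw [Module.End.mul_apply, hx, map_zero, LinearMap.neg_apply, Module.End.one_apply] at this
    exact neg_eq_zero.1 this.symm
  have two_zero : ∀ x : V, x + x = 0 → x = 0 := fun x hx => by
    rw [← two_smul K x] at hx
    exact (smul_eq_zero.1 hx).resolve_left h.two
  -- an eigenvector of `L`
  obtain ⟨v, hv0, hLv⟩ : ∃ v : V, v ≠ 0 ∧ L v = v := by
    by_contra hc
    push Not at hc
    have hneg : L = -1 := by
      refine LinearMap.ext fun w => ?_
      by_contra hw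
      refine hc (w + L w) (fun e => hw ?_) ?_
      · rw [LinearMap.neg_apply, Module.End.one_apply]
        exact (eq_neg_of_add_eq_zero_right e)
      · rw [map_add, ← Module.End.mul_apply, hLL, Module.End.one_apply, add_comm]
    obtain ⟨w, hw⟩ := exists_ne (0 : V)
    refine hw (Ninj w (two_zero _ ?_))
    have := LinearMap.congr_fun hLN w
    rw [hneg] at this
    simp only [neg_mul, one_mul, mul_neg, mul_one, neg_neg, LinearMap.neg_apply] at this
    nth_rewrite 1 [← this]
    exact neg_add_cancel _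
  set D := Submodule.span K ({v, P v} : Set V) with hD
  have hPD : ∀ d ∈ D, P d ∈ D := by
    have : D ≤ D.comap P := by
      refine Submodule.span_le.2 ?_
      rintro x (rfl | rfl)
      · exact Submodule.subset_span (by simp)
      · show P (P v) ∈ D
        have := LinearMap.congr_fun hP2 v
        rw [LinearMap.add_apply, Module.End.mul_apply, Module.End.one_apply] at this
        rw [eq_sub_of_add_eq this]
        exact sub_mem (Submodule.subset_span (by simp)) (Submodule.subset_span (by simp))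
    exact fun d hd => this hd
  have hLD : ∀ d ∈ D, L d = d := by
    have : D ≤ LinearMap.ker (L - 1) := by
      refine Submodule.span_le.2 ?_
      rintro x (rfl | rfl)
      · simp [hLv]
      · show (L - 1) (P v) = 0
        rw [LinearMap.sub_apply, Module.End.one_apply, ← Module.End.mul_apply, ← hPL,
          Module.End.mul_apply, hLv, sub_self]
    exact fun d hd => sub_eq_zero.1 (by simpa using this hd)
  -- the operators on the column
  set W : Submodule K V := D ⊔ D.map N with hW
  have hWmem : ∀ d ∈ D, d ∈ W ∧ N d ∈ W := fun d hd =>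
    ⟨le_sup_left (a := D) hd, le_sup_right (a := D) (Submodule.mem_map_of_mem hd)⟩
  have hIid : I * L = -(α • (1 : End K V)) + β • N := by
    simp only [hL, hN, mul_add, mul_smul_comm, h.II, smul_neg]
  have hJid : J * L = -(α • N) + -(β • (1 : End K V)) := by
    simp only [hL, hN, mul_add, mul_smul_comm, h.JJ, h.JI, smul_neg]
  have hId : ∀ d ∈ D, I d = -(α • d) + β • N d ∧ J d = -(α • N d) + -(β • d) := fun d hd => by
    refine ⟨?_, ?_⟩
    · nth_rewrite 1 [← hLD d hd]
      rw [← Module.End.mul_apply, hIid]; rfl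
    · nth_rewrite 1 [← hLD d hd]
      rw [← Module.End.mul_apply, hJid]; rfl
  have hstab : ∀ f : End K V, (∀ d ∈ D, f d ∈ W ∧ f (N d) ∈ W) → ∀ w ∈ W, f w ∈ W := by
    intro f hf w hw
    obtain ⟨d, hd, e, he, rfl⟩ := Submodule.mem_sup.1 hw
    obtain ⟨d', hd', rfl⟩ := Submodule.mem_map.1 he
    rw [map_add]
    exact add_mem (hf d hd).1 (hf d' hd').2
  have WI : ∀ w ∈ W, I w ∈ W := hstab I fun d hd => by
    refine ⟨?_, ?_⟩
    · rw [(hId d hd).1]
      exact add_mem (neg_mem (W.smul_mem _ (hWmem d hd).1)) (W.smul_mem _ (hWmem d hd).2)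
    · have : I * N = -J := by rw [hN, h.II']
      rw [← Module.End.mul_apply, this, LinearMap.neg_apply, (hId d hd).2]
      exact neg_mem (add_mem (neg_mem (W.smul_mem _ (hWmem d hd).2)) (neg_mem (W.smul_mem _ (hWmem d hd).1)))
  have WJ : ∀ w ∈ W, J w ∈ W := hstab J fun d hd => by
    refine ⟨?_, ?_⟩
    · rw [(hId d hd).2]
      exact add_mem (neg_mem (W.smul_mem _ (hWmem d hd).2)) (neg_mem (W.smul_mem _ (hWmem d hd).1))
    · have : J * N = I := by simp only [hN, h.JI', h.JJ, mul_neg, mul_one, neg_neg]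
      rw [← Module.End.mul_apply, this, (hId d hd).1]
      exact add_mem (neg_mem (W.smul_mem _ (hWmem d hd).1)) (W.smul_mem _ (hWmem d hd).2)
  have WP : ∀ w ∈ W, P w ∈ W := hstab P fun d hd => by
    refine ⟨(hWmem _ (hPD d hd)).1, ?_⟩
    rw [← Module.End.mul_apply, hPN, Module.End.mul_apply]
    exact (hWmem _ (hPD d hd)).2
  have WN : ∀ w ∈ W, N w ∈ W := fun w hw => WI _ (WJ w hw)
  have WU : ∀ w ∈ W, U w ∈ W := fun w hw => by
    have e := LinearMap.congr_fun hU2 w
    have hm : (U + U) w ∈ W := by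
      rw [e]
      simp only [LinearMap.add_apply, LinearMap.sub_apply, Module.End.mul_apply, Module.End.one_apply]
      exact add_mem (sub_mem (WI w hw) (WP _ (WJ w hw))) (add_mem (WN w hw) (WP _ (WN w hw)))
    rw [LinearMap.add_apply, ← two_smul K (U w)] at hm
    exact (W.smul_mem_iff h.two).1 hm
  have hWinv := hgen W fun w hw => ⟨WI w hw, WJ w hw, WU w hw⟩
  have hvD : v ∈ D := Submodule.subset_span (by simp)
  set S : V → Submodule K V := orbSpan (ψ : E → End K V) with hS
  have hSW : S v ≤ W := Submodule.span_le.2 (by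
    rintro _ ⟨g, rfl⟩
    exact hWinv g v (hWmem v hvD).1)
  -- the orbit of `v` spans everything
  have hSv : S v = ⊤ := by
    by_contra hne
    have hmin : ∀ x z : V, z ≠ 0 → z ∈ S x → S z = S x := fun x z hz hzx => by
      have hx0 : x ≠ 0 := by
        rintro rfl
        refine hz ?_
        have h0 : S (0 : V) = ⊥ := by simp [hS, orbSpan]
        rw [h0] at hzx
        exact hzx
      exact Submodule.eq_of_le_of_finrank_eq (orbSpan_le_of_mem ψ hzx) (htr z x hz hx0)
    have hdis : ∀ x y z : V, y ∉ S x → z ∈ S y → z ∈ S x → z = 0 := fun x y z hy hzy hzx => by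
      by_contra hz
      exact hy (by rw [← hmin x z hz hzx, hmin y z hz hzy]; exact self_mem_orbSpan ψ y)
    have ha : (1 - L : End K V) ∈ Submodule.span K (Set.range (ψ : E → End K V)) := by
      obtain ⟨g, hg⟩ := hI
      obtain ⟨g', hg'⟩ := hJ
      refine sub_mem (Submodule.subset_span ⟨1, map_one ψ⟩) ?_
      exact add_mem (Submodule.smul_mem _ _ (Submodule.subset_span ⟨g, hg⟩))
        (Submodule.smul_mem _ _ (Submodule.subset_span ⟨g', hg'⟩))
    have key : ∀ x y : V, L x = x → x ≠ 0 → y ∉ S x → L y = y := by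
      intro x y hx hx0 hy
      have hy0 : y ≠ 0 := fun e => hy (e ▸ zero_mem _)
      have e : (1 - L : End K V) (x + y) = (1 - L : End K V) y := by
        rw [map_add, LinearMap.sub_apply, Module.End.one_apply, hx, sub_self, zero_add]
      have h1 := apply_mem_orbSpan ha (x + y)
      rw [e] at h1
      have h2 := apply_mem_orbSpan ha y
      have hxy : x + y ∉ S y := fun hc => by
        have hxS : x ∈ S y := by simpa using sub_mem hc (self_mem_orbSpan ψ y)
        exact hy (by rw [hmin y x hx0 hxS]; exact self_mem_orbSpan ψ y)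
      have := hdis y (x + y) _ hxy h1 h2
      rwa [LinearMap.sub_apply, Module.End.one_apply, sub_eq_zero, eq_comm] at this
    obtain ⟨y, -, hy⟩ := SetLike.exists_of_lt (lt_top_iff_ne_top.2 hne)
    have hy0 : y ≠ 0 := fun e => hy (e ▸ zero_mem _)
    have hLy := key v y hLv hv0 hy
    have hall : ∀ z ∈ S v, L z = z := fun z hz => by
      by_cases hz0 : z = 0
      · rw [hz0, map_zero]
      exact key y z hLy hy0 fun hzy => hz0 (hdis v y z hy hzy hz)
    have hNS : N v ∈ S v := by
      obtain ⟨g, hg⟩ := hI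
      obtain ⟨g', hg'⟩ := hJ
      refine Submodule.subset_span ⟨g * g', ?_⟩
      show ψ (g * g') v = N v
      rw [map_mul, hg, hg']
    have e := hall _ hNS
    rw [← Module.End.mul_apply, hLN, LinearMap.neg_apply, Module.End.mul_apply, hLv] at e
    refine hv0 (Ninj v (two_zero _ ?_))
    nth_rewrite 1 [← e]
    exact neg_add_cancel _
  have hWtop : W = ⊤ := top_unique (hSv ▸ hSW)
  have hsplit : ∀ d ∈ D, ∀ d' ∈ D, L (d + N d') = d + N d' → N d' = 0 := fun d hd d' hd' e => by
    rw [map_add, hLD d hd, add_right_inj, ← Module.End.mul_apply, hLN, LinearMap.neg_apply,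
      Module.End.mul_apply, hLD d' hd'] at e
    exact two_zero _ (by nth_rewrite 1 [← e]; exact neg_add_cancel _)
  refine ⟨v, D, hv0, rfl, ?_, fun T hTI hTJ hTU => ⟨?_, ?_⟩⟩
  · have hinf : D ⊓ D.map N = ⊥ := by
      rw [eq_bot_iff]
      rintro x ⟨hx, hx'⟩
      obtain ⟨d, hd, rfl⟩ := Submodule.mem_map.1 hx'
      rw [Submodule.mem_bot]
      refine hsplit 0 (zero_mem D) d hd ?_
      rw [zero_add]; exact hLD _ hx
    have e := Submodule.finrank_sup_add_finrank_inf_eq D (D.map N)
    rw [← hW, hWtop, hinf, finrank_top, finrank_bot, add_zero] at e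
    rw [e, two_mul]
    congr 1
    exact ((Submodule.equivMapOfInjective N (fun a b e => sub_eq_zero.1 (Ninj _ (by rw [map_sub, e, sub_self]))) D).finrank_eq).symm
  · have hTL : T * L = L * T := by
      simp only [hL, mul_add, add_mul, mul_smul_comm, smul_mul_assoc, hTI, hTJ]
    have e : L (T v) = T v := by
      rw [← Module.End.mul_apply, ← hTL, Module.End.mul_apply, hLv]
    have hm : T v ∈ W := hWtop ▸ Submodule.mem_top
    obtain ⟨d, hd, e₁, he₁, hsum⟩ := Submodule.mem_sup.1 hm
    obtain ⟨d', hd', rfl⟩ := Submodule.mem_map.1 he₁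
    rw [← hsum] at e ⊢
    rw [hsplit d hd d' hd' e, add_zero]
    exact hd
  · intro T' hTI' hTJ' hTU' hv'
    have hc : ∀ (g : E) (F : End K V), F * I = I * F → F * J = J * F → F * U = U * F → F v = 0 →
        F (ψ g v) = 0 := by
      intro g F h1 h2 h3 h4
      have := hgen (LinearMap.ker F) (fun w hw => by
        simp only [LinearMap.mem_ker] at hw ⊢
        refine ⟨?_, ?_, ?_⟩
        · rw [← Module.End.mul_apply, h1, Module.End.mul_apply, hw, map_zero]
        · rw [← Module.End.mul_apply, h2, Module.End.mul_apply, hw, map_zero]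
        · rw [← Module.End.mul_apply, h3, Module.End.mul_apply, hw, map_zero]) g v h4
      exact this
    have hker : S v ≤ LinearMap.ker (T - T') := Submodule.span_le.2 (by
      rintro _ ⟨g, rfl⟩
      refine hc g (T - T') ?_ ?_ ?_ ?_
      · rw [sub_mul, mul_sub, hTI, hTI']
      · rw [sub_mul, mul_sub, hTJ, hTJ']
      · rw [sub_mul, mul_sub, hTU, hTU']
      · rw [LinearMap.sub_apply, hv', sub_self])
    rw [hSv, top_le_iff, LinearMap.ker_eq_top, sub_eq_zero] at hker
    exact hker

/-- The special linear group of degree two over the field with five elements. -/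
abbrev SL25 : Type := Matrix.SpecialLinearGroup (Fin 2) (ZMod 5)

def i0 : SL25 := ⟨!![2, 0; 0, 3], by decide⟩
def j0 : SL25 := ⟨!![0, 1; 4, 0], by decide⟩
def x0 : SL25 := ⟨!![3, 4; 3, 1], by decide⟩
def u0 : SL25 := ⟨!![1, 2; 4, 4], by decide⟩
def m0 : SL25 := ⟨!![4, 0; 0, 4], by decide⟩

/-- Products of at most `n` of the three generators. -/
def words : ℕ → Finset SL25
  | 0 => {1}
  | n + 1 => words n ∪ (words n).image (i0 * ·) ∪ (words n).image (j0 * ·) ∪ (words n).image (u0 * ·)

theorem words_seven : ∀ g : SL25, g ∈ words 7 := by decide +kernel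

theorem generators (P : SL25 → Prop) (h1 : P 1) (hi : ∀ g, P g → P (i0 * g))
    (hj : ∀ g, P g → P (j0 * g)) (hu : ∀ g, P g → P (u0 * g)) (g : SL25) : P g := by
  have : ∀ n, ∀ g ∈ words n, P g := by
    intro n
    induction n with
    | zero => intro g hg; rw [words, Finset.mem_singleton] at hg; exact hg ▸ h1
    | succ n ih =>
      intro g hg
      simp only [words, Finset.mem_union, Finset.mem_image] at hg
      rcases hg with ((hg | ⟨a, ha, rfl⟩) | ⟨a, ha, rfl⟩) | ⟨a, ha, rfl⟩
      exacts [ih g hg, hi a (ih a ha), hj a (ih a ha), hu a (ih a ha)]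
  exact this 7 g (words_seven g)

theorem sl25_rels : i0 * i0 = m0 ∧ j0 * j0 = m0 ∧ u0 * u0 = m0 ∧ j0 * i0 = m0 * (i0 * j0) ∧
    x0 ^ 3 = 1 ∧ x0 ≠ 1 ∧ x0 * j0 = i0 * x0 ∧ x0 * (i0 * j0) = j0 * x0 ∧
    (u0 * i0) ^ 3 = 1 ∧ u0 * i0 ≠ 1 ∧ (u0 * x0) ^ 3 = 1 ∧ u0 * x0 ≠ 1 ∧ m0 * m0 = 1 ∧ m0 ≠ 1 := by
  decide +kernel

/-- A fixed point free action of the binary icosahedral group gives the quaternion relations. -/
theorem ico_of_fpf (ψ : SL25 →* End K V) (h2 : (2 : K) ≠ 0)
    (hfpf : ∀ g : SL25, g ≠ 1 → ∀ w : V, ψ g w = w → w = 0) :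
    Ico (ψ i0) (ψ j0) (ψ x0) (ψ u0) := by
  obtain ⟨rii, rjj, ruu, rji, rx, rx1, rxj, rxk, rui, rui1, rux, rux1, rmm, rm1⟩ := sl25_rels
  have hneg : ψ m0 = -1 := by
    refine LinearMap.ext fun w => ?_
    have : ψ m0 (ψ m0 w + w) = ψ m0 w + w := by
      rw [map_add, ← Module.End.mul_apply, ← map_mul, rmm, map_one, Module.End.one_apply, add_comm]
    rw [LinearMap.neg_apply, Module.End.one_apply]
    exact eq_neg_of_add_eq_zero_left (hfpf _ rm1 _ this)
  have hthree : ∀ w : SL25, w ^ 3 = 1 → w ≠ 1 → ψ w * ψ w + ψ w + 1 = 0 := by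
    intro w hw hw1
    refine LinearMap.ext fun x => ?_
    rw [LinearMap.zero_apply]
    refine hfpf w hw1 _ ?_
    have e : ψ w * (ψ w * ψ w) = 1 := by
      rw [← map_mul, ← map_mul, show w * (w * w) = w ^ 3 by rw [pow_succ, pow_two, mul_assoc], hw, map_one]
    have e2 : ψ w * (ψ w * ψ w + ψ w + 1) = ψ w * ψ w + ψ w + 1 := by
      rw [mul_add, mul_add, e, mul_one]; abel
    exact LinearMap.congr_fun e2 x
  have hx := hthree x0 rx rx1
  have hX3 : ψ x0 * (ψ x0 * ψ x0) = 1 := by
    rw [← map_mul, ← map_mul, show x0 * (x0 * x0) = x0 ^ 3 by rw [pow_succ, pow_two, mul_assoc], rx, map_one]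
  refine ⟨h2, by rw [← map_mul, rii, hneg], by rw [← map_mul, rjj, hneg], ?_,
    by rw [← map_mul, ruu, hneg], hx, by rw [← map_mul, rxj, map_mul],
    by rw [← map_mul, ← map_mul, rxk, map_mul], ?_, ?_⟩
  · rw [← map_mul, rji, map_mul, map_mul, hneg, neg_one_mul]
  · have e := hthree _ rui rui1
    rw [map_mul] at e
    have hUU : ψ u0 * ψ u0 = -1 := by rw [← map_mul, ruu, hneg]
    have hII : ψ i0 * ψ i0 = -1 := by rw [← map_mul, rii, hneg]
    have h3 : (ψ u0 * ψ i0) * ((ψ u0 * ψ i0) * (ψ u0 * ψ i0)) = 1 := by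
      rw [← map_mul, ← map_mul, ← map_mul, show u0 * i0 * (u0 * i0 * (u0 * i0)) = (u0 * i0) ^ 3 by
        rw [pow_succ, pow_two, mul_assoc (u0 * i0)], rui, map_one]
    have hinv : ψ i0 * ψ u0 * (ψ u0 * ψ i0) = 1 := by
      rw [mul_assoc, ← mul_assoc (ψ u0), hUU, neg_one_mul, mul_neg, hII, neg_neg]
    have e' : (ψ u0 * ψ i0) * (ψ u0 * ψ i0) = ψ i0 * ψ u0 := by
      calc _ = ψ i0 * ψ u0 * (ψ u0 * ψ i0) * ((ψ u0 * ψ i0) * (ψ u0 * ψ i0)) := by rw [hinv, one_mul]
        _ = ψ i0 * ψ u0 * ((ψ u0 * ψ i0) * ((ψ u0 * ψ i0) * (ψ u0 * ψ i0))) := by rw [mul_assoc]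
        _ = _ := by rw [h3, mul_one]
    rw [e'] at e
    rw [eq_neg_iff_add_eq_zero, ← e]; abel
  · have e := hthree _ rux rux1
    rw [map_mul] at e
    have hUU : ψ u0 * ψ u0 = -1 := by rw [← map_mul, ruu, hneg]
    have h3 : (ψ u0 * ψ x0) * ((ψ u0 * ψ x0) * (ψ u0 * ψ x0)) = 1 := by
      rw [← map_mul, ← map_mul, ← map_mul, show u0 * x0 * (u0 * x0 * (u0 * x0)) = (u0 * x0) ^ 3 by
        rw [pow_succ, pow_two, mul_assoc (u0 * x0)], rux, map_one]
    have hX : ψ x0 * ψ x0 = -ψ x0 - 1 := by
      rw [eq_sub_iff_add_eq, eq_neg_iff_add_eq_zero, ← hx]; abel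
    have hinv : (ψ x0 * ψ u0 + ψ u0) * (ψ u0 * ψ x0) = 1 := by
      rw [add_mul, mul_assoc, ← mul_assoc (ψ u0), hUU, neg_one_mul, mul_neg, hX]; abel
    have e' : (ψ u0 * ψ x0) * (ψ u0 * ψ x0) = ψ x0 * ψ u0 + ψ u0 := by
      calc _ = (ψ x0 * ψ u0 + ψ u0) * (ψ u0 * ψ x0) * ((ψ u0 * ψ x0) * (ψ u0 * ψ x0)) := by
            rw [hinv, one_mul]
        _ = (ψ x0 * ψ u0 + ψ u0) * ((ψ u0 * ψ x0) * ((ψ u0 * ψ x0) * (ψ u0 * ψ x0))) := by rw [mul_assoc]
        _ = _ := by rw [h3, mul_one]
    rw [e'] at e
    rw [eq_neg_iff_add_eq_zero, ← e]; abel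

end Cfsg.Agent.Block.SharpTwo
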