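import Mathlib
import Cfsg.Agent.Lib.Block.SharplyTransitive
import Cfsg.Agent.Lib.Grp.Zassenhaus.Basics
import Cfsg.Agent.Lib.Grp.Zassenhaus.CoreFree
import Cfsg.Agent.S0689

/-!
# Exceptional groups regular on the non-zero vectors

Normal abelian subgroups span fields, and a non-abelian normal subgroup centralising a maximal
normal abelian subgroup spans the full matrix algebra of a plane.
-/

set_option autoImplicit false

namespace Cfsg.Agent.Block.SharpTwo

open Module

universe u

section Orbits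

variable {K : Type*} [Field K] {V : Type*} [AddCommGroup V] [Module K V]
variable {E : Type*} [Group E] (ψ : E →* End K V)

/-- All orbit spans have the same dimension. -/
def EvenSpans : Prop := ∀ x y : V, x ≠ 0 → y ≠ 0 →
  finrank K (orbSpan (ψ : E → End K V) x) = finrank K (orbSpan (ψ : E → End K V) y)

variable [FiniteDimensional K V] (hev : EvenSpans ψ)

include hev

theorem orb_eq {x z : V} (hz : z ≠ 0) (hzx : z ∈ orbSpan (ψ : E → End K V) x) :
    orbSpan (ψ : E → End K V) z = orbSpan (ψ : E → End K V) x := by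
  have hx0 : x ≠ 0 := by
    rintro rfl
    refine hz ?_
    have h0 : orbSpan (ψ : E → End K V) (0 : V) = ⊥ := by simp [orbSpan]
    rwa [h0, Submodule.mem_bot] at hzx
  exact Submodule.eq_of_le_of_finrank_eq (orbSpan_le_of_mem ψ hzx) (hev z x hz hx0)

theorem orb_disjoint {x y z : V} (hy : y ∉ orbSpan (ψ : E → End K V) x)
    (hzy : z ∈ orbSpan (ψ : E → End K V) y) (hzx : z ∈ orbSpan (ψ : E → End K V) x) : z = 0 := by
  by_contra hz
  exact hy (by rw [← orb_eq ψ hev hz hzx, orb_eq ψ hev hz hzy]; exact self_mem_orbSpan ψ y)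

/-- An element of the spanned algebra killing a vector kills every vector outside its orbit span. -/
theorem kill_outside {T : End K V} (hT : T ∈ Submodule.span K (Set.range (ψ : E → End K V))) {x y : V}
    (hx : T x = 0) (hx0 : x ≠ 0) (hy : y ∉ orbSpan (ψ : E → End K V) x) : T y = 0 := by
  have h1 := apply_mem_orbSpan hT (x + y)
  rw [map_add, hx, zero_add] at h1
  have h2 := apply_mem_orbSpan hT y
  refine orb_disjoint ψ hev (fun hc => ?_) h1 h2
  have hxS : x ∈ orbSpan (ψ : E → End K V) y := by simpa using sub_mem hc (self_mem_orbSpan ψ y)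
  exact hy (by rw [orb_eq ψ hev hx0 hxS]; exact self_mem_orbSpan ψ y)

/-- If the orbit spans are proper, no non-zero element of the spanned algebra has a kernel. -/
theorem eq_zero_of_proper {T : End K V} (hT : T ∈ Submodule.span K (Set.range (ψ : E → End K V))) {x : V}
    (hx : T x = 0) (hx0 : x ≠ 0) (hne : orbSpan (ψ : E → End K V) x ≠ ⊤) : T = 0 := by
  obtain ⟨y, -, hy⟩ := SetLike.exists_of_lt (lt_top_iff_ne_top.2 hne)
  have hy0 : y ≠ 0 := fun e => hy (e ▸ zero_mem _)
  have hTy := kill_outside ψ hev hT hx hx0 hy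
  refine LinearMap.ext fun z => ?_
  rw [LinearMap.zero_apply]
  by_cases hz0 : z = 0
  · rw [hz0, map_zero]
  by_cases hz : z ∈ orbSpan (ψ : E → End K V) x
  · exact kill_outside ψ hev hT hTy hy0 fun hzy => hz0 (orb_disjoint ψ hev hy hzy hz)
  · exact kill_outside ψ hev hT hx hx0 hz

/-- A commutative spanned algebra acts without zero divisors. -/
theorem eq_zero_of_comm (hcomm : ∀ a b, ψ a * ψ b = ψ b * ψ a) {T : End K V}
    (hT : T ∈ Submodule.span K (Set.range (ψ : E → End K V))) {x : V} (hx : T x = 0) (hx0 : x ≠ 0) :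
    T = 0 := by
  by_cases hne : orbSpan (ψ : E → End K V) x = ⊤
  swap
  · exact eq_zero_of_proper ψ hev hT hx hx0 hne
  have hc : ∀ g, T * ψ g = ψ g * T := by
    intro g
    clear hne hx
    induction hT using Submodule.span_induction with
    | mem a ha => obtain ⟨b, rfl⟩ := ha; exact hcomm b g
    | zero => rw [zero_mul, mul_zero]
    | add a b _ _ ha hb => rw [add_mul, mul_add, ha, hb]
    | smul c a _ ha => rw [smul_mul_assoc, mul_smul_comm, ha]
  have hker : orbSpan (ψ : E → End K V) x ≤ LinearMap.ker T := Submodule.span_le.2 (by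
    rintro _ ⟨g, rfl⟩
    show T (ψ g x) = 0
    rw [← Module.End.mul_apply, hc, Module.End.mul_apply, hx, map_zero])
  rw [hne, top_le_iff, LinearMap.ker_eq_top] at hker
  exact hker

end Orbits

section Quaternion

variable {K : Type*} [Field K] {V : Type*} [AddCommGroup V] [Module K V] [FiniteDimensional K V]
  [Nontrivial V]

/-- Two anticommuting square roots of `-1`. -/
structure Quat (I J : End K V) : Prop where
  two : (2 : K) ≠ 0
  II : I * I = -1
  JJ : J * J = -1
  JI : J * I = -(I * J)

variable {I J : End K V}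

theorem Quat.exists_eigen (h : Quat I J) {α β : K} (hab : α ^ 2 + β ^ 2 = -1) :
    (α • I + β • J) * (α • I + β • J) = 1 ∧ (α • I + β • J) * (I * J) = -(I * J * (α • I + β • J)) ∧
      I * J * (I * J) = -1 ∧
      ∀ W : Submodule K V, (∀ w ∈ W, I w ∈ W ∧ J w ∈ W) → W ≠ ⊥ →
        ∃ v ∈ W, v ≠ 0 ∧ (α • I + β • J) v = v ∧
          LinearIndependent K ![v, (I * J) v] ∧ I * J * (I * J) = -1 := by
  set L : End K V := α • I + β • J with hL
  have II' : ∀ a, I * (I * a) = -a := fun a => by rw [← mul_assoc, h.II, neg_one_mul]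
  have JI' : ∀ a, J * (I * a) = -(I * (J * a)) := fun a => by rw [← mul_assoc, h.JI, neg_mul, mul_assoc]
  have hLL : L * L = 1 := by
    calc L * L = (α ^ 2) • (I * I) + (β ^ 2) • (J * J) + (α * β) • (I * J + J * I) := by
          simp only [hL, add_mul, mul_add, smul_mul_assoc, mul_smul_comm, smul_smul, sq, smul_add,
            mul_comm β α]
          abel
      _ = _ := by
          rw [h.II, h.JJ, h.JI, add_neg_cancel, smul_zero, add_zero, ← add_smul, hab, neg_smul,
            one_smul, neg_neg]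
  have hLN : L * (I * J) = -(I * J * L) := by
    simp only [hL, add_mul, mul_add, smul_mul_assoc, mul_smul_comm, mul_assoc, II', h.JI, JI',
      h.JJ, mul_neg, mul_one, neg_neg, neg_add, smul_neg]
  have hNN : I * J * (I * J) = -1 := by
    simp only [mul_assoc, JI', h.JJ, h.II, mul_neg, mul_one, neg_neg]
  refine ⟨hLL, hLN, hNN, fun W hW hne => ?_⟩
  have two_zero : ∀ x : V, x + x = 0 → x = 0 := fun x hx => by
    rw [← two_smul K x] at hx
    exact (smul_eq_zero.1 hx).resolve_left h.two
  have hWL : ∀ w ∈ W, L w ∈ W := fun w hw => by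
    rw [hL, LinearMap.add_apply, LinearMap.smul_apply, LinearMap.smul_apply]
    exact add_mem (W.smul_mem _ (hW w hw).1) (W.smul_mem _ (hW w hw).2)
  have Ninj : ∀ x, (I * J) x = 0 → x = 0 := fun x hx => by
    have := LinearMap.congr_fun hNN x
    rw [Module.End.mul_apply, hx, map_zero, LinearMap.neg_apply, Module.End.one_apply] at this
    exact neg_eq_zero.1 this.symm
  obtain ⟨w, hw, hw0⟩ := Submodule.exists_mem_ne_zero_of_ne_bot hne
  have hNLN : L ((I * J) w) = -((I * J) (L w)) := by
    rw [← Module.End.mul_apply, hLN, LinearMap.neg_apply, Module.End.mul_apply]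
  obtain ⟨v, hv, hv0, hLv⟩ : ∃ v ∈ W, v ≠ 0 ∧ L v = v := by
    by_cases hwp : w + L w = 0
    · have hLw : L w = -w := eq_neg_of_add_eq_zero_right hwp
      refine ⟨(I * J) w, (hW _ (hW w hw).2).1, fun e => hw0 (Ninj w e), ?_⟩
      rw [hNLN, hLw, map_neg, neg_neg]
    · refine ⟨w + L w, add_mem hw (hWL w hw), hwp, ?_⟩
      rw [map_add, ← Module.End.mul_apply, hLL, Module.End.one_apply, add_comm]
  refine ⟨v, hv, hv0, hLv, ?_, hNN⟩
  refine LinearIndependent.pair_iff.2 fun s t hst => ?_
  have e := congrArg L hst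
  rw [map_add, map_smul, map_smul, map_zero, hLv, ← Module.End.mul_apply, hLN, LinearMap.neg_apply,
    Module.End.mul_apply, hLv, smul_neg, ← sub_eq_add_neg] at e
  have h1 : s • v + s • v = 0 := by
    calc s • v + s • v = (s • v + t • (I * J) v) + (s • v - t • (I * J) v) := by abel
      _ = 0 := by rw [hst, e, add_zero]
  have hs : s = 0 := (smul_eq_zero.1 (two_zero _ h1)).resolve_right hv0
  rw [hs, zero_smul, zero_add] at hst
  exact ⟨hs, (smul_eq_zero.1 hst).resolve_right fun e => hv0 (Ninj v e)⟩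

/-- In a plane the quaternions are irreducible and their commutant consists of scalars. -/
theorem Quat.plane (h : Quat I J) {α β : K} (hab : α ^ 2 + β ^ 2 = -1) (h2 : finrank K V = 2) :
    (∀ W : Submodule K V, (∀ w ∈ W, I w ∈ W ∧ J w ∈ W) → W = ⊥ ∨ W = ⊤) ∧
      ∀ T : End K V, T * I = I * T → T * J = J * T → ∃ c : K, T = c • 1 := by
  obtain ⟨-, hLN, hNN, hex⟩ := h.exists_eigen hab
  refine ⟨fun W hW => ?_, fun T hTI hTJ => ?_⟩
  · refine or_iff_not_imp_left.2 fun hne => ?_
    obtain ⟨v, hv, -, -, hli, -⟩ := hex W hW hne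
    refine Submodule.eq_top_of_finrank_eq (le_antisymm (Submodule.finrank_le W) ?_)
    rw [h2]
    have hli' : LinearIndependent K (![⟨v, hv⟩, ⟨(I * J) v, (hW _ (hW v hv).2).1⟩] : Fin 2 → W) := by
      refine LinearIndependent.of_comp W.subtype ?_
      convert hli using 1
      funext i; fin_cases i <;> rfl
    simpa using hli'.fintype_card_le_finrank
  · obtain ⟨v, -, hv0, hLv, hli, -⟩ := hex ⊤ (fun _ _ => ⟨trivial, trivial⟩) bot_lt_top.ne'
    set b := basisOfLinearIndependentOfCardEqFinrank hli (by rw [h2]; rfl) with hb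
    have hb0 : b 0 = v := by rw [hb, coe_basisOfLinearIndependentOfCardEqFinrank]; rfl
    have hb1 : b 1 = (I * J) v := by rw [hb, coe_basisOfLinearIndependentOfCardEqFinrank]; rfl
    set L : End K V := α • I + β • J with hL
    have hTL : T * L = L * T := by
      simp only [hL, mul_add, add_mul, mul_smul_comm, smul_mul_assoc, hTI, hTJ]
    have hTv : L (T v) = T v := by rw [← Module.End.mul_apply, ← hTL, Module.End.mul_apply, hLv]
    have hrep := b.sum_repr (T v)
    rw [Fin.sum_univ_two, hb0, hb1] at hrep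
    set s := b.repr (T v) 0 with hs
    set t := b.repr (T v) 1 with ht
    have ht0 : t = 0 := by
      rw [← hrep, map_add, map_smul, map_smul, hLv, ← Module.End.mul_apply, hLN, LinearMap.neg_apply,
        Module.End.mul_apply, hLv, smul_neg, add_right_inj, neg_eq_iff_add_eq_zero, ← two_smul K,
        smul_smul, smul_eq_zero] at hTv
      rcases hTv with e | e
      · exact (mul_eq_zero.1 e).resolve_left h.two
      · exact absurd e (hli.ne_zero 1)
    rw [ht0, zero_smul, add_zero] at hrep
    refine ⟨s, b.ext fun i => ?_⟩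
    fin_cases i
    · show T (b 0) = (s • (1 : End K V)) (b 0)
      rw [hb0, ← hrep]; rfl
    · show T (b 1) = (s • (1 : End K V)) (b 1)
      have hTN : T * (I * J) = I * J * T := by rw [← mul_assoc, hTI, mul_assoc, hTJ, ← mul_assoc]
      rw [hb1, ← Module.End.mul_apply, hTN, Module.End.mul_apply, ← hrep, map_smul]; rfl

end Quaternion

section Regular

variable {p : ℕ} [Fact p.Prime] {V : Type u} [AddCommGroup V] [Module (ZMod p) V] [Finite V]
  (H : Subgroup (V ≃ₗ[ZMod p] V))

/-- The action of a linear group. -/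
def toEnd : H →* End (ZMod p) V where
  toFun h := ((h : V ≃ₗ[ZMod p] V) : V →ₗ[ZMod p] V)
  map_one' := rfl
  map_mul' _ _ := rfl

/-- Regularity on the non-zero vectors. -/
def RegNZ : Prop := ∀ v w : V, v ≠ 0 → w ≠ 0 → ∃! h : H, (h : V ≃ₗ[ZMod p] V) v = w

/-- No cyclic normal subgroup is irreducible. -/
def NoIrrCyclic : Prop := ∀ A : Subgroup H, A.Normal → IsCyclic A →
  ∃ W : Submodule (ZMod p) V, W ≠ ⊥ ∧ W ≠ ⊤ ∧ ∀ a ∈ A, ∀ v ∈ W, ((a : H) : V ≃ₗ[ZMod p] V) v ∈ W

variable {H}

theorem RegNZ.fpf (hr : RegNZ H) {h : H} (hh : h ≠ 1) {x : V} (hx : toEnd H h x = x) : x = 0 := by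
  by_contra hx0
  obtain ⟨g, -, huniq⟩ := hr x x hx0 hx0
  exact hh ((huniq h hx).trans (huniq 1 rfl).symm)

theorem RegNZ.inj_at (hr : RegNZ H) {a b : H} {v : V} (hv : v ≠ 0) (e : toEnd H a v = toEnd H b v) :
    a = b := by
  obtain ⟨g, -, huniq⟩ := hr v (toEnd H b v) hv fun h => hv ((LinearEquiv.map_eq_zero_iff (b : V ≃ₗ[ZMod p] V)).1 h)
  exact (huniq a e).trans (huniq b rfl).symm

theorem finite_of : Finite H :=
  Finite.of_injective (fun h : H => ((h : V ≃ₗ[ZMod p] V) : V → V)) fun _ _ e =>
    Subtype.ext (LinearEquiv.ext fun x => congrFun e x)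

theorem RegNZ.card [Nontrivial V] (hr : RegNZ H) :
    Nat.card H + 1 = p ^ finrank (ZMod p) V := by
  classical
  obtain ⟨v, hv⟩ := exists_ne (0 : V)
  have := finite_of (H := H)
  cases nonempty_fintype V
  cases nonempty_fintype H
  have hne : ∀ h : H, toEnd H h v ≠ 0 := fun h e => hv ((LinearEquiv.map_eq_zero_iff (h : V ≃ₗ[ZMod p] V)).1 e)
  have e : H ≃ {x : V // x ≠ 0} := Equiv.ofBijective (fun h => ⟨toEnd H h v, hne h⟩)
    ⟨fun a b e => hr.inj_at hv (congrArg Subtype.val e), fun x => by
      obtain ⟨h, hh, -⟩ := hr v x.1 hv x.2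
      exact ⟨h, Subtype.ext hh⟩⟩
  have h1 := Fintype.card_pos (α := V)
  have h2 : p ^ finrank (ZMod p) V = Fintype.card V := by
    rw [← Nat.card_eq_fintype_card, Module.natCard_eq_pow_finrank (K := ZMod p), Nat.card_zmod]
  rw [h2, Nat.card_congr e, Nat.card_eq_fintype_card, Fintype.card_subtype_compl, Fintype.card_subtype_eq]
  omega

theorem RegNZ.hasFpf [Nontrivial V] (hr : RegNZ H) : Cfsg.Agent.Grp.Zas.HasFpf.{u, u} H := by
  have := finite_of (H := H)
  have hd : ¬ p ∣ Nat.card H := fun hd => by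
    have h2 : p ∣ Nat.card H + 1 := by
      rw [hr.card]; exact dvd_pow_self p (Module.finrank_pos).ne'
    exact (Fact.out : p.Prime).not_dvd_one ((Nat.dvd_add_right hd).1 h2)
  let toAdd : H →* AddMonoid.End V :=
    { toFun := fun h => (toEnd H h).toAddMonoidHom
      map_one' := rfl
      map_mul' := fun _ _ => rfl }
  exact Cfsg.Agent.Grp.Zas.hasFpf_of_fpf_module toAdd (fun g hg a ha => hr.fpf hg ha) hd

/-- Normal subgroups have orbit spans of constant dimension. -/
theorem RegNZ.evenSpans (hr : RegNZ H) (N : Subgroup H) [hN : N.Normal] :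
    EvenSpans ((toEnd H).comp N.subtype) := by
  intro x y hx hy
  obtain ⟨h, hh, -⟩ := hr x y hx hy
  rw [← LinearEquiv.finrank_map_eq (h : V ≃ₗ[ZMod p] V)]
  rw [show (orbSpan (((toEnd H).comp N.subtype : N →* End (ZMod p) V) : N → End (ZMod p) V) x).map
      ((h : V ≃ₗ[ZMod p] V) : V →ₗ[ZMod p] V) =
      orbSpan (((toEnd H).comp N.subtype : N →* End (ZMod p) V) : N → End (ZMod p) V) y from ?_]
  · refine le_antisymm ?_ ?_
    · rw [orbSpan, Submodule.map_span]
      refine Submodule.span_le.2 ?_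
      rintro _ ⟨_, ⟨g, rfl⟩, rfl⟩
      refine Submodule.subset_span ⟨⟨h * g * h⁻¹, hN.conj_mem _ g.2 h⟩, ?_⟩
      show toEnd H (h * g * h⁻¹) y = toEnd H h (toEnd H g x)
      rw [← hh, ← show toEnd H h x = (h : V ≃ₗ[ZMod p] V) x from rfl, ← Module.End.mul_apply,
        ← Module.End.mul_apply, ← map_mul, ← map_mul, inv_mul_cancel_right]
    · rw [orbSpan, orbSpan, Submodule.map_span]
      refine Submodule.span_le.2 ?_
      rintro _ ⟨g, rfl⟩
      refine Submodule.subset_span ⟨_, ⟨⟨h⁻¹ * g * h⁻¹⁻¹, hN.conj_mem _ g.2 h⁻¹⟩, rfl⟩, ?_⟩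
      show toEnd H h (toEnd H (h⁻¹ * g * h⁻¹⁻¹) x) = toEnd H g y
      rw [← hh, ← show toEnd H h x = (h : V ≃ₗ[ZMod p] V) x from rfl, ← Module.End.mul_apply,
        ← Module.End.mul_apply, ← map_mul, ← map_mul]
      simp only [inv_inv, mul_assoc, mul_inv_cancel_left]

/-- A normal abelian subgroup is cyclic and spans a field. -/
theorem RegNZ.abelian_normal [Nontrivial V] (hr : RegNZ H) (A : Subgroup H) [A.Normal]
    (hA : IsMulCommutative A) : IsCyclic A ∧ ∀ v : V, v ≠ 0 →
      (Nat.card A ∣ p ^ finrank (ZMod p) (orbSpan (fun a : A => toEnd H a) v) - 1) ∧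
      (Subgroup.centralizer (A : Set H)).index ≤
        finrank (ZMod p) (orbSpan (fun a : A => toEnd H a) v) := by
  classical
  have := finite_of (H := H)
  set ψ : A →* End (ZMod p) V := (toEnd H).comp A.subtype with hψ
  have hev : EvenSpans ψ := hr.evenSpans A
  have hcomm : ∀ a b, ψ a * ψ b = ψ b * ψ a := fun a b => by
    rw [← map_mul, ← map_mul, mul_comm' a b]
  set D : Subalgebra (ZMod p) (End (ZMod p) V) := Algebra.adjoin (ZMod p) (Set.range ψ) with hD
  have hspan : Subalgebra.toSubmodule D = Submodule.span (ZMod p) (Set.range ψ) := by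
    rw [hD, Algebra.adjoin_eq_span, ← MonoidHom.coe_mrange, Submonoid.closure_eq]
  letI : CommRing D := Algebra.adjoinCommRingOfComm (ZMod p) (by
    rintro _ ⟨a, rfl⟩ _ ⟨b, rfl⟩; exact hcomm a b)
  have hkill : ∀ T : D, ∀ x : V, x ≠ 0 → (T : End (ZMod p) V) x = 0 → T = 0 := fun T x hx0 hx =>
    Subtype.ext (eq_zero_of_comm ψ hev hcomm (hspan ▸ (T.2 : (T : End (ZMod p) V) ∈ Subalgebra.toSubmodule D)) hx hx0)
  obtain ⟨w, hw⟩ := exists_ne (0 : V)
  have : Nontrivial D := ⟨⟨1, 0, fun e => hw (by
    have := congrArg (fun T : D => (T : End (ZMod p) V) w) e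
    simpa using this)⟩⟩
  have : NoZeroDivisors D := ⟨fun {a b} e => or_iff_not_imp_right.2 fun hb => by
    refine hkill a ((b : End (ZMod p) V) w) (fun h0 => hb (hkill b w hw h0)) ?_
    rw [← Module.End.mul_apply]
    exact LinearMap.congr_fun (congrArg Subtype.val e) w⟩
  have : IsDomain D := NoZeroDivisors.to_isDomain D
  let f : A →* D :=
    { toFun := fun a => ⟨ψ a, Algebra.subset_adjoin ⟨a, rfl⟩⟩
      map_one' := Subtype.ext (map_one ψ)
      map_mul' := fun a b => Subtype.ext (map_mul ψ a b) }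
  have hf : Function.Injective f := fun a b e => Subtype.ext (hr.inj_at hw
    (LinearMap.congr_fun (congrArg Subtype.val e) w))
  have hcyc : IsCyclic A := isCyclic_of_subgroup_isDomain f hf
  refine ⟨hcyc, fun v hv => ?_⟩
  let ev : D →ₗ[ZMod p] orbSpan (fun a : A => toEnd H a) v :=
    LinearMap.codRestrict _ ((LinearMap.applyₗ v).comp (Subalgebra.toSubmodule D).subtype)
      (fun T => apply_mem_orbSpan (ψ := fun a : A => toEnd H a) (hspan ▸ T.2) v)
  have hev_bij : Function.Bijective ev := by
    refine ⟨fun a b e => sub_eq_zero.1 (hkill _ v hv ?_), fun ⟨z, hz⟩ => ?_⟩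
    · rw [Subalgebra.coe_sub, LinearMap.sub_apply]
      exact sub_eq_zero.2 (congrArg Subtype.val e)
    · have hz' : z ∈ (Subalgebra.toSubmodule D).map (LinearMap.applyₗ v) := by
        rw [hspan, Submodule.map_span, ← Set.range_comp]; exact hz
      obtain ⟨T, hT, rfl⟩ := Submodule.mem_map.1 hz'
      exact ⟨⟨T, hT⟩, rfl⟩
  have hfin : finrank (ZMod p) D = finrank (ZMod p) (orbSpan (fun a : A => toEnd H a) v) :=
    (LinearEquiv.ofBijective ev hev_bij).finrank_eq
  rw [← hfin]
  have hFE : Finite (End (ZMod p) V) := Finite.of_injective (fun T : End (ZMod p) V => (T : V → V)) DFunLike.coe_injective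
  have : Finite D := Finite.of_injective (fun T : D => (T : End (ZMod p) V)) Subtype.val_injective
  have : Module.Finite (ZMod p) D := Module.Finite.of_finite
  cases nonempty_fintype D
  refine ⟨?_, ?_⟩
  · have hunit : ∀ x : D, x ≠ 0 → IsUnit x := fun x hx => by
      obtain ⟨y, hy⟩ := Finite.surjective_of_injective
        (mul_right_injective₀ hx : Function.Injective (x * ·)) 1
      exact IsUnit.of_mul_eq_one y hy
    have hcard : Nat.card Dˣ = Nat.card D - 1 := by
      have e : Dˣ ≃ {x : D // x ≠ 0} := Equiv.ofBijective (fun u => ⟨u, u.ne_zero⟩)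
        ⟨fun a b h => Units.ext (congrArg Subtype.val h), fun x => ⟨(hunit _ x.2).unit, Subtype.ext rfl⟩⟩
      rw [Nat.card_congr e, Nat.card_eq_fintype_card, Nat.card_eq_fintype_card,
        Fintype.card_subtype_compl, Fintype.card_subtype_eq]
    have h := Subgroup.card_dvd_of_injective f.toHomUnits fun a b e => hf (congrArg Units.val e)
    rwa [hcard, Module.natCard_eq_pow_finrank (K := ZMod p) (V := D), Nat.card_zmod] at h
  · obtain ⟨a, ha⟩ := IsCyclic.exists_generator (α := A)
    have hC : Subgroup.centralizer (A : Set H) = Subgroup.centralizer {(a : H)} := by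
      refine le_antisymm (Subgroup.centralizer_le (Set.singleton_subset_iff.2 a.2)) fun c hc => ?_
      rw [Subgroup.mem_centralizer_singleton_iff] at hc
      refine Subgroup.mem_centralizer_iff.2 fun b hb => ?_
      obtain ⟨i, hi⟩ := Subgroup.mem_zpowers_iff.1 (ha ⟨b, hb⟩)
      have hi' : (a : H) ^ i = b := by rw [← Subgroup.coe_zpow, hi]
      rw [← hi']
      exact ((Commute.zpow_right (show Commute c (a : H) from hc) i)).eq.symm
    have hint : IsIntegral (ZMod p) (f a) := Algebra.IsIntegral.isIntegral _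
    set μ := minpoly (ZMod p) (f a) with hμ
    have hμ0 : (μ.map (algebraMap (ZMod p) D)) ≠ 0 :=
      Polynomial.map_ne_zero_iff (algebraMap (ZMod p) D).injective |>.2 (minpoly.ne_zero hint)
    have hconj : ∀ h : H, f ⟨h * a * h⁻¹, Subgroup.Normal.conj_mem inferInstance _ a.2 h⟩ ∈
        (μ.map (algebraMap (ZMod p) D)).roots := by
      intro h
      rw [Polynomial.mem_roots hμ0, Polynomial.IsRoot.def, Polynomial.eval_map_algebraMap]
      let c : End (ZMod p) V ≃ₐ[ZMod p] End (ZMod p) V :=
        LinearEquiv.conjAlgEquiv (ZMod p) (h : V ≃ₗ[ZMod p] V)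
      have hc : ∀ T : End (ZMod p) V, c T = toEnd H h * T * toEnd H h⁻¹ := fun T => by
        refine LinearMap.ext fun x => ?_; rfl
      have e0 : (Polynomial.aeval (ψ a) μ) = 0 := by
        rw [show ψ a = D.val (f a) from rfl, Polynomial.aeval_algHom_apply, hμ, minpoly.aeval, map_zero]
      apply Subtype.ext
      show D.val _ = _
      rw [← Polynomial.aeval_algHom_apply]
      show Polynomial.aeval (toEnd H (h * (a : H) * h⁻¹)) μ = 0
      rw [map_mul, map_mul, ← hc]
      show Polynomial.aeval (c.toAlgHom (ψ a)) μ = 0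
      rw [Polynomial.aeval_algHom_apply, e0, map_zero]
    have hinj : Nat.card (MulAction.orbit (ConjAct H) (a : H)) ≤ finrank (ZMod p) D := by
      refine le_trans ?_ (minpoly.natDegree_le (A := ZMod p) (f a))
      refine le_trans ?_ (le_trans (Polynomial.card_roots' (μ.map (algebraMap (ZMod p) D)))
        (Polynomial.natDegree_map_le))
      refine le_trans ?_ (Multiset.toFinset_card_le _)
      rw [← Fintype.card_coe, ← Nat.card_eq_fintype_card]
      have key : ∀ b : MulAction.orbit (ConjAct H) (a : H), ∃ hb : (b : H) ∈ A,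
          f ⟨b, hb⟩ ∈ (μ.map (algebraMap (ZMod p) D)).roots.toFinset := by
        rintro ⟨b, ⟨h, rfl⟩⟩
        obtain ⟨h, rfl⟩ := ConjAct.toConjAct.surjective h
        have hm : ConjAct.toConjAct h • (a : H) = h * a * h⁻¹ := ConjAct.toConjAct_smul _ _
        refine ⟨by show ConjAct.toConjAct h • (a : H) ∈ A; rw [hm]; exact Subgroup.Normal.conj_mem inferInstance _ a.2 h, ?_⟩
        rw [Multiset.mem_toFinset]
        convert hconj h using 3
      choose hb hroot using key
      refine Nat.card_le_card_of_injective (fun b => (⟨f ⟨b, hb b⟩, hroot b⟩ :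
        { x // x ∈ (μ.map (algebraMap (ZMod p) D)).roots.toFinset })) fun b b' e => Subtype.ext ?_
      have e2 := hf (congrArg Subtype.val e)
      exact congrArg (fun z : A => (z : H)) e2
    rw [hC]
    refine le_trans (le_of_eq ?_) hinj
    rw [Subgroup.centralizer_eq_comap_stabilizer]
    exact (Subgroup.index_comap_of_surjective _ (MulEquiv.surjective _)).trans
      ((MulAction.index_stabilizer _ _).trans (Nat.card_coe_set_eq _).symm)

end Regular


section Exceptional

open Cfsg.Agent.Grp.Zas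
open scoped commutatorElement

variable {p : ℕ} [Fact p.Prime] {V : Type u} [AddCommGroup V] [Module (ZMod p) V] [Finite V]
  {H : Subgroup (V ≃ₗ[ZMod p] V)}

/-- A maximal normal abelian subgroup. -/
def MaxNormAb (A : Subgroup H) : Prop :=
  A.Normal ∧ IsMulCommutative A ∧ ∀ B : Subgroup H, B.Normal → IsMulCommutative B → A ≤ B → B = A

/-- Minimal among the non-abelian normal subgroups centralising `A`. -/
def MinNonAb (A N : Subgroup H) : Prop :=
  N.Normal ∧ N ≤ Subgroup.centralizer (A : Set H) ∧ ¬ IsMulCommutative N ∧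
    ∀ M : Subgroup H, M.Normal → M ≤ N → ¬ IsMulCommutative M → M = N

variable (hr : RegNZ H)

include hr

theorem RegNZ.nontrivial_of (hI : NoIrrCyclic H) : Nontrivial V := by
  obtain ⟨W, h1, -, -⟩ := hI ⊥ inferInstance inferInstance
  obtain ⟨x, -, hx⟩ := Submodule.exists_mem_ne_zero_of_ne_bot h1
  exact nontrivial_of_ne x 0 hx

theorem RegNZ.maximal_abelian_reducible (hI : NoIrrCyclic H) {A : Subgroup H} [A.Normal]
    (hA : IsMulCommutative A) : IsCyclic A ∧ ∃ W : Submodule (ZMod p) V, W ≠ ⊥ ∧ W ≠ ⊤ ∧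
      (∀ a ∈ A, ∀ v ∈ W, ((a : H) : V ≃ₗ[ZMod p] V) v ∈ W) ∧
      (∀ W' : Submodule (ZMod p) V, W' ≤ W →
        (∀ a ∈ A, ∀ v ∈ W', ((a : H) : V ≃ₗ[ZMod p] V) v ∈ W') → W' = ⊥ ∨ W' = W) ∧
      Nat.card A ∣ p ^ finrank (ZMod p) W - 1 ∧
      (Subgroup.centralizer (A : Set H)).index ≤ finrank (ZMod p) W ∧
      2 * finrank (ZMod p) W ≤ finrank (ZMod p) V := by
  have := hr.nontrivial_of hI
  obtain ⟨hc, hk⟩ := hr.abelian_normal A hA
  obtain ⟨W0, hb, ht, hW0⟩ := hI A inferInstance hc
  obtain ⟨v, hv, hv0⟩ := Submodule.exists_mem_ne_zero_of_ne_bot hb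
  set ψ : A →* End (ZMod p) V := (toEnd H).comp A.subtype with hψ
  set S := orbSpan (ψ : A → End (ZMod p) V) v with hS
  have hle : S ≤ W0 := Submodule.span_le.2 (by rintro _ ⟨a, rfl⟩; exact hW0 a a.2 v hv)
  have hvS : v ∈ S := self_mem_orbSpan ψ v
  have hSt : S ≠ ⊤ := fun e => ht (top_unique (e ▸ hle))
  refine ⟨hc, S, fun e => hv0 (by rwa [e, Submodule.mem_bot] at hvS), hSt,
    fun a ha w hw => ?_, fun W' hW' hinv => ?_, (hk v hv0).1, (hk v hv0).2, ?_⟩
  · have h1 : S ≤ S.comap (ψ ⟨a, ha⟩) := by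
      refine Submodule.span_le.2 ?_
      rintro _ ⟨b, rfl⟩
      show ψ ⟨a, ha⟩ (ψ b v) ∈ S
      rw [← Module.End.mul_apply, ← map_mul]
      exact Submodule.subset_span ⟨⟨a, ha⟩ * b, rfl⟩
    exact h1 hw
  · refine or_iff_not_imp_left.2 fun hne => le_antisymm hW' ?_
    obtain ⟨z, hz, hz0⟩ := Submodule.exists_mem_ne_zero_of_ne_bot hne
    rw [hS, ← orb_eq ψ (hr.evenSpans A) hz0 (hW' hz)]
    exact Submodule.span_le.2 (by rintro _ ⟨a, rfl⟩; exact hinv a a.2 z hz)
  · obtain ⟨y, -, hy⟩ := SetLike.exists_of_lt (lt_top_iff_ne_top.2 hSt)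
    have hy0 : y ≠ 0 := fun e => hy (e ▸ zero_mem _)
    have hinf : S ⊓ orbSpan (ψ : A → End (ZMod p) V) y = ⊥ := by
      rw [eq_bot_iff]
      rintro z ⟨hz, hz'⟩
      exact (Submodule.mem_bot _).2 (orb_disjoint ψ (hr.evenSpans A) hy hz' hz)
    have e := Submodule.finrank_sup_add_finrank_inf_eq S (orbSpan (ψ : A → End (ZMod p) V) y)
    rw [hinf, finrank_bot, add_zero, hr.evenSpans A y v hy0 hv0] at e
    have := Submodule.finrank_le (S ⊔ orbSpan (ψ : A → End (ZMod p) V) y)
    rw [e] at this
    rw [two_mul]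
    exact this

theorem RegNZ.centralizer_not_abelian (hI : NoIrrCyclic H) {A : Subgroup H} (hA : MaxNormAb A) :
    A < Subgroup.centralizer (A : Set H) ∧ ¬ IsMulCommutative (Subgroup.centralizer (A : Set H)) := by
  obtain ⟨hn, hc, hmax⟩ := hA
  have := finite_of (H := H)
  have := hr.nontrivial_of hI
  have hle : A ≤ Subgroup.centralizer (A : Set H) := fun a ha =>
    Subgroup.mem_centralizer_iff.2 fun b hb => congrArg Subtype.val (mul_comm' (⟨b, hb⟩ : A) ⟨a, ha⟩)
  have hlt : A < Subgroup.centralizer (A : Set H) := by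
    refine lt_of_le_of_ne hle fun e => ?_
    obtain ⟨-, W, hW, -, -, -, hd, hi, h2⟩ := hr.maximal_abelian_reducible hI hc
    rw [← e] at hi
    set k := finrank (ZMod p) W with hk
    have hk1 : 1 ≤ k := by
      obtain ⟨x, hx, hx0⟩ := Submodule.exists_mem_ne_zero_of_ne_bot hW
      have : Nontrivial W := ⟨⟨⟨x, hx⟩, 0, fun e => hx0 (congrArg Subtype.val e)⟩⟩
      exact finrank_pos
    have hp := (Fact.out : p.Prime).two_le
    have hpk : k < p ^ k := Nat.lt_pow_self hp
    have hA : Nat.card A ≤ p ^ k - 1 := Nat.le_of_dvd (Nat.sub_pos_of_lt (by omega)) hd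
    have hH : Nat.card H ≤ (p ^ k - 1) * k := by
      rw [← Subgroup.card_mul_index A]; exact Nat.mul_le_mul hA hi
    have hV : (p ^ k) * (p ^ k) ≤ Nat.card H + 1 := by
      rw [hr.card, ← pow_add, ← two_mul]; exact Nat.pow_le_pow_right (by omega) h2
    have h3 : (p ^ k - 1) * k + k = p ^ k * k := by
      rw [← Nat.add_one_mul, Nat.sub_add_cancel (by omega)]
    have h4 : p ^ k * (k + 1) ≤ p ^ k * p ^ k := Nat.mul_le_mul_left _ hpk
    rw [Nat.mul_add, Nat.mul_one] at h4
    omega
  exact ⟨hlt, fun h => hlt.ne (hmax _ inferInstance h hle).symm⟩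

theorem RegNZ.minimal_cases (hI : NoIrrCyclic H) {A N : Subgroup H} (hA : MaxNormAb A)
    (hN : MinNonAb A N) :
    Nonempty (N ≃* QuaternionGroup 2) ∨ Nonempty (N ≃* Matrix.SpecialLinearGroup (Fin 2) (ZMod 5)) := by
  obtain ⟨hAn, hAc, hAmax⟩ := hA
  obtain ⟨hNn, hNle, hNna, hNmin⟩ := hN
  have := finite_of (H := H)
  have := hr.nontrivial_of hI
  have hF : HasFpf.{u, u} N := hr.hasFpf.of_injective N.subtype N.subtype_injective
  have hsmall : ∀ M : Subgroup H, M.Normal → M ≤ N → M ≠ N → M ≤ A := by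
    intro M hMn hMN hne
    have hMc : IsMulCommutative M := by
      by_contra hc
      exact hne (hNmin M hMn hMN hc)
    have hc : IsMulCommutative (A ⊔ M : Subgroup H) := by
      rw [Subgroup.sup_eq_closure]
      refine Subgroup.isMulCommutative_closure fun x hx y hy => ?_
      rcases hx with hx | hx <;> rcases hy with hy | hy
      · exact congrArg Subtype.val (mul_comm' (⟨x, hx⟩ : A) ⟨y, hy⟩)
      · exact Subgroup.mem_centralizer_iff.1 (hNle (hMN hy)) x hx
      · exact (Subgroup.mem_centralizer_iff.1 (hNle (hMN hx)) y hy).symm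
      · exact congrArg Subtype.val (mul_comm' (⟨x, hx⟩ : M) ⟨y, hy⟩)
    rw [← hAmax (A ⊔ M) inferInstance hc le_sup_left]
    exact le_sup_right
  by_cases hsol : Group.IsSolvable N
  · left
    have hnt : Nontrivial N := by
      by_contra h
      rw [not_nontrivial_iff_subsingleton] at h
      exact hNna ⟨⟨fun a b => Subsingleton.elim _ _⟩⟩
    have hlt : commutator N < ⊤ := Group.IsSolvable.commutator_lt_top_of_nontrivial N
    have hcA : (commutator N).map N.subtype ≤ A := by
      refine hsmall _ inferInstance (Subgroup.map_subtype_le _) fun e => hlt.ne ?_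
      refine Subgroup.map_injective N.subtype_injective ?_
      rw [e, ← MonoidHom.range_eq_map, Subgroup.range_subtype]
    have hcen : commutator N ≤ Subgroup.center N := fun x hx => Subgroup.mem_center_iff.2 fun y =>
      Subtype.ext ((Subgroup.mem_centralizer_iff.1 (hNle y.2) x (hcA (Subgroup.mem_map_of_mem _ hx))).symm)
    have hnil : Group.IsNilpotent N := by
      have : Group.IsNilpotent (N ⧸ Subgroup.center N) := by
        letI : CommGroup (N ⧸ Subgroup.center N) :=
          { (inferInstance : Group (N ⧸ Subgroup.center N)) with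
            mul_comm := fun a b => by
              induction a using QuotientGroup.induction_on with | _ a => ?_
              induction b using QuotientGroup.induction_on with | _ b => ?_
              show ((a * b : N) : N ⧸ Subgroup.center N) = ((b * a : N) : N ⧸ Subgroup.center N)
              rw [QuotientGroup.eq]
              refine hcen ?_
              rw [show (a * b)⁻¹ * (b * a) = ⁅b⁻¹, a⁻¹⁆ by simp [commutatorElement_def, mul_assoc]]
              exact Subgroup.commutator_mem_commutator (Subgroup.mem_top _) (Subgroup.mem_top _) }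
        exact CommGroup.isNilpotent
      exact Group.of_quotient_center_nilpotent inferInstance
    have hnormal : ∀ (q : ℕ) (_ : Fact q.Prime) (P : Sylow q N), (P : Subgroup N).Normal := fun q _ P =>
      Sylow.normal_of_normalizerCondition Group.normalizerCondition_of_isNilpotent P
    obtain ⟨q, hq, P, hP⟩ : ∃ (q : ℕ) (_ : Fact q.Prime) (P : Sylow q N),
        ¬ IsMulCommutative (P : Subgroup N) := by
      by_contra hall
      push Not at hall
      refine hNna ⟨⟨fun a b => ?_⟩⟩
      let e := Sylow.directProductOfNormal fun {q : ℕ} [hq : Fact q.Prime] (P : Sylow q N) => hnormal q hq P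
      obtain ⟨a, rfl⟩ := e.surjective a
      obtain ⟨b, rfl⟩ := e.surjective b
      rw [← map_mul, ← map_mul]
      congr 1
      funext q P
      have := Fact.mk (Nat.prime_of_mem_primeFactors q.2)
      have := hall q.1 this P
      exact mul_comm' (a q P) (b q P)
    have hPc : (P : Subgroup N).Characteristic := Sylow.characteristic_of_normal P (hnormal q hq P)
    have hPH : ((P : Subgroup N).map N.subtype).Normal := inferInstance
    have hPN : (P : Subgroup N).map N.subtype = N := by
      refine hNmin _ hPH (Subgroup.map_subtype_le _) fun hc => hP ⟨⟨fun a b => ?_⟩⟩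
      refine Subtype.ext (Subtype.ext ?_)
      have h : ((a : N) : H) * ((b : N) : H) = ((b : N) : H) * ((a : N) : H) := congrArg Subtype.val (mul_comm'
        (⟨((a : N) : H), Subgroup.mem_map_of_mem _ a.2⟩ : (P : Subgroup N).map N.subtype)
        ⟨((b : N) : H), Subgroup.mem_map_of_mem _ b.2⟩)
      exact h
    have hPtop : (P : Subgroup N) = ⊤ := Subgroup.map_injective N.subtype_injective (by
      rw [hPN, ← MonoidHom.range_eq_map, Subgroup.range_subtype])
    rcases hF.sylow_cases P with hcyc | ⟨-, n, ⟨e⟩⟩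
    · exact absurd (by letI := IsCyclic.commGroup (α := (P : Subgroup N)); exact ⟨⟨fun a b => mul_comm a b⟩⟩ : IsMulCommutative (P : Subgroup N)) hP
    have f : N ≃* QuaternionGroup (2 ^ n) :=
      (Subgroup.topEquiv.symm.trans (MulEquiv.subgroupCongr hPtop.symm)).trans e
    have hn : n = 1 := by
      have hz : (QuaternionGroup.a (-2) : QuaternionGroup (2 ^ n)) ∈ Subgroup.center _ := by
        have h1 : (QuaternionGroup.a (-2) : QuaternionGroup (2 ^ n)) =
            ⁅(QuaternionGroup.xa 0 : QuaternionGroup (2 ^ n)), QuaternionGroup.a 1⁆ := by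
          rw [commutatorElement_def, eq_mul_inv_iff_mul_eq, eq_mul_inv_iff_mul_eq, mul_assoc]
          simp only [QuaternionGroup.a_mul_xa, QuaternionGroup.xa_mul_a, QuaternionGroup.a_mul_a]
          ring_nf
        rw [h1]
        refine Subgroup.mem_center_iff.2 fun y => f.symm.injective ?_
        rw [map_mul, map_mul]
        refine Subgroup.mem_center_iff.1 (hcen ?_) _
        rw [map_commutatorElement]
        exact Subgroup.commutator_mem_commutator (Subgroup.mem_top (f.symm (QuaternionGroup.xa 0))) (Subgroup.mem_top (f.symm (QuaternionGroup.a 1)))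
      have h4 : ((4 : ℕ) : ZMod (2 * 2 ^ n)) = 0 := by
        have e := Subgroup.mem_center_iff.1 hz (QuaternionGroup.xa 0)
        simp only [QuaternionGroup.a_mul_xa, QuaternionGroup.xa_mul_a, QuaternionGroup.xa.injEq] at e
        push_cast
        linear_combination -e
      rw [ZMod.natCast_eq_zero_iff, ← pow_succ'] at h4
      have h5 : n + 1 ≤ 2 := (Nat.pow_dvd_pow_iff_le_right (by norm_num : 1 < 2)).1 (by rw [show (2 : ℕ) ^ 2 = 4 by norm_num]; exact h4)
      by_contra hn1
      have hn0 : n = 0 := by omega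
      subst hn0
      refine hNna ⟨⟨fun a b => f.injective ?_⟩⟩
      have hall : ∀ x y : QuaternionGroup (2 ^ 0), x * y = y * x := by decide
      rw [map_mul, map_mul, hall]
    subst hn
    exact ⟨f⟩
  · right
    obtain ⟨-, M, hico, ⟨e⟩⟩ := hF.structure_nonsolvable hsol
    have hn : ((threeCore N).map N.subtype).Normal := by
      refine ⟨fun x hx g => ?_⟩
      obtain ⟨y, hy, rfl⟩ := Subgroup.mem_map.1 hx
      have hle : threeCore N ≤ (threeCore N).comap (MulAut.conjNormal g : MulAut N).toMonoidHom :=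
        (Subgroup.closure_le _).mpr fun t ht => by
          refine Subgroup.subset_closure ?_
          show orderOf ((MulAut.conjNormal g : MulAut N) t) = 3
          exact ((MulAut.conjNormal g : MulAut N).orderOf_eq t).trans ht
      exact ⟨_, hle hy, by simp [MulAut.conjNormal_apply]⟩
    have hna : ¬ IsMulCommutative ((threeCore N).map N.subtype) := fun hc => by
      have hall : ∀ x y : threeCore N, x * y = y * x := fun x y => by
        have h : ((x : N) : H) * ((y : N) : H) = ((y : N) : H) * ((x : N) : H) := congrArg Subtype.val (mul_comm'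
          (⟨((x : N) : H), Subgroup.mem_map_of_mem _ x.2⟩ : (threeCore N).map N.subtype)
          ⟨((y : N) : H), Subgroup.mem_map_of_mem _ y.2⟩)
        exact Subtype.ext (Subtype.ext h)
      exact (by decide +kernel : i0 * j0 ≠ j0 * i0) (e.symm.injective (by
        rw [map_mul, map_mul, hall]))
    have heq := hNmin _ hn (Subgroup.map_subtype_le _) hna
    exact ⟨((MulEquiv.subgroupCongr heq).symm.trans
      (Subgroup.equivMapOfInjective (threeCore N) N.subtype N.subtype_injective).symm).trans e⟩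

omit hr

/-- Quaternions from two elements of a group acting without fixed points. -/
theorem quat_of_fpf {K : Type*} [Field K] {W : Type*} [AddCommGroup W] [Module K W] {E : Type*}
    [Group E] (ψ : E →* End K W) (h2 : (2 : K) ≠ 0)
    (hfpf : ∀ g : E, g ≠ 1 → ∀ w : W, ψ g w = w → w = 0) {i j m : E} (hii : i * i = m) (hjj : j * j = m)
    (hji : j * i = m * (i * j)) (hmm : m * m = 1) (hm : m ≠ 1) : Quat (ψ i) (ψ j) := by
  have hneg : ψ m = -1 := by
    refine LinearMap.ext fun w => ?_
    have : ψ m (ψ m w + w) = ψ m w + w := by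
      rw [map_add, ← Module.End.mul_apply, ← map_mul, hmm, map_one, Module.End.one_apply, add_comm]
    rw [LinearMap.neg_apply, Module.End.one_apply]
    exact eq_neg_of_add_eq_zero_left (hfpf _ hm _ this)
  exact ⟨h2, by rw [← map_mul, hii, hneg], by rw [← map_mul, hjj, hneg],
    by rw [← map_mul, hji, map_mul, map_mul, hneg, neg_one_mul]⟩

include hr

theorem RegNZ.two_ne_of_even [Nontrivial V] (h : 2 ∣ Nat.card H) : (2 : ZMod p) ≠ 0 := by
  intro h0
  have : ((2 : ℕ) : ZMod p) = 0 := by exact_mod_cast h0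
  rw [ZMod.natCast_eq_zero_iff] at this
  obtain rfl : p = 2 := (Nat.prime_dvd_prime_iff_eq (Fact.out : p.Prime) Nat.prime_two).1 this
  have h2 : 2 ∣ Nat.card H + 1 := by rw [hr.card]; exact dvd_pow_self 2 (finrank_pos).ne'
  omega

/-- The plane spanned by a minimal non-abelian normal subgroup. -/
theorem RegNZ.plane_facts (hI : NoIrrCyclic H) {A N : Subgroup H} (hA : MaxNormAb A) (hN : MinNonAb A N) :
    ∃ I ∈ N, ∃ J ∈ N, Quat (toEnd H I) (toEnd H J) ∧ finrank (ZMod p) V = 2 := by
  have := finite_of (H := H)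
  have := hr.nontrivial_of hI
  have hNn : N.Normal := hN.1
  obtain ⟨α, β, hab⟩ := ZMod.sq_add_sq p (-1)
  rcases hr.minimal_cases hI hA hN with ⟨⟨e⟩⟩ | ⟨⟨e⟩⟩
  · set ψ : QuaternionGroup 2 →* End (ZMod p) V :=
      (toEnd H).comp (N.subtype.comp e.symm.toMonoidHom) with hψ
    have hev2 : 2 ∣ Nat.card H := by
      refine (Dvd.dvd.trans ?_ (Subgroup.card_subgroup_dvd_card N))
      rw [Nat.card_congr e.toEquiv, Nat.card_eq_fintype_card]; decide
    have hQ : Quat (ψ (QuaternionGroup.a 1)) (ψ (QuaternionGroup.xa 0)) :=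
      quat_of_fpf ψ (hr.two_ne_of_even hev2)
        (fun g hg w hw => hr.fpf (fun h => hg (e.symm.injective (Subtype.ext (by rw [map_one]; exact h)))) hw)
        (i := QuaternionGroup.a 1) (j := QuaternionGroup.xa 0) (m := QuaternionGroup.a 2)
        (by decide) (by decide) (by decide) (by decide) (by decide)
    refine ⟨_, (e.symm (QuaternionGroup.a 1)).2, _, (e.symm (QuaternionGroup.xa 0)).2, hQ, ?_⟩
    set I := ψ (QuaternionGroup.a 1) with hIdef
    set J := ψ (QuaternionGroup.xa 0) with hJdef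
    obtain ⟨hLL, hLN, hNN, hex⟩ := hQ.exists_eigen hab
    obtain ⟨v, -, hv0, hLv, hli, -⟩ := hex ⊤ (fun _ _ => ⟨trivial, trivial⟩) bot_lt_top.ne'
    set L : End (ZMod p) V := α • I + β • J with hL
    set W := Submodule.span (ZMod p) ({v, (I * J) v} : Set V) with hW
    have hvW : v ∈ W := Submodule.subset_span (by simp)
    have hNvW : (I * J) v ∈ W := Submodule.subset_span (by simp)
    have hIid : I * L = -(α • (1 : End (ZMod p) V)) + β • (I * J) := by
      simp only [hL, mul_add, mul_smul_comm, hQ.II, smul_neg]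
    have hJid : J * L = -(α • (I * J)) + -(β • (1 : End (ZMod p) V)) := by
      simp only [hL, mul_add, mul_smul_comm, hQ.JJ, hQ.JI, smul_neg]
    have hIv : I v = -(α • v) + β • (I * J) v := by
      nth_rewrite 1 [← hLv]
      rw [← Module.End.mul_apply, hIid]; rfl
    have hJv : J v = -(α • (I * J) v) + -(β • v) := by
      nth_rewrite 1 [← hLv]
      rw [← Module.End.mul_apply, hJid]; rfl
    have hIN : I * (I * J) = -J := by rw [← mul_assoc, hQ.II, neg_one_mul]
    have hJN : J * (I * J) = I := by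
      rw [← mul_assoc, hQ.JI, neg_mul, mul_assoc, hQ.JJ, mul_neg, neg_neg, mul_one]
    have hWI : W ≤ W.comap I := by
      refine Submodule.span_le.2 ?_
      rintro x (rfl | rfl)
      · show I x ∈ W
        rw [hIv]; exact add_mem (neg_mem (W.smul_mem _ hvW)) (W.smul_mem _ hNvW)
      · show I ((I * J) v) ∈ W
        rw [← Module.End.mul_apply, hIN, LinearMap.neg_apply, hJv]
        exact neg_mem (add_mem (neg_mem (W.smul_mem _ hNvW)) (neg_mem (W.smul_mem _ hvW)))
    have hWJ : W ≤ W.comap J := by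
      refine Submodule.span_le.2 ?_
      rintro x (rfl | rfl)
      · show J x ∈ W
        rw [hJv]; exact add_mem (neg_mem (W.smul_mem _ hNvW)) (neg_mem (W.smul_mem _ hvW))
      · show J ((I * J) v) ∈ W
        rw [← Module.End.mul_apply, hJN, hIv]
        exact add_mem (neg_mem (W.smul_mem _ hvW)) (W.smul_mem _ hNvW)
    set ψN : N →* End (ZMod p) V := (toEnd H).comp N.subtype with hψN
    have hspan : ψN.comp e.symm.toMonoidHom = ψ := rfl
    have hSW : orbSpan (ψN : N → End (ZMod p) V) v ≤ W := by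
      refine Submodule.span_le.2 ?_
      rintro _ ⟨g, rfl⟩
      have hstep : ∀ (i : ℕ), ∀ w ∈ W, (ψ (QuaternionGroup.a 1 ^ i)) w ∈ W := by
        intro i
        induction i with
        | zero => intro w hw; rw [pow_zero, map_one]; exact hw
        | succ i ih =>
          intro w hw
          rw [pow_succ', map_mul]
          exact hWI (ih w hw)
      obtain ⟨i, hi | hi⟩ := q8_gen (e g)
      · show ψN g v ∈ W
        rw [← e.symm_apply_apply g, hi]
        exact hstep _ v hvW
      · show ψN g v ∈ W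
        rw [← e.symm_apply_apply g, hi]
        show ψ _ v ∈ W
        rw [map_mul]
        exact hWJ (hstep _ v hvW)
    have hdimW : finrank (ZMod p) W ≤ 2 := by
      classical
      have h := finrank_span_finset_le_card (R := ZMod p) ({v, (I * J) v} : Finset V)
      rw [Finset.coe_insert, Finset.coe_singleton] at h
      exact h.trans Finset.card_le_two
    have htop : orbSpan (ψN : N → End (ZMod p) V) v = ⊤ := by
      by_contra hne
      have hT : (1 - L : End (ZMod p) V) ∈ Submodule.span (ZMod p) (Set.range (ψN : N → End (ZMod p) V)) := by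
        refine sub_mem (Submodule.subset_span ⟨1, map_one ψN⟩) ?_
        exact add_mem (Submodule.smul_mem _ _ (Submodule.subset_span ⟨e.symm (QuaternionGroup.a 1), rfl⟩))
          (Submodule.smul_mem _ _ (Submodule.subset_span ⟨e.symm (QuaternionGroup.xa 0), rfl⟩))
      have h0 := eq_zero_of_proper ψN (hr.evenSpans N) hT
        (by rw [LinearMap.sub_apply, Module.End.one_apply, hLv, sub_self]) hv0 hne
      rw [sub_eq_zero] at h0
      rw [← h0, one_mul, mul_one] at hLN
      have e2 := LinearMap.congr_fun hLN v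
      rw [LinearMap.neg_apply, eq_neg_iff_add_eq_zero, ← two_smul (ZMod p)] at e2
      exact (smul_eq_zero.1 e2).elim hQ.two (hli.ne_zero 1)
    have h1 : finrank (ZMod p) V ≤ 2 := by
      rw [← finrank_top (ZMod p) V, ← htop]
      exact (Submodule.finrank_mono hSW).trans hdimW
    have h2 := hli.fintype_card_le_finrank
    simp at h2
    omega
  · set ψ : SL25 →* End (ZMod p) V := (toEnd H).comp (N.subtype.comp e.symm.toMonoidHom) with hψ
    have hev2 : 2 ∣ Nat.card H := by
      refine (Dvd.dvd.trans ?_ (Subgroup.card_subgroup_dvd_card N))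
      rw [Nat.card_congr e.toEquiv, Cfsg.Agent.Grp.Zas.card_SL25]; norm_num
    obtain ⟨rii, rjj, -, rji, -, -, -, -, -, -, -, -, rmm, rm1⟩ := sl25_rels
    have hQ : Quat (ψ i0) (ψ j0) :=
      quat_of_fpf ψ (hr.two_ne_of_even hev2)
        (fun g hg w hw => hr.fpf (fun h => hg (e.symm.injective (Subtype.ext (by rw [map_one]; exact h)))) hw)
        rii rjj rji rmm rm1
    refine ⟨_, (e.symm i0).2, _, (e.symm j0).2, hQ, ?_⟩
    have hns : ¬ Group.IsSolvable H := fun h => by
      have hNsol : Group.IsSolvable N := inferInstance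
      have hsl : Group.IsSolvable SL25 := Group.isSolvable_of_surjective (f := e.toMonoidHom) e.surjective
      exact not_isSolvable_of_binaryIco binaryIco_SL25 hsl
    have hV := Module.natCard_eq_pow_finrank (K := ZMod p) (V := V)
    rw [Nat.card_zmod] at hV
    have key : ∀ q : ℕ, q.Prime → p ^ finrank (ZMod p) V = q ^ 2 → finrank (ZMod p) V = 2 := by
      intro q hq he
      have hpq : p = q := (Nat.prime_dvd_prime_iff_eq Fact.out hq).1
        ((Fact.out : p.Prime).dvd_of_dvd_pow (he ▸ dvd_pow_self p (finrank_pos (R := ZMod p) (M := V)).ne'))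
      subst hpq
      exact Nat.pow_right_injective hq.two_le he
    rcases Cfsg.Agent.S0689.result H hr hns with ⟨h, -⟩ | ⟨h, -⟩ | ⟨h, -⟩
    · exact key 11 (by norm_num) (by rw [← hV, h]; norm_num)
    · exact key 29 (by norm_num) (by rw [← hV, h]; norm_num)
    · exact key 59 (by norm_num) (by rw [← hV, h]; norm_num)

theorem RegNZ.plane_consequences (hI : NoIrrCyclic H) {A N : Subgroup H} (hA : MaxNormAb A)
    (hN : MinNonAb A N) :
    (∀ W : Submodule (ZMod p) V, (∀ n ∈ N, ∀ v ∈ W, ((n : H) : V ≃ₗ[ZMod p] V) v ∈ W) → W = ⊥ ∨ W = ⊤) ∧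
      Subgroup.centralizer (N : Set H) = A ∧ (∀ a ∈ A, ∃ c : ZMod p, toEnd H a = c • 1) ∧
      finrank (ZMod p) V = 2 := by
  obtain ⟨I, hIN, J, hJN, hQ, h2⟩ := hr.plane_facts hI hA hN
  have := hr.nontrivial_of hI
  obtain ⟨α, β, hab⟩ := ZMod.sq_add_sq p (-1)
  obtain ⟨hirr, hscal⟩ := hQ.plane hab h2
  have hsc : ∀ c ∈ Subgroup.centralizer (N : Set H), ∃ s : ZMod p, toEnd H c = s • 1 := fun c hc => by
    refine hscal _ ?_ ?_
    · rw [← map_mul, ← map_mul, Subgroup.mem_centralizer_iff.1 hc I hIN]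
    · rw [← map_mul, ← map_mul, Subgroup.mem_centralizer_iff.1 hc J hJN]
  have hAle : A ≤ Subgroup.centralizer (N : Set H) := fun a ha =>
    Subgroup.mem_centralizer_iff.2 fun n hn => (Subgroup.mem_centralizer_iff.1 (hN.2.1 hn) a ha).symm
  refine ⟨fun W hW => hirr W fun w hw => ⟨hW I hIN w hw, hW J hJN w hw⟩, ?_,
    fun a ha => hsc a (hAle ha), h2⟩
  have := hN.1
  refine hA.2.2 _ inferInstance ⟨⟨fun a b => ?_⟩⟩ hAle
  obtain ⟨v, hv⟩ := exists_ne (0 : V)
  obtain ⟨s, hs⟩ := hsc a a.2
  obtain ⟨t, ht⟩ := hsc b b.2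
  refine Subtype.ext (hr.inj_at hv ?_)
  rw [Subgroup.coe_mul, Subgroup.coe_mul, map_mul, map_mul, hs, ht, smul_mul_smul_comm,
    smul_mul_smul_comm, mul_comm s t]

omit hr

/-- An automorphism of order three of the quaternion group. -/
def q8Rot : QuaternionGroup 2 → QuaternionGroup 2
  | .a i => match (i : Fin 4).val with
    | 0 => .a 0
    | 1 => .xa 0
    | 2 => .a 2
    | _ => .xa 2
  | .xa i => match (i : Fin 4).val with
    | 0 => .xa 3
    | 1 => .a 3
    | 2 => .xa 1
    | _ => .a 1

theorem q8Rot_props : (∀ x y, q8Rot (x * y) = q8Rot x * q8Rot y) ∧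
    (∀ x, q8Rot (q8Rot (q8Rot x)) = x) ∧ q8Rot (.a 1) ≠ .a 1 := by decide

theorem q8_aut_card_dvd : Nat.card (MulAut (QuaternionGroup 2)) ∣ 24 := by
  have : Finite (MulAut (QuaternionGroup 2)) := inferInstance
  let σ : MulAut (QuaternionGroup 2) :=
    { toFun := q8Rot
      invFun := fun x => q8Rot (q8Rot x)
      left_inv := q8Rot_props.2.1
      right_inv := q8Rot_props.2.1
      map_mul' := q8Rot_props.1 }
  have h3 : 3 ∣ Nat.card (MulAut (QuaternionGroup 2)) := by
    have hs : σ ^ 3 = 1 := MulEquiv.ext fun x => q8Rot_props.2.1 x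
    have ho : orderOf σ = 3 := by
      rcases (Nat.dvd_prime Nat.prime_three).1 (orderOf_dvd_of_pow_eq_one hs) with h | h
      · exact absurd (DFunLike.congr_fun (orderOf_eq_one_iff.1 h) (QuaternionGroup.a 1)) q8Rot_props.2.2
      · exact h
    exact ho ▸ orderOf_dvd_natCard σ
  have h4 : 4 ∣ Nat.card (MulAut (QuaternionGroup 2)) :=
    Cfsg.Agent.Grp.Zas.q8_inner ▸ Subgroup.card_subgroup_dvd_card _
  have h12 : 12 ∣ Nat.card (MulAut (QuaternionGroup 2)) := Nat.Coprime.mul_dvd_of_dvd_of_dvd (by norm_num) h3 h4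
  have hle := Cfsg.Agent.Grp.Zas.q8_aut_card_le
  have hpos : 0 < Nat.card (MulAut (QuaternionGroup 2)) := Nat.card_pos
  obtain ⟨c, hc⟩ := h12
  have hle' : Nat.card (MulAut (QuaternionGroup 2)) ≤ 24 := hle
  rw [hc] at hle' hpos ⊢
  obtain rfl | rfl : c = 1 ∨ c = 2 := by omega
  all_goals norm_num

end Exceptional

end Cfsg.Agent.Block.SharpTwo
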