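import Mathlib

/-! Transitive permutation groups of prime degree: Sylow subgroup and its normaliser. -/

namespace Cfsg.Agent.Block

variable {α : Type*} [Fintype α] [DecidableEq α] {p : ℕ} [Fact p.Prime]

theorem primeDeg_dvd_card (hα : Fintype.card α = p) (G : Subgroup (Equiv.Perm α))
    [MulAction.IsPretransitive G α] : p ∣ Nat.card G := by
  have hp : p.Prime := Fact.out
  obtain ⟨a⟩ : Nonempty α := Fintype.card_pos_iff.1 (hα ▸ hp.pos)
  have := (MulAction.index_stabilizer_of_transitive G a).symm
  rw [Nat.card_eq_fintype_card, hα] at this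
  rw [this]
  exact Subgroup.index_dvd_card _

theorem primeDeg_not_sq_dvd (hα : Fintype.card α = p) (G : Subgroup (Equiv.Perm α)) :
    ¬ p ^ 2 ∣ Nat.card G := by
  have hp : p.Prime := Fact.out
  intro h
  have h2 : p ^ 2 ∣ p.factorial := by
    refine h.trans ?_
    rw [← hα, ← Fintype.card_perm, ← Nat.card_eq_fintype_card]
    exact G.card_subgroup_dvd_card
  rw [← Nat.mul_factorial_pred hp.ne_zero, sq] at h2
  have := (hp.dvd_factorial).1 (Nat.dvd_of_mul_dvd_mul_left hp.pos h2)
  have := hp.two_le
  omega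

theorem primeDeg_card_sylow (hα : Fintype.card α = p) (G : Subgroup (Equiv.Perm α))
    [MulAction.IsPretransitive G α] (P : Sylow p G) : Nat.card (P : Subgroup G) = p := by
  have hp : p.Prime := Fact.out
  obtain ⟨i, hi⟩ := IsPGroup.iff_card.1 P.isPGroup'
  have h1 : i ≤ 1 := by
    by_contra h
    exact primeDeg_not_sq_dvd hα G
      ((pow_dvd_pow p (by omega : 2 ≤ i)).trans (hi ▸ (P : Subgroup G).card_subgroup_dvd_card))
  have h2 := P.dvd_card_of_dvd_card (primeDeg_dvd_card hα G)
  rw [hi] at h2 ⊢
  rcases Nat.le_one_iff_eq_zero_or_eq_one.1 h1 with h | h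
  · rw [h, pow_zero] at h2
    exact absurd (Nat.eq_one_of_dvd_one h2) hp.ne_one
  · rw [h, pow_one]

theorem primeDeg_pretransitive_of_dvd (hα : Fintype.card α = p) (G : Subgroup (Equiv.Perm α))
    (H : Subgroup G) (hH : p ∣ Nat.card H) : MulAction.IsPretransitive H α := by
  have hp : p.Prime := Fact.out
  have := Fintype.ofFinite H
  rw [Nat.card_eq_fintype_card] at hH
  obtain ⟨x, hx⟩ := exists_prime_orderOf_dvd_card p hH
  have hx' : orderOf ((x : G) : Equiv.Perm α) = p := by rw [Subgroup.orderOf_coe, Subgroup.orderOf_coe, hx]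
  have hcyc : ((x : G) : Equiv.Perm α).IsCycle :=
    Equiv.Perm.isCycle_of_prime_order' (by rw [hx']; exact hp) (by rw [hx', hα]; have := hp.pos; omega)
  have hsupp : ((x : G) : Equiv.Perm α).support = Finset.univ := by
    apply Finset.eq_univ_of_card
    rw [← hcyc.orderOf, hx', hα]
  constructor
  intro a b
  have ha : ((x : G) : Equiv.Perm α) a ≠ a := Equiv.Perm.mem_support.1 (hsupp ▸ Finset.mem_univ a)
  have hb : ((x : G) : Equiv.Perm α) b ≠ b := Equiv.Perm.mem_support.1 (hsupp ▸ Finset.mem_univ b)
  obtain ⟨i, hi⟩ := hcyc.exists_pow_eq ha hb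
  exact ⟨x ^ i, by simpa [Subgroup.smul_def] using hi⟩

/-- In prime degree a Sylow subgroup is self-centralising. -/
theorem primeDeg_centralizer (hα : Fintype.card α = p) (G : Subgroup (Equiv.Perm α))
    [MulAction.IsPretransitive G α] (P : Sylow p G) :
    Subgroup.centralizer ((P : Subgroup G) : Set G) = (P : Subgroup G) := by
  have hp : p.Prime := Fact.out
  have hc := primeDeg_card_sylow hα G P
  have : IsCyclic (P : Subgroup G) := isCyclic_of_prime_card hc
  have hle : (P : Subgroup G) ≤ Subgroup.centralizer ((P : Subgroup G) : Set G) := by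
    intro x hx y hy
    let _ := IsCyclic.commGroup (α := (P : Subgroup G))
    exact congrArg Subtype.val (mul_comm (⟨y, hy⟩ : (P : Subgroup G)) ⟨x, hx⟩)
  have := primeDeg_pretransitive_of_dvd hα G (P : Subgroup G) (by rw [hc])
  obtain ⟨a⟩ : Nonempty α := Fintype.card_pos_iff.1 (hα ▸ hp.pos)
  refine (Subgroup.eq_of_le_of_card_ge hle ?_).symm
  rw [hc]
  have hinj : Function.Injective
      (fun c : Subgroup.centralizer ((P : Subgroup G) : Set G) => ((c : G) : Equiv.Perm α) a) := by
    intro c d hcd
    simp only at hcd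
    apply Subtype.ext; apply Subtype.ext; ext b
    obtain ⟨u, rfl⟩ := MulAction.exists_smul_eq (P : Subgroup G) a b
    have h1 := DFunLike.congr_fun (congrArg Subtype.val (c.2 (u : G) u.2)) a
    have h2 := DFunLike.congr_fun (congrArg Subtype.val (d.2 (u : G) u.2)) a
    simp only [Subgroup.coe_mul, Equiv.Perm.coe_mul, Function.comp_apply] at h1 h2
    simp only [Subgroup.smul_def, Equiv.Perm.smul_def]
    rw [← h1, ← h2, hcd]
  have := Nat.card_le_card_of_injective _ hinj
  rwa [Nat.card_eq_fintype_card (α := α), hα] at this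

theorem primeDeg_card_normalizer_dvd (hα : Fintype.card α = p) (G : Subgroup (Equiv.Perm α))
    [MulAction.IsPretransitive G α] (P : Sylow p G) :
    Nat.card (Subgroup.normalizer ((P : Subgroup G) : Set G)) ∣ p * (p - 1) := by
  have hp : p.Prime := Fact.out
  have hc := primeDeg_card_sylow hα G P
  have : IsCyclic (P : Subgroup G) := isCyclic_of_prime_card hc
  let φ : Subgroup.normalizer ((P : Subgroup G) : Set G) →* MulAut (P : Subgroup G) :=
    (P : Subgroup G).normalizerMonoidHom
  rw [← φ.ker.card_mul_index]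
  apply Nat.mul_dvd_mul
  · rw [show φ.ker = _ from Subgroup.normalizerMonoidHom_ker _,
      Nat.card_congr (Subgroup.subgroupOfEquivOfLe
        (Subgroup.centralizer_le_normalizer ((P : Subgroup G) : Set G))).toEquiv,
      primeDeg_centralizer hα G P, hc]
  · rw [Subgroup.index_ker]
    refine (Subgroup.card_subgroup_dvd_card _).trans ?_
    rw [IsCyclic.card_mulAut (P : Subgroup G), hc, Nat.totient_prime hp]

end Cfsg.Agent.Block
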