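import Mathlib
import Cfsg.Agent.Lib.Transfer.JordanPrimeCycle
import Cfsg.Agent.Lib.Block.PrimeDegree

/-!
# Permutations of eleven points
-/

set_option autoImplicit false

namespace Cfsg.Agent.Block.DegEleven

open Equiv Equiv.Perm

variable {α : Type*} [Fintype α] [DecidableEq α]

/-- An invariant set is congruent to its fixed part modulo the prime order. -/
theorem inv_mod {p : ℕ} [Fact p.Prime] (g : Perm α) (hg : g ^ p = 1) (S : Finset α)
    (hS : ∀ x, g x ∈ S ↔ x ∈ S) : S.card % p = (S.filter fun x => g x = x).card % p := by
  let σ : Perm S := g.subtypePerm hS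
  have hσ : σ ^ p ^ 1 = 1 := by
    rw [pow_one, subtypePerm_pow]
    ext x
    simp [hg]
  let c : Perm S →* Function.End S := { toFun := fun τ => ⇑τ, map_one' := rfl, map_mul' := fun _ _ => rfl }
  have h := card_fixedPoints_modEq (p := p) (n := 1) (f := c σ) (by rw [← map_pow, hσ, map_one])
  rw [Fintype.card_coe] at h
  refine h.trans ?_
  rw [← Fintype.card_coe (S.filter fun x => g x = x)]
  congr 1
  exact Fintype.card_congr
      { toFun := fun x => ⟨x.1.1, Finset.mem_filter.2 ⟨x.1.2, congrArg Subtype.val x.2⟩⟩
        invFun := fun x => ⟨⟨x.1, (Finset.mem_filter.1 x.2).1⟩, Subtype.ext (Finset.mem_filter.1 x.2).2⟩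
        left_inv := fun _ => rfl
        right_inv := fun _ => rfl }

/-- An involution consists of transpositions. -/
theorem invol_type (x : Perm α) (h2 : x ^ 2 = 1) (h1 : x ≠ 1) :
    ∃ k, 1 ≤ k ∧ x.cycleType = Multiset.replicate k 2 ∧ x.support.card = 2 * k ∧
      sign x = (-1) ^ k := by
  have ho : orderOf x = 2 := orderOf_eq_prime h2 h1
  obtain ⟨n, hn⟩ := cycleType_prime_order (σ := x) (ho ▸ Nat.prime_two)
  rw [ho] at hn
  refine ⟨n + 1, by omega, hn, ?_, ?_⟩
  · rw [← sum_cycleType, hn, Multiset.sum_replicate, smul_eq_mul, mul_comm]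
  · rw [sign_of_cycleType, hn, Multiset.sum_replicate, Multiset.card_replicate, smul_eq_mul,
      pow_add, pow_mul, mul_comm]
    simp

theorem card_fixed (x : Perm α) :
    (Finset.univ.filter fun a => x a = a).card + x.support.card = Fintype.card α := by
  rw [Equiv.Perm.support, Finset.card_filter_add_card_filter_not, Finset.card_univ]

/-- The commutator of two double transpositions whose supports meet in one point. -/
theorem threeCycle_of_meet (t s : Perm α) (ht : t * t = 1) (hs : s * s = 1) (a : α)
    (hts : t.support ∩ s.support = {a}) : (t * s * t * s).IsThreeCycle := by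
  have htt : ∀ x, t (t x) = x := fun x => by rw [← Perm.mul_apply, ht, Perm.one_apply]
  have hss : ∀ x, s (s x) = x := fun x => by rw [← Perm.mul_apply, hs, Perm.one_apply]
  have hmeet : ∀ x, t x ≠ x → s x ≠ x → x = a := fun x h1 h2 => by
    have : x ∈ t.support ∩ s.support := Finset.mem_inter.2 ⟨mem_support.2 h1, mem_support.2 h2⟩
    rw [hts] at this
    exact Finset.mem_singleton.1 this
  have ha : t a ≠ a ∧ s a ≠ a := by
    have : a ∈ t.support ∩ s.support := by rw [hts]; exact Finset.mem_singleton_self a
    exact ⟨mem_support.1 (Finset.mem_inter.1 this).1, mem_support.1 (Finset.mem_inter.1 this).2⟩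
  set w := t * s * t * s with hw
  have hwx : ∀ x, w x = t (s (t (s x))) := fun _ => rfl
  have hout : ∀ x, x ≠ a → x ≠ t a → x ≠ s a → w x = x := by
    intro x hxa hxt hxs
    rw [hwx]
    by_cases hx : s x = x
    · rw [hx]
      by_cases hy : t x = x
      · rw [hy, hx, hy]
      · have hsy : s (t x) = t x := by
          by_contra h
          have := hmeet (t x) (by rw [htt]; exact Ne.symm hy) h
          exact hxt (by rw [← this, htt])
        rw [hsy, htt]
    · have hty : t (s x) = s x := by
        by_contra h
        have := hmeet (s x) h (by rw [hss]; exact Ne.symm hx)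
        exact hxs (by rw [← this, hss])
      rw [hty, hss]
      by_contra h
      exact hxa (hmeet x h hx)
  have hsub : w.support ⊆ {a, t a, s a} := by
    intro x hx
    rw [mem_support] at hx
    simp only [Finset.mem_insert, Finset.mem_singleton]
    by_contra h
    push Not at h
    exact hx (hout x h.1 h.2.1 h.2.2)
  have hsta : s (t a) = t a := by
    by_contra h
    exact ha.1 (hmeet (t a) (by rw [htt]; exact Ne.symm ha.1) h)
  have hne : w ≠ 1 := by
    intro h
    have h1 : w (s a) = a := by rw [hwx, hss, hsta, htt]
    rw [h] at h1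
    exact ha.2 h1
  have hle : w.support.card ≤ 3 := (Finset.card_le_card hsub).trans Finset.card_le_three
  have h2 := two_le_card_support_of_ne_one hne
  rcases (show w.support.card = 2 ∨ w.support.card = 3 by omega) with h | h
  · have := (card_support_eq_two.1 h).sign_eq
    rw [hw, map_mul, map_mul, map_mul] at this
    rcases Int.units_eq_one_or (sign t) with e | e <;> rcases Int.units_eq_one_or (sign s) with f | f <;>
      simp [e, f] at this
  · exact card_support_eq_three_iff.1 h

end Cfsg.Agent.Block.DegEleven
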