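import Cfsg.Agent.Lib.Block.DegreeElevenMain

/-!
# Groups of degree eleven: simplicity and odd permutations
-/

set_option autoImplicit false

namespace Cfsg.Agent.Block.DegEleven

open Equiv Equiv.Perm

variable {α : Type*} [Fintype α] [DecidableEq α] (hα : Fintype.card α = 11)

include hα

theorem transitive_of_dvd (K : Subgroup (Perm α)) (h : 11 ∣ Nat.card K) :
    MulAction.IsPretransitive K α := by
  haveI : Fact (Nat.Prime 11) := ⟨by norm_num⟩
  have h' := primeDeg_pretransitive_of_dvd hα K (⊤ : Subgroup K) (by rwa [Subgroup.card_top])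
  constructor
  intro a b
  obtain ⟨g, hg⟩ := h'.exists_smul_eq a b
  exact ⟨(g : K), hg⟩

theorem simple_of_660 (M : Subgroup (Perm α)) [MulAction.IsPretransitive M α]
    (hcard : Nat.card M = 660) [Fact (Nat.Prime 11)] (hn : Nat.card (Sylow 11 M) = 12)
    (heven : ∀ g ∈ M, sign g = 1) : IsSimpleGroup M := by
  haveI : Nontrivial M := Finite.one_lt_card_iff_nontrivial.mp (by omega)
  haveI := isPreprimitive hα M
  refine { eq_bot_or_eq_top_of_normal := fun N hN => ?_ }
  by_contra hc
  push Not at hc
  haveI := hN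
  haveI htr : MulAction.IsPretransitive N α := by
    refine MulAction.IsQuasiPreprimitive.isPretransitive_of_normal fun hfp => hc.1 ?_
    rw [Subgroup.eq_bot_iff_forall]
    intro x hx
    refine Subtype.ext ?_
    ext b
    exact (hfp ▸ Set.mem_univ b : b ∈ MulAction.fixedPoints N α) ⟨x, hx⟩
  set K := N.map M.subtype with hKdef
  have hK : Nat.card K = Nat.card N := Subgroup.card_map_of_injective (Subgroup.subtype_injective _)
  haveI : MulAction.IsPretransitive K α := by
    constructor
    intro x y
    obtain ⟨k, hk⟩ := htr.exists_smul_eq x y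
    exact ⟨⟨_, Subgroup.mem_map_of_mem _ k.2⟩, hk⟩
  obtain ⟨P⟩ : Nonempty (Sylow 11 K) := inferInstance
  obtain ⟨e, he10, heN, heK, hmod⟩ := sylow11 hα K P
  set n := Nat.card (Sylow 11 K) with hndef
  have h660 : Nat.card K ∣ 660 := hcard ▸ hK ▸ N.card_subgroup_dvd_card
  have hlt : Nat.card K ≠ 660 := fun h => hc.2 (Subgroup.eq_top_of_card_eq N (by rw [← hK, h, hcard]))
  rw [heK] at h660
  have hd : e * n ∣ 60 :=
    Nat.dvd_of_mul_dvd_mul_left (by norm_num : 0 < 11) (by rw [← mul_assoc]; exact h660)
  have hn60 : n ∣ 60 := (dvd_mul_left n e).trans hd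
  have hnle := Nat.le_of_dvd (by norm_num) hn60
  have hcases : n = 1 ∨ n = 12 := by
    interval_cases n <;> omega
  rcases hcases with h1 | h12
  · -- a normal subgroup of order eleven
    haveI : Subsingleton (Sylow 11 K) := (Nat.card_eq_one_iff_unique.mp h1).1
    have hP := primeDeg_card_sylow hα K P
    have hall : ∀ k : K, k ^ 11 = 1 → k ∈ (P : Subgroup K) := by
      intro k hk
      have hp : IsPGroup 11 (Subgroup.zpowers k) := fun x => ⟨1, by
        obtain ⟨j, hj⟩ := x.2
        refine Subtype.ext ?_
        rw [pow_one, Subgroup.coe_pow, Subgroup.coe_one, ← hj, ← zpow_natCast, ← zpow_mul, mul_comm,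
          zpow_mul, zpow_natCast, hk, one_zpow]⟩
      obtain ⟨R, hR⟩ := hp.exists_le_sylow
      rw [Subsingleton.elim R P] at hR
      exact hR (Subgroup.mem_zpowers k)
    set Q₀ := (P : Subgroup K).map K.subtype
    have hQ₀ : Nat.card Q₀ = 11 := by
      rw [Subgroup.card_map_of_injective (Subgroup.subtype_injective _), hP]
    have hKM : K ≤ M := Subgroup.map_subtype_le N
    obtain ⟨R⟩ : Nonempty (Sylow 11 M) := inferInstance
    let Q' : Sylow 11 M := Sylow.ofCard (Q₀.subgroupOf M) (by
      rw [Nat.card_congr (Subgroup.subgroupOfEquivOfLe ((Subgroup.map_subtype_le _).trans hKM)).toEquiv, hQ₀]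
      exact (primeDeg_card_sylow hα M R).symm.trans R.card_eq_multiplicity)
    haveI hQn : (Q' : Subgroup M).Normal := ⟨fun q hq g => by
      obtain ⟨k, hk, hkq⟩ := Subgroup.mem_subgroupOf.mp hq
      have hkN : ∃ m ∈ N, (m : Perm α) = (k : Perm α) := k.2
      obtain ⟨m, hm, hmk⟩ := hkN
      have hmq : m = q := Subtype.ext (hmk.trans hkq)
      have hgK : ((g * q * g⁻¹ : M) : Perm α) ∈ K :=
        Subgroup.mem_map_of_mem _ (hN.conj_mem q (hmq ▸ hm) g)
      refine Subgroup.mem_subgroupOf.mpr ⟨⟨_, hgK⟩, hall _ ?_, rfl⟩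
      have hk11 : ((k : Perm α)) ^ 11 = 1 := by
        have := congrArg (fun z : (P : Subgroup K) => ((z : K) : Perm α))
          (hP ▸ pow_card_eq_one' (x := (⟨k, hk⟩ : (P : Subgroup K))))
        simpa using this
      refine Subtype.ext ?_
      rw [Subgroup.coe_pow, Subgroup.coe_one]
      show (((g * q * g⁻¹ : M) : Perm α)) ^ 11 = 1
      rw [Subgroup.coe_mul, Subgroup.coe_mul, Subgroup.coe_inv, conj_pow]
      rw [show (q : Perm α) = k from hkq.symm, hk11, mul_one, mul_inv_cancel]⟩
    haveI := Sylow.unique_of_normal Q' hQn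
    rw [Nat.card_eq_one_iff_unique.mpr ⟨inferInstance, ⟨Q'⟩⟩] at hn
    norm_num at hn
  · rw [h12] at hd
    have hev : ¬ 2 ∣ e := by
      intro h
      haveI : Fact (Nat.Prime 2) := ⟨Nat.prime_two⟩
      obtain ⟨x, hx⟩ := exists_prime_orderOf_dvd_card'
        (G := Subgroup.normalizer ((P : Subgroup K) : Set K)) 2 (heN ▸ h.mul_left 11)
      have h1 := norm_inv_odd hα K P (x : K) x.2 (by rw [← Subgroup.coe_pow, ← hx, pow_orderOf_eq_one]; rfl)
        (fun h => by rw [← Subgroup.orderOf_coe, h, orderOf_one] at hx; norm_num at hx)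
      rw [heven _ (Subgroup.map_subtype_le N (x : K).2)] at h1
      norm_num at h1
    have he5 : e ∣ 5 := Nat.dvd_of_mul_dvd_mul_left (by norm_num : 0 < 12) (by rw [mul_comm]; exact hd)
    rcases (Nat.dvd_prime (by norm_num : Nat.Prime 5)).1 he5 with rfl | rfl
    · exact kill hα K (m := n) (by omega) (by rw [heK, mul_one]) rfl
    · exact hlt (by rw [heK, h12])

set_option maxHeartbeats 1600000 in
/-- The group cannot contain odd permutations. -/
theorem no_odd (G : Subgroup (Perm α)) [MulAction.IsPretransitive G α] (hG : ¬ Group.IsSolvable G)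
    (hA : ¬ alternatingGroup α ≤ G) : ∀ g ∈ G, sign g = 1 := by
  classical
  haveI : Fact (Nat.Prime 11) := ⟨by norm_num⟩
  by_contra hodd
  push Not at hodd
  obtain ⟨g₀, hg₀, hs₀⟩ := hodd
  have hs₀' : sign g₀ = -1 := (Int.units_eq_one_or _).resolve_left hs₀
  let φ : G →* ℤˣ := sign.comp G.subtype
  have hcard : 2 * Nat.card φ.ker = Nat.card G := by
    have htop : φ.range = ⊤ := by
      rw [eq_top_iff]
      intro u _
      rcases Int.units_eq_one_or u with rfl | rfl
      exacts [one_mem _, ⟨⟨g₀, hg₀⟩, hs₀'⟩]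
    rw [← φ.ker.card_mul_index, Subgroup.index_ker, htop, Subgroup.card_top, Nat.card_eq_fintype_card (α := ℤˣ),
      Fintype.card_units_int, mul_comm]
  set M := G ⊓ alternatingGroup α with hM
  have hker : φ.ker = M.subgroupOf G := by
    ext g
    simp only [MonoidHom.mem_ker, hM, Subgroup.mem_subgroupOf, Subgroup.mem_inf, mem_alternatingGroup, g.2,
      true_and, φ]
    rfl
  have hMG : M ≤ G := inf_le_left
  rw [hker, Nat.card_congr (Subgroup.subgroupOfEquivOfLe hMG).toEquiv] at hcard
  have heven : ∀ g ∈ M, sign g = 1 := fun g hg => mem_alternatingGroup.1 (Subgroup.mem_inf.1 hg).2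
  haveI : MulAction.IsPretransitive M α := transitive_of_dvd hα M (by
    have h := primeDeg_dvd_card hα G
    rw [← hcard] at h
    exact (Nat.Prime.dvd_mul (by norm_num)).1 h |>.resolve_left (by norm_num))
  have hMns : ¬ Group.IsSolvable M := fun h => hG (by
    haveI := h
    haveI : Group.IsSolvable φ.ker := solvable_of_solvable_injective
      (f := ((Subgroup.subgroupOfEquivOfLe hMG).toMonoidHom.comp (MulEquiv.subgroupCongr hker).toMonoidHom))
      ((Subgroup.subgroupOfEquivOfLe hMG).injective.comp (MulEquiv.subgroupCongr hker).injective)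
    haveI : Group.IsSolvable ℤˣ := isSolvable_of_comm (fun a b => mul_comm a b)
    exact solvable_of_ker_le_range φ.ker.subtype φ (by rw [Subgroup.range_subtype]))
  have hMA : ¬ alternatingGroup α ≤ M := fun h => hA (h.trans hMG)
  have h2 := twoTrans hα M hMns
  have h2G := twoTrans hα G hG
  rcases orders hα M hMA heven hMns with ⟨h660, -⟩ | ⟨h7920, hz⟩
  · obtain ⟨P⟩ : Nonempty (Sylow 11 G) := inferInstance
    obtain ⟨e, he10, heN, heG, hmod⟩ := sylow11 hα G P
    rw [← hcard, h660] at heG
    have hn1 : Nat.card (Sylow 11 G) ≠ 1 := fun h => hG (solvable_of_one hα G h)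
    have hen : e * Nat.card (Sylow 11 G) = 120 :=
      Nat.eq_of_mul_eq_mul_left (by norm_num : 0 < 11) (by rw [← mul_assoc, ← heG])
    have he : e = 10 := by
      have hele := Nat.le_of_dvd (by norm_num) he10
      interval_cases e <;> omega
    subst he
    set N := Subgroup.normalizer ((P : Subgroup G) : Set G)
    have hP := primeDeg_card_sylow hα G P
    haveI : IsCyclic (P : Subgroup G) := isCyclic_of_prime_card hP
    let ψ : N →* MulAut (P : Subgroup G) := (P : Subgroup G).normalizerMonoidHom
    have hkerψ : Nat.card ψ.ker = 11 := by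
      rw [show ψ.ker = _ from Subgroup.normalizerMonoidHom_ker _,
        Nat.card_congr (Subgroup.subgroupOfEquivOfLe
          (Subgroup.centralizer_le_normalizer ((P : Subgroup G) : Set G))).toEquiv,
        primeDeg_centralizer hα G P, hP]
    have haut : Nat.card (MulAut (P : Subgroup G)) = 10 := by
      rw [IsCyclic.card_mulAut (P : Subgroup G), hP, Nat.totient_prime (by norm_num)]
    have hrange : ψ.range = ⊤ := Subgroup.eq_top_of_card_eq _ (by
      have h := ψ.ker.card_mul_index
      rw [hkerψ, Subgroup.index_ker, heN] at h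
      omega)
    haveI hcyc : IsCyclic (MulAut (P : Subgroup G)) := by
      have : IsCyclic (ZMod (Nat.card (P : Subgroup G)))ˣ := by
        rw [hP]; infer_instance
      exact isCyclic_of_surjective (IsCyclic.mulAutMulEquiv (P : Subgroup G)).symm.toMonoidHom
        (IsCyclic.mulAutMulEquiv (P : Subgroup G)).symm.surjective
    obtain ⟨a, ha⟩ := IsCyclic.exists_ofOrder_eq_natCard (α := MulAut (P : Subgroup G))
    rw [haut] at ha
    obtain ⟨x, rfl⟩ : a ∈ ψ.range := hrange ▸ Subgroup.mem_top a
    have hd : 10 ∣ orderOf x := ha ▸ orderOf_map_dvd ψ x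
    set y : N := x ^ (orderOf x / 10)
    have hy : orderOf y = 10 := orderOf_pow_orderOf_div (orderOf_pos x).ne' hd
    set g : Perm α := ((y : G) : Perm α) ^ 2 with hgdef
    set t : Perm α := ((y : G) : Perm α) ^ 5 with htdef
    have hyo : orderOf ((y : G) : Perm α) = 10 := by rw [Subgroup.orderOf_coe, Subgroup.orderOf_coe, hy]
    have hg5 : orderOf g = 5 := by
      rw [hgdef, orderOf_pow' _ (by norm_num), hyo]; norm_num
    have ht2 : t ^ 2 = 1 := by
      rw [htdef, ← pow_mul, show 5 * 2 = 10 from rfl, ← hyo, pow_orderOf_eq_one]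
    have ht1 : t ≠ 1 := fun h => by
      have := Nat.le_of_dvd (by norm_num) (orderOf_dvd_of_pow_eq_one h)
      omega
    have htG : t ∈ G := G.pow_mem (y : G).2 5
    have hgG : g ∈ G := G.pow_mem (y : G).2 2
    have htodd : sign t = -1 := by
      have := norm_inv_odd hα G P ((y : G) ^ 5) (pow_mem y.2 5)
        (Subtype.ext (by rw [Subgroup.coe_pow, Subgroup.coe_pow]; exact ht2))
        (fun h => ht1 (by
          have := congrArg (fun z : G => (z : Perm α)) h
          simpa [htdef] using this))
      rwa [Subgroup.coe_pow] at this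
    have hgeven : sign g = 1 := by rw [hgdef, map_pow, Int.units_sq]
    have hgM : g ∈ M := Subgroup.mem_inf.2 ⟨hgG, mem_alternatingGroup.2 hgeven⟩
    have hgt : t * g = g * t := by rw [hgdef, htdef, ← pow_add, ← pow_add]
    obtain ⟨-, w, hgw, huniq⟩ := five_type hα G hA hgG hg5
    have htw : t w = w := huniq _ (by rw [← Perm.mul_apply, ← hgt, Perm.mul_apply, hgw])
    obtain ⟨k, hk, -, hts, htsign⟩ := invol_type t ht2 ht1
    haveI : Fact (Nat.Prime 5) := ⟨by norm_num⟩
    have hmod5 := inv_mod (p := 5) g (hg5 ▸ pow_orderOf_eq_one g) t.support fun z => by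
      rw [mem_support, mem_support, ← Perm.mul_apply, hgt, Perm.mul_apply, g.injective.ne_iff]
    rw [show (t.support.filter fun z => g z = z) = ∅ from Finset.filter_eq_empty_iff.2 fun z hz hzg =>
      mem_support.1 hz (by rw [huniq z hzg, htw]), hts] at hmod5
    simp only [Finset.card_empty, Nat.zero_mod] at hmod5
    have hkle := t.support.card_le_univ
    rw [hα, hts] at hkle
    have htfix : ∀ b, t b = b → b = w := by
      have hc := card_fixed t
      rw [hts, hα, show k = 5 by omega] at hc
      intro b hb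
      exact Finset.card_le_one.1 (show (Finset.univ.filter fun a => t a = a).card ≤ 1 by omega) b
        (Finset.mem_filter.2 ⟨Finset.mem_univ _, hb⟩) w (Finset.mem_filter.2 ⟨Finset.mem_univ _, htw⟩)
    -- the point stabiliser acts on its six Sylow five-subgroups
    set H := G ⊓ MulAction.stabilizer (Perm α) w with hH
    have hmemH : ∀ h, h ∈ H ↔ h ∈ G ∧ h w = w := fun h => Iff.rfl
    have hHcard : Nat.card H = 120 := by
      have h : Nat.card G = Nat.card (MulAction.orbit G w) * Nat.card H := orbit_count G w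
      rw [← hcard, h660, show MulAction.orbit G w = Set.univ from MulAction.orbit_eq_univ G w,
        Nat.card_univ, Nat.card_eq_fintype_card, hα] at h
      omega
    let g' : H := ⟨g, (hmemH g).2 ⟨hgG, hgw⟩⟩
    let t' : H := ⟨t, (hmemH t).2 ⟨htG, htw⟩⟩
    have hg'5 : orderOf g' = 5 := by rw [← Subgroup.orderOf_coe]; exact hg5
    let Q : Sylow 5 H := Sylow.ofCard (Subgroup.zpowers g') (by
      rw [Nat.card_zpowers, hg'5, hHcard, show (120 : ℕ) = 5 ^ 1 * 24 from rfl,
        Nat.factorization_mul (by norm_num) (by norm_num), Finsupp.add_apply,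
        Nat.factorization_pow_self (by norm_num), Nat.factorization_eq_zero_of_not_dvd (by norm_num)]
      rfl)
    have hQc : ∀ R : Sylow 5 H, Nat.card (R : Subgroup H) = 5 := fun R => by
      rw [R.card_eq_multiplicity, ← Q.card_eq_multiplicity]
      show Nat.card (Subgroup.zpowers g') = 5
      rw [Nat.card_zpowers, hg'5]
    have hcommg : ∀ u : H, (u : Perm α) * g = g * (u : Perm α) → sign (u : Perm α) = -1 →
        (u : Perm α) ^ 2 = 1 → (u : Perm α) = t := by
      intro u hu hsu hu2
      have hutM : (u : Perm α) * t ∈ M := Subgroup.mem_inf.2 ⟨G.mul_mem ((hmemH _).1 u.2).1 htG,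
        mem_alternatingGroup.2 (by rw [map_mul, hsu, htodd]; rfl)⟩
      obtain ⟨j, hj⟩ := Subgroup.mem_zpowers_iff.1 (five_centralizer hα M hMA heven hgM hg5 hutM
        (by rw [mul_assoc, hgt, ← mul_assoc, hu, mul_assoc]))
      have htt : t * t = 1 := by rw [← sq]; exact ht2
      have hueq : (u : Perm α) = g ^ j * t := by rw [hj, mul_assoc, htt, mul_one]
      have hc : Commute (g ^ j) t := (show Commute g t from hgt.symm).zpow_left j
      have hj2 : g ^ (j * 2) = 1 := by
        rw [zpow_mul, show (2 : ℤ) = ((2 : ℕ) : ℤ) from rfl, zpow_natCast]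
        have := hu2
        rwa [hueq, hc.mul_pow, ht2, mul_one] at this
      have hdvd := orderOf_dvd_iff_zpow_eq_one.2 hj2
      rw [hg5] at hdvd
      have : g ^ j = 1 := orderOf_dvd_iff_zpow_eq_one.1 (by rw [hg5]; push_cast at hdvd ⊢; omega)
      rw [hueq, this, one_mul]
    have hn5 : Nat.card (Sylow 5 H) = 6 := by
      have hdvd : Nat.card (Sylow 5 H) ∣ 24 := by
        have h := Q.card_dvd_index
        have hi : (Q : Subgroup H).index = 24 := by
          have := (Q : Subgroup H).index_mul_card
          rw [hQc Q, hHcard] at this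
          omega
        rwa [hi] at h
      have hm := card_sylow_modEq_one 5 H
      unfold Nat.ModEq at hm
      have hle := Nat.le_of_dvd (by norm_num) hdvd
      have hne : Nat.card (Sylow 5 H) ≠ 1 := by
        intro h1
        haveI : Subsingleton (Sylow 5 H) := (Nat.card_eq_one_iff_unique.mp h1).1
        haveI hn := Q.normal_of_subsingleton
        let χ : H →* MulAut (Q : Subgroup H) := MulAut.conjNormal
        let ε : H →* ℤˣ := sign.comp H.subtype
        haveI : IsCyclic (Q : Subgroup H) := isCyclic_of_prime_card (hQc Q)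
        have hinj : χ.ker ⊓ ε.ker ≤ Subgroup.zpowers g' := by
          intro u hu
          obtain ⟨hu1, hu2⟩ := Subgroup.mem_inf.1 hu
          have huM : (u : Perm α) ∈ M := Subgroup.mem_inf.2
            ⟨((hmemH _).1 u.2).1, mem_alternatingGroup.2 hu2⟩
          have h2 := congrArg (fun z : (Q : Subgroup H) => (z : H))
            (DFunLike.congr_fun (MonoidHom.mem_ker.mp hu1) ⟨g', Subgroup.mem_zpowers g'⟩)
          simp only [χ, MulAut.conjNormal_apply, MulAut.one_apply] at h2
          have h3 : u * g' = g' * u := by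
            rw [← mul_inv_eq_iff_eq_mul]; exact h2
          obtain ⟨j, hj⟩ := Subgroup.mem_zpowers_iff.1 (five_centralizer hα M hMA heven hgM hg5 huM
            (congrArg (fun z : H => (z : Perm α)) h3))
          exact ⟨j, Subtype.ext (by simpa [g'] using hj)⟩
        have hb : Nat.card (χ.prod ε).ker ≤ 5 := by
          have h := Nat.le_of_dvd Nat.card_pos (Subgroup.card_dvd_of_le hinj)
          rw [Nat.card_zpowers, hg'5] at h
          rw [MonoidHom.ker_prod]
          exact h
        have hr : Nat.card (χ.prod ε).range ≤ 8 := by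
          refine (Subgroup.card_le_card_group _).trans ?_
          rw [Nat.card_prod, IsCyclic.card_mulAut (Q : Subgroup H), hQc Q, Nat.totient_prime (by norm_num),
            Nat.card_eq_fintype_card (α := ℤˣ), Fintype.card_units_int]
        have := (χ.prod ε).ker.card_mul_index
        rw [Subgroup.index_ker, hHcard] at this
        nlinarith
      interval_cases h : Nat.card (Sylow 5 H) <;> omega
    haveI := Fintype.ofFinite (Sylow 5 H)
    let act := MulAction.toPermHom H (Sylow 5 H)
    let eq6 : Sylow 5 H ≃ Fin 6 := Fintype.equivFinOfCardEq (by rw [← Nat.card_eq_fintype_card, hn5])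
    let ρ : H →* Perm (Fin 6) := eq6.permCongrHom.toMonoidHom.comp act
    have hnormmem : ∀ u : H, ρ u = 1 → ∀ R : Sylow 5 H, u ∈ Subgroup.normalizer ((R : Subgroup H) : Set H) := by
      intro u hu R
      have hact : act u = 1 := eq6.permCongrHom.injective (by rw [map_one]; exact hu)
      exact Sylow.smul_eq_iff_mem_normalizer.1 (DFunLike.congr_fun hact R)
    have hgker : ρ g' ≠ 1 := by
      intro h
      have hall : ∀ R : Sylow 5 H, R = Q := by
        intro R
        have hle : Subgroup.zpowers g' ≤ (R : Subgroup H) := by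
          have hle' : Subgroup.zpowers g' ≤ Subgroup.normalizer ((R : Subgroup H) : Set H) :=
            Subgroup.zpowers_le.2 (hnormmem _ h R)
          have hp : IsPGroup 5 (Subgroup.zpowers g') := Q.isPGroup'
          have := IsPGroup.inf_normalizer_sylow hp R
          exact fun q hq => (Subgroup.mem_inf.1 (this.le ⟨hq, hle' hq⟩)).2
        exact Sylow.ext (Subgroup.eq_of_le_of_card_ge hle (by
          rw [hQc R, Nat.card_zpowers, hg'5])).symm
      have : Nat.card (Sylow 5 H) ≤ 1 := by
        haveI : Subsingleton (Sylow 5 H) := ⟨fun R S => (hall R).trans (hall S).symm⟩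
        exact Finite.card_le_one_iff_subsingleton.2 inferInstance
      omega
    have htker : ρ t' = 1 := by
      have key : ∀ σ : Perm (Fin 6), σ ^ 10 = 1 → σ ^ 2 = 1 ∨ σ ^ 5 = 1 := by decide +kernel
      let y' : H := ⟨((y : G) : Perm α), (hmemH _).2 ⟨(y : G).2, huniq _ (by
        rw [← Perm.mul_apply, hgdef, ← pow_succ, pow_succ', ← hgdef, Perm.mul_apply, hgw])⟩⟩
      have h10 : (ρ y') ^ 10 = 1 := by
        rw [← map_pow, show y' ^ 10 = 1 from Subtype.ext (by
          rw [Subgroup.coe_pow]; exact hyo ▸ pow_orderOf_eq_one _), map_one]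
      rcases key _ h10 with h | h
      · exact absurd (by rw [← map_pow] at h; exact h) hgker
      · rw [← map_pow] at h; exact h
    have hcentral : ∀ h : H, (h : Perm α) * t = t * (h : Perm α) := by
      intro h
      set u := h * t' * h⁻¹ with hu
      have hρu : ρ u = 1 := by rw [hu, map_mul, map_mul, htker, mul_one, ← map_mul, mul_inv_cancel, map_one]
      have hcomm : u * g' * u⁻¹ * g'⁻¹ = 1 := by
        set v := u * g' * u⁻¹ * g'⁻¹ with hv
        by_contra hv1
        have hvQ : v ∈ Subgroup.zpowers g' :=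
          mul_mem ((Subgroup.mem_normalizer_iff.1 (hnormmem u hρu Q) g').1 (Subgroup.mem_zpowers g'))
            (inv_mem (Subgroup.mem_zpowers g'))
        have htop := zpowers_eq_top_of_prime_card (p := 5)
          (show Nat.card (Subgroup.zpowers g') = 5 by rw [Nat.card_zpowers, hg'5])
          (g := ⟨v, hvQ⟩) (fun e => hv1 (congrArg (fun z : Subgroup.zpowers g' => (z : H)) e))
        obtain ⟨j, hj⟩ := Subgroup.mem_zpowers_iff.1 (htop ▸ Subgroup.mem_top
          (⟨g', Subgroup.mem_zpowers g'⟩ : Subgroup.zpowers g'))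
        have hgv : v ^ j = g' := congrArg (fun z : Subgroup.zpowers g' => (z : H)) hj
        refine hgker ?_
        rw [← hgv, map_zpow, hv, map_mul, map_mul, map_mul, map_inv, map_inv, hρu, one_mul, inv_one, mul_one,
          mul_inv_cancel, one_zpow]
      have huc : (u : Perm α) * g = g * (u : Perm α) := congrArg (fun z : H => (z : Perm α))
        (show u * g' = g' * u from mul_inv_eq_iff_eq_mul.1 (mul_inv_eq_one.1 hcomm))
      have hsu : sign (u : Perm α) = -1 := by
        rw [hu, Subgroup.coe_mul, Subgroup.coe_mul, Subgroup.coe_inv, map_mul, map_mul, map_inv,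
          show sign (t' : Perm α) = -1 from htodd]
        rcases Int.units_eq_one_or (sign (h : Perm α)) with e | e <;> rw [e] <;> rfl
      have hu2 : (u : Perm α) ^ 2 = 1 := by
        rw [hu, Subgroup.coe_mul, Subgroup.coe_mul, Subgroup.coe_inv, conj_pow,
          show (t' : Perm α) ^ 2 = 1 from ht2, mul_one, mul_inv_cancel]
      have h := hcommg u huc hsu hu2
      rw [hu, Subgroup.coe_mul, Subgroup.coe_mul, Subgroup.coe_inv] at h
      exact mul_inv_eq_iff_eq_mul.1 h
    obtain ⟨b, hb⟩ := Fintype.exists_ne_of_one_lt_card (show 1 < Fintype.card α by omega) w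
    have htb : t b ≠ b := fun e => hb (htfix b e)
    have htbw : t b ≠ w := fun e => hb (t.injective (e.trans htw.symm))
    obtain ⟨s, hs, hs1, hs2, hs3⟩ : ∃ s ∈ G, s w = w ∧ s b = b ∧ s ≠ 1 := by
      by_contra hcon
      push Not at hcon
      let f : H → ({w}ᶜ : Finset α) := fun h => ⟨(h : Perm α) b, by
        simp only [Finset.mem_compl, Finset.mem_singleton]
        exact fun e => hb ((h : Perm α).injective (e.trans ((hmemH _).1 h.2).2.symm))⟩
      have hinj : Function.Injective f := fun h h' e => by
        have he : (h : Perm α) b = (h' : Perm α) b := congrArg Subtype.val e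
        obtain ⟨h1, h2⟩ := (hmemH _).1 (H.mul_mem (H.inv_mem h'.2) h.2)
        exact Subtype.ext (inv_mul_eq_one.1 (hcon _ h1 h2
          (by rw [Perm.mul_apply, he]; exact (h' : Perm α).symm_apply_apply b))).symm
      have := Nat.card_le_card_of_injective f hinj
      rw [hHcard, Nat.card_eq_fintype_card, Fintype.card_coe, Finset.card_compl, hα, Finset.card_singleton] at this
      omega
    exact design hα G h2G hb.symm htbw htb hs hs1 hs2 hs3 fun h hh hhw hhb => by
      have := DFunLike.congr_fun (hcentral ⟨h, (hmemH h).2 ⟨hh, hhw⟩⟩) b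
      rw [Perm.mul_apply, Perm.mul_apply] at this
      show h (t b) = t b
      rw [this, hhb]
  · -- odd elements fix a five-point set
    obtain ⟨hm4, hsharp⟩ := sharp_four hα M hMA heven h2 h7920 hz
    haveI := hm4
    have h4le : 4 ≤ Fintype.card α := by omega
    obtain ⟨x⟩ : Nonempty (Fin 4 ↪ α) := Function.Embedding.nonempty_of_card_le (by simpa using h4le)
    obtain ⟨m, hm⟩ := MulAction.exists_smul_eq M x (x.trans (g₀ : Perm α).toEmbedding)
    have hmx : ∀ i, (m : Perm α) (x i) = g₀ (x i) := fun i => DFunLike.congr_fun hm i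
    set t := (m : Perm α)⁻¹ * g₀ with htdef
    have htG : t ∈ G := G.mul_mem (G.inv_mem (hMG m.2)) hg₀
    have htodd : sign t = -1 := by rw [htdef, map_mul, map_inv, heven _ m.2, hs₀']; rfl
    have htx : ∀ i, t (x i) = x i := fun i => by
      rw [htdef, Perm.mul_apply, ← hmx i]; exact (m : Perm α).symm_apply_apply _
    have htriv : ∀ (u : Perm α), u ∈ M → (∀ i, u (x i) = x i) → u = 1 := fun u hu hux => by
      have : (⟨u, hu⟩ : M) ∈ MulAction.stabilizer M x :=
        MulAction.mem_stabilizer_iff.2 (DFunLike.ext _ _ fun i => hux i)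
      rw [hsharp x, Subgroup.mem_bot] at this
      exact congrArg (fun z : M => (z : Perm α)) this
    have ht2 : t ^ 2 = 1 := htriv _ (Subgroup.mem_inf.2 ⟨G.pow_mem htG 2,
      mem_alternatingGroup.2 (by rw [map_pow, Int.units_sq])⟩) fun i =>
        pow_apply_eq_self_of_apply_eq_self (htx i) 2
    have ht1 : t ≠ 1 := fun h => by rw [h, map_one] at htodd; norm_num at htodd
    clear_value t
    obtain ⟨k, hk1, hct, hts, hsign⟩ := invol_type t ht2 ht1
    have hsub : t.support ⊆ Finset.univ \ Finset.univ.image x := fun a ha => by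
      simp only [Finset.mem_sdiff, Finset.mem_univ, true_and, Finset.mem_image, not_exists]
      exact fun i e => mem_support.1 ha (e ▸ htx i)
    have hle := Finset.card_le_card hsub
    rw [Finset.card_univ_sdiff, Finset.card_image_of_injective _ x.injective, Finset.card_univ, hts, hα,
      Fintype.card_fin] at hle
    have hk : k = 3 := by
      have : k ≤ 3 := by omega
      interval_cases k
      · exfalso
        have hsw : t.IsSwap := card_support_eq_two.1 (by rw [hts])
        exact hA (le_of_le_of_eq le_top (Equiv.Perm.subgroup_eq_top_of_isPreprimitive_of_isSwap_mem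
          (isPreprimitive hα G) _ hsw htG).symm)
      · rw [hsign] at htodd; norm_num at htodd
      · rfl
    subst hk
    set F := Finset.univ.filter fun a => t a = a with hF
    have hFcard : F.card = 5 := by
      have := card_fixed t
      rw [hts, hα] at this
      rw [hF]; omega
    let C : Subgroup (Perm α) := G ⊓ Subgroup.centralizer {t}
    have hmemC : ∀ u, u ∈ C ↔ u ∈ G ∧ u * t = t * u := fun u => by
      rw [Subgroup.mem_inf, Subgroup.mem_centralizer_iff]
      simp [eq_comm]
    have hmove : ∀ u ∈ F, ∀ v ∈ F, ∃ c ∈ C, c u = v := by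
      intro u hu v hv
      have hemb : ∀ u ∈ F, ∃ z : Fin 4 ↪ α, z 0 = u ∧ ∀ i, t (z i) = z i := by
        intro u hu
        let e : Fin 5 ≃ F := (Fintype.equivFinOfCardEq (by rw [Fintype.card_coe, hFcard])).symm
        let e' := e.trans (Equiv.swap (e 0) ⟨u, hu⟩)
        refine ⟨⟨fun i => (e' i.castSucc : α), fun i j h => Fin.castSucc_injective _
          (e'.injective (Subtype.ext h))⟩, ?_, fun i => (Finset.mem_filter.1 (e' i.castSucc).2).2⟩
        show (((Equiv.swap (e 0) ⟨u, hu⟩) (e 0) : F) : α) = u
        rw [Equiv.swap_apply_left]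
      obtain ⟨p, hp0, hp⟩ := hemb u hu
      obtain ⟨q, hq0, hq⟩ := hemb v hv
      obtain ⟨c, hc⟩ := MulAction.exists_smul_eq M p q
      have hcp : ∀ i, (c : Perm α) (p i) = q i := fun i => DFunLike.congr_fun hc i
      have hci : ∀ i, (c : Perm α)⁻¹ (q i) = p i := fun i => by
        rw [← hcp i]; exact (c : Perm α).symm_apply_apply _
      obtain ⟨r, hr⟩ := MulAction.exists_smul_eq M x q
      have hrx : ∀ i, (r : Perm α) (x i) = q i := fun i => DFunLike.congr_fun hr i
      have hd : t * ((c : Perm α) * t * (c : Perm α)⁻¹) = 1 := by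
        have hcG := hMG c.2
        have hrG := hMG r.2
        set d := t * ((c : Perm α) * t * (c : Perm α)⁻¹) with hd
        have hdM : d ∈ M := Subgroup.mem_inf.2 ⟨G.mul_mem htG (G.mul_mem (G.mul_mem hcG htG) (G.inv_mem hcG)),
          mem_alternatingGroup.2 (by rw [hd, map_mul, map_mul, map_mul, map_inv, htodd, heven _ c.2]; rfl)⟩
        have hdq : ∀ i, d (q i) = q i := fun i => by
          rw [hd, Perm.mul_apply, Perm.mul_apply, Perm.mul_apply, hci, hp, hcp, hq]
        have hconj := htriv _ (M.mul_mem (M.mul_mem (M.inv_mem r.2) hdM) r.2) fun i => by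
          rw [Perm.mul_apply, Perm.mul_apply, hrx, hdq, ← hrx]
          exact (r : Perm α).symm_apply_apply _
        have := congrArg (fun z => (r : Perm α) * z * (r : Perm α)⁻¹) hconj
        simpa [mul_assoc] using this
      refine ⟨c, (hmemC _).2 ⟨hMG c.2, ?_⟩, by rw [← hp0, hcp, hq0]⟩
      have h' := congrArg (fun z => t * z * (c : Perm α)) hd
      have htt : t * t = 1 := by rw [← sq]; exact ht2
      simp only [mul_assoc, inv_mul_cancel, mul_one, one_mul] at h'
      rwa [← mul_assoc t t, htt, one_mul] at h'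
    obtain ⟨u, hu⟩ : ∃ u, u ∈ F := Finset.card_pos.1 (by omega)
    have horb : MulAction.orbit C u = (F : Set α) := by
      ext v
      constructor
      · rintro ⟨c, rfl⟩
        refine Finset.mem_filter.2 ⟨Finset.mem_univ _, ?_⟩
        show t ((c : Perm α) u) = (c : Perm α) u
        rw [← Perm.mul_apply, ← ((hmemC _).1 c.2).2, Perm.mul_apply, (Finset.mem_filter.1 hu).2]
      · intro hv
        obtain ⟨c, hc, hcv⟩ := hmove u hu v hv
        exact ⟨⟨c, hc⟩, hcv⟩
    have h5 : 5 ∣ Nat.card C := by
      have h := orbit_count C u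
      rw [horb, Nat.card_coe_set_eq, Set.ncard_coe_finset, hFcard] at h
      exact ⟨_, h⟩
    haveI : Fact (Nat.Prime 5) := ⟨by norm_num⟩
    obtain ⟨⟨g, hg⟩, hgo⟩ := exists_prime_orderOf_dvd_card' (G := C) 5 h5
    have hgo' : orderOf g = 5 := by rw [← Subgroup.orderOf_coe] at hgo; exact hgo
    obtain ⟨hgG, hgt⟩ := (hmemC g).1 hg
    obtain ⟨-, w, hgw, huniq⟩ := five_type hα G hA hgG hgo'
    have htw : t w = w := huniq _ (by rw [← Perm.mul_apply, hgt, Perm.mul_apply, hgw])
    have hmod5 := inv_mod (p := 5) g (hgo' ▸ pow_orderOf_eq_one g) F fun z => by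
      simp only [hF, Finset.mem_filter, Finset.mem_univ, true_and]
      rw [← Perm.mul_apply, ← hgt, Perm.mul_apply, g.injective.eq_iff]
    rw [show (F.filter fun z => g z = z) = {w} from Finset.eq_singleton_iff_unique_mem.2
      ⟨Finset.mem_filter.2 ⟨Finset.mem_filter.2 ⟨Finset.mem_univ _, htw⟩, hgw⟩,
        fun z hz => huniq z (Finset.mem_filter.1 hz).2⟩, hFcard, Finset.card_singleton] at hmod5
    norm_num at hmod5

theorem main (G : Subgroup (Perm α)) [MulAction.IsPretransitive G α] (hG : ¬ Group.IsSolvable G)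
    (hA : ¬ alternatingGroup α ≤ G) :
    (MulAction.IsMultiplyPretransitive G α 4 ∧ ∀ x : Fin 4 ↪ α, MulAction.stabilizer G x = ⊥) ∨
      Nonempty (G ≃* Matrix.ProjectiveSpecialLinearGroup (Fin 2) (ZMod 11)) := by
  haveI : Fact (Nat.Prime 11) := ⟨by norm_num⟩
  have heven := no_odd hα G hG hA
  rcases orders hα G hA heven hG with ⟨h660, hn⟩ | ⟨h7920, hz⟩
  · haveI := simple_of_660 hα G h660 hn heven
    exact Or.inr (Cfsg.Agent.S0498.result 11 (Or.inl rfl) (by rw [h660]; norm_num) (ZMod.card 11))
  · exact Or.inl (sharp_four hα G hA heven (twoTrans hα G hG) h7920 hz)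

end Cfsg.Agent.Block.DegEleven
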