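import Mathlib
import Cfsg.Agent.Lib.Block.PrimeDegree

/-!
# Non-solvable groups of degree seven
-/

set_option autoImplicit false

namespace Cfsg.Agent.Block.DegSeven

variable {α : Type*} [Fintype α] [DecidableEq α]

/-- A subgroup whose order carries the full `p`-part contains a conjugate of every `p`-element. -/
theorem exists_conj_mem {X : Type*} [Group X] [Finite X] {p : ℕ} [hp : Fact p.Prime] (G : Subgroup X)
    (hG : p ^ (Nat.card X).factorization p ∣ Nat.card G) (g : X) (hg : IsPGroup p (Subgroup.zpowers g)) :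
    ∃ c : X, c * g * c⁻¹ ∈ G := by
  obtain ⟨S, hS⟩ := Sylow.exists_subgroup_card_pow_prime p hG
  let R : Sylow p X := Sylow.ofCard (S.map G.subtype)
    (by rw [Subgroup.card_map_of_injective (Subgroup.subtype_injective _), hS])
  obtain ⟨T, hT⟩ := hg.exists_le_sylow
  obtain ⟨c, hc⟩ := MulAction.exists_smul_eq X T R
  refine ⟨c, ?_⟩
  have h1 : c * g * c⁻¹ ∈ ((c • T : Sylow p X) : Subgroup X) := by
    rw [Sylow.coe_subgroup_smul]
    exact ⟨g, hT (Subgroup.mem_zpowers g), rfl⟩
  rw [hc] at h1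
  obtain ⟨s, -, hs⟩ := h1
  rw [← hs]
  exact s.2

/-- No transitive subgroup is self-normalising at `7` unless it has order `7`. -/
theorem kill (hα : Fintype.card α = 7) (K : Subgroup (Equiv.Perm α)) [MulAction.IsPretransitive K α]
    [Fact (Nat.Prime 7)] {m : ℕ} (hm : 1 < m) (hK : Nat.card K = 7 * m)
    (hn : Nat.card (Sylow 7 K) = m) : False := by
  obtain ⟨P⟩ : Nonempty (Sylow 7 K) := inferInstance
  have hP := primeDeg_card_sylow hα K P
  have hN : Subgroup.normalizer ((P : Subgroup K) : Set K) = P := by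
    refine (Subgroup.eq_of_le_of_card_ge (Subgroup.le_normalizer) ?_).symm
    have h := Subgroup.index_mul_card (Subgroup.normalizer ((P : Subgroup K) : Set K))
    rw [show (Subgroup.normalizer ((P : Subgroup K) : Set K)).index = m from
      (Sylow.card_eq_index_normalizer P).symm.trans hn, hK, mul_comm 7 m] at h
    rw [hP]
    exact (Nat.eq_of_mul_eq_mul_left (by omega) h).le
  have hc : Subgroup.normalizer ((P : Subgroup K) : Set K) ≤
      Subgroup.centralizer ((P : Subgroup K) : Set K) := by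
    rw [primeDeg_centralizer hα K P, hN]
  have hcomp := MonoidHom.ker_transferSylow_isComplement' P hc
  set L := (MonoidHom.transferSylow P hc).ker
  have hL : Nat.card L = m := by
    have := hcomp.card_mul
    rw [hP, hK] at this
    omega
  haveI : MulAction.IsPreprimitive K α :=
    MulAction.IsPreprimitive.of_prime_card (by rw [Nat.card_eq_fintype_card, hα]; norm_num)
  have htr : MulAction.IsPretransitive L α := by
    refine MulAction.IsQuasiPreprimitive.isPretransitive_of_normal fun hfp => ?_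
    have : L = ⊥ := by
      rw [Subgroup.eq_bot_iff_forall]
      intro x hx
      have h2 : (x : Equiv.Perm α) = 1 := by
        ext a
        have ha : a ∈ MulAction.fixedPoints L α := hfp ▸ Set.mem_univ a
        exact ha ⟨x, hx⟩
      exact Subtype.ext h2
    rw [this, Subgroup.card_bot] at hL
    omega
  obtain ⟨a⟩ : Nonempty α := Fintype.card_pos_iff.1 (by omega)
  have h7 : 7 ∣ Nat.card L := by
    have := (MulAction.index_stabilizer_of_transitive L a).symm
    rw [Nat.card_eq_fintype_card, hα] at this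
    rw [this]
    exact Subgroup.index_dvd_card _
  have h49 : 7 ^ 2 ∣ Nat.card K := by
    rw [hK, sq]
    exact Nat.mul_dvd_mul_left 7 (hL ▸ h7)
  exact primeDeg_not_sq_dvd hα K h49

theorem sylow_data (hα : Fintype.card α = 7) (G : Subgroup (Equiv.Perm α))
    [MulAction.IsPretransitive G α] [Fact (Nat.Prime 7)] :
    ∃ d, d ∈ ({1, 2, 3, 6} : Finset ℕ) ∧ Nat.card G = 7 * d * Nat.card (Sylow 7 G) ∧
      Nat.card (Sylow 7 G) % 7 = 1 := by
  obtain ⟨P⟩ : Nonempty (Sylow 7 G) := inferInstance
  set N := Subgroup.normalizer ((P : Subgroup G) : Set G)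
  have h1 : Nat.card N ∣ 42 := primeDeg_card_normalizer_dvd hα G P
  have h2 : 7 ∣ Nat.card N := (primeDeg_card_sylow hα G P) ▸ Subgroup.card_dvd_of_le Subgroup.le_normalizer
  obtain ⟨d, hd⟩ := h2
  refine ⟨d, ?_, ?_, card_sylow_modEq_one 7 G⟩
  · have h6 : d ∣ 6 := Nat.dvd_of_mul_dvd_mul_left (by norm_num : 0 < 7) (by rw [← hd]; exact h1)
    have h6' := Nat.le_of_dvd (by norm_num) h6
    interval_cases d <;> simp_all
  · rw [show Nat.card (Sylow 7 G) = N.index from Sylow.card_eq_index_normalizer P, ← hd, mul_comm,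
      Subgroup.index_mul_card]

/-- A transitive subgroup normalised by `G` has as many Sylow `7`-subgroups as `G`, or more than one. -/
theorem not_one (hα : Fintype.card α = 7) (G K : Subgroup (Equiv.Perm α))
    [MulAction.IsPretransitive G α] [MulAction.IsPretransitive K α] [Fact (Nat.Prime 7)] (hKG : K ≤ G)
    (hnorm : ∀ g ∈ G, ∀ k ∈ K, g * k * g⁻¹ ∈ K) (hn : Nat.card (Sylow 7 G) ≠ 1)
    (h1 : Nat.card (Sylow 7 K) = 1) : False := by
  obtain ⟨Q⟩ : Nonempty (Sylow 7 K) := inferInstance
  haveI : Subsingleton (Sylow 7 K) := (Nat.card_eq_one_iff_unique.mp h1).1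
  set Q₀ := (Q : Subgroup K).map K.subtype with hQ₀def
  have hQ₀ : Nat.card Q₀ = 7 := by
    rw [Subgroup.card_map_of_injective (Subgroup.subtype_injective _), primeDeg_card_sylow hα K Q]
  have hall : ∀ k ∈ K, k ^ 7 = 1 → k ∈ Q₀ := by
    intro k hk h7
    have hp : IsPGroup 7 (Subgroup.zpowers (⟨k, hk⟩ : K)) := fun x => ⟨1, by
      obtain ⟨j, hj⟩ := x.2
      apply Subtype.ext
      rw [pow_one, Subgroup.coe_pow, Subgroup.coe_one, ← hj, ← zpow_natCast, ← zpow_mul, mul_comm, zpow_mul,
        zpow_natCast, show (⟨k, hk⟩ : K) ^ 7 = 1 from Subtype.ext h7, one_zpow]⟩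
    obtain ⟨R, hR⟩ := hp.exists_le_sylow
    rw [Subsingleton.elim R Q] at hR
    exact ⟨⟨k, hk⟩, hR (Subgroup.mem_zpowers _), rfl⟩
  have hQK : ∀ q ∈ Q₀, q ∈ K ∧ q ^ 7 = 1 := by
    intro q hq
    refine ⟨Subgroup.map_subtype_le _ hq, ?_⟩
    exact congrArg Subtype.val (hQ₀ ▸ pow_card_eq_one' (x := (⟨q, hq⟩ : Q₀)))
  obtain ⟨P⟩ : Nonempty (Sylow 7 G) := inferInstance
  let Q' : Sylow 7 G := Sylow.ofCard (Q₀.subgroupOf G) (by
    rw [Nat.card_congr (Subgroup.subgroupOfEquivOfLe ((Subgroup.map_subtype_le _).trans hKG)).toEquiv, hQ₀]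
    exact (primeDeg_card_sylow hα G P).symm.trans P.card_eq_multiplicity)
  haveI hQn : (Q' : Subgroup G).Normal := ⟨fun q hq g => by
    obtain ⟨h2, h3⟩ := hQK _ (Subgroup.mem_subgroupOf.mp hq)
    refine Subgroup.mem_subgroupOf.mpr (hall _ (hnorm _ g.2 _ h2) ?_)
    simp only [Subgroup.coe_mul, Subgroup.coe_inv, conj_pow, h3, mul_one, mul_inv_cancel]⟩
  haveI := Sylow.unique_of_normal Q' hQn
  exact hn (Nat.card_eq_one_iff_unique.mpr ⟨inferInstance, ⟨Q'⟩⟩)

set_option maxHeartbeats 1000000 in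
theorem main (hα : Fintype.card α = 7) (G : Subgroup (Equiv.Perm α)) [MulAction.IsPretransitive G α]
    (hG : ¬ Group.IsSolvable G) (hA : ¬ alternatingGroup α ≤ G) :
    Nat.card G = 168 ∧ IsSimpleGroup G := by
  haveI : Fact (Nat.Prime 7) := ⟨by norm_num⟩
  haveI hprim : MulAction.IsPreprimitive G α :=
    MulAction.IsPreprimitive.of_prime_card (by rw [Nat.card_eq_fintype_card, hα]; norm_num)
  have hcardS : Nat.card (Equiv.Perm α) = 5040 := by
    rw [Nat.card_perm, Nat.card_eq_fintype_card, hα]; rfl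
  have hfact : ∀ q a b : ℕ, q.Prime → ¬ q ∣ b → 5040 = q ^ a * b → (5040 : ℕ).factorization q = a := by
    intro q a b hq hqb h
    rw [h, Nat.factorization_mul (pow_ne_zero _ hq.ne_zero) (fun e => hqb (by rw [e]; exact dvd_zero q)),
      Finsupp.add_apply, Nat.factorization_pow_self hq, Nat.factorization_eq_zero_of_not_dvd hqb, add_zero]
  obtain ⟨a⟩ : Nonempty α := Fintype.card_pos_iff.1 (by omega)
  have h16 : ¬ 16 ∣ Nat.card G := by
    intro h
    haveI : Fact (Nat.Prime 2) := ⟨Nat.prime_two⟩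
    obtain ⟨b, hb⟩ : ∃ b, b ≠ a := Fintype.exists_ne_of_one_lt_card (by omega) a
    have hsw : (Equiv.swap a b).IsSwap := ⟨a, b, hb.symm, rfl⟩
    obtain ⟨c, hc⟩ := exists_conj_mem (p := 2) G
      (by rw [hcardS, hfact 2 4 315 Nat.prime_two (by norm_num) (by norm_num)]; exact h) (Equiv.swap a b)
      (IsPGroup.of_card (n := 1) (by rw [Nat.card_zpowers, hsw.orderOf, pow_one]))
    refine hA ?_
    rw [Equiv.Perm.subgroup_eq_top_of_isPreprimitive_of_isSwap_mem hprim _ ?_ hc]
    · exact le_top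
    · rw [← Equiv.Perm.card_support_eq_two, Equiv.Perm.card_support_conj, Equiv.Perm.card_support_eq_two]
      exact hsw
  have h9 : ¬ 9 ∣ Nat.card G := by
    intro h
    haveI : Fact (Nat.Prime 3) := ⟨Nat.prime_three⟩
    obtain ⟨b, hb⟩ : ∃ b, b ≠ a := Fintype.exists_ne_of_one_lt_card (by omega) a
    obtain ⟨d, hd⟩ : ∃ d, d ∉ ({a, b} : Finset α) := by
      by_contra hall
      push Not at hall
      have := congrArg Finset.card (Finset.eq_univ_of_forall hall)
      rw [Finset.card_univ, hα, Finset.card_pair hb.symm] at this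
      omega
    simp only [Finset.mem_insert, Finset.mem_singleton, not_or] at hd
    have h3c : (Equiv.swap a b * Equiv.swap a d).IsThreeCycle :=
      Equiv.Perm.isThreeCycle_swap_mul_swap_same hb.symm (Ne.symm hd.1) (Ne.symm hd.2)
    obtain ⟨c, hc⟩ := exists_conj_mem (p := 3) G
      (by rw [hcardS, hfact 3 2 560 Nat.prime_three (by norm_num) (by norm_num)]; exact h) _
      (IsPGroup.of_card (n := 1) (by rw [Nat.card_zpowers, h3c.orderOf, pow_one]))
    refine hA (Equiv.Perm.alternatingGroup_le_of_isPreprimitive_of_isThreeCycle_mem hprim ?_ hc)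
    show (c * (Equiv.swap a b * Equiv.swap a d) * c⁻¹).cycleType = {3}
    rw [Equiv.Perm.cycleType_conj]
    exact h3c
  obtain ⟨P⟩ : Nonempty (Sylow 7 G) := inferInstance
  have hn1 : Nat.card (Sylow 7 G) ≠ 1 := by
    intro h
    haveI : Subsingleton (Sylow 7 G) := (Nat.card_eq_one_iff_unique.mp h).1
    haveI := P.normal_of_subsingleton
    haveI hcyc : IsCyclic (P : Subgroup G) := isCyclic_of_prime_card (primeDeg_card_sylow hα G P)
    apply hG
    have hPc := primeDeg_centralizer hα G P
    let φ : G →* MulAut (P : Subgroup G) := MulAut.conjNormal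
    haveI : IsMulCommutative (MulAut (P : Subgroup G)) :=
      ⟨⟨fun a b => (IsCyclic.mulAutMulEquiv (P : Subgroup G)).injective (by rw [map_mul, map_mul, mul_comm])⟩⟩
    haveI : Group.IsSolvable (MulAut (P : Subgroup G)) :=
      isSolvable_of_comm (fun a b => IsMulCommutative.is_comm.comm a b)
    refine solvable_of_ker_le_range (P : Subgroup G).subtype φ (fun x hx => ?_)
    rw [Subgroup.range_subtype, ← hPc, Subgroup.mem_centralizer_iff]
    intro y hy
    have h2 := congrArg Subtype.val (DFunLike.congr_fun (MonoidHom.mem_ker.mp hx) ⟨y, hy⟩)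
    simp only [φ, MulAut.conjNormal_apply, MulAut.one_apply] at h2
    calc y * x = (x * y * x⁻¹) * x := by rw [h2]
      _ = x * y := by group
  obtain ⟨d, hd, hGd, hmod⟩ := sylow_data hα G
  set n := Nat.card (Sylow 7 G) with hndef
  have h7dn : 7 * d * n ∣ 5040 := hGd ▸ hcardS ▸ G.card_subgroup_dvd_card
  have hdn : d * n ∣ 720 := Nat.dvd_of_mul_dvd_mul_left (by norm_num : 0 < 7) (by rw [← mul_assoc]; exact h7dn)
  have hcases : (d = 1 ∨ (d = 2 ∧ n = 15) ∨ (d = 3 ∧ n = 8)) ∧ 1 < n := by
    have hnle : n ≤ 720 := Nat.le_of_dvd (by norm_num) ((dvd_mul_left n d).trans hdn)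
    have hn : n ∈ ({1, 8, 15, 36, 120} : Finset ℕ) := by
      have hndvd : n ∣ 720 := (dvd_mul_left n d).trans hdn
      have : n ∈ Nat.divisors 720 := Nat.mem_divisors.mpr ⟨hndvd, by norm_num⟩
      have key : ∀ x ∈ Nat.divisors 720, x % 7 = 1 → x ∈ ({1, 8, 15, 36, 120} : Finset ℕ) := by
        decide +kernel
      exact key n this hmod
    rw [hGd] at h16 h9
    simp only [Finset.mem_insert, Finset.mem_singleton] at hn hd
    rcases hd with hd | hd | hd | hd <;> rcases hn with hn | hn | hn | hn | hn <;>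
      (revert h16 h9 hdn hn1; rw [hd, hn]; norm_num)
  obtain ⟨hcases, hn2⟩ := hcases
  have hcard : Nat.card G = 168 := by
    rcases hcases with rfl | ⟨rfl, hn⟩ | ⟨rfl, hn⟩
    · exact (kill hα G hn2 (by rw [hGd, mul_one]) rfl).elim
    · -- the subgroup of index two
      exfalso
      rw [hn] at hGd
      haveI : Fact (Nat.Prime 2) := ⟨Nat.prime_two⟩
      obtain ⟨S⟩ : Nonempty (Sylow 2 G) := inferInstance
      have hS : Nat.card (S : Subgroup G) = 2 := by
        rw [Sylow.card_eq_multiplicity, hGd, show (7 * 2 * 15 : ℕ) = 2 * 105 by norm_num,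
          Nat.factorization_mul (by norm_num) (by norm_num), Finsupp.add_apply,
          Nat.Prime.factorization_self Nat.prime_two,
          Nat.factorization_eq_zero_of_not_dvd (show ¬ 2 ∣ 105 by norm_num)]
        rfl
      haveI : IsCyclic (S : Subgroup G) := isCyclic_of_prime_card hS
      have hmin : (Nat.card G).minFac = 2 := by rw [hGd]; norm_num
      obtain ⟨K, hKn, hK⟩ : ∃ K : Subgroup G, K.Normal ∧ Nat.card K = 105 := by
        have hcomp := IsCyclic.isComplement' (P := S) hmin inferInstance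
        refine ⟨(MonoidHom.transferSylow S (IsCyclic.normalizer_le_centralizer (P := S) hmin inferInstance)).ker, inferInstance, ?_⟩
        have := hcomp.card_mul
        rw [hS, hGd] at this
        omega
      set K' := K.map G.subtype
      have hK' : Nat.card K' = 105 := by rw [Subgroup.card_map_of_injective (Subgroup.subtype_injective _), hK]
      haveI : MulAction.IsPretransitive K' α := by
        have h := primeDeg_pretransitive_of_dvd hα G K (by rw [hK]; norm_num)
        constructor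
        intro x y
        obtain ⟨k, hk⟩ := h.exists_smul_eq x y
        exact ⟨⟨_, Subgroup.mem_map_of_mem _ k.2⟩, hk⟩
      obtain ⟨d', hd', hKd, hmod'⟩ := sylow_data hα K'
      set n' := Nat.card (Sylow 7 K') with hn'
      rw [hK'] at hKd
      have h15 : d' = 1 ∧ n' = 15 ∨ n' = 1 := by
        fin_cases hd' <;> omega
      rcases h15 with ⟨hd1, hn15⟩ | h1
      · exact kill hα K' (m := 15) (by norm_num) (by rw [hK']) hn15
      · refine not_one hα G K' (Subgroup.map_subtype_le K) (fun g hg k hk => ?_) hn1 h1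
        obtain ⟨k, hk', rfl⟩ := hk
        exact ⟨⟨g, hg⟩ * k * ⟨g, hg⟩⁻¹, hKn.conj_mem k hk' _, rfl⟩
    · rw [hGd, hn]
  refine ⟨hcard, ?_⟩
  haveI : Nontrivial G := Finite.one_lt_card_iff_nontrivial.mp (by omega)
  refine { eq_bot_or_eq_top_of_normal := fun N hN => ?_ }
  by_contra hc
  push Not at hc
  haveI := hN
  haveI htr : MulAction.IsPretransitive N α := by
    refine MulAction.IsQuasiPreprimitive.isPretransitive_of_normal fun hfp => hc.1 ?_
    rw [Subgroup.eq_bot_iff_forall]
    intro x hx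
    have h2 : (x : Equiv.Perm α) = 1 := by
      ext b
      have hb : b ∈ MulAction.fixedPoints N α := hfp ▸ Set.mem_univ b
      exact hb ⟨x, hx⟩
    exact Subtype.ext h2
  set N' := N.map G.subtype
  have hN' : Nat.card N' = Nat.card N := Subgroup.card_map_of_injective (Subgroup.subtype_injective _)
  haveI : MulAction.IsPretransitive N' α := by
    constructor
    intro x y
    obtain ⟨k, hk⟩ := htr.exists_smul_eq x y
    exact ⟨⟨_, Subgroup.mem_map_of_mem _ k.2⟩, hk⟩
  obtain ⟨d', hd', hNd, hmod'⟩ := sylow_data hα N'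
  set n' := Nat.card (Sylow 7 N') with hn'
  have h168 : Nat.card N' ∣ 168 := hcard ▸ hN' ▸ N.card_subgroup_dvd_card
  have hlt : Nat.card N' ≠ 168 := fun h => hc.2 (Subgroup.eq_top_of_card_eq N (by rw [← hN', h, hcard]))
  have hn'1 : n' ≠ 1 := fun h1 => by
    refine not_one hα G N' (Subgroup.map_subtype_le N) (fun g hg k hk => ?_) hn1 h1
    obtain ⟨k, hk', rfl⟩ := hk
    exact ⟨⟨g, hg⟩ * k * ⟨g, hg⟩⁻¹, hN.conj_mem k hk' _, rfl⟩
  rw [hNd] at h168 hlt
  have hn8 : n' = 8 := by
    have hd24 : d' * n' ∣ 24 := Nat.dvd_of_mul_dvd_mul_left (by norm_num : 0 < 7) (by rw [← mul_assoc]; exact h168)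
    have := Nat.le_of_dvd (by norm_num) ((dvd_mul_left n' d').trans hd24)
    have hdv : n' ∣ 24 := (dvd_mul_left n' d').trans hd24
    interval_cases n' <;> omega
  rw [hn8] at h168 hlt
  have hd1 : d' = 1 := by
    fin_cases hd' <;> revert h168 hlt <;> norm_num
  subst hd1
  exact kill hα N' (m := 8) (by norm_num) (by rw [hNd, hn8]) hn8

end Cfsg.Agent.Block.DegSeven
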