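import Cfsg.Agent.Lib.Block.DegreeElevenBasic
import Cfsg.Agent.Lib.Block.DegreeSeven

/-!
# Transitive groups of degree eleven not containing the alternating group
-/

set_option autoImplicit false

namespace Cfsg.Agent.Block.DegEleven

open Equiv Equiv.Perm

variable {α : Type*} [Fintype α] [DecidableEq α]

/-- Transitivity on ordered pairs of distinct points, by elements of `G`. -/
def TwoTrans (G : Subgroup (Perm α)) : Prop :=
  ∀ a b c d : α, a ≠ b → c ≠ d → ∃ g ∈ G, g a = c ∧ g b = d

section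

variable (hα : Fintype.card α = 11) (G : Subgroup (Perm α)) [MulAction.IsPretransitive G α]
  (hA : ¬ alternatingGroup α ≤ G)

include hα

theorem isPreprimitive : MulAction.IsPreprimitive G α :=
  MulAction.IsPreprimitive.of_prime_card (by rw [Nat.card_eq_fintype_card, hα]; norm_num)

include hA

theorem no_cycle {p : ℕ} (hp : p.Prime) (hp8 : p ≤ 8) {g : Perm α} (hgc : g.IsCycle)
    (hgp : g.support.card = p) (hg : g ∈ G) : False :=
  hA (Cfsg.Agent.Transfer.JordanPrimeCycle.alternatingGroup_le_of_cycle (isPreprimitive hα G) hp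
    (by omega) hgc hgp hg)

theorem five_type {g : Perm α} (hg : g ∈ G) (h5 : orderOf g = 5) :
    g.cycleType = {5, 5} ∧ ∃ w, g w = w ∧ ∀ x, g x = x → x = w := by
  obtain ⟨n, hn⟩ := cycleType_prime_order (σ := g) (h5 ▸ by norm_num)
  rw [h5] at hn
  have hs : g.support.card = 5 * (n + 1) := by
    rw [← sum_cycleType, hn, Multiset.sum_replicate, smul_eq_mul, mul_comm]
  have hle := g.support.card_le_univ
  rw [hα, hs] at hle
  rcases (show n = 0 ∨ n = 1 by omega) with rfl | rfl
  · exact (no_cycle hα G hA (p := 5) (by norm_num) (by norm_num)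
      (card_cycleType_eq_one.1 (by rw [hn]; rfl)) (by rw [hs]) hg).elim
  · refine ⟨hn, ?_⟩
    have h := card_fixed g
    rw [hs, hα] at h
    obtain ⟨w, hw⟩ := Finset.card_eq_one.1 (show (Finset.univ.filter fun a => g a = a).card = 1 by omega)
    refine ⟨w, ?_, fun x hx => ?_⟩
    · have hmem : w ∈ Finset.univ.filter fun a => g a = a := hw ▸ Finset.mem_singleton_self w
      exact (Finset.mem_filter.1 hmem).2
    · exact Finset.mem_singleton.1 (hw ▸ Finset.mem_filter.2 ⟨Finset.mem_univ x, hx⟩)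

theorem not_seven_dvd : ¬ 7 ∣ Nat.card G := by
  intro h
  haveI : Fact (Nat.Prime 7) := ⟨by norm_num⟩
  obtain ⟨x, hx⟩ := exists_prime_orderOf_dvd_card' (G := G) 7 h
  have hx' : orderOf (x : Perm α) = 7 := by rw [Subgroup.orderOf_coe, hx]
  have hc : (x : Perm α).IsCycle :=
    isCycle_of_prime_order' (by rw [hx']; norm_num) (by rw [hx', hα]; norm_num)
  exact no_cycle hα G hA (p := 7) (by norm_num) (by norm_num) hc (by rw [← hc.orderOf, hx']) x.2

theorem not_sq_five_dvd : ¬ 25 ∣ Nat.card G := by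
  intro h
  haveI : Fact (Nat.Prime 5) := ⟨by norm_num⟩
  obtain ⟨g, hg⟩ : ∃ g : Perm α, g.cycleType = {5} :=
    (exists_with_cycleType_iff α).2 ⟨by rw [Multiset.sum_singleton, hα]; norm_num, by simp⟩
  have hgc : g.IsCycle := card_cycleType_eq_one.1 (by rw [hg]; rfl)
  have ho : orderOf g = 5 := by rw [← lcm_cycleType, hg]; rfl
  have hf : (Nat.card (Perm α)).factorization 5 = 2 := by
    rw [Nat.card_perm, Nat.card_eq_fintype_card, hα,
      show Nat.factorial 11 = 5 ^ 2 * 1596672 from by decide +kernel,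
      Nat.factorization_mul (by norm_num) (by norm_num), Finsupp.add_apply,
      Nat.factorization_pow_self (by norm_num),
      Nat.factorization_eq_zero_of_not_dvd (show ¬ 5 ∣ 1596672 by norm_num)]
  obtain ⟨c, hc⟩ := DegSeven.exists_conj_mem (p := 5) G (by rw [hf]; exact h) g
    (IsPGroup.of_card (n := 1) (by rw [Nat.card_zpowers, ho, pow_one]))
  refine no_cycle hα G hA (p := 5) (by norm_num) (by norm_num) hgc.conj ?_ hc
  rw [card_support_conj, ← sum_cycleType, hg, Multiset.sum_singleton]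

theorem no_double (h2 : TwoTrans G) {t : Perm α} (ht : t ∈ G) (h22 : t.cycleType = {2, 2}) : False := by
  classical
  let fam : Finset (Finset α) :=
    Finset.univ.filter fun S => ∃ g ∈ G, g.cycleType = {2, 2} ∧ g.support = S
  have hsq : ∀ g : Perm α, g.cycleType = {2, 2} → g * g = 1 := fun g hg => by
    rw [← sq, ← orderOf_dvd_iff_pow_eq_one, ← lcm_cycleType, hg]
    rfl
  have h4 : ∀ S ∈ fam, S.card = 4 := fun S hS => by
    obtain ⟨g, -, hg, rfl⟩ := (Finset.mem_filter.1 hS).2
    rw [← sum_cycleType, hg]; rfl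
  have hmeet : ∀ S ∈ fam, ∀ T ∈ fam, ∀ a, S ∩ T ≠ {a} := by
    intro S hS T hT a hST
    obtain ⟨g, hg, hg2, rfl⟩ := (Finset.mem_filter.1 hS).2
    obtain ⟨s, hs, hs2, rfl⟩ := (Finset.mem_filter.1 hT).2
    exact hA (alternatingGroup_le_of_isPreprimitive_of_isThreeCycle_mem (isPreprimitive hα G)
      (threeCycle_of_meet g s (hsq g hg2) (hsq s hs2) a hST)
      (G.mul_mem (G.mul_mem (G.mul_mem hg hs) hg) hs))
  have hinv : ∀ h ∈ G, ∀ S ∈ fam, S.map h.toEmbedding ∈ fam := by
    intro h hh S hS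
    obtain ⟨g, hg, hg2, rfl⟩ := (Finset.mem_filter.1 hS).2
    exact Finset.mem_filter.2 ⟨Finset.mem_univ _, h * g * h⁻¹, G.mul_mem (G.mul_mem hh hg) (G.inv_mem hh),
      by rw [cycleType_conj, hg2], support_conj⟩
  have htS : t.support ∈ fam := Finset.mem_filter.2 ⟨Finset.mem_univ _, t, ht, h22, rfl⟩
  obtain ⟨a, ha⟩ : ∃ a, a ∈ t.support := Finset.card_pos.1 (by rw [h4 _ htS]; norm_num)
  let fa := fam.filter fun S => a ∈ S
  let deg : α → ℕ := fun b => (fa.filter fun S => b ∈ S).card
  have hdeg : ∀ b c, b ≠ a → c ≠ a → deg b ≤ deg c := by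
    intro b c hb hc
    obtain ⟨h, hh, hha, hhb⟩ := h2 a b a c hb.symm hc.symm
    refine Finset.card_le_card_of_injOn (fun S => S.map h.toEmbedding) ?_
      (fun S _ T _ e => Finset.map_injective _ e)
    intro S hS
    simp only [Finset.coe_filter, Set.mem_setOf_eq, fa, Finset.mem_filter] at hS ⊢
    exact ⟨⟨hinv h hh S hS.1.1, Finset.mem_map.2 ⟨a, hS.1.2, hha⟩⟩, Finset.mem_map.2 ⟨b, hS.2, hhb⟩⟩
  have hA0 : t.support ∈ fa := Finset.mem_filter.2 ⟨htS, ha⟩
  obtain ⟨b, hb⟩ : ∃ b, b ∈ t.support.erase a := Finset.card_pos.1 (by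
    rw [Finset.card_erase_of_mem ha, h4 _ htS]; norm_num)
  have hba := Finset.ne_of_mem_erase hb
  have hsum : ∑ c ∈ Finset.univ.erase a, deg c = 3 * fa.card := by
    calc ∑ c ∈ Finset.univ.erase a, deg c
        = ∑ c ∈ Finset.univ.erase a, ∑ S ∈ fa, (if c ∈ S then 1 else 0) :=
          Finset.sum_congr rfl fun c _ => Finset.card_filter _ _
      _ = ∑ S ∈ fa, ∑ c ∈ Finset.univ.erase a, (if c ∈ S then 1 else 0) := Finset.sum_comm
      _ = ∑ S ∈ fa, 3 := Finset.sum_congr rfl fun S hS => by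
          obtain ⟨hS, haS⟩ := Finset.mem_filter.1 hS
          rw [← Finset.card_filter, show (Finset.univ.erase a).filter (· ∈ S) = S.erase a by ext; simp,
            Finset.card_erase_of_mem haS, h4 S hS]
      _ = 3 * fa.card := by rw [Finset.sum_const, smul_eq_mul, mul_comm]
  have hconst : ∑ c ∈ Finset.univ.erase a, deg c = 10 * deg b := by
    rw [Finset.sum_congr rfl fun c hc => le_antisymm (hdeg c b (Finset.ne_of_mem_erase hc) hba)
        (hdeg b c hba (Finset.ne_of_mem_erase hc)), Finset.sum_const, smul_eq_mul,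
      Finset.card_erase_of_mem (Finset.mem_univ a), Finset.card_univ, hα]
  have hcov : fa.erase t.support ⊆
      (t.support.erase a).biUnion fun c => (fa.filter fun S => c ∈ S).erase t.support := by
    intro S hS
    obtain ⟨hne, hS⟩ := Finset.mem_erase.1 hS
    obtain ⟨hSf, haS⟩ := Finset.mem_filter.1 hS
    obtain ⟨c, hc, hca⟩ : ∃ c ∈ t.support ∩ S, c ≠ a := by
      by_contra hcon
      push Not at hcon
      refine hmeet _ htS S hSf a (Finset.eq_singleton_iff_unique_mem.2
        ⟨Finset.mem_inter.2 ⟨ha, haS⟩, hcon⟩)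
    refine Finset.mem_biUnion.2 ⟨c, Finset.mem_erase.2 ⟨hca, (Finset.mem_inter.1 hc).1⟩,
      Finset.mem_erase.2 ⟨hne, Finset.mem_filter.2 ⟨hS, (Finset.mem_inter.1 hc).2⟩⟩⟩
  have hcount := (Finset.card_le_card hcov).trans
    (Finset.card_biUnion_le_card_mul _ _ (deg b - 1) fun c hc => by
      have hmem : t.support ∈ fa.filter fun S => c ∈ S :=
        Finset.mem_filter.2 ⟨hA0, Finset.mem_of_mem_erase hc⟩
      rw [Finset.card_erase_of_mem hmem]
      exact Nat.sub_le_sub_right (hdeg c b (Finset.ne_of_mem_erase hc) hba) 1)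
  rw [Finset.card_erase_of_mem hA0, Finset.card_erase_of_mem ha, h4 _ htS] at hcount
  have hpos : 1 ≤ fa.card := Finset.card_pos.2 ⟨_, hA0⟩
  have hd1 : 1 ≤ deg b := Finset.card_pos.2 ⟨_, Finset.mem_filter.2 ⟨hA0, Finset.mem_of_mem_erase hb⟩⟩
  omega

end

section

variable (hα : Fintype.card α = 11) (G : Subgroup (Perm α))

include hα

/-- The stabiliser of two points fixes no third point, unless it is trivial. -/
theorem design (h2 : TwoTrans G) {a b c : α} (hab : a ≠ b) (hca : c ≠ a) (hcb : c ≠ b)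
    {k : Perm α} (hk : k ∈ G) (hka : k a = a) (hkb : k b = b) (hk1 : k ≠ 1)
    (hfix : ∀ g ∈ G, g a = a → g b = b → g c = c) : False := by
  classical
  let St : α × α → Finset (Perm α) := fun p => Finset.univ.filter fun g => g ∈ G ∧ g p.1 = p.1 ∧ g p.2 = p.2
  let F : α × α → Finset α := fun p => Finset.univ.filter fun x => ∀ g ∈ St p, g x = x
  have hmov : ∀ p q : α × α, p.1 ≠ p.2 → q.1 ≠ q.2 →
      (St p).card ≤ (St q).card ∧ (F p).card ≤ (F q).card := by
    intro p q hp hq
    obtain ⟨h, hh, h1, h2'⟩ := h2 _ _ _ _ hp hq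
    have hi1 : h⁻¹ q.1 = p.1 := by rw [← h1]; exact h.symm_apply_apply _
    have hi2 : h⁻¹ q.2 = p.2 := by rw [← h2']; exact h.symm_apply_apply _
    constructor
    · refine Finset.card_le_card_of_injOn (fun g => h * g * h⁻¹) ?_ (fun g _ g' _ e => by simpa using e)
      intro g hg
      simp only [St, Finset.coe_filter, Set.mem_setOf_eq, Finset.mem_univ, true_and] at hg ⊢
      refine ⟨G.mul_mem (G.mul_mem hh hg.1) (G.inv_mem hh), ?_, ?_⟩
      · rw [Perm.mul_apply, Perm.mul_apply, hi1, hg.2.1, h1]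
      · rw [Perm.mul_apply, Perm.mul_apply, hi2, hg.2.2, h2']
    · refine Finset.card_le_card_of_injOn h ?_ h.injective.injOn
      intro x hx
      simp only [F, Finset.coe_filter, Set.mem_setOf_eq, Finset.mem_univ, true_and] at hx ⊢
      intro g hg
      simp only [St, Finset.mem_filter, Finset.mem_univ, true_and] at hg hx
      have := hx (h⁻¹ * g * h) ⟨G.mul_mem (G.mul_mem (G.inv_mem hh) hg.1) hh,
        by rw [Perm.mul_apply, Perm.mul_apply, h1, hg.2.1, hi1],
        by rw [Perm.mul_apply, Perm.mul_apply, h2', hg.2.2, hi2]⟩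
      rw [Perm.mul_apply, Perm.mul_apply] at this
      calc g (h x) = h (h⁻¹ (g (h x))) := (h.apply_symm_apply _).symm
        _ = h x := by rw [this]
  let D := (Finset.univ : Finset α).offDiag
  have hD : D.card = 110 := by rw [Finset.offDiag_card, Finset.card_univ, hα]
  let f := (F (a, b)).card
  have hfib : ∀ S ∈ D.image F, (D.filter fun p => F p = S).card = f * f - f := by
    intro S hS
    obtain ⟨q, hq, rfl⟩ := Finset.mem_image.1 hS
    have hq' : q.1 ≠ q.2 := (Finset.mem_offDiag.1 hq).2.2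
    have hfq : (F q).card = f := le_antisymm (hmov q (a, b) hq' hab).2 (hmov (a, b) q hab hq').2
    rw [← hfq, ← Finset.offDiag_card]
    congr 1
    ext p
    constructor
    · intro hp
      obtain ⟨hp1, hp2⟩ := Finset.mem_filter.1 hp
      rw [Finset.mem_offDiag, ← hp2]
      refine ⟨Finset.mem_filter.2 ⟨Finset.mem_univ _, fun g hg => ?_⟩,
        Finset.mem_filter.2 ⟨Finset.mem_univ _, fun g hg => ?_⟩, (Finset.mem_offDiag.1 hp1).2.2⟩
      · exact (Finset.mem_filter.1 hg).2.2.1
      · exact (Finset.mem_filter.1 hg).2.2.2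
    · intro hp
      obtain ⟨hx, hy, hne⟩ := Finset.mem_offDiag.1 hp
      refine Finset.mem_filter.2 ⟨Finset.mem_offDiag.2 ⟨Finset.mem_univ _, Finset.mem_univ _, hne⟩, ?_⟩
      have hsub : St q ⊆ St p := by
        intro g hg
        exact Finset.mem_filter.2 ⟨Finset.mem_univ _, (Finset.mem_filter.1 hg).2.1,
          (Finset.mem_filter.1 hx).2 g hg, (Finset.mem_filter.1 hy).2 g hg⟩
      have he := Finset.eq_of_subset_of_card_le hsub (hmov p q hne hq').1
      show Finset.univ.filter _ = Finset.univ.filter _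
      rw [he]
  have hcount := Finset.card_eq_sum_card_image F D
  rw [Finset.sum_congr rfl hfib, Finset.sum_const, smul_eq_mul, hD] at hcount
  have hdvd : f * f - f ∣ 110 := ⟨_, hcount.trans (mul_comm _ _)⟩
  have h3 : 3 ≤ f := by
    refine le_of_eq_of_le ?_ (Finset.card_le_card (s := {a, b, c}) ?_)
    · rw [Finset.card_eq_three.2 ⟨a, b, c, hab, hca.symm, hcb.symm, rfl⟩]
    · intro x hx
      refine Finset.mem_filter.2 ⟨Finset.mem_univ _, fun g hg => ?_⟩
      simp only [St, Finset.mem_filter, Finset.mem_univ, true_and] at hg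
      simp only [Finset.mem_insert, Finset.mem_singleton] at hx
      rcases hx with rfl | rfl | rfl
      exacts [hg.2.1, hg.2.2, hfix g hg.1 hg.2.1 hg.2.2]
  have hlt : f < 11 := by
    rw [← hα]
    refine lt_of_le_of_ne (Finset.card_le_univ _) fun e => hk1 ?_
    have hu := (Finset.card_eq_iff_eq_univ _).1 e
    ext x
    have hmem : x ∈ F (a, b) := hu ▸ Finset.mem_univ x
    exact (Finset.mem_filter.1 hmem).2 k
      (Finset.mem_filter.2 ⟨Finset.mem_univ _, hk, hka, hkb⟩)
  interval_cases f <;> norm_num at hdvd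

end

end Cfsg.Agent.Block.DegEleven
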