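import Mathlib

/-! Multiple transitivity from pointwise stabilisers. -/

namespace Cfsg.Agent.Block

/-- If all pointwise stabilisers of `j`-sets are transitive outside, the action is
`j + 1`-transitive. -/
theorem isMultiplyPretransitive_of_fixing {G α : Type*} [Group G] [MulAction G α] [Fintype α]
    [DecidableEq α] (j : ℕ) (hj : j + 2 ≤ Fintype.card α)
    (h : ∀ s : Finset α, s.card = j → ∀ a b : α, a ∉ s → b ∉ s →
      ∃ g : G, (∀ x ∈ s, g • x = x) ∧ g • a = b) :
    MulAction.IsMultiplyPretransitive G α (j + 1) := by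
  suffices hm : ∀ m, m ≤ j + 1 → ∀ x y : Fin m → α, Function.Injective x → Function.Injective y →
      ∃ g : G, ∀ i, g • x i = y i by
    refine ⟨fun x y => ?_⟩
    obtain ⟨g, hg⟩ := hm (j + 1) le_rfl x y x.injective y.injective
    exact ⟨g, DFunLike.ext _ _ hg⟩
  intro m
  induction m with
  | zero => exact fun _ _ _ _ _ => ⟨1, fun i => i.elim0⟩
  | succ m ih =>
    intro hm x y hx hy
    obtain ⟨g, hg⟩ := ih (by omega) (x ∘ Fin.castSucc) (y ∘ Fin.castSucc)
      (hx.comp (Fin.castSucc_injective _)) (hy.comp (Fin.castSucc_injective _))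
    by_cases hab : g • x (Fin.last m) = y (Fin.last m)
    · exact ⟨g, fun i => Fin.lastCases hab hg i⟩
    have hsub : Finset.univ.image (y ∘ Fin.castSucc) ⊆
        ({g • x (Fin.last m), y (Fin.last m)} : Finset α)ᶜ := by
      intro z hz
      obtain ⟨i, -, rfl⟩ := Finset.mem_image.1 hz
      simp only [Finset.mem_compl, Finset.mem_insert, Finset.mem_singleton, not_or]
      refine ⟨fun h' => ?_, fun h' => (Fin.castSucc_lt_last i).ne (hy h')⟩
      rw [← hg i, smul_left_cancel_iff] at h'
      exact (Fin.castSucc_lt_last i).ne (hx h')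
    obtain ⟨s, hs1, hs2, hscard⟩ := Finset.exists_subsuperset_card_eq hsub (n := j)
      (Finset.card_image_le.trans (by simp; omega))
      (by rw [Finset.card_compl, Finset.card_pair hab]; omega)
    obtain ⟨k, hk, hkab⟩ := h s hscard (g • x (Fin.last m)) (y (Fin.last m))
      (fun h' => by simpa using hs2 h') (fun h' => by simpa using hs2 h')
    refine ⟨k * g, fun i => ?_⟩
    refine Fin.lastCases ?_ (fun i => ?_) i
    · rw [mul_smul, hkab]
    · rw [mul_smul]
      exact (congrArg (k • ·) (hg i)).trans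
        (hk _ (hs1 (Finset.mem_image.2 ⟨i, Finset.mem_univ _, rfl⟩)))

end Cfsg.Agent.Block
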