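import Mathlib

/-! Functions on `ZMod p` in characteristic `p` as polynomial functions of degree less than `p`. -/

namespace Cfsg.Agent.Block

open Polynomial

variable (p : ℕ) [Fact p.Prime] (K : Type*) [Field K] [CharP K p]

/-- A polynomial as a function on `ZMod p`. -/
noncomputable def polyEval : K[X] →ₗ[K] (ZMod p → K) where
  toFun P j := P.eval (ZMod.cast j : K)
  map_add' P Q := by funext j; simp
  map_smul' c P := by funext j; simp

/-- The functions given by polynomials of degree less than `r`. -/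
noncomputable def polyFun (r : ℕ) : Submodule K (ZMod p → K) :=
  (Polynomial.degreeLT K r).map (polyEval p K)

variable {p K}

theorem polyEval_apply (P : K[X]) (j : ZMod p) : polyEval p K P j = P.eval (ZMod.cast j : K) := rfl

theorem mem_polyFun {r : ℕ} {f : ZMod p → K} :
    f ∈ polyFun p K r ↔ ∃ P : K[X], P.degree < r ∧ polyEval p K P = f := by
  simp [polyFun, Submodule.mem_map, Polynomial.mem_degreeLT]

theorem zmod_cast_inj : Function.Injective (fun j : ZMod p => (ZMod.cast j : K)) :=
  (ZMod.castHom (dvd_refl p) K).injective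

theorem polyEval_inj {P Q : K[X]} (hP : P.degree < p) (hQ : Q.degree < p)
    (h : polyEval p K P = polyEval p K Q) : P = Q := by
  apply Polynomial.eq_of_degrees_lt_of_eval_index_eq (s := (Finset.univ : Finset (ZMod p)))
    (v := fun j : ZMod p => (ZMod.cast j : K)) zmod_cast_inj.injOn
  · simpa using hP
  · simpa using hQ
  · exact fun i _ => congrFun h i

theorem polyFun_top : polyFun p K p = ⊤ := by
  rw [eq_top_iff]
  intro f _
  have hv : Set.InjOn (fun j : ZMod p => (ZMod.cast j : K)) (Finset.univ : Finset (ZMod p)) :=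
    zmod_cast_inj.injOn
  refine mem_polyFun.2 ⟨Lagrange.interpolate Finset.univ (fun j : ZMod p => (ZMod.cast j : K)) f,
    ?_, ?_⟩
  · simpa using Lagrange.degree_interpolate_lt (r := f) hv
  · funext j
    exact Lagrange.eval_interpolate_at_node f hv (Finset.mem_univ j)

theorem polyFun_mono {r s : ℕ} (h : r ≤ s) : polyFun p K r ≤ polyFun p K s :=
  Submodule.map_mono (Polynomial.degreeLT_mono h)

theorem mem_polyFun_iff_coeff {r : ℕ} {P : K[X]} (hP : P.degree < p) (hr : r ≤ p) :
    polyEval p K P ∈ polyFun p K r ↔ P.degree < r := by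
  refine ⟨fun h => ?_, fun h => mem_polyFun.2 ⟨P, h, rfl⟩⟩
  obtain ⟨Q, hQ, hQP⟩ := mem_polyFun.1 h
  have := polyEval_inj (lt_of_lt_of_le hQ (by exact_mod_cast hr)) hP hQP
  exact this ▸ hQ

theorem finrank_polyFun {r : ℕ} (hr : r ≤ p) : Module.finrank K (polyFun p K r) = r := by
  have hinj : Function.Injective ((polyEval p K).domRestrict (Polynomial.degreeLT K r)) := by
    rintro ⟨P, hP⟩ ⟨Q, hQ⟩ h
    have hr' : (r : WithBot ℕ) ≤ p := by exact_mod_cast hr
    exact Subtype.ext (polyEval_inj ((Polynomial.mem_degreeLT.1 hP).trans_le hr')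
      ((Polynomial.mem_degreeLT.1 hQ).trans_le hr') h)
  have h1 := LinearMap.finrank_range_of_inj hinj
  rw [LinearMap.range_domRestrict] at h1
  rw [polyFun, h1, (Polynomial.degreeLTEquiv K r).finrank_eq, Module.finrank_fin_fun]

theorem polyEval_comp_shift (P : K[X]) :
    polyEval p K (Polynomial.taylor (-1) P) = fun j => polyEval p K P (j - 1) := by
  funext j
  simp [polyEval_apply, Polynomial.taylor_eval, ZMod.cast_sub (dvd_refl p), sub_eq_add_neg,
    ZMod.cast_neg (dvd_refl p), ZMod.cast_add (dvd_refl p)]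

theorem coeff_shift_sub (P : K[X]) (j : ℕ) (hP : P.degree < (j + 2 : ℕ)) :
    (Polynomial.taylor (-1) P - P).coeff j = -((j + 1 : ℕ) : K) * P.coeff (j + 1) := by
  have hdeg : (Polynomial.hasseDeriv j P).natDegree < 2 := by
    refine lt_of_le_of_lt (Polynomial.natDegree_hasseDeriv_le P j) ?_
    rcases eq_or_ne P 0 with rfl | h0
    · simp
    · have := (Polynomial.natDegree_lt_iff_degree_lt h0).2 hP
      omega
  rw [Polynomial.coeff_sub, Polynomial.taylor_coeff, Polynomial.eval_eq_sum_range' hdeg,
    Finset.sum_range_succ, Finset.sum_range_one, Polynomial.hasseDeriv_coeff,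
    Polynomial.hasseDeriv_coeff]
  rw [show 1 + j = j + 1 from add_comm 1 j]
  simp only [zero_add, Nat.choose_self, Nat.choose_succ_self_right, Nat.cast_one, one_mul, pow_zero,
    mul_one, pow_one]
  ring

/-- A translation invariant subspace consists of the polynomial functions of bounded degree. -/
theorem invariant_eq_polyFun (W : Submodule K (ZMod p → K))
    (hW : ∀ f ∈ W, (fun j => f (j - 1)) ∈ W) : ∃ r, r ≤ p ∧ W = polyFun p K r := by
  classical
  have hex : ∃ r, W ≤ polyFun p K r := ⟨p, by rw [polyFun_top]; exact le_top⟩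
  have hrp : Nat.find hex ≤ p := Nat.find_le (by rw [polyFun_top]; exact le_top)
  refine ⟨Nat.find hex, hrp, le_antisymm (Nat.find_spec hex) ?_⟩
  rcases h0 : Nat.find hex with _ | n
  · intro f hf
    obtain ⟨P, hP, rfl⟩ := mem_polyFun.1 hf
    have hP0 : P = 0 := by
      rw [← Polynomial.degree_eq_bot]
      revert hP
      generalize P.degree = d
      cases d <;> simp
    simp [hP0]
  · have hnp : n < p := by omega
    have hmin : ¬ W ≤ polyFun p K n := Nat.find_min hex (by omega)
    have hspec : W ≤ polyFun p K (n + 1) := h0 ▸ Nat.find_spec hex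
    have hdown : ∀ k, k ≤ n → ∃ P : K[X],
        P.degree < (n - k + 1 : ℕ) ∧ P.coeff (n - k) ≠ 0 ∧ polyEval p K P ∈ W := by
      intro k
      induction k with
      | zero =>
        intro _
        obtain ⟨f, hfW, hfn⟩ := SetLike.not_le_iff_exists.1 hmin
        obtain ⟨P, hP, rfl⟩ := mem_polyFun.1 (hspec hfW)
        refine ⟨P, by simpa using hP, fun hc => hfn (mem_polyFun.2 ⟨P, ?_, rfl⟩), hfW⟩
        rw [Polynomial.degree_lt_iff_coeff_zero] at hP ⊢
        intro m hm
        rcases Nat.eq_or_lt_of_le hm with h | h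
        · rw [← h]; simpa using hc
        · exact hP m (by omega)
      | succ k ih =>
        intro hk
        obtain ⟨P, hP, hc, hPW⟩ := ih (by omega)
        obtain ⟨m, hm⟩ : ∃ m, n - k = m + 1 := ⟨n - k - 1, by omega⟩
        rw [show n - (k + 1) = m by omega]
        rw [hm] at hP hc
        refine ⟨Polynomial.taylor (-1) P - P, ?_, ?_, ?_⟩
        · rw [Polynomial.degree_lt_iff_coeff_zero]
          intro i hi
          have hP' : P.degree < (i + 2 : ℕ) :=
            lt_of_lt_of_le hP (by exact_mod_cast (show m + 1 + 1 ≤ i + 2 by omega))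
          rw [coeff_shift_sub P i hP',
            (Polynomial.degree_lt_iff_coeff_zero P _).1 hP (i + 1) (by omega), mul_zero]
        · rw [coeff_shift_sub P m (lt_of_lt_of_le hP (by exact_mod_cast (show m + 1 + 1 ≤ m + 2 by omega)))]
          refine mul_ne_zero (neg_ne_zero.2 ?_) hc
          rw [Ne, CharP.cast_eq_zero_iff K p]
          exact fun h => absurd (Nat.le_of_dvd (by omega) h) (by omega)
        · rw [map_sub, polyEval_comp_shift]
          exact W.sub_mem (hW _ hPW) hPW
    suffices h : ∀ m, m ≤ n + 1 → polyFun p K m ≤ W from h (n + 1) le_rfl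
    intro m
    induction m with
    | zero =>
      intro _ f hf
      obtain ⟨P, hP, rfl⟩ := mem_polyFun.1 hf
      have hP0 : P = 0 := by
        ext i
        simpa using (Polynomial.degree_lt_iff_coeff_zero P 0).1 hP i (Nat.zero_le _)
      simp [hP0]
    | succ m ih =>
      intro hm f hf
      obtain ⟨P, hP, rfl⟩ := mem_polyFun.1 hf
      obtain ⟨Q, hQ, hc, hQW⟩ := hdown (n - m) (by omega)
      rw [show n - (n - m) = m by omega] at hQ hc
      have h1 : polyEval p K (P - (P.coeff m / Q.coeff m) • Q) ∈ W := by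
        refine ih (by omega) (mem_polyFun.2 ⟨_, ?_, rfl⟩)
        rw [Polynomial.degree_lt_iff_coeff_zero]
        intro i hi
        rcases Nat.eq_or_lt_of_le hi with h | h
        · subst h; simp [hc]
        · simp [(Polynomial.degree_lt_iff_coeff_zero P _).1 hP i (by omega),
            (Polynomial.degree_lt_iff_coeff_zero Q _).1 hQ i (by omega)]
      rw [map_sub, map_smul] at h1
      simpa using W.add_mem h1 (W.smul_mem (P.coeff m / Q.coeff m) hQW)

theorem sum_cast_pow (i : ℕ) (hi : i < p) :
    ∑ j : ZMod p, (ZMod.cast j : K) ^ i = if i = p - 1 then -1 else 0 := by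
  have hp : p.Prime := Fact.out
  have h : ∑ j : ZMod p, (ZMod.cast j : K) ^ i =
      ZMod.castHom (dvd_refl p) K (∑ j : ZMod p, j ^ i) := by
    simp [map_sum, map_pow]
  rw [h]
  split_ifs with hip
  · have h1 : ∑ j : ZMod p, j ^ i = (-1 : ZMod p) := by
      rw [hip]
      have h2 : ∀ j : ZMod p, j ^ (p - 1) = 1 - (if j = 0 then 1 else 0) := by
        intro j
        split_ifs with hj
        · rw [hj, zero_pow (by have := hp.two_le; omega), sub_self]
        · rw [ZMod.pow_card_sub_one_eq_one hj, sub_zero]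
      simp [Finset.sum_congr rfl (fun j _ => h2 j), Finset.sum_sub_distrib]
    rw [h1, map_neg, map_one]
  · rw [FiniteField.sum_pow_lt_card_sub_one (ZMod p) i (by rw [ZMod.card]; omega), map_zero]

theorem sum_polyEval (P : K[X]) (hP : P.degree < p) :
    ∑ j, polyEval p K P j = -P.coeff (p - 1) := by
  have hp : p.Prime := Fact.out
  have hd : P.natDegree < p := by
    rcases eq_or_ne P 0 with rfl | h0
    · simpa using hp.pos
    · exact (Polynomial.natDegree_lt_iff_degree_lt h0).2 hP
  simp only [polyEval_apply, Polynomial.eval_eq_sum_range' hd]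
  rw [Finset.sum_comm]
  simp only [← Finset.mul_sum]
  rw [Finset.sum_congr rfl (fun i hi => by rw [sum_cast_pow i (Finset.mem_range.1 hi)]),
    Finset.sum_eq_single (p - 1)]
  · simp
  · intro i _ hi; simp [hi]
  · intro h; exact absurd (Finset.mem_range.2 (by have := hp.pos; omega)) h

/-- The sum-zero functions are the polynomial functions of degree less than `p - 1`. -/
theorem mem_polyFun_pred {f : ZMod p → K} : f ∈ polyFun p K (p - 1) ↔ ∑ j, f j = 0 := by
  have hp : p.Prime := Fact.out
  have hf : f ∈ polyFun p K p := by rw [polyFun_top]; trivial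
  obtain ⟨P, hP, rfl⟩ := mem_polyFun.1 hf
  rw [mem_polyFun_iff_coeff hP (Nat.sub_le _ _), sum_polyEval P hP, neg_eq_zero,
    Polynomial.degree_lt_iff_coeff_zero]
  refine ⟨fun h => h _ le_rfl, fun h i hi => ?_⟩
  rcases Nat.eq_or_lt_of_le hi with h' | h'
  · rw [← h']; exact h
  · exact (Polynomial.degree_lt_iff_coeff_zero P p).1 hP i (by omega)

theorem mem_polyFun_one {f : ZMod p → K} : f ∈ polyFun p K 1 ↔ ∃ c : K, f = fun _ => c := by
  rw [mem_polyFun]
  constructor
  · rintro ⟨P, hP, rfl⟩
    refine ⟨P.coeff 0, funext fun j => ?_⟩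
    rw [polyEval_apply]
    conv_lhs => rw [Polynomial.eq_C_of_degree_le_zero (p := P) (by
      rw [Polynomial.degree_le_iff_coeff_zero]
      intro m hm
      exact (Polynomial.degree_lt_iff_coeff_zero P 1).1 hP m (by exact_mod_cast hm))]
    simp
  · rintro ⟨c, rfl⟩
    exact ⟨Polynomial.C c, lt_of_le_of_lt Polynomial.degree_C_le (by exact_mod_cast Nat.one_pos),
      funext fun j => by simp [polyEval_apply]⟩

/-- What is orthogonal to the functions of degree less than `r` has degree less than `p - r`. -/
theorem mem_polyFun_of_orthogonal {r : ℕ} (hr : 1 ≤ r) (hrp : r ≤ p) {f : ZMod p → K}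
    (h : ∀ g ∈ polyFun p K r, ∑ j, f j * g j = 0) : f ∈ polyFun p K (p - r) := by
  have hp : p.Prime := Fact.out
  have hf : f ∈ polyFun p K p := by rw [polyFun_top]; trivial
  obtain ⟨P, hP, rfl⟩ := mem_polyFun.1 hf
  refine mem_polyFun.2 ⟨P, ?_, rfl⟩
  by_contra hd
  rw [not_lt] at hd
  have h0 : P ≠ 0 := by
    intro h0
    rw [h0, Polynomial.degree_zero, le_bot_iff] at hd
    exact absurd hd (WithBot.natCast_ne_bot _)
  set d := P.natDegree with hdd
  rw [Polynomial.degree_eq_natDegree h0] at hd hP
  have hd1 : p - r ≤ d := by exact_mod_cast hd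
  have hd2 : d < p := by exact_mod_cast hP
  have hg : polyEval p K (X ^ (p - 1 - d) : K[X]) ∈ polyFun p K r := by
    refine mem_polyFun.2 ⟨_, ?_, rfl⟩
    rw [Polynomial.degree_X_pow]
    exact_mod_cast (show p - 1 - d < r by omega)
  have h1 := h _ hg
  have h2 : ∑ j, polyEval p K (P * X ^ (p - 1 - d)) j = 0 := by
    rw [← h1]
    exact Finset.sum_congr rfl fun j _ => by simp [polyEval_apply]
  rw [sum_polyEval, neg_eq_zero] at h2
  · have h3 := Polynomial.coeff_mul_X_pow P (p - 1 - d) d
    rw [show d + (p - 1 - d) = p - 1 by omega, h2] at h3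
    exact Polynomial.leadingCoeff_ne_zero.2 h0 h3.symm
  · rw [Polynomial.degree_mul, Polynomial.degree_X_pow, Polynomial.degree_eq_natDegree h0]
    exact_mod_cast (show d + (p - 1 - d) < p by omega)

theorem sum_mul_eq_zero {r : ℕ} (hr : 1 ≤ r) (hrp : r + 1 ≤ p) {f g : ZMod p → K}
    (hf : f ∈ polyFun p K (p - r)) (hg : g ∈ polyFun p K r) : ∑ j, f j * g j = 0 := by
  have hp : p.Prime := Fact.out
  obtain ⟨P, hP, rfl⟩ := mem_polyFun.1 hf
  obtain ⟨Q, hQ, rfl⟩ := mem_polyFun.1 hg
  refine mem_polyFun_pred.1 (mem_polyFun.2 ⟨P * Q, ?_, funext fun j => by simp [polyEval_apply]⟩)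
  rw [Polynomial.degree_mul]
  rcases eq_or_ne P 0 with rfl | h1
  · simp
  rcases eq_or_ne Q 0 with rfl | h2
  · simp
  rw [Polynomial.degree_eq_natDegree h1] at hP ⊢
  rw [Polynomial.degree_eq_natDegree h2] at hQ ⊢
  have h3 : P.natDegree < p - r := by exact_mod_cast hP
  have h4 : Q.natDegree < r := by exact_mod_cast hQ
  exact_mod_cast (show P.natDegree + Q.natDegree < p - 1 by omega)

/-- A self-map of `ZMod p` preserving the functions of degree less than `s` is affine. -/
theorem affine_of_polyFun {s : ℕ} (hs : 2 ≤ s) (hsp : 2 * (s - 1) < p) (π : ZMod p → ZMod p)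
    (hinv : ∀ f ∈ polyFun p K s, (fun j => f (π j)) ∈ polyFun p K s) :
    ∀ j, π j = π 0 + (π 1 - π 0) * j := by
  classical
  have hp : p.Prime := Fact.out
  have hsle : s ≤ p := by omega
  have hX : ∀ i, i < s → (fun j => (ZMod.cast (π j) : K) ^ i) ∈ polyFun p K s := by
    intro i hi
    have := hinv (polyEval p K (X ^ i)) (mem_polyFun.2 ⟨_, by
      rw [Polynomial.degree_X_pow]; exact_mod_cast hi, rfl⟩)
    simpa [polyEval_apply] using this
  have h1 := hX 1 (by omega)
  simp only [pow_one] at h1
  obtain ⟨F, hF, hFe⟩ := mem_polyFun.1 h1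
  have hn : F.natDegree < s := by
    rcases eq_or_ne F 0 with rfl | h0
    · simpa using (show 0 < s by omega)
    · exact (Polynomial.natDegree_lt_iff_degree_lt h0).2 hF
  have hind : ∀ i, i ≤ s - 1 → (F ^ i).natDegree ≤ s - 1 := by
    intro i
    induction i with
    | zero => intro _; simp
    | succ i ih =>
      intro hi
      have h2 : (F ^ (i + 1)).natDegree < p := by
        rw [pow_succ]
        refine lt_of_le_of_lt Polynomial.natDegree_mul_le ?_
        have := ih (by omega)
        omega
      obtain ⟨Q, hQ, hQe⟩ := mem_polyFun.1 (hX (i + 1) (by omega))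
      have h4 : Q = F ^ (i + 1) := by
        refine polyEval_inj (lt_of_lt_of_le hQ (by exact_mod_cast hsle)) ?_ ?_
        · refine lt_of_le_of_lt Polynomial.degree_le_natDegree ?_
          exact_mod_cast h2
        · rw [hQe]
          funext j
          rw [polyEval_apply, Polynomial.eval_pow, ← polyEval_apply, hFe]
      rw [h4] at hQ
      rcases eq_or_ne (F ^ (i + 1)) 0 with h0 | h0
      · simp [h0]
      · have := (Polynomial.natDegree_lt_iff_degree_lt h0).2 hQ
        omega
  have hle : F.natDegree ≤ 1 := by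
    have := hind (s - 1) le_rfl
    rw [Polynomial.natDegree_pow] at this
    exact Nat.le_of_mul_le_mul_left (by simpa using this) (show 0 < s - 1 by omega)
  have heval : ∀ j : ZMod p,
      (ZMod.cast (π j) : K) = F.coeff 0 + F.coeff 1 * (ZMod.cast j : K) := by
    intro j
    rw [← congrFun hFe j, polyEval_apply]
    conv_lhs => rw [Polynomial.eq_X_add_C_of_natDegree_le_one hle]
    simp [add_comm]
  intro j
  apply zmod_cast_inj (K := K)
  show (ZMod.cast (π j) : K) = (ZMod.cast (π 0 + (π 1 - π 0) * j) : K)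
  rw [ZMod.cast_add (dvd_refl p), ZMod.cast_mul (dvd_refl p), ZMod.cast_sub (dvd_refl p), heval j,
    heval 1, heval 0]
  simp [ZMod.cast_one (dvd_refl p)]

end Cfsg.Agent.Block
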