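import Cfsg.Prelude.Def_Perm
import Cfsg.Agent.Lib.Block.PrimeDegree
import Cfsg.Agent.Lib.Block.ZModPoly

/-! The permutation module of a transitive group of prime degree. -/

namespace Cfsg.Agent.Block

open Cfsg

variable {α : Type*} [Fintype α] [DecidableEq α] {p : ℕ} [Fact p.Prime]

/-- Identification of the points with `ZMod p` turning a Sylow generator into the translation. -/
theorem exists_zmod_equiv (hα : Fintype.card α = p) (G : Subgroup (Equiv.Perm α))
    [MulAction.IsPretransitive G α] (P : Sylow p G) (a : α) :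
    ∃ σ : G, σ ∈ (P : Subgroup G) ∧ (∀ x ∈ (P : Subgroup G), ∃ i : ℕ, x = σ ^ i) ∧
      orderOf σ = p ∧ ∃ e : ZMod p ≃ α, e 0 = a ∧ ∀ j, (σ : Equiv.Perm α) (e j) = e (j + 1) := by
  have hp : p.Prime := Fact.out
  have hc := primeDeg_card_sylow hα G P
  have := isCyclic_of_prime_card hc
  obtain ⟨⟨σ, hσ⟩, hgen⟩ := IsCyclic.exists_generator (α := (P : Subgroup G))
  have hord : orderOf σ = p := by
    have := orderOf_eq_card_of_forall_mem_zpowers hgen
    rw [hc, ← Subgroup.orderOf_coe] at this
    exact this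
  have hpow : ∀ x ∈ (P : Subgroup G), ∃ i : ℕ, x = σ ^ i := by
    intro x hx
    obtain ⟨i, hi⟩ := mem_powers_iff_mem_zpowers.2 (hgen ⟨x, hx⟩)
    exact ⟨i, by simpa using (congrArg Subtype.val hi).symm⟩
  refine ⟨σ, hσ, hpow, hord, ?_⟩
  have hmod : ∀ n, σ ^ (n % p) = σ ^ n := fun n => by rw [← hord, pow_mod_orderOf]
  let e₀ : ZMod p → α := fun j => ((σ ^ j.val : G) : Equiv.Perm α) a
  have hsurj : Function.Surjective e₀ := by
    intro b
    have := primeDeg_pretransitive_of_dvd hα G (P : Subgroup G) (by rw [hc])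
    obtain ⟨⟨x, hx⟩, rfl⟩ := MulAction.exists_smul_eq (P : Subgroup G) a b
    obtain ⟨i, rfl⟩ := hpow x hx
    refine ⟨i, ?_⟩
    show ((σ ^ (i : ZMod p).val : G) : Equiv.Perm α) a = _
    rw [ZMod.val_natCast]
    rw [hmod]
    rfl
  have hbij : Function.Bijective e₀ :=
    (Fintype.bijective_iff_surjective_and_card e₀).2 ⟨hsurj, by rw [ZMod.card, hα]⟩
  refine ⟨Equiv.ofBijective e₀ hbij, by simp [e₀], fun j => ?_⟩
  show (σ : Equiv.Perm α) (e₀ j) = e₀ (j + 1)
  simp only [e₀]
  rw [ZMod.val_add, ZMod.val_one]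
  rw [hmod, pow_succ']
  simp

variable {G : Subgroup (Equiv.Perm α)}

/-- A group of affine maps of `ZMod p` is solvable. -/
theorem isSolvable_of_affine (e : ZMod p ≃ α)
    (h : ∀ (g : G) (j : ZMod p), e.symm ((g : Equiv.Perm α) (e j)) =
      e.symm ((g : Equiv.Perm α) (e 0)) +
        (e.symm ((g : Equiv.Perm α) (e 1)) - e.symm ((g : Equiv.Perm α) (e 0))) * j) :
    Group.IsSolvable G := by
  let π : G → ZMod p → ZMod p := fun g j => e.symm ((g : Equiv.Perm α) (e j))
  have hπ : ∀ g h' j, π (g * h') j = π g (π h' j) := by intro g h' j; simp [π]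
  have h' : ∀ g j, π g j = π g 0 + (π g 1 - π g 0) * j := h
  let φ₀ : G →* ZMod p :=
    { toFun := fun g => π g 1 - π g 0
      map_one' := by simp [π]
      map_mul' := fun g k => by
        show π (g * k) 1 - π (g * k) 0 = (π g 1 - π g 0) * (π k 1 - π k 0)
        rw [hπ, hπ, h' g (π k 1), h' g (π k 0)]
        ring }
  let φ : G →* (ZMod p)ˣ := φ₀.toHomUnits
  have hker : ∀ g ∈ φ.ker, ∀ j, π g j = π g 0 + j := by
    intro g hg j
    have h1 : φ₀ g = 1 := by
      have := congrArg Units.val (MonoidHom.mem_ker.1 hg)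
      simpa [φ] using this
    rw [h' g j, show π g 1 - π g 0 = 1 from h1, one_mul]
  have hcomm : ∀ a b : φ.ker, a * b = b * a := by
    rintro ⟨a, ha⟩ ⟨b, hb⟩
    apply Subtype.ext
    apply Subtype.ext
    refine Equiv.ext fun x => ?_
    apply e.symm.injective
    have h1 : ∀ j, π a (π b j) = π b (π a j) := by
      intro j
      rw [hker a ha (π b j), hker b hb j, hker b hb (π a j), hker a ha j]
      ring
    simpa [π] using h1 (e.symm x)
  have : Group.IsSolvable φ.ker := isSolvable_of_comm hcomm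
  exact solvable_of_ker_le_range φ.ker.subtype φ (by simp)

variable {K : Type*} [Field K] [CharP K p]

/-- Insoluble groups of prime degree have irreducible heart. -/
theorem heart_irreducible (hα : Fintype.card α = p) (G : Subgroup (Equiv.Perm α))
    [MulAction.IsPretransitive G α] (hG : ¬ Group.IsSolvable G)
    (W : Subrepresentation (permRep K G α))
    (h₁ : (permConstants K G α).toSubmodule ≤ W.toSubmodule)
    (h₂ : W.toSubmodule ≤ (permSumZero K G α).toSubmodule) :
    W = permConstants K G α ∨ W = permSumZero K G α := by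
  classical
  have hp : p.Prime := Fact.out
  obtain ⟨P⟩ : Nonempty (Sylow p G) := inferInstance
  obtain ⟨a⟩ : Nonempty α := Fintype.card_pos_iff.1 (hα ▸ hp.pos)
  obtain ⟨σ, -, -, -, e, -, hσ⟩ := exists_zmod_equiv hα G P a
  let W' : Submodule K (ZMod p → K) := W.toSubmodule.comap (LinearMap.funLeft K K e.symm)
  have hmem : ∀ f, f ∈ W' ↔ (fun x => f (e.symm x)) ∈ W.toSubmodule := fun f => Iff.rfl
  have hshift : ∀ f ∈ W', (fun j => f (j - 1)) ∈ W' := by
    intro f hf
    have h3 := W.apply_mem_toSubmodule σ ((hmem f).1 hf)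
    rw [hmem]
    convert h3 using 1
    funext x
    show f (e.symm x - 1) = f (e.symm ((σ⁻¹ : G) • x))
    congr 1
    rw [Subgroup.smul_def, Equiv.Perm.smul_def, Subgroup.coe_inv]
    apply e.injective
    rw [e.apply_symm_apply]
    apply (σ : Equiv.Perm α).injective
    rw [hσ, sub_add_cancel, e.apply_symm_apply]
    simp
  obtain ⟨r, hrp, hr⟩ := invariant_eq_polyFun W' hshift
  have hW : ∀ v : α → K, v ∈ W.toSubmodule ↔ (fun j => v (e j)) ∈ polyFun p K r := by
    intro v
    rw [← hr, hmem]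
    simp
  have hr1 : 1 ≤ r := by
    have h3 := (hW _).1 (h₁ (Submodule.mem_span_singleton_self _))
    by_contra h0
    obtain rfl : r = 0 := by omega
    obtain ⟨Q, hQ, hQe⟩ := mem_polyFun.1 h3
    have hQ0 : Q = 0 := by
      ext i
      simpa using (Polynomial.degree_lt_iff_coeff_zero Q 0).1 hQ i (Nat.zero_le _)
    have := congrFun hQe 0
    simp [hQ0] at this
  have hrle : r ≤ p - 1 := by
    by_contra h0
    obtain rfl : r = p := by omega
    have h3 : (fun x => if x = a then (1 : K) else 0) ∈ W.toSubmodule := by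
      rw [hW, polyFun_top]
      trivial
    have h4 : ∑ x, (if x = a then (1 : K) else 0) = 0 := h₂ h3
    simp at h4
  by_cases hr2 : r = 1
  · left
    refine Subrepresentation.toSubmodule_injective (le_antisymm (fun v hv => ?_) h₁)
    obtain ⟨c, hc⟩ := mem_polyFun_one.1 (hr2 ▸ (hW v).1 hv)
    refine Submodule.mem_span_singleton.2 ⟨c, funext fun x => ?_⟩
    have := congrFun hc (e.symm x)
    simpa using this.symm
  by_cases hr3 : r = p - 1
  · right
    refine Subrepresentation.toSubmodule_injective (le_antisymm h₂ fun v hv => ?_)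
    rw [hW, hr3, mem_polyFun_pred]
    rw [← show ∑ x, v x = 0 from hv]
    exact e.sum_comp v
  exfalso
  apply hG
  have hinv : ∀ (g : G) (f : ZMod p → K), f ∈ polyFun p K r →
      (fun j => f (e.symm ((g : Equiv.Perm α) (e j)))) ∈ polyFun p K r := by
    intro g f hf
    have h3 : (fun x => f (e.symm x)) ∈ W.toSubmodule := by rw [hW]; simpa using hf
    have h4 := (hW _).1 (W.apply_mem_toSubmodule g⁻¹ h3)
    simpa [permRep, Subgroup.smul_def, Equiv.Perm.inv_def] using h4
  have hinv' : ∀ (g : G) (f : ZMod p → K), f ∈ polyFun p K (p - r) →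
      (fun j => f (e.symm ((g : Equiv.Perm α) (e j)))) ∈ polyFun p K (p - r) := by
    intro g f hf
    refine mem_polyFun_of_orthogonal hr1 hrp fun v hv => ?_
    rw [← sum_mul_eq_zero hr1 (by omega) hf (hinv g⁻¹ v hv)]
    refine Fintype.sum_equiv ((e.trans (g : Equiv.Perm α)).trans e.symm) _ _ fun j => ?_
    simp
  obtain ⟨s, hs, hsp, hsinv⟩ : ∃ s, 2 ≤ s ∧ 2 * (s - 1) < p ∧ ∀ (g : G) (f : ZMod p → K),
      f ∈ polyFun p K s → (fun j => f (e.symm ((g : Equiv.Perm α) (e j)))) ∈ polyFun p K s := by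
    by_cases h3 : 2 * (r - 1) < p
    · exact ⟨r, by omega, h3, hinv⟩
    · exact ⟨p - r, by omega, by omega, hinv'⟩
  exact isSolvable_of_affine e fun g =>
    affine_of_polyFun hs hsp (fun j => e.symm ((g : Equiv.Perm α) (e j))) (hsinv g)

theorem perm_affine_two :
    ∀ q : Equiv.Perm (ZMod 2), ∀ j, q j = q 0 + (q 1 - q 0) * j := by decide

theorem perm_affine_three :
    ∀ q : Equiv.Perm (ZMod 3), ∀ j, q j = q 0 + (q 1 - q 0) * j := by decide

/-- A permutation group on at most three points is solvable. -/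
theorem isSolvable_of_card_le_three (hα : Fintype.card α = p) (hp3 : p ≤ 3)
    (G : Subgroup (Equiv.Perm α)) [MulAction.IsPretransitive G α] : Group.IsSolvable G := by
  have hp : p.Prime := Fact.out
  obtain ⟨P⟩ : Nonempty (Sylow p G) := inferInstance
  obtain ⟨a⟩ : Nonempty α := Fintype.card_pos_iff.1 (hα ▸ hp.pos)
  obtain ⟨σ, -, -, -, e, -, -⟩ := exists_zmod_equiv hα G P a
  refine isSolvable_of_affine e fun g j => ?_
  set π := (e.trans (g : Equiv.Perm α)).trans e.symm with hπ
  have key : ∀ q : Equiv.Perm (ZMod p), ∀ j, q j = q 0 + (q 1 - q 0) * j := by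
    have := hp.two_le
    interval_cases p
    · exact perm_affine_two
    · exact perm_affine_three
  exact key π j

end Cfsg.Agent.Block
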