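import Cfsg.Agent.Lib.Block.DegreeElevenOrder
import Cfsg.Agent.Lib.Block.MultiTrans
import Cfsg.Agent.S0498
import Cfsg.Agent.S0675

/-!
# Non-solvable groups of degree eleven
-/

set_option autoImplicit false

namespace Cfsg.Agent.Block.DegEleven

open Equiv Equiv.Perm

variable {α : Type*} [Fintype α] [DecidableEq α]

theorem twoTrans (hα : Fintype.card α = 11) (G : Subgroup (Perm α)) [MulAction.IsPretransitive G α]
    (hG : ¬ Group.IsSolvable G) : TwoTrans G := by
  have h : MulAction.IsMultiplyPretransitive G α 2 :=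
    (Cfsg.Agent.S0675.result (hα ▸ by norm_num) G).resolve_left hG
  intro a b c d hab hcd
  obtain ⟨g, h1, h2⟩ := MulAction.is_two_pretransitive_iff.1 h hab hcd
  exact ⟨g, g.2, h1, h2⟩

/-- A permutation of period four all of whose moved points have period four. -/
theorem sign_four (σ : Perm α) (h4 : σ ^ 4 = 1) (h : ∀ x, σ x ≠ x → (σ ^ 2) x ≠ x) :
    4 ∣ σ.support.card ∧ sign σ = (-1) ^ (σ.support.card / 4) := by
  have hall : ∀ n ∈ σ.cycleType, n = 4 := by
    intro n hn
    have h1 : n ∣ 4 := (dvd_of_mem_cycleType hn).trans (orderOf_dvd_of_pow_eq_one h4)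
    have h2 := two_le_of_mem_cycleType hn
    have h3 := Nat.le_of_dvd (by norm_num) h1
    obtain ⟨c, τ, hστ, hd, hc, hcard⟩ := mem_cycleType_iff.1 hn
    rcases (show n = 2 ∨ n = 4 by interval_cases n <;> omega) with rfl | h'
    · exfalso
      obtain ⟨x, hx⟩ := hc.nonempty_support
      have hcx : c x ≠ x := mem_support.1 hx
      have hτx : τ x = x := (hd x).resolve_left hcx
      have hτc : τ (c x) = c x := (hd (c x)).resolve_left fun e => hcx (c.injective e)
      have hcc : c (c x) = x := by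
        have : c ^ 2 = 1 := by rw [← hcard, ← hc.orderOf]; exact pow_orderOf_eq_one c
        rw [← Perm.mul_apply, ← sq, this, Perm.one_apply]
      refine h x ?_ ?_
      · rw [hστ, Perm.mul_apply, hτx]; exact hcx
      · rw [sq, hστ]; simp only [Perm.mul_apply, hτx, hτc, hcc]
    · exact h'
  have hrep : σ.cycleType = Multiset.replicate (Multiset.card σ.cycleType) 4 :=
    Multiset.eq_replicate.2 ⟨rfl, hall⟩
  have hsum : σ.support.card = 4 * Multiset.card σ.cycleType := by
    rw [← sum_cycleType]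
    conv_lhs => rw [hrep]
    rw [Multiset.sum_replicate, smul_eq_mul, mul_comm]
  refine ⟨⟨_, hsum⟩, ?_⟩
  rw [sign_of_cycleType, sum_cycleType, hsum, Nat.mul_div_cancel_left _ (by norm_num : 0 < 4), pow_add, pow_mul]
  norm_num

/-- Orbit-stabiliser inside a permutation group, with finsets. -/
theorem orbit_count (L : Subgroup (Perm α)) (v : α) :
    Nat.card L = Nat.card (MulAction.orbit L v) * Nat.card (L ⊓ MulAction.stabilizer (Perm α) v : Subgroup (Perm α)) := by
  have e : (MulAction.stabilizer L v) = (L ⊓ MulAction.stabilizer (Perm α) v).subgroupOf L := by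
    ext g
    simp only [MulAction.mem_stabilizer_iff, Subgroup.mem_subgroupOf, Subgroup.mem_inf, g.2, true_and]
    rfl
  rw [← Nat.card_congr (Subgroup.subgroupOfEquivOfLe (inf_le_left : L ⊓ MulAction.stabilizer (Perm α) v ≤ L)).toEquiv,
    ← e, Nat.card_congr (MulAction.orbitEquivQuotientStabilizer L v), ← Subgroup.index,
    Subgroup.index_mul_card]

variable (hα : Fintype.card α = 11)

section

variable (M : Subgroup (Perm α)) [MulAction.IsPretransitive M α]
  (hA : ¬ alternatingGroup α ≤ M) (heven : ∀ g ∈ M, sign g = 1) (h2 : TwoTrans M)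

include hα hA heven h2

/-- Involutions fix exactly three points. -/
theorem invol_fix {u : Perm α} (hu : u ∈ M) (hu2 : u ^ 2 = 1) (hu1 : u ≠ 1) :
    (Finset.univ.filter fun a => u a = a).card = 3 := by
  obtain ⟨k, hk, hct, hs, hsign⟩ := invol_type u hu2 hu1
  have hle := u.support.card_le_univ
  rw [hα, hs] at hle
  rw [heven u hu] at hsign
  have hf := card_fixed u
  rw [hs, hα] at hf
  have hk' : k ≤ 5 := by omega
  interval_cases k <;> norm_num at hsign
  · exact (no_double hα M hA h2 hu (by rw [hct]; rfl)).elim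
  · omega

/-- An element of order four fixes exactly three points. -/
theorem four_fix {z : Perm α} (hz : z ∈ M) (ho : orderOf z = 4) : ∃ w b c : α, w ≠ b ∧ w ≠ c ∧ b ≠ c ∧
    z w = w ∧ z b = b ∧ z c = c ∧ ∀ x, (z ^ 2) x = x → x = w ∨ x = b ∨ x = c := by
  haveI : Fact (Nat.Prime 2) := ⟨Nat.prime_two⟩
  have hz4 : z ^ 4 = 1 := ho ▸ pow_orderOf_eq_one z
  have hz21 : z ^ 2 ≠ 1 := fun h => by
    have := Nat.le_of_dvd (by norm_num) (orderOf_dvd_of_pow_eq_one h)
    omega
  have h22 : (z ^ 2) ^ 2 = 1 := by rw [← pow_mul]; exact hz4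
  have hF := invol_fix hα M hA heven h2 (M.pow_mem hz 2) h22 hz21
  set F := Finset.univ.filter fun a => (z ^ 2) a = a with hFdef
  have hmem : ∀ x, x ∈ F ↔ (z ^ 2) x = x := fun x => by simp [hFdef]
  have hzF : ∀ x, z x ∈ F ↔ x ∈ F := fun x => by
    rw [hmem, hmem, ← Perm.mul_apply, ← pow_succ, pow_succ', Perm.mul_apply, z.injective.eq_iff]
  obtain ⟨w, hwF, hzw⟩ : ∃ w ∈ F, z w = w := by
    by_contra hcon
    push Not at hcon
    have hsub : ∀ x : F, (z.subtypePerm hzF ^ 2) x = x := fun x => by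
      rw [subtypePerm_pow]; exact Subtype.ext ((hmem x).1 x.2)
    have h := inv_mod (p := 2) (z.subtypePerm hzF) (Equiv.ext hsub) Finset.univ fun _ => by simp
    have hempty : (Finset.univ.filter fun x : F => z.subtypePerm hzF x = x) = ∅ :=
      Finset.filter_eq_empty_iff.2 fun x _ e => hcon x x.2 (congrArg Subtype.val e)
    rw [Finset.card_univ, Fintype.card_coe, hF, hempty] at h
    norm_num at h
  obtain ⟨b, c, hbc, hbcF⟩ := Finset.card_eq_two.1 (show (F.erase w).card = 2 by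
    rw [Finset.card_erase_of_mem hwF, hF])
  have hb : b ∈ F.erase w := hbcF ▸ Finset.mem_insert_self b {c}
  have hc : c ∈ F.erase w := hbcF ▸ Finset.mem_insert_of_mem (Finset.mem_singleton_self c)
  have hwb : w ≠ b := (Finset.ne_of_mem_erase hb).symm
  have hwc : w ≠ c := (Finset.ne_of_mem_erase hc).symm
  have h3 : ∀ x, x ∈ F → x = w ∨ x = b ∨ x = c := fun x hx => by
    by_cases hxw : x = w
    · exact Or.inl hxw
    · have : x ∈ ({b, c} : Finset α) := hbcF ▸ Finset.mem_erase.2 ⟨hxw, hx⟩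
      simp only [Finset.mem_insert, Finset.mem_singleton] at this
      exact Or.inr this
  have hzb : z b = b := by
    rcases h3 (z b) ((hzF b).2 (Finset.mem_of_mem_erase hb)) with h | h | h
    · exact absurd (z.injective (h.trans hzw.symm)) hwb.symm
    · exact h
    exfalso
    have hzc : z c = b := by
      rw [← h, ← Perm.mul_apply, ← sq]; exact (hmem b).1 (Finset.mem_of_mem_erase hb)
    set σ := z * swap b c with hσ
    have hσb : σ b = b := by rw [hσ, Perm.mul_apply, swap_apply_left, hzc]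
    have hσc : σ c = c := by rw [hσ, Perm.mul_apply, swap_apply_right, h]
    have hσx : ∀ x, x ≠ b → x ≠ c → σ x = z x := fun x h1 h2 => by
      rw [hσ, Perm.mul_apply, swap_apply_of_ne_of_ne h1 h2]
    have hout : ∀ x, x ≠ b → x ≠ c → z x ≠ b ∧ z x ≠ c := fun x h1 h2 =>
      ⟨fun e => h2 (z.injective (e.trans hzc.symm)), fun e => h1 (z.injective (e.trans h.symm))⟩
    have hσ2 : ∀ x, x ≠ b → x ≠ c → (σ ^ 2) x = (z ^ 2) x := fun x h1 h2 => by
      rw [sq, sq]
      show σ (σ x) = z (z x)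
      rw [hσx x h1 h2, hσx _ (hout x h1 h2).1 (hout x h1 h2).2]
    have hσ4 : σ ^ 4 = 1 := by
      ext x
      rw [Perm.one_apply]
      by_cases h1 : x = b
      · subst h1; exact pow_apply_eq_self_of_apply_eq_self hσb 4
      by_cases h2 : x = c
      · subst h2; exact pow_apply_eq_self_of_apply_eq_self hσc 4
      have hz2x : (z ^ 2) x ≠ b ∧ (z ^ 2) x ≠ c := by
        rw [sq, Perm.mul_apply]
        exact hout _ (hout x h1 h2).1 (hout x h1 h2).2
      rw [show (4 : ℕ) = 2 + 2 from rfl, pow_add, Perm.mul_apply, hσ2 x h1 h2, hσ2 _ hz2x.1 hz2x.2,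
        ← Perm.mul_apply, ← pow_add, hz4, Perm.one_apply]
    have hmove : ∀ x, σ x ≠ x → x ∉ F := by
      intro x hx hxF
      rcases h3 x hxF with rfl | rfl | rfl
      exacts [hx (by rw [hσx x hwb hwc, hzw]), hx hσb, hx hσc]
    obtain ⟨-, hsign⟩ := sign_four σ hσ4 fun x hx => by
      rw [hσ2 x (fun e => hx (e ▸ hσb)) (fun e => hx (e ▸ hσc))]
      exact fun e => hmove x hx ((hmem x).2 e)
    have hsupp : σ.support = Finset.univ \ F := by
      ext x
      rw [mem_support, Finset.mem_sdiff]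
      refine ⟨fun hx => ⟨Finset.mem_univ x, hmove x hx⟩, fun ⟨_, hxF⟩ hx => ?_⟩
      have h1 : x ≠ b := fun e => hxF (e ▸ Finset.mem_of_mem_erase hb)
      have h2 : x ≠ c := fun e => hxF (e ▸ Finset.mem_of_mem_erase hc)
      exact hxF ((hmem x).2 (by rw [← hσ2 x h1 h2]; exact pow_apply_eq_self_of_apply_eq_self hx 2))
    rw [hsupp, Finset.card_univ_sdiff, hα, hF, hσ, map_mul, heven z hz, sign_swap hbc] at hsign
    norm_num at hsign
  have hzc : z c = c := by
    rcases h3 (z c) ((hzF c).2 (Finset.mem_of_mem_erase hc)) with h | h | h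
    · exact absurd (z.injective (h.trans hzw.symm)) hwc.symm
    · exact absurd (z.injective (h.trans hzb.symm)) hbc.symm
    · exact h
  exact ⟨w, b, c, hwb, hwc, hbc, hzw, hzb, hzc, fun x hx => h3 x ((hmem x).2 hx)⟩

theorem sharp_four (hcard : Nat.card M = 7920) (hz : ∃ z ∈ M, orderOf z = 4) :
    MulAction.IsMultiplyPretransitive M α 4 ∧ ∀ x : Fin 4 ↪ α, MulAction.stabilizer M x = ⊥ := by
  classical
  let St : α → Subgroup (Perm α) := fun x => MulAction.stabilizer (Perm α) x
  have hStmem : ∀ (g : Perm α) x, g ∈ St x ↔ g x = x := fun g x => Iff.rfl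
  have horb1 : ∀ x, Nat.card (M ⊓ St x : Subgroup (Perm α)) = 720 := by
    intro x
    have h : Nat.card M = Nat.card (MulAction.orbit M x) * Nat.card (M ⊓ St x : Subgroup (Perm α)) :=
      orbit_count M x
    rw [hcard, show MulAction.orbit M x = Set.univ from MulAction.orbit_eq_univ M x, Nat.card_univ,
      Nat.card_eq_fintype_card, hα] at h
    omega
  have horb2 : ∀ x y, x ≠ y → Nat.card (M ⊓ St x ⊓ St y : Subgroup (Perm α)) = 72 := by
    intro x y hxy
    have h : Nat.card (M ⊓ St x : Subgroup (Perm α)) = Nat.card (MulAction.orbit (M ⊓ St x : Subgroup (Perm α)) y) *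
        Nat.card (M ⊓ St x ⊓ St y : Subgroup (Perm α)) := orbit_count (M ⊓ St x) y
    rw [horb1 x, show MulAction.orbit (M ⊓ St x : Subgroup (Perm α)) y = ({x}ᶜ : Set α) from ?_,
      Nat.card_coe_set_eq, Set.ncard_compl, Set.ncard_singleton, Nat.card_eq_fintype_card, hα] at h
    · omega
    ext u
    constructor
    · rintro ⟨g, rfl⟩
      exact fun e => hxy ((g : Perm α).injective
        (((hStmem g x).1 (Subgroup.mem_inf.1 g.2).2).trans (Eq.symm e)))
    · intro hu
      obtain ⟨g, hg, h1, h2'⟩ := h2 x y x u hxy (Ne.symm hu)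
      exact ⟨⟨g, Subgroup.mem_inf.2 ⟨hg, h1⟩⟩, h2'⟩
  obtain ⟨z, hzM, hzo⟩ := hz
  obtain ⟨w, b, c, hwb, hwc, hbc, hzw, hzb, hzc, h3⟩ := four_fix hα M hA heven h2 hzM hzo
  set L := M ⊓ St w ⊓ St b with hL
  have hzL : z ∈ L := Subgroup.mem_inf.2 ⟨Subgroup.mem_inf.2 ⟨hzM, hzw⟩, hzb⟩
  let O : Finset α := Finset.univ.filter fun u => u ∈ MulAction.orbit L c
  have hOcard : Nat.card (MulAction.orbit L c) = O.card := by
    rw [Nat.card_eq_fintype_card, ← Set.toFinset_card]
    congr 1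
    ext u; simp [O]
  have hOsub : O ⊆ Finset.univ \ {w, b} := by
    intro u hu
    simp only [O, Finset.mem_filter, Finset.mem_univ, true_and] at hu
    obtain ⟨g, rfl⟩ := hu
    obtain ⟨h1, h2'⟩ := Subgroup.mem_inf.1 g.2
    simp only [Finset.mem_sdiff, Finset.mem_univ, true_and, Finset.mem_insert, Finset.mem_singleton, not_or]
    exact ⟨fun e => hwc.symm ((g : Perm α).injective
        (Eq.trans e ((hStmem g w).1 (Subgroup.mem_inf.1 h1).2).symm)),
      fun e => hbc.symm ((g : Perm α).injective (Eq.trans e ((hStmem g b).1 h2').symm))⟩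
  have hcO : c ∈ O := Finset.mem_filter.2 ⟨Finset.mem_univ _, MulAction.mem_orbit_self c⟩
  have hne : O.card ≠ 1 := by
    intro h1
    obtain ⟨k, hk, hkc⟩ : ∃ k ∈ L, k ≠ 1 := by
      have : Nat.card L = 72 := horb2 w b hwb
      by_contra hcon
      push Not at hcon
      rw [(Subgroup.eq_bot_iff_forall L).2 hcon, Subgroup.card_bot] at this
      norm_num at this
    refine design hα M h2 hwb hwc.symm hbc.symm (Subgroup.mem_inf.1 (Subgroup.mem_inf.1 hk).1).1
      ((hStmem k w).1 (Subgroup.mem_inf.1 (Subgroup.mem_inf.1 hk).1).2)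
      ((hStmem k b).1 (Subgroup.mem_inf.1 hk).2) hkc fun g hg hgw hgb => ?_
    have hgO : g c ∈ O := Finset.mem_filter.2 ⟨Finset.mem_univ _,
      ⟨⟨g, Subgroup.mem_inf.2 ⟨Subgroup.mem_inf.2 ⟨hg, hgw⟩, hgb⟩⟩, rfl⟩⟩
    exact Finset.card_le_one.1 h1.le _ hgO _ hcO
  have hzinv : ∀ u, z u ∈ O ↔ u ∈ O := fun u => by
    simp only [O, Finset.mem_filter, Finset.mem_univ, true_and]
    exact ⟨fun h => by simpa [Subgroup.smul_def] using MulAction.mem_orbit_of_mem_orbit (⟨z, hzL⟩⁻¹ : L) h,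
      fun h => MulAction.mem_orbit_of_mem_orbit (⟨z, hzL⟩ : L) h⟩
  have hfour : 4 ∣ O.card - 1 := by
    have hinv : ∀ u, z u ∈ O.erase c ↔ u ∈ O.erase c := fun u => by
      rw [Finset.mem_erase, Finset.mem_erase, hzinv u]
      refine and_congr_left fun _ => not_congr ⟨fun e => z.injective (e.trans hzc.symm), fun e => by rw [e, hzc]⟩
    let σ : Perm (O.erase c : Finset α) := z.subtypePerm hinv
    have h4 : σ ^ 4 = 1 := by
      rw [subtypePerm_pow]
      ext u
      simp [hzo ▸ pow_orderOf_eq_one z]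
    have hfree : ∀ u : (O.erase c : Finset α), (σ ^ 2) u ≠ u := by
      intro u e
      rw [subtypePerm_pow] at e
      have hu := Finset.mem_of_mem_erase u.2
      have h' := hOsub hu
      simp only [Finset.mem_sdiff, Finset.mem_univ, true_and, Finset.mem_insert, Finset.mem_singleton, not_or] at h'
      rcases h3 u (congrArg Subtype.val e) with e' | e' | e'
      exacts [h'.1 e', h'.2 e', Finset.ne_of_mem_erase u.2 e']
    obtain ⟨hd, -⟩ := sign_four σ h4 fun u _ => hfree u
    have hsu : σ.support = Finset.univ := Finset.eq_univ_iff_forall.2 fun u =>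
      mem_support.2 fun e => hfree u (pow_apply_eq_self_of_apply_eq_self e 2)
    rwa [hsu, Finset.card_univ, Fintype.card_coe, Finset.card_erase_of_mem hcO] at hd
  have h9 : O.card = 9 := by
    have h := orbit_count L c
    rw [horb2 w b hwb, hOcard] at h
    have hle := Finset.card_le_card hOsub
    rw [Finset.card_univ_sdiff, hα, Finset.card_pair hwb] at hle
    have hpos : 1 ≤ O.card := Finset.card_pos.2 ⟨c, hcO⟩
    obtain ⟨j, hj⟩ := hfour
    rcases (show O.card = 5 ∨ O.card = 9 by omega) with h' | h'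
    · rw [h'] at h; omega
    · exact h'
  have hOeq : O = Finset.univ \ {w, b} := Finset.eq_of_subset_of_card_le hOsub (by
    rw [h9, Finset.card_univ_sdiff, hα, Finset.card_pair hwb])
  have hthree : ∀ x y u v, x ≠ y → u ≠ x → u ≠ y → v ≠ x → v ≠ y →
      ∃ g ∈ M, g x = x ∧ g y = y ∧ g u = v := by
    intro x y u v hxy hux huy hvx hvy
    obtain ⟨h, hh, hx, hy⟩ := h2 x y w b hxy hwb
    have hin : ∀ u, u ≠ x → u ≠ y → ∃ g ∈ L, g c = h u := fun u h1 h2 => by
      have : h u ∈ O := by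
        rw [hOeq, Finset.mem_sdiff]
        simp only [Finset.mem_univ, true_and, Finset.mem_insert, Finset.mem_singleton, not_or, ← hx, ← hy,
          h.injective.eq_iff]
        exact ⟨h1, h2⟩
      obtain ⟨g, hg⟩ := (Finset.mem_filter.1 this).2
      exact ⟨g, g.2, hg⟩
    obtain ⟨g₁, hg₁, e₁⟩ := hin u hux huy
    obtain ⟨g₂, hg₂, e₂⟩ := hin v hvx hvy
    obtain ⟨hk1, hk2⟩ := Subgroup.mem_inf.1 (L.mul_mem hg₂ (L.inv_mem hg₁))
    obtain ⟨hkM, hk3⟩ := Subgroup.mem_inf.1 hk1
    rw [hStmem] at hk2 hk3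
    refine ⟨h⁻¹ * (g₂ * g₁⁻¹) * h, M.mul_mem (M.mul_mem (M.inv_mem hh) hkM) hh, ?_, ?_, ?_⟩
    · rw [Perm.mul_apply, Perm.mul_apply, hx, hk3, Perm.inv_eq_iff_eq, hx]
    · rw [Perm.mul_apply, Perm.mul_apply, hy, hk2, Perm.inv_eq_iff_eq, hy]
    · rw [Perm.mul_apply, Perm.mul_apply, Perm.mul_apply,
        show g₁⁻¹ (h u) = c from Perm.inv_eq_iff_eq.2 e₁.symm, e₂, Perm.inv_eq_iff_eq]
  have hcard3 : ∀ x y u, x ≠ y → u ≠ x → u ≠ y →
      Nat.card (M ⊓ St x ⊓ St y ⊓ St u : Subgroup (Perm α)) = 8 := by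
    intro x y u hxy hux huy
    have h : Nat.card (M ⊓ St x ⊓ St y : Subgroup (Perm α)) =
        Nat.card (MulAction.orbit (M ⊓ St x ⊓ St y : Subgroup (Perm α)) u) *
        Nat.card (M ⊓ St x ⊓ St y ⊓ St u : Subgroup (Perm α)) := orbit_count (M ⊓ St x ⊓ St y) u
    rw [horb2 x y hxy, show MulAction.orbit (M ⊓ St x ⊓ St y : Subgroup (Perm α)) u = ({x, y}ᶜ : Set α) from ?_,
      Nat.card_coe_set_eq, Set.ncard_compl, Set.ncard_pair hxy, Nat.card_eq_fintype_card, hα] at h
    · omega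
    ext v
    constructor
    · rintro ⟨g, rfl⟩
      obtain ⟨h1, hgy⟩ := Subgroup.mem_inf.1 g.2
      rw [Set.mem_compl_iff, Set.mem_insert_iff, Set.mem_singleton_iff, not_or]
      exact ⟨fun e => hux ((g : Perm α).injective
          (Eq.trans e ((hStmem g x).1 (Subgroup.mem_inf.1 h1).2).symm)),
        fun e => huy ((g : Perm α).injective (Eq.trans e ((hStmem g y).1 hgy).symm))⟩
    · intro hv
      rw [Set.mem_compl_iff, Set.mem_insert_iff, Set.mem_singleton_iff, not_or] at hv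
      obtain ⟨g, hg, h1, h2', h3'⟩ := hthree x y u v hxy hux huy hv.1 hv.2
      exact ⟨⟨g, Subgroup.mem_inf.2 ⟨Subgroup.mem_inf.2 ⟨hg, h1⟩, h2'⟩⟩, h3'⟩
  have hfix4 : ∀ g ∈ M, ∀ x y u v, x ≠ y → u ≠ x → u ≠ y → v ≠ x → v ≠ y → v ≠ u →
      g x = x → g y = y → g u = u → g v = v → g = 1 := by
    intro g hg x y u v hxy hux huy hvx hvy hvu hx hy hu hv
    let K := M ⊓ St x ⊓ St y ⊓ St u ⊓ St v
    by_contra hne
    have hgK : g ∈ K := Subgroup.mem_inf.2 ⟨Subgroup.mem_inf.2 ⟨Subgroup.mem_inf.2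
      ⟨Subgroup.mem_inf.2 ⟨hg, hx⟩, hy⟩, hu⟩, hv⟩
    have h8 : Nat.card K ∣ 2 ^ 3 :=
      (show (2 : ℕ) ^ 3 = 8 by norm_num) ▸ hcard3 x y u hxy hux huy ▸ Subgroup.card_dvd_of_le inf_le_left
    have hone : Nat.card K ≠ 1 := fun h => hne ((Subgroup.eq_bot_iff_forall K).1
      (Subgroup.card_eq_one.1 h) g hgK)
    haveI : Fact (Nat.Prime 2) := ⟨Nat.prime_two⟩
    obtain ⟨i, hi, hKi⟩ := (Nat.dvd_prime_pow Nat.prime_two).1 h8
    obtain ⟨⟨t, ht⟩, hto⟩ := exists_prime_orderOf_dvd_card' (G := K) 2 (by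
      rw [hKi]; exact dvd_pow_self 2 (by rintro rfl; exact hone hKi))
    rw [← Subgroup.orderOf_coe] at hto
    obtain ⟨ht1, htv⟩ := Subgroup.mem_inf.1 ht
    obtain ⟨ht2, htu⟩ := Subgroup.mem_inf.1 ht1
    obtain ⟨ht3, hty⟩ := Subgroup.mem_inf.1 ht2
    obtain ⟨htM, htx⟩ := Subgroup.mem_inf.1 ht3
    have := invol_fix hα M hA heven h2 htM (hto ▸ pow_orderOf_eq_one t)
      (fun h => by
        have hto' : orderOf t = 2 := hto
        rw [h, orderOf_one] at hto'; norm_num at hto')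
    have hle : ({x, y, u, v} : Finset α).card ≤ 3 := this ▸ Finset.card_le_card (by
      intro q hq
      simp only [Finset.mem_insert, Finset.mem_singleton] at hq
      refine Finset.mem_filter.2 ⟨Finset.mem_univ _, ?_⟩
      rcases hq with rfl | rfl | rfl | rfl
      exacts [htx, hty, htu, htv])
    rw [Finset.card_insert_of_notMem (by simp [hxy, hux.symm, hvx.symm]),
      Finset.card_insert_of_notMem (by simp [huy.symm, hvy.symm]), Finset.card_pair hvu.symm] at hle
    omega
  refine ⟨isMultiplyPretransitive_of_fixing 3 (by omega) ?_, ?_⟩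
  · intro s hs a a' ha ha'
    obtain ⟨x, y, u, hxy, hxu, hyu, rfl⟩ := Finset.card_eq_three.1 hs
    simp only [Finset.mem_insert, Finset.mem_singleton, not_or] at ha ha'
    set K := M ⊓ St x ⊓ St y ⊓ St u with hK
    have h8 : Nat.card K = 8 := hcard3 x y u hxy hxu.symm hyu.symm
    let f : K → ({x, y, u}ᶜ : Finset α) := fun g => ⟨(g : Perm α) a, by
      obtain ⟨h1, hgu⟩ := Subgroup.mem_inf.1 g.2
      obtain ⟨h2', hgy⟩ := Subgroup.mem_inf.1 h1
      rw [hStmem] at hgu hgy
      have hgx := (hStmem _ x).1 (Subgroup.mem_inf.1 h2').2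
      simp only [Finset.mem_compl, Finset.mem_insert, Finset.mem_singleton, not_or]
      exact ⟨fun e => ha.1 ((g : Perm α).injective (e.trans hgx.symm)),
        fun e => ha.2.1 ((g : Perm α).injective (e.trans hgy.symm)),
        fun e => ha.2.2 ((g : Perm α).injective (e.trans hgu.symm))⟩⟩
    have hinj : Function.Injective f := by
      intro g g' e
      have he : (g : Perm α) a = (g' : Perm α) a := congrArg Subtype.val e
      obtain ⟨h1, hgu⟩ := Subgroup.mem_inf.1 (K.mul_mem (K.inv_mem g'.2) g.2)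
      obtain ⟨h2', hgy⟩ := Subgroup.mem_inf.1 h1
      obtain ⟨hgM, hgx⟩ := Subgroup.mem_inf.1 h2'
      have := hfix4 _ hgM x y u a hxy hxu.symm hyu.symm ha.1 ha.2.1 ha.2.2 hgx hgy hgu
        (by rw [Perm.mul_apply, he]; exact (g' : Perm α).symm_apply_apply a)
      exact Subtype.ext (inv_mul_eq_one.1 this).symm
    have := Fintype.ofFinite K
    have hbij : Function.Bijective f := (Fintype.bijective_iff_injective_and_card f).2 ⟨hinj, by
      rw [← Nat.card_eq_fintype_card, h8, Fintype.card_coe, Finset.card_compl, hα,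
        Finset.card_eq_three.2 ⟨x, y, u, hxy, hxu, hyu, rfl⟩]⟩
    obtain ⟨g, hg⟩ := hbij.2 ⟨a', by simp [ha'.1, ha'.2.1, ha'.2.2]⟩
    obtain ⟨h1, hgu⟩ := Subgroup.mem_inf.1 g.2
    obtain ⟨h2', hgy⟩ := Subgroup.mem_inf.1 h1
    obtain ⟨hgM, hgx⟩ := Subgroup.mem_inf.1 h2'
    refine ⟨⟨g, hgM⟩, fun q hq => ?_, congrArg Subtype.val hg⟩
    simp only [Finset.mem_insert, Finset.mem_singleton] at hq
    rcases hq with rfl | rfl | rfl
    exacts [hgx, hgy, hgu]
  · intro x
    rw [Subgroup.eq_bot_iff_forall]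
    intro g hg
    have h : ∀ i, (g : Perm α) (x i) = x i := fun i =>
      DFunLike.congr_fun (MulAction.mem_stabilizer_iff.1 hg) i
    exact Subtype.ext (hfix4 g g.2 (x 0) (x 1) (x 2) (x 3) (x.injective.ne (by decide))
      (x.injective.ne (by decide)) (x.injective.ne (by decide)) (x.injective.ne (by decide))
      (x.injective.ne (by decide)) (x.injective.ne (by decide)) (h 0) (h 1) (h 2) (h 3))

end

end Cfsg.Agent.Block.DegEleven
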