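import Cfsg.Agent.Lib.Block.DegreeElevenLocal

/-!
# The orders of even transitive groups of degree eleven
-/

set_option autoImplicit false

namespace Cfsg.Agent.Block.DegEleven

open Equiv Equiv.Perm

variable {α : Type*} [Fintype α] [DecidableEq α] [Fact (Nat.Prime 11)]

section

variable (hα : Fintype.card α = 11) (G : Subgroup (Perm α)) [MulAction.IsPretransitive G α]

include hα

/-- An involution normalising a Sylow `11`-subgroup is odd. -/
theorem norm_inv_odd (P : Sylow 11 G) (x : G) (hx : x ∈ Subgroup.normalizer ((P : Subgroup G) : Set G))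
    (hx2 : x ^ 2 = 1) (hx1 : x ≠ 1) : sign (x : Perm α) = -1 := by
  have hc := primeDeg_card_sylow hα G P
  have := primeDeg_pretransitive_of_dvd hα G (P : Subgroup G) (by rw [hc])
  have hv2 : (x : Perm α) ^ 2 = 1 := by rw [← Subgroup.coe_pow, hx2]; rfl
  obtain ⟨k, hk, -, hsupp, hsign⟩ := invol_type (x : Perm α) hv2 fun h => hx1 (Subtype.ext h)
  have hfix : (Finset.univ.filter fun a => (x : Perm α) a = a).card ≤ 1 := by
    refine Finset.card_le_one.2 fun u hu v hv => ?_
    simp only [Finset.mem_filter, Finset.mem_univ, true_and] at hu hv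
    by_contra huv
    obtain ⟨p, hp⟩ := MulAction.exists_smul_eq (P : Subgroup G) u v
    have hbij : Function.Bijective (fun q : (P : Subgroup G) => q • u) := by
      have := Fintype.ofFinite (P : Subgroup G)
      rw [Fintype.bijective_iff_surjective_and_card, ← Nat.card_eq_fintype_card, hc, hα]
      exact ⟨MulAction.surjective_smul _ u, rfl⟩
    have hconj : x * (p : G) * x⁻¹ ∈ (P : Subgroup G) :=
      (Subgroup.mem_normalizer_iff.1 hx (p : G)).1 p.2
    have heq : (⟨_, hconj⟩ : (P : Subgroup G)) = p := hbij.1 (by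
      show (((x * (p : G) * x⁻¹ : G)) : Perm α) u = p • u
      rw [hp, Subgroup.coe_mul, Subgroup.coe_mul, Perm.mul_apply, Perm.mul_apply, Subgroup.coe_inv,
        show (x : Perm α)⁻¹ u = u from Perm.inv_eq_iff_eq.2 hu.symm]
      show (x : Perm α) (p • u) = v
      rw [hp, hv])
    have hcomm : x * (p : G) = (p : G) * x := by
      have h := congrArg (fun z : (P : Subgroup G) => (z : G)) heq
      simp only at h
      rw [← mul_inv_eq_iff_eq_mul]; exact h
    have hp1 : p ≠ 1 := fun h => huv (by rw [← hp, h, one_smul])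
    have htop := zpowers_eq_top_of_prime_card (p := 11) hc hp1
    have hxC : x ∈ Subgroup.centralizer ((P : Subgroup G) : Set G) := by
      intro q hq
      obtain ⟨j, hj⟩ := Subgroup.mem_zpowers_iff.1 (htop ▸ Subgroup.mem_top (⟨q, hq⟩ : (P : Subgroup G)))
      have h2 : ((p : G)) ^ j = q := by
        rw [← Subgroup.coe_zpow, hj]
      rw [← h2]
      exact ((show Commute x (p : G) from hcomm).zpow_right j).symm.eq
    rw [primeDeg_centralizer hα G P] at hxC
    have := Subgroup.orderOf_dvd_natCard _ hxC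
    rw [hc, orderOf_eq_prime hx2 hx1] at this
    norm_num at this
  have h := card_fixed (x : Perm α)
  rw [hsupp, hα] at h
  rw [hsign, show k = 5 by omega]
  rfl

/-- Sylow data at the prime eleven. -/
theorem sylow11 (P : Sylow 11 G) : ∃ e, e ∣ 10 ∧
    Nat.card (Subgroup.normalizer ((P : Subgroup G) : Set G)) = 11 * e ∧
    Nat.card G = 11 * e * Nat.card (Sylow 11 G) ∧ Nat.card (Sylow 11 G) % 11 = 1 := by
  set N := Subgroup.normalizer ((P : Subgroup G) : Set G)
  have h1 : Nat.card N ∣ 11 * 10 := primeDeg_card_normalizer_dvd hα G P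
  have h2 : 11 ∣ Nat.card N :=
    (primeDeg_card_sylow hα G P) ▸ Subgroup.card_dvd_of_le Subgroup.le_normalizer
  obtain ⟨e, he⟩ := h2
  refine ⟨e, Nat.dvd_of_mul_dvd_mul_left (by norm_num : 0 < 11) (he ▸ h1), he, ?_,
    card_sylow_modEq_one 11 G⟩
  rw [show Nat.card (Sylow 11 G) = N.index from Sylow.card_eq_index_normalizer P, ← he, mul_comm,
    Subgroup.index_mul_card]

omit hα in
theorem eleven_not_dvd_of_one_mod {n : ℕ} (h : n % 11 = 1) : ¬ 11 ∣ n := by omega

theorem solvable_of_one (h : Nat.card (Sylow 11 G) = 1) : Group.IsSolvable G := by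
  obtain ⟨P⟩ : Nonempty (Sylow 11 G) := inferInstance
  haveI : Subsingleton (Sylow 11 G) := (Nat.card_eq_one_iff_unique.mp h).1
  haveI := P.normal_of_subsingleton
  haveI hcyc : IsCyclic (P : Subgroup G) := isCyclic_of_prime_card (primeDeg_card_sylow hα G P)
  have hPc := primeDeg_centralizer hα G P
  let φ : G →* MulAut (P : Subgroup G) := MulAut.conjNormal
  haveI : IsMulCommutative (MulAut (P : Subgroup G)) :=
    ⟨⟨fun a b => (IsCyclic.mulAutMulEquiv (P : Subgroup G)).injective (by rw [map_mul, map_mul, mul_comm])⟩⟩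
  haveI : Group.IsSolvable (MulAut (P : Subgroup G)) :=
    isSolvable_of_comm (fun a b => IsMulCommutative.is_comm.comm a b)
  refine solvable_of_ker_le_range (P : Subgroup G).subtype φ (fun x hx => ?_)
  rw [Subgroup.range_subtype, ← hPc, Subgroup.mem_centralizer_iff]
  intro y hy
  have h2 := congrArg (fun z : (P : Subgroup G) => (z : G))
    (DFunLike.congr_fun (MonoidHom.mem_ker.mp hx) ⟨y, hy⟩)
  simp only [φ, MulAut.conjNormal_apply, MulAut.one_apply] at h2
  calc y * x = (x * y * x⁻¹) * x := by rw [h2]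
    _ = x * y := by group

/-- There is no self-normalising Sylow `11`-subgroup, except in order eleven. -/
theorem kill {m : ℕ} (hm : 1 < m) (hG : Nat.card G = 11 * m) (hn : Nat.card (Sylow 11 G) = m) :
    False := by
  obtain ⟨P⟩ : Nonempty (Sylow 11 G) := inferInstance
  have hP := primeDeg_card_sylow hα G P
  obtain ⟨e, -, heN, heG, hmod⟩ := sylow11 hα G P
  have he : e = 1 := by
    rw [hn, hG, mul_assoc] at heG
    have := Nat.eq_of_mul_eq_mul_left (by norm_num : 0 < 11) heG
    exact ((Nat.mul_eq_right (by omega)).1 this.symm)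
  have hN : Subgroup.normalizer ((P : Subgroup G) : Set G) = P :=
    (Subgroup.eq_of_le_of_card_ge Subgroup.le_normalizer (by rw [heN, he, hP])).symm
  have hc : Subgroup.normalizer ((P : Subgroup G) : Set G) ≤
      Subgroup.centralizer ((P : Subgroup G) : Set G) := by rw [primeDeg_centralizer hα G P, hN]
  have hcomp := MonoidHom.ker_transferSylow_isComplement' P hc
  set L := (MonoidHom.transferSylow P hc).ker
  have hL : Nat.card L = m := by
    have := hcomp.card_mul
    rw [hP, hG] at this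
    omega
  haveI := isPreprimitive hα G
  have htr : MulAction.IsPretransitive L α := by
    refine MulAction.IsQuasiPreprimitive.isPretransitive_of_normal fun hfp => ?_
    have : L = ⊥ := by
      rw [Subgroup.eq_bot_iff_forall]
      intro x hx
      refine Subtype.ext ?_
      ext a
      exact (hfp ▸ Set.mem_univ a : a ∈ MulAction.fixedPoints L α) ⟨x, hx⟩
    rw [this, Subgroup.card_bot] at hL
    omega
  obtain ⟨a⟩ : Nonempty α := Fintype.card_pos_iff.1 (by omega)
  have h11 : 11 ∣ Nat.card L := by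
    rw [← hα, ← Nat.card_eq_fintype_card, ← MulAction.index_stabilizer_of_transitive L a]
    exact Subgroup.index_dvd_card _
  rw [hL, ← hn] at h11
  exact eleven_not_dvd_of_one_mod hmod h11

end

section

variable (hα : Fintype.card α = 11) (M : Subgroup (Perm α)) [MulAction.IsPretransitive M α]
  (hA : ¬ alternatingGroup α ≤ M) (heven : ∀ g ∈ M, sign g = 1)

include hα hA heven

omit [Fact (Nat.Prime 11)] in
/-- Elements of order five are self-centralising. -/
theorem five_centralizer {g x : Perm α} (hg : g ∈ M) (h5 : orderOf g = 5) (hx : x ∈ M)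
    (hc : x * g = g * x) : x ∈ Subgroup.zpowers g := by
  haveI : Fact (Nat.Prime 5) := ⟨by norm_num⟩
  obtain ⟨-, w, hw, huniq⟩ := five_type hα M hA hg h5
  have hg5 : g ^ 5 = 1 := by rw [← h5]; exact pow_orderOf_eq_one g
  let C : Subgroup (Perm α) := M ⊓ Subgroup.centralizer {g}
  have hmemC : ∀ y, y ∈ C ↔ y ∈ M ∧ y * g = g * y := fun y => by
    rw [Subgroup.mem_inf, Subgroup.mem_centralizer_iff]
    simp [eq_comm]
  have hgC : g ∈ C := (hmemC g).2 ⟨hg, rfl⟩
  have hle : Subgroup.zpowers g ≤ C := Subgroup.zpowers_le.2 hgC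
  have hq : ∀ q : ℕ, q.Prime → q ∣ Nat.card C → q = 5 := by
    intro q hq hqC
    haveI := Fact.mk hq
    obtain ⟨⟨y, hy⟩, hyo⟩ := exists_prime_orderOf_dvd_card' (G := C) q hqC
    rw [← Subgroup.orderOf_coe] at hyo
    obtain ⟨hyM, hyc⟩ := (hmemC y).1 hy
    have hyw : y w = w := huniq _ (by rw [← Perm.mul_apply, ← hyc, Perm.mul_apply, hw])
    have hmod := inv_mod (p := 5) g hg5 y.support fun z => by
      rw [mem_support, mem_support, ← Perm.mul_apply, hyc, Perm.mul_apply, g.injective.ne_iff]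
    rw [show (y.support.filter fun z => g z = z) = ∅ from Finset.filter_eq_empty_iff.2 fun z hz hzg =>
      mem_support.1 hz (by rw [huniq z hzg, hyw])] at hmod
    obtain ⟨n, hn⟩ := cycleType_prime_order (σ := y) (hyo.symm ▸ hq)
    rw [hyo] at hn
    have hs : y.support.card = q * (n + 1) := by
      rw [← sum_cycleType, hn, Multiset.sum_replicate, smul_eq_mul, mul_comm]
    have hle' := y.support.card_le_univ
    rw [hα] at hle'
    have h5q : y.support.card = 5 ∨ y.support.card = 10 := by
      have := hq.two_le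
      have : 2 ≤ y.support.card := by rw [hs]; nlinarith
      simp at hmod
      omega
    by_contra hq5
    have hdvd : q ∣ y.support.card := ⟨_, hs⟩
    have hq2 : q = 2 := by
      rcases h5q with h | h <;> rw [h] at hdvd
      · exact absurd ((Nat.prime_dvd_prime_iff_eq hq (by norm_num)).1 hdvd) hq5
      · rcases (Nat.Prime.dvd_mul hq).1 (show q ∣ 2 * 5 from hdvd) with h' | h'
        · exact (Nat.prime_dvd_prime_iff_eq hq Nat.prime_two).1 h'
        · exact absurd ((Nat.prime_dvd_prime_iff_eq hq (by norm_num)).1 h') hq5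
    subst hq2
    have hs10 : n + 1 = 5 := by omega
    have := heven y hyM
    rw [sign_of_cycleType, hn, Multiset.sum_replicate, Multiset.card_replicate, hs10] at this
    norm_num at this
  have hcard : Nat.card C = 5 := by
    have hne : Nat.card C ≠ 0 := Nat.card_pos.ne'
    have hC : Nat.card C = 5 ^ (Nat.card C).primeFactorsList.length :=
      Nat.eq_prime_pow_of_unique_prime_dvd hne fun {d} hd hdd => hq d hd hdd
    have hlt : (Nat.card C).primeFactorsList.length ≤ 1 := by
      by_contra hcon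
      exact not_sq_five_dvd hα M hA ((pow_dvd_pow 5 (by omega : 2 ≤ _)).trans
        (hC ▸ Subgroup.card_dvd_of_le (inf_le_left : C ≤ M)))
    have h5C : 5 ∣ Nat.card C := h5 ▸ Subgroup.orderOf_dvd_natCard _ hgC
    rcases Nat.le_one_iff_eq_zero_or_eq_one.1 hlt with h | h <;> rw [h] at hC
    · rw [hC] at h5C; norm_num at h5C
    · rw [hC, pow_one]
  rw [Subgroup.eq_of_le_of_card_ge hle (by rw [hcard, Nat.card_zpowers, h5])]
  exact (hmemC x).2 ⟨hx, hc⟩

omit [Fact (Nat.Prime 11)] in
/-- The normaliser of a subgroup of order five. -/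
theorem five_local (h5M : 5 ∣ Nat.card M) : ∃ d, d ∣ 4 ∧ 5 * d ∣ Nat.card M ∧
    Nat.card M / (5 * d) % 5 = 1 ∧ (d = 4 → ∃ z ∈ M, orderOf z = 4) := by
  haveI : Fact (Nat.Prime 5) := ⟨by norm_num⟩
  obtain ⟨Q⟩ : Nonempty (Sylow 5 M) := inferInstance
  have hQ : Nat.card (Q : Subgroup M) = 5 := by
    obtain ⟨i, hi⟩ := IsPGroup.iff_card.1 Q.isPGroup'
    have h2 := Q.dvd_card_of_dvd_card h5M
    have hlt : i ≤ 1 := by
      by_contra hcon
      exact not_sq_five_dvd hα M hA ((pow_dvd_pow 5 (by omega : 2 ≤ i)).trans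
        (hi ▸ (Q : Subgroup M).card_subgroup_dvd_card))
    rcases Nat.le_one_iff_eq_zero_or_eq_one.1 hlt with rfl | rfl
    · rw [hi] at h2; norm_num at h2
    · rw [hi, pow_one]
  haveI : IsCyclic (Q : Subgroup M) := isCyclic_of_prime_card hQ
  set N := Subgroup.normalizer ((Q : Subgroup M) : Set M)
  let φ : N →* MulAut (Q : Subgroup M) := (Q : Subgroup M).normalizerMonoidHom
  have hcent : Subgroup.centralizer ((Q : Subgroup M) : Set M) = (Q : Subgroup M) := by
    refine le_antisymm ?_ ?_
    · intro x hx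
      obtain ⟨⟨g, hg⟩, hgo⟩ := exists_prime_orderOf_dvd_card' (G := (Q : Subgroup M)) 5 (by rw [hQ])
      rw [← Subgroup.orderOf_coe, ← Subgroup.orderOf_coe] at hgo
      have h := five_centralizer hα M hA heven g.2 hgo x.2
        (congrArg (fun z : M => (z : Perm α)) (hx g hg)).symm
      obtain ⟨j, hj⟩ := Subgroup.mem_zpowers_iff.1 h
      have : x = g ^ j := Subtype.ext (by rw [← hj, Subgroup.coe_zpow])
      rw [this]
      exact Subgroup.zpow_mem _ hg j
    · intro x hx y hy
      let _ := IsCyclic.commGroup (α := (Q : Subgroup M))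
      exact congrArg (fun z : (Q : Subgroup M) => (z : M))
        (mul_comm (⟨y, hy⟩ : (Q : Subgroup M)) ⟨x, hx⟩)
  have hker : Nat.card φ.ker = 5 := by
    rw [show φ.ker = _ from Subgroup.normalizerMonoidHom_ker _,
      Nat.card_congr (Subgroup.subgroupOfEquivOfLe
        (Subgroup.centralizer_le_normalizer ((Q : Subgroup M) : Set M))).toEquiv, hcent, hQ]
  have haut : Nat.card (MulAut (Q : Subgroup M)) = 4 := by
    rw [IsCyclic.card_mulAut (Q : Subgroup M), hQ, Nat.totient_prime (by norm_num)]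
  have hN : Nat.card N = 5 * Nat.card φ.range := by
    rw [← φ.ker.card_mul_index, hker, Subgroup.index_ker]
  have hn : Nat.card (Sylow 5 M) = Nat.card M / (5 * Nat.card φ.range) := by
    rw [Sylow.card_eq_index_normalizer Q, ← hN, ← Subgroup.index_mul_card N,
      Nat.mul_div_cancel _ Nat.card_pos]
    rfl
  refine ⟨Nat.card φ.range, haut ▸ Subgroup.card_subgroup_dvd_card _, hN ▸ N.card_subgroup_dvd_card,
    hn ▸ card_sylow_modEq_one 5 M, fun h4 => ?_⟩
  have htop : φ.range = ⊤ := Subgroup.eq_top_of_card_eq _ (h4.trans haut.symm)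
  haveI hcyc : IsCyclic (MulAut (Q : Subgroup M)) := by
    have : IsCyclic (ZMod (Nat.card (Q : Subgroup M)))ˣ := by
      rw [hQ]; infer_instance
    exact isCyclic_of_surjective (IsCyclic.mulAutMulEquiv (Q : Subgroup M)).symm.toMonoidHom
      (IsCyclic.mulAutMulEquiv (Q : Subgroup M)).symm.surjective
  obtain ⟨a, ha⟩ := IsCyclic.exists_ofOrder_eq_natCard (α := MulAut (Q : Subgroup M))
  rw [haut] at ha
  obtain ⟨x, rfl⟩ : a ∈ φ.range := htop ▸ Subgroup.mem_top a
  have hd : 4 ∣ orderOf x := ha ▸ orderOf_map_dvd φ x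
  refine ⟨(((x ^ (orderOf x / 4) : N) : M) : Perm α), ((x ^ (orderOf x / 4) : N) : M).2, ?_⟩
  rw [Subgroup.orderOf_coe, Subgroup.orderOf_coe, orderOf_pow_orderOf_div (orderOf_pos x).ne' hd]

theorem orders (hM : ¬ Group.IsSolvable M) :
    Nat.card M = 660 ∧ Nat.card (Sylow 11 M) = 12 ∨
      Nat.card M = 7920 ∧ ∃ z ∈ M, orderOf z = 4 := by
  obtain ⟨P⟩ : Nonempty (Sylow 11 M) := inferInstance
  obtain ⟨e, he10, heN, heM, hmod⟩ := sylow11 hα M P
  set n := Nat.card (Sylow 11 M)
  have hn1 : n ≠ 1 := fun h => hM (solvable_of_one hα M h)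
  have he2 : ¬ 2 ∣ e := by
    intro h
    haveI : Fact (Nat.Prime 2) := ⟨Nat.prime_two⟩
    obtain ⟨x, hx⟩ := exists_prime_orderOf_dvd_card'
      (G := Subgroup.normalizer ((P : Subgroup M) : Set M)) 2 (heN ▸ h.mul_left 11)
    have h1 := norm_inv_odd hα M P (x : M) x.2 (by rw [← Subgroup.coe_pow, ← hx, pow_orderOf_eq_one]; rfl)
      (fun h => by rw [← Subgroup.orderOf_coe, h, orderOf_one] at hx; norm_num at hx)
    rw [heven _ (x : M).2] at h1
    norm_num at h1
  have he : e = 5 := by
    have := Nat.le_of_dvd (by norm_num) he10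
    rcases (show e = 1 ∨ e = 5 by interval_cases e <;> omega) with rfl | h
    · exact (kill hα M (m := n) (by omega) (by rw [heM, mul_one]) rfl).elim
    · exact h
  subst he
  have hdvd : Nat.card M ∣ 19958400 := by
    haveI : Nontrivial α := Fintype.one_lt_card_iff_nontrivial.1 (by omega)
    have h := Subgroup.card_dvd_of_le (show M ≤ alternatingGroup α from fun g hg => mem_alternatingGroup.2 (heven g hg))
    have h2 := two_mul_nat_card_alternatingGroup (α := α)
    rw [Nat.card_eq_fintype_card (α := Perm α), Fintype.card_perm, hα,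
      show Nat.factorial 11 = 2 * 19958400 from by decide +kernel] at h2
    rwa [Nat.eq_of_mul_eq_mul_left (by norm_num) h2] at h
  rw [heM] at hdvd
  have h25 := not_sq_five_dvd hα M hA
  have h7 := not_seven_dvd hα M hA
  rw [heM] at h25 h7
  have hn5 : ¬ 5 ∣ n := fun h => h25 (by obtain ⟨k, hk⟩ := h; exact ⟨11 * k, by rw [hk]; ring⟩)
  have hn7 : ¬ 7 ∣ n := fun h => h7 (h.mul_left _)
  have hn11 : ¬ 11 ∣ n := eleven_not_dvd_of_one_mod hmod
  have hn20 : n ∣ 10368 := by
    have h1 : n ∣ 10368 * (5 * 5 * 7 * 11) := by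
      refine (dvd_mul_left n (11 * 5)).trans (hdvd.trans ?_)
      norm_num
    refine Nat.Coprime.dvd_of_dvd_mul_right ?_ h1
    have hp : ∀ p, p.Prime → ¬ p ∣ n → Nat.Coprime n p := fun p hp h =>
      ((Nat.Prime.coprime_iff_not_dvd hp).2 h).symm
    exact (((hp 5 (by norm_num) hn5).mul_right (hp 5 (by norm_num) hn5)).mul_right
      (hp 7 (by norm_num) hn7)).mul_right (hp 11 (by norm_num) hn11)
  have hn : n ∈ ({1, 12, 144, 1728} : Finset ℕ) := by
    have key : ∀ a ∈ Finset.range 8, ∀ b ∈ Finset.range 5,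
        2 ^ a * 3 ^ b % 11 = 1 → 2 ^ a * 3 ^ b ∈ ({1, 12, 144, 1728} : Finset ℕ) := by decide +kernel
    obtain ⟨x, y, hx, hy, hxy⟩ := (Nat.dvd_mul).1 (show n ∣ 2 ^ 7 * 3 ^ 4 by norm_num; exact hn20)
    obtain ⟨a, ha, rfl⟩ := (Nat.dvd_prime_pow Nat.prime_two).1 hx
    obtain ⟨b, hb, rfl⟩ := (Nat.dvd_prime_pow Nat.prime_three).1 hy
    rw [← hxy]
    exact key a (Finset.mem_range.2 (by omega)) b (Finset.mem_range.2 (by omega)) (by rw [hxy]; exact hmod)
  obtain ⟨d, hd4, -, hdmod, hz⟩ := five_local hα M hA heven (by rw [heM]; exact ⟨11 * n, by ring⟩)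
  rw [heM] at hdmod ⊢
  have hd : d = 1 ∨ d = 2 ∨ d = 4 := by
    have := Nat.le_of_dvd (by norm_num) hd4
    interval_cases d <;> omega
  simp only [Finset.mem_insert, Finset.mem_singleton] at hn
  rcases hn with h | h | h | h
  · exact absurd h hn1
  · exact Or.inl ⟨by rw [h], h⟩
  · refine Or.inr ⟨by rw [h], hz ?_⟩
    rw [h] at hdmod
    rcases hd with rfl | rfl | rfl <;> first | rfl | norm_num at hdmod
  · exfalso
    rw [h] at hdmod
    rcases hd with rfl | rfl | rfl <;> norm_num at hdmod

end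

end Cfsg.Agent.Block.DegEleven
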