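import Mathlib
import Cfsg.Agent.Lib.Block.DegreeTwoPChar

/-!
A primitive group of degree `2 p` has no permutation character `1 + ψ + χ₁ + χ₂` with
`χ₁ 1 = χ₂ 1 = (p - 1) / 2`: eigenvalues of the orbital matrices.
-/

set_option autoImplicit false
set_option linter.unusedSectionVars false

namespace Cfsg.Agent.Block.TwoP

open scoped ComplexConjugate
open Cfsg Cfsg.Agent.Block.PermChar Cfsg.Agent.Char

universe u v

variable {G : Type u} [Group G] [Fintype G] {Ω : Type v} [Fintype Ω] [DecidableEq Ω] [MulAction G Ω]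

/-- An eigenvalue of an integer matrix is an algebraic integer. -/
theorem isIntegral_eigen (A₀ : Matrix Ω Ω ℤ) {E : Matrix Ω Ω ℂ} (hE : E ≠ 0) {c : ℂ}
    (h : A₀.map (Int.castRingHom ℂ) * E = c • E) : IsIntegral ℤ c := by
  refine ⟨A₀.charpoly, A₀.charpoly_monic, ?_⟩
  have key : ∀ P : Polynomial ℤ,
      (P.eval₂ ((Int.castRingHom ℂ).mapMatrix.comp (algebraMap ℤ (Matrix Ω Ω ℤ)))
        (A₀.map (Int.castRingHom ℂ))) * E = (P.eval₂ (algebraMap ℤ ℂ) c) • E := by
    intro P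
    induction P using Polynomial.induction_on' with
    | add P R hP hR => rw [Polynomial.eval₂_add, Polynomial.eval₂_add, Matrix.add_mul, hP, hR, add_smul]
    | monomial n z =>
      have hn : (A₀.map (Int.castRingHom ℂ)) ^ n * E = c ^ n • E := by
        induction n with
        | zero => simp
        | succ n ih => rw [pow_succ, Matrix.mul_assoc, h, Matrix.mul_smul, ih, smul_smul, pow_succ']
      rw [Polynomial.eval₂_monomial, Polynomial.eval₂_monomial, Matrix.mul_assoc, hn,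
        eq_intCast (((Int.castRingHom ℂ).mapMatrix).comp (algebraMap ℤ (Matrix Ω Ω ℤ))) z,
        eq_intCast (algebraMap ℤ ℂ) z, mul_smul]
      ext i j
      simp only [Matrix.smul_apply, Matrix.mul_apply, smul_eq_mul]
      rw [Finset.sum_eq_single i]
      · simp [Matrix.intCast_apply]
      · intro k _ hk
        simp [Matrix.intCast_apply, Ne.symm hk]
      · simp
  have h0 : A₀.charpoly.eval₂ ((Int.castRingHom ℂ).mapMatrix.comp (algebraMap ℤ (Matrix Ω Ω ℤ)))
      (A₀.map (Int.castRingHom ℂ)) = 0 := by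
    have := Polynomial.hom_eval₂ A₀.charpoly (algebraMap ℤ (Matrix Ω Ω ℤ))
      (Int.castRingHom ℂ).mapMatrix A₀
    rw [← Polynomial.aeval_def, Matrix.aeval_self_charpoly, map_zero] at this
    exact this.symm
  have h1 := key A₀.charpoly
  rw [h0, Matrix.zero_mul] at h1
  exact (smul_eq_zero.1 h1.symm).resolve_right hE

theorem conjTranspose_proj (χ : IrrCharacter G) :
    (proj G Ω (χ : G → ℂ)).conjTranspose = proj G Ω (χ : G → ℂ) := by
  rw [Matrix.conjTranspose, proj_transpose]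
  ext x y
  simp only [proj, Matrix.map_apply, Matrix.smul_apply, Matrix.sum_apply, smul_eq_mul, star_mul',
    Complex.star_def, charDeg_spec', map_div₀, map_sum, map_natCast, Complex.conj_conj, map_mul]
  congr 1
  refine Finset.sum_congr rfl fun g _ => ?_
  rw [pmat_apply]
  split_ifs <;> simp

/-- The integer identity satisfied by each suborbit. -/
theorem identity {p m k s b t w : ℤ} (hp : p = 2 * m + 1) (hp0 : p ≠ 0) (ht : t = -(s + 2 * b))
    (h1 : k + m * s + p * b = 0)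
    (h2 : 2 * k * k + m * (s * s + p * (w * w)) + 2 * p * (b * b) = 4 * p * k) :
    2 * (s + t - 1) ^ 2 + (p - 1) * (w * w + t * t - 4 * t) = 2 ∧ 2 * k = s + p * t := by
  have hk : k = -m * s - p * b := by linarith
  subst ht hk
  refine ⟨mul_left_cancel₀ hp0 ?_, by rw [hp]; ring⟩
  subst hp
  linear_combination 2 * h2

set_option maxHeartbeats 4000000 in
/-- No primitive group of degree `2 p` has this character. -/
theorem no_rank_four (hprim : MulAction.IsPreprimitive G Ω) [FaithfulSMul G Ω] {p : ℕ} [Fact p.Prime]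
    (hp2 : p ≠ 2) (hcard : Fintype.card Ω = 2 * p) (hsq : ¬ p ^ 2 ∣ Nat.card G) {u : G}
    (hu : orderOf u = p) {ψ χ₁ χ₂ : IrrCharacter G}
    (hψι : ψ ≠ one₀ G) (hι₁ : χ₁ ≠ one₀ G) (hι₂ : χ₂ ≠ one₀ G) (hψ₁ : χ₁ ≠ ψ) (hψ₂ : χ₂ ≠ ψ)
    (h12 : χ₂ ≠ χ₁) (hmψ : mult G Ω (ψ : G → ℂ) = 1) (hm₁ : mult G Ω (χ₁ : G → ℂ) = 1)
    (hm₂ : mult G Ω (χ₂ : G → ℂ) = 1)
    (hall : ∀ χ : IrrCharacter G, mult G Ω (χ : G → ℂ) ≠ 0 →
      χ = one₀ G ∨ χ = ψ ∨ χ = χ₁ ∨ χ = χ₂)
    (hdψ : charDegree (ψ : G → ℂ) = p) (hd₁ : 2 * charDegree (χ₁ : G → ℂ) + 1 = p)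
    (hd₂ : 2 * charDegree (χ₂ : G → ℂ) + 1 = p) (hψfix : ∀ σ, twist σ ψ = ψ)
    (hψu : (ψ : G → ℂ) u = 0) : False := by
  classical
  have hp : p.Prime := Fact.out
  haveI := hprim.toIsPretransitive
  haveI hne : Nonempty Ω := Fintype.card_pos_iff.1 (by have := hp.two_le; omega)
  obtain ⟨a₀⟩ := id hne
  set ι := one₀ G with hι
  set m := charDegree (χ₁ : G → ℂ) with hm
  have hd₂' : charDegree (χ₂ : G → ℂ) = m := by omega
  have hm0 : 0 < m := charDeg_pos χ₁
  have hpm : (p : ℂ) = 2 * (m : ℂ) + 1 := by rw [← hd₁]; push_cast; ring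
  have hmι : mult G Ω (ι : G → ℂ) = 1 := PermChar.mult_one
  have hfree : ∀ χ : IrrCharacter G, mult G Ω (χ : G → ℂ) = 0 ∨ mult G Ω (χ : G → ℂ) = 1 := by
    intro χ
    by_cases h : mult G Ω (χ : G → ℂ) = 0
    · exact Or.inl h
    · rcases hall χ h with rfl | rfl | rfl | rfl
      exacts [Or.inr hmι, Or.inr hmψ, Or.inr hm₁, Or.inr hm₂]
  -- Galois action
  have htwι : ∀ σ, twist σ ι = ι := fun σ =>
    Subtype.ext (funext fun g => by simp [hι, twist_apply, PermChar.one₀])
  have hperm : ∀ σ, (twist σ χ₁ = χ₁ ∧ twist σ χ₂ = χ₂) ∨ (twist σ χ₁ = χ₂ ∧ twist σ χ₂ = χ₁) := by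
    intro σ
    have key : ∀ χ : IrrCharacter G, χ ≠ ι → χ ≠ ψ → mult G Ω (χ : G → ℂ) = 1 →
        twist σ χ = χ₁ ∨ twist σ χ = χ₂ := by
      intro χ e1 e2 e3
      rcases hall (twist σ χ) (by rw [mult_twist, e3]; exact one_ne_zero) with h | h | h | h
      · exact absurd (twist_injective σ (h.trans (htwι σ).symm)) e1
      · exact absurd (twist_injective σ (h.trans (hψfix σ).symm)) e2
      · exact Or.inl h
      · exact Or.inr h
    rcases key χ₁ hι₁ hψ₁ hm₁ with e1 | e1 <;> rcases key χ₂ hι₂ hψ₂ hm₂ with e2 | e2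
    · exact absurd (twist_injective σ (e2.trans e1.symm)) h12
    · exact Or.inl ⟨e1, e2⟩
    · exact Or.inr ⟨e1, e2⟩
    · exact absurd (twist_injective σ (e2.trans e1.symm)) h12
  -- the character on P
  set x₁ := (χ₁ : G → ℂ) u with hx₁
  set x₂ := (χ₂ : G → ℂ) u with hx₂
  have hπ : piFun G Ω = fun g => 1 + (ψ : G → ℂ) g + (χ₁ : G → ℂ) g + (χ₂ : G → ℂ) g := by
    rw [piFun_decomp]
    funext g
    simp only [Finset.sum_apply, Pi.smul_apply, smul_eq_mul]
    rw [← Finset.sum_subset (s₁ := {ι, ψ, χ₁, χ₂}) (Finset.subset_univ _) (fun χ _ hχ => by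
      simp only [Finset.mem_insert, Finset.mem_singleton, not_or] at hχ
      rw [show mult G Ω (χ : G → ℂ) = 0 from by
        by_contra h
        rcases hall χ h with e | e | e | e
        exacts [hχ.1 e, hχ.2.1 e, hχ.2.2.1 e, hχ.2.2.2 e], zero_mul])]
    rw [Finset.sum_insert (by simp [Ne.symm hψι, Ne.symm hι₁, Ne.symm hι₂]),
      Finset.sum_insert (by simp [Ne.symm hψ₁, Ne.symm hψ₂]), Finset.sum_pair (Ne.symm h12),
      hmι, hmψ, hm₁, hm₂]
    simp only [one_mul, hι, PermChar.one₀]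
    ring
  have hxs : x₁ + x₂ = -1 := by
    have h := congrFun hπ u
    rw [piFun_eq_zero hcard hsq hu, hψu] at h
    linear_combination -h
  set P := Subgroup.zpowers u with hPdef
  have hPc : Nat.card P = p := by rw [Nat.card_zpowers, hu]
  haveI := Fintype.ofFinite P
  have hP : ∀ h : P, h ≠ 1 → (ψ : G → ℂ) (h : G) = 0 ∧
      (((χ₁ : G → ℂ) (h : G) = x₁ ∧ (χ₂ : G → ℂ) (h : G) = x₂) ∨
        ((χ₁ : G → ℂ) (h : G) = x₂ ∧ (χ₂ : G → ℂ) (h : G) = x₁)) := by
    intro h hh
    obtain ⟨i, -, hi⟩ : ∃ i, i < orderOf u ∧ u ^ i = (h : G) := by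
      have := (isOfFinOrder_of_finite u).mem_zpowers_iff_mem_range_orderOf.1 h.2
      rw [Finset.mem_image] at this
      obtain ⟨i, hi, hix⟩ := this
      exact ⟨i, Finset.mem_range.1 hi, hix⟩
    have hip : i.Coprime p := by
      refine ((hp.coprime_iff_not_dvd).2 fun hd' => hh (Subtype.ext ?_)).symm
      obtain ⟨j, rfl⟩ := hd'
      rw [← hi, pow_mul, ← hu, pow_orderOf_eq_one, one_pow]
      rfl
    obtain ⟨σ, hσ⟩ := exists_ringAut_pow p i hp.pos hip
    have hev : ∀ χ : IrrCharacter G, (twist σ χ : G → ℂ) u = (χ : G → ℂ) (h : G) := fun χ => by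
      rw [twist_apply, ringAut_character_eq_pow (IsIrr.isCharacter χ.2) σ hσ (g := u) (hu ▸ dvd_refl _),
        hi]
    refine ⟨by rw [← hev, hψfix, hψu], ?_⟩
    rcases hperm σ with ⟨e1, e2⟩ | ⟨e1, e2⟩
    · exact Or.inl ⟨by rw [← hev, e1], by rw [← hev, e2]⟩
    · exact Or.inr ⟨by rw [← hev, e1], by rw [← hev, e2]⟩
  have hm₁v : (χ₁ : G → ℂ) 1 = (m : ℂ) := by rw [charDeg_spec']
  have hm₂v : (χ₂ : G → ℂ) 1 = (m : ℂ) := by rw [charDeg_spec', hd₂']
  have hψv : (ψ : G → ℂ) 1 = (p : ℂ) := by rw [charDeg_spec', hdψ]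
  have hp0 : (p : ℂ) ≠ 0 := Nat.cast_ne_zero.2 hp.ne_zero
  have hnormP : ∀ χ : IrrCharacter G,
      ∃ n : ℕ, classInner (fun h : P => (χ : G → ℂ) h) (fun h : P => (χ : G → ℂ) h) = (n : ℂ) ∧
        charDegree (χ : G → ℂ) ≤ n := by
    intro χ
    obtain ⟨a, ha, hdec⟩ := IsChar.exists_decomp_inner (IsChar.res (IsIrr.isCharacter χ.2) P)
    refine ⟨∑ φ : IrrCharacter P, a φ * a φ, ?_, ?_⟩
    · rw [hdec, classInner_sum_sum]
      push_cast
      simp
    · refine le_trans (le_of_eq ?_) (Finset.sum_le_sum fun φ _ => Nat.le_mul_self (a φ))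
      have h := congrFun hdec 1
      rw [sum_irr_apply, Subgroup.coe_one, charDeg_spec'] at h
      simp only [IsIrr.one_of_comm (fun x y : P => (IsCyclic.commGroup (α := P)).mul_comm x y)
        (Subtype.prop _), mul_one] at h
      exact_mod_cast h
  obtain ⟨n₁, hn₁, hn₁'⟩ := hnormP χ₁
  obtain ⟨n₂, hn₂, hn₂'⟩ := hnormP χ₂
  obtain ⟨n₃, hn₃⟩ := IsChar.classInner_nat (IsChar.res (IsIrr.isCharacter χ₁.2) P)
    (IsChar.res (IsIrr.isCharacter χ₂.2) P)
  obtain ⟨n₄, hn₄⟩ := IsChar.classInner_nat (IsChar.res (IsIrr.isCharacter χ₂.2) P)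
    (IsChar.res (IsIrr.isCharacter χ₁.2) P)
  rw [classInner, inv_mul_eq_iff_eq_mul₀ (by rw [hPc]; exact hp0), hPc] at hn₁ hn₂ hn₃ hn₄
  have hsum : ∀ h : P, ((χ₁ : G → ℂ) h + (χ₂ : G → ℂ) h) * conj ((χ₁ : G → ℂ) h + (χ₂ : G → ℂ) h) =
      (if h = 1 then (4 * m * m - 1 : ℂ) else 0) + 1 := by
    intro h
    by_cases hh : h = 1
    · subst hh
      rw [if_pos rfl, Subgroup.coe_one, hm₁v, hm₂v, map_add, map_natCast]
      ring
    · rw [if_neg hh]
      rcases (hP h hh).2 with ⟨e1, e2⟩ | ⟨e1, e2⟩ <;> rw [e1, e2]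
      · rw [hxs]; simp
      · rw [add_comm x₂, hxs]; simp
  have htot : (p : ℂ) * ((n₁ : ℂ) + n₃ + n₄ + n₂) = (p : ℂ) * (2 * m : ℂ) := by
    rw [mul_add, mul_add, mul_add, ← hn₁, ← hn₂, ← hn₃, ← hn₄, ← Finset.sum_add_distrib,
      ← Finset.sum_add_distrib, ← Finset.sum_add_distrib,
      Finset.sum_congr rfl (g := fun h : P => (if h = 1 then (4 * m * m - 1 : ℂ) else 0) + 1)
        (fun h _ => by rw [← hsum h, map_add]; ring),
      Finset.sum_add_distrib, Finset.sum_ite_eq', if_pos (Finset.mem_univ _), Finset.sum_const,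
      Finset.card_univ, ← Nat.card_eq_fintype_card, hPc, nsmul_eq_mul, hpm]
    ring
  have hnn : n₁ = m ∧ n₂ = m := by
    have h := mul_left_cancel₀ hp0 htot
    have h' : n₁ + n₃ + n₄ + n₂ = 2 * m := by exact_mod_cast h
    omega
  set X := x₁ * conj x₁ + x₂ * conj x₂ with hX
  have hXv : X = (p : ℂ) - m := by
    have h : ∑ h : P, ((χ₁ : G → ℂ) h * conj ((χ₁ : G → ℂ) h) + (χ₂ : G → ℂ) h * conj ((χ₂ : G → ℂ) h))
        = (p : ℂ) * n₁ + (p : ℂ) * n₂ := by
      rw [Finset.sum_add_distrib, hn₁, hn₂]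
    rw [← Finset.add_sum_erase _ _ (Finset.mem_univ (1 : P)), Subgroup.coe_one, hm₁v, hm₂v,
      Finset.sum_congr rfl (g := fun _ => X) (fun h hh => by
        rcases (hP h (Finset.ne_of_mem_erase hh)).2 with ⟨e1, e2⟩ | ⟨e1, e2⟩
        · rw [e1, e2]
        · rw [e1, e2, hX, add_comm]),
      Finset.sum_const, Finset.card_erase_of_mem (Finset.mem_univ _), Finset.card_univ,
      ← Nat.card_eq_fintype_card, hPc, nsmul_eq_mul, hnn.1, hnn.2, show p - 1 = 2 * m by omega,
      map_natCast] at h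
    push_cast at h
    apply mul_left_cancel₀ (show (2 * m : ℂ) ≠ 0 by
      simp only [ne_eq, mul_eq_zero, Nat.cast_eq_zero]; norm_num; omega)
    linear_combination h
  have hdiff : (x₁ - x₂) * conj (x₁ - x₂) = (p : ℂ) := by
    have h1 : (x₁ + x₂) * conj (x₁ + x₂) = 1 := by rw [hxs]; simp
    simp only [map_add, map_sub] at h1 ⊢
    rw [hX] at hXv
    linear_combination 2 * hXv - h1 + hpm
  -- the orbital matrices
  haveI : Fintype (MulAction.orbitRel.Quotient G (Ω × Ω)) := Fintype.ofFinite _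
  let E : IrrCharacter G → Matrix Ω Ω ℂ := fun χ => proj G Ω (χ : G → ℂ)
  have hEE : ∀ χ φ : IrrCharacter G, E χ * E φ = if χ = φ then E χ else 0 := fun χ φ => proj_mul χ φ
  set d₀ : MulAction.orbitRel.Quotient G (Ω × Ω) := Quotient.mk'' (a₀, a₀) with hd₀
  have hdiag : ∀ x y : Ω, (Quotient.mk'' (x, y) : MulAction.orbitRel.Quotient G (Ω × Ω)) = d₀ ↔ x = y := by
    intro x y
    constructor
    · intro h
      obtain ⟨g, hg⟩ := Quotient.exact' h
      exact (congrArg Prod.fst hg).symm.trans (congrArg Prod.snd hg)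
    · rintro rfl
      obtain ⟨g, hg⟩ := MulAction.exists_smul_eq G a₀ x
      exact Quotient.sound' ⟨g, by simp [hg]⟩
  set A₀ : MulAction.orbitRel.Quotient G (Ω × Ω) → Matrix Ω Ω ℤ := fun q =>
    Matrix.of fun x y => if Quotient.mk'' (x, y) = q then 1 else 0 with hA₀
  let A : MulAction.orbitRel.Quotient G (Ω × Ω) → Matrix Ω Ω ℂ := fun q =>
    (A₀ q).map (Int.castRingHom ℂ)
  have hA : ∀ q x y, A q x y = if Quotient.mk'' (x, y) = q then 1 else 0 := by
    intro q x y
    show (Int.castRingHom ℂ) (A₀ q x y) = _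
    simp only [hA₀, Matrix.of_apply]
    split_ifs <;> simp
  have hAinv : ∀ q, Inv G Ω (A q) := by
    intro q g x y
    rw [hA, hA, show (Quotient.mk'' (g • x, g • y) : MulAction.orbitRel.Quotient G (Ω × Ω)) =
      Quotient.mk'' (x, y) from Quotient.sound' ⟨g, rfl⟩]
  let J : Matrix Ω Ω ℂ := Matrix.of fun _ _ => 1
  have hJinv : Inv G Ω J := fun _ _ _ => rfl
  have hone : Inv G Ω (1 : Matrix Ω Ω ℂ) := by
    intro g x y
    simp [Matrix.one_apply]
  have hscal : ∀ M, Inv G Ω M → ∀ χ : IrrCharacter G, ∃ c : ℂ, M * E χ = c • E χ := by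
    intro M hM χ
    have h1 := inv_mem_span hfree hM
    clear hM
    induction h1 using Submodule.span_induction with
    | mem x hx =>
      obtain ⟨φ, rfl⟩ := hx
      by_cases e : φ.1 = χ
      · exact ⟨1, by show E φ.1 * E χ = _; rw [hEE, if_pos e, one_smul, e]⟩
      · exact ⟨0, by show E φ.1 * E χ = _; rw [hEE, if_neg e, zero_smul]⟩
    | zero => exact ⟨0, by simp⟩
    | add x y _ _ hx hy =>
      obtain ⟨a, ha⟩ := hx
      obtain ⟨b, hb⟩ := hy
      exact ⟨a + b, by rw [Matrix.add_mul, ha, hb, add_smul]⟩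
    | smul r x _ hx =>
      obtain ⟨a, ha⟩ := hx
      exact ⟨r * a, by rw [Matrix.smul_mul, ha, smul_smul]⟩
  have hres : E ι + E ψ + E χ₁ + E χ₂ = 1 := by
    have key : ∀ M, Inv G Ω M → M * (E ι + E ψ + E χ₁ + E χ₂) = M := by
      intro M hM
      have h1 := inv_mem_span hfree hM
      clear hM
      induction h1 using Submodule.span_induction with
      | mem x hx =>
        obtain ⟨φ, rfl⟩ := hx
        show E φ.1 * _ = E φ.1
        rw [Matrix.mul_add, Matrix.mul_add, Matrix.mul_add, hEE, hEE, hEE, hEE]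
        rcases hall φ.1 φ.2 with e | e | e | e <;> rw [e] <;>
          simp [hψι, Ne.symm hψι, hι₁, Ne.symm hι₁, hι₂, Ne.symm hι₂, hψ₁, Ne.symm hψ₁, hψ₂,
            Ne.symm hψ₂, h12, Ne.symm h12]
      | zero => simp
      | add x y _ _ hx hy => rw [Matrix.add_mul, hx, hy]
      | smul r x _ hx => rw [Matrix.smul_mul, hx]
    simpa using key 1 hone
  choose c hc using fun q χ => hscal (A q) (hAinv q) χ
  have htr : ∀ χ : IrrCharacter G, mult G Ω (χ : G → ℂ) = 1 → (E χ).trace = (χ : G → ℂ) 1 :=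
    fun χ h => by rw [PermChar.trace_proj, h, mul_one]
  have hE0 : ∀ χ : IrrCharacter G, mult G Ω (χ : G → ℂ) = 1 → E χ ≠ 0 :=
    fun χ h => proj_ne_zero (by rw [h]; exact one_ne_zero)
  have hct : ∀ q, ∀ χ : IrrCharacter G, mult G Ω (χ : G → ℂ) = 1 →
      c q χ = (Nat.card G : ℂ)⁻¹ * ∑ g : G, (χ : G → ℂ) g⁻¹ * (A q * pmat G Ω g).trace := by
    intro q χ hχ
    have h := congrArg Matrix.trace (hc q χ)
    rw [Matrix.trace_smul, htr χ hχ, smul_eq_mul] at h
    apply mul_right_cancel₀ (IsIrr.one_ne_zero χ.2)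
    rw [← h]
    simp only [E, proj, Matrix.mul_smul, Matrix.mul_sum, Matrix.trace_smul, Matrix.trace_sum, smul_eq_mul,
      IsIrr.apply_inv χ.2]
    rw [Finset.mul_sum, Finset.mul_sum, Finset.sum_mul]
    exact Finset.sum_congr rfl fun g _ => by ring
  have htrint : ∀ q (g : G), ∃ z : ℤ, (A q * pmat G Ω g).trace = (z : ℂ) := by
    intro q g
    refine ⟨∑ x, ∑ y, (A₀ q x y) * (if g • x = y then 1 else 0), ?_⟩
    simp only [Matrix.trace, Matrix.diag, Matrix.mul_apply, pmat_apply]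
    push_cast
    exact Finset.sum_congr rfl fun x _ => Finset.sum_congr rfl fun y _ => by
      show (Int.castRingHom ℂ) _ * _ = _
      split_ifs <;> simp
  have hcσ : ∀ q (σ : ℂ ≃+* ℂ), ∀ χ : IrrCharacter G, mult G Ω (χ : G → ℂ) = 1 →
      σ (c q χ) = c q (twist σ χ) := by
    intro q σ χ hχ
    rw [hct q χ hχ, hct q _ (by rw [mult_twist, hχ]), map_mul, map_inv₀, map_natCast, map_sum]
    congr 1
    refine Finset.sum_congr rfl fun g _ => ?_
    obtain ⟨z, hz⟩ := htrint q g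
    rw [map_mul, hz, map_intCast, twist_apply]
  set N := Nat.card G with hN
  have hN0 : 0 < N := Nat.card_pos
  have hval : ∀ (χ : IrrCharacter G) (g : G), (χ : G → ℂ) g ∈ KGV.cycSpan N := fun χ g =>
    root_char_mem (IsIrr.isCharacter χ.2) g
  have hcmem : ∀ q, ∀ χ : IrrCharacter G, mult G Ω (χ : G → ℂ) = 1 → c q χ ∈ KGV.cycSpan N := by
    intro q χ hχ
    rw [hct q χ hχ]
    refine mul_mem (inv_mem (natCast_mem _ _)) (sum_mem fun g _ => mul_mem (hval χ _) ?_)
    obtain ⟨z, hz⟩ := htrint q g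
    rw [hz]
    exact intCast_mem _ _
  have hcint : ∀ q, ∀ χ : IrrCharacter G, mult G Ω (χ : G → ℂ) = 1 → IsIntegral ℤ (c q χ) :=
    fun q χ hχ => isIntegral_eigen (A₀ q) (hE0 χ hχ) (hc q χ)
  have toInt : ∀ z : ℂ, z ∈ KGV.cycSpan N → IsIntegral ℤ z → (∀ σ : ℂ ≃+* ℂ, σ z = z) →
      ∃ n : ℤ, z = n := by
    intro z hz hi hf
    obtain ⟨r, rfl⟩ := rat_of_fixed hN0 hz hf
    exact int_of_isIntegral_rat hi
  -- row sums
  set k : MulAction.orbitRel.Quotient G (Ω × Ω) → ℕ := fun q =>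
    (Finset.univ.filter fun y => (Quotient.mk'' (a₀, y) : MulAction.orbitRel.Quotient G (Ω × Ω)) = q).card
    with hk
  have hrow : ∀ q x, ∑ y, A q x y = (k q : ℂ) := by
    intro q x
    obtain ⟨g, rfl⟩ := MulAction.exists_smul_eq G a₀ x
    rw [hk]
    simp only [Finset.card_filter, Nat.cast_sum]
    refine (Fintype.sum_equiv (MulAction.toPerm g) _ _ fun y => ?_).symm
    rw [MulAction.toPerm_apply, hAinv q g a₀ y, hA]
    split_ifs <;> simp
  have hAJ : ∀ q, A q * J = (k q : ℂ) • J := by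
    intro q
    ext x y
    simp [Matrix.mul_apply, J, hrow]
  have hJE : J * E ι = J := by
    have hJp : ∀ g : G, J * pmat G Ω g = J := by
      intro g
      ext x y
      simp [Matrix.mul_apply, J, pmat_apply]
    simp only [E, proj, hι, PermChar.one₀, map_one, one_smul, Matrix.mul_smul, Matrix.mul_sum, hJp]
    rw [Finset.sum_const, Finset.card_univ, ← Nat.card_eq_fintype_card, ← Nat.cast_smul_eq_nsmul ℂ,
      smul_smul, one_div, inv_mul_cancel₀ (Nat.cast_ne_zero.2 Nat.card_pos.ne'), one_smul]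
  have hJE0 : ∀ χ : IrrCharacter G, χ ≠ ι → J * E χ = 0 := by
    intro χ hχ
    conv_lhs => rw [← hJE, Matrix.mul_assoc, hEE, if_neg (Ne.symm hχ), Matrix.mul_zero]
  have hJ0 : J ≠ 0 := fun e => by
    have := congrFun (congrFun e a₀) a₀
    simp [J] at this
  have hck : ∀ q, c q ι = (k q : ℂ) := by
    intro q
    have h1 : A q * J = J * A q := comm_of_free hfree (hAinv q) hJinv
    have h2 : J * (A q * E ι) = (k q : ℂ) • J := by
      rw [← Matrix.mul_assoc, ← h1, Matrix.mul_assoc, hJE, hAJ]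
    rw [hc q ι, Matrix.mul_smul, hJE] at h2
    exact smul_left_injective ℂ hJ0 h2
  have hk1 : ∀ q, q ≠ d₀ → 2 ≤ k q := by
    intro q hq
    induction q using Quotient.inductionOn' with
    | h z =>
      obtain ⟨x, y⟩ := z
      obtain ⟨g, hg⟩ := MulAction.exists_smul_eq G x a₀
      set b := g • y
      have hb : (Quotient.mk'' (a₀, b) : MulAction.orbitRel.Quotient G (Ω × Ω)) = Quotient.mk'' (x, y) :=
        Quotient.sound' ⟨g, by simp [hg, b]⟩
      have hbne : a₀ ≠ b := fun e => hq (hb.symm.trans ((hdiag a₀ b).2 e))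
      by_contra hlt
      push Not at hlt
      have hle : MulAction.stabilizer G a₀ ≤ MulAction.stabilizer G b := by
        intro h hh
        rw [hk] at hlt
        have h1 := Finset.card_le_one.1 (Nat.le_of_lt_succ hlt) (h • b)
          (Finset.mem_filter.2 ⟨Finset.mem_univ _, Eq.trans
            (show (Quotient.mk'' (a₀, h • b) : MulAction.orbitRel.Quotient G (Ω × Ω)) = Quotient.mk'' (a₀, b)
              from Quotient.sound' ⟨h, by simp [MulAction.mem_stabilizer_iff.1 hh]⟩) hb⟩)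
          b (Finset.mem_filter.2 ⟨Finset.mem_univ _, hb⟩)
        exact h1
      haveI : Nontrivial Ω := ⟨⟨a₀, b, hbne⟩⟩
      have hmax := MulAction.IsPreprimitive.isCoatom_stabilizer_of_isPreprimitive (G := G) a₀
      obtain ⟨g₁, hg₁⟩ := MulAction.exists_smul_eq G a₀ b
      have heq : MulAction.stabilizer G a₀ = MulAction.stabilizer G b :=
        Subgroup.eq_of_le_of_card_ge hle (le_of_eq (by
          rw [← hg₁, MulAction.stabilizer_smul_eq_stabilizer_map_conj,
            ← Nat.card_congr (Subgroup.equivMapOfInjective _ _ (MulEquiv.injective _)).toEquiv]))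
      have hgn : g₁ ∈ Subgroup.normalizer (MulAction.stabilizer G a₀ : Set G) := by
        refine Subgroup.mem_normalizer_iff.2 fun h => ?_
        have e : g₁ * h * g₁⁻¹ ∈ MulAction.stabilizer G a₀ ↔ g₁ * h * g₁⁻¹ ∈ MulAction.stabilizer G b := by
          rw [← heq]
        rw [e, MulAction.mem_stabilizer_iff, MulAction.mem_stabilizer_iff, ← hg₁, mul_smul, mul_smul,
          inv_smul_smul, smul_left_cancel_iff]
      have htop : Subgroup.normalizer (MulAction.stabilizer G a₀ : Set G) = ⊤ := by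
        refine hmax.2 _ (lt_of_le_of_ne Subgroup.le_normalizer fun e => hbne ?_)
        rw [← e, MulAction.mem_stabilizer_iff, hg₁] at hgn
        exact hgn.symm
      have hnorm : (MulAction.stabilizer G a₀).Normal := Subgroup.normalizer_eq_top_iff.1 htop
      have hbot : MulAction.stabilizer G a₀ = ⊥ := by
        refine (Subgroup.eq_bot_iff_forall _).2 fun h hh =>
          FaithfulSMul.eq_of_smul_eq_smul (α := Ω) fun z => ?_
        obtain ⟨g₂, rfl⟩ := MulAction.exists_smul_eq G a₀ z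
        have h1 := hnorm.conj_mem h hh g₂⁻¹
        rw [inv_inv, MulAction.mem_stabilizer_iff, mul_smul, mul_smul, inv_smul_eq_iff] at h1
        rw [h1, one_smul]
      have hlt' : MulAction.stabilizer G a₀ < Subgroup.zpowers u := by
        rw [hbot]
        exact bot_lt_iff_ne_bot.2 fun e => by
          rw [Subgroup.zpowers_eq_bot] at e
          rw [e, orderOf_one] at hu
          exact hp.ne_one hu.symm
      have h3 := (MulAction.stabilizer G a₀).card_mul_index
      rw [MulAction.index_stabilizer_of_transitive, Nat.card_eq_fintype_card (α := Ω), hcard, hbot,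
        Subgroup.card_bot, one_mul] at h3
      have h4 := hmax.2 _ hlt'
      have h5 : Nat.card (Subgroup.zpowers u) = Nat.card G := by rw [h4, Subgroup.card_top]
      rw [← hPdef, hPc, ← h3] at h5
      omega
  -- the identity for each suborbit
  have hmain : ∀ q, q ≠ d₀ → ∃ s b w t : ℤ, c q χ₁ + c q χ₂ = (s : ℂ) ∧ c q ψ = (b : ℂ) ∧
      t = -(s + 2 * b) ∧ 2 * (s + t - 1) ^ 2 + ((p : ℤ) - 1) * (w * w + t * t - 4 * t) = 2 ∧
      2 * (k q : ℤ) = s + p * t ∧ ((p : ℤ) * (w * w) - s) % 2 = 0 := by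
    intro q hq
    set c₁ := c q χ₁
    set c₂ := c q χ₂
    have hσc : ∀ σ : ℂ ≃+* ℂ, (σ c₁ = c₁ ∧ σ c₂ = c₂ ∧ σ x₁ = x₁ ∧ σ x₂ = x₂) ∨
        (σ c₁ = c₂ ∧ σ c₂ = c₁ ∧ σ x₁ = x₂ ∧ σ x₂ = x₁) := by
      intro σ
      rcases hperm σ with ⟨e1, e2⟩ | ⟨e1, e2⟩
      · left
        refine ⟨?_, ?_, ?_, ?_⟩
        · rw [hcσ q σ χ₁ hm₁, e1]
        · rw [hcσ q σ χ₂ hm₂, e2]
        · rw [hx₁, ← twist_apply, e1]
        · rw [hx₂, ← twist_apply, e2]
      · right
        refine ⟨?_, ?_, ?_, ?_⟩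
        · rw [hcσ q σ χ₁ hm₁, e1]
        · rw [hcσ q σ χ₂ hm₂, e2]
        · rw [hx₁, ← twist_apply, e1, hx₂]
        · rw [hx₂, ← twist_apply, e2, hx₁]
    have hx₁i : IsIntegral ℤ x₁ := IsChar.isIntegral (IsIrr.isCharacter χ₁.2) u
    have hx₂i : IsIntegral ℤ x₂ := IsChar.isIntegral (IsIrr.isCharacter χ₂.2) u
    obtain ⟨s, hs⟩ := toInt (c₁ + c₂) (add_mem (hcmem q _ hm₁) (hcmem q _ hm₂))
      ((hcint q _ hm₁).add (hcint q _ hm₂)) fun σ => by
        rcases hσc σ with ⟨e1, e2, -, -⟩ | ⟨e1, e2, -, -⟩ <;> rw [map_add, e1, e2]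
        exact add_comm _ _
    obtain ⟨g, hg⟩ := toInt (c₁ * c₂) (mul_mem (hcmem q _ hm₁) (hcmem q _ hm₂))
      ((hcint q _ hm₁).mul (hcint q _ hm₂)) fun σ => by
        rcases hσc σ with ⟨e1, e2, -, -⟩ | ⟨e1, e2, -, -⟩ <;> rw [map_mul, e1, e2]
        exact mul_comm _ _
    obtain ⟨e, he⟩ := toInt ((c₁ - c₂) * (x₁ - x₂))
      (mul_mem (sub_mem (hcmem q _ hm₁) (hcmem q _ hm₂)) (sub_mem (hval _ _) (hval _ _)))
      (((hcint q _ hm₁).sub (hcint q _ hm₂)).mul (hx₁i.sub hx₂i)) fun σ => by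
        rcases hσc σ with ⟨e1, e2, e3, e4⟩ | ⟨e1, e2, e3, e4⟩ <;>
          rw [map_mul, map_sub, map_sub, e1, e2, e3, e4]
        ring
    obtain ⟨b, hb⟩ := toInt (c q ψ) (hcmem q _ hmψ) (hcint q _ hmψ) fun σ => by
      rw [hcσ q σ ψ hmψ, hψfix]
    set D : ℤ := s * s - 4 * g with hD
    have hn : Complex.normSq (c₁ - c₂) = ((|D| : ℤ) : ℝ) := by
      have h1 : (c₁ - c₂) * (c₁ - c₂) = (((D : ℤ) : ℝ) : ℂ) := by
        rw [Complex.ofReal_intCast, hD]
        push_cast
        rw [← hs, ← hg]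
        ring
      have h2 := congrArg Complex.normSq h1
      rw [map_mul, Complex.normSq_ofReal] at h2
      rw [Int.cast_abs]
      rcases mul_self_eq_mul_self_iff.1 (h2.trans (abs_mul_abs_self _).symm) with h3 | h3
      · exact h3
      · have h4 := Complex.normSq_nonneg (c₁ - c₂)
        have h5 := abs_nonneg ((D : ℤ) : ℝ)
        linarith
    have hcc : (c₁ - c₂) * conj (c₁ - c₂) = ((|D| : ℤ) : ℂ) := by
      rw [Complex.mul_conj, hn, Complex.ofReal_intCast]
    have hee : e * e = |D| * (p : ℤ) := by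
      apply Int.cast_injective (α := ℂ)
      have h1 := congrArg (fun z : ℂ => z * conj z) he
      simp only [map_mul, map_intCast] at h1
      push_cast
      linear_combination (-1 : ℂ) * h1 + ((x₁ - x₂) * conj (x₁ - x₂)) * hcc + ((|D| : ℤ) : ℂ) * hdiff
    obtain ⟨w, hw⟩ : (p : ℤ) ∣ e :=
      (Int.Prime.dvd_mul' hp ⟨|D|, by rw [hee, mul_comm]⟩).elim id id
    have hDw : |D| = (p : ℤ) * (w * w) := by
      apply mul_right_cancel₀ (show ((p : ℤ)) ≠ 0 by exact_mod_cast hp.ne_zero)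
      rw [← hee, hw]
      ring
    -- the two traces
    have hAsum : A q = (k q : ℂ) • E ι + (b : ℂ) • E ψ + c₁ • E χ₁ + c₂ • E χ₂ := by
      conv_lhs => rw [← Matrix.mul_one (A q), ← hres]
      rw [Matrix.mul_add, Matrix.mul_add, Matrix.mul_add, hc, hc, hc, hc, hck, hb]
    have hι1 : (ι : G → ℂ) 1 = 1 := by simp [hι, PermChar.one₀]
    have e1 : (k q : ℂ) + b * p + (c₁ + c₂) * m = 0 := by
      have h := congrArg Matrix.trace hAsum
      rw [Matrix.trace_add, Matrix.trace_add, Matrix.trace_add, Matrix.trace_smul, Matrix.trace_smul,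
        Matrix.trace_smul, Matrix.trace_smul, htr ι hmι, htr ψ hmψ, htr χ₁ hm₁, htr χ₂ hm₂, hι1, hψv,
        hm₁v, hm₂v, show (A q).trace = 0 from Finset.sum_eq_zero fun x _ => by
          show A q x x = 0
          rw [hA, if_neg]
          exact fun e' => hq (e'.symm.trans ((hdiag x x).2 rfl))] at h
      simp only [smul_eq_mul] at h
      linear_combination -h
    have e2 : (k q : ℂ) * k q + b * b * p + (c₁ * conj c₁ + c₂ * conj c₂) * m = 2 * p * k q := by
      have h : (A q * (A q).conjTranspose).trace = 2 * (p : ℂ) * k q := by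
        simp only [Matrix.trace, Matrix.diag, Matrix.mul_apply, Matrix.conjTranspose_apply]
        rw [Finset.sum_congr rfl (g := fun _ => (k q : ℂ)) fun x _ => by
          rw [← hrow q x]
          refine Finset.sum_congr rfl fun y _ => ?_
          rw [hA]
          split_ifs <;> simp, Finset.sum_const, Finset.card_univ, hcard, nsmul_eq_mul]
        push_cast
        ring
      have hcj : (A q).conjTranspose =
          (k q : ℂ) • E ι + (b : ℂ) • E ψ + conj c₁ • E χ₁ + conj c₂ • E χ₂ := by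
        rw [hAsum]
        simp only [Matrix.conjTranspose_add, Matrix.conjTranspose_smul, E, conjTranspose_proj,
          Complex.star_def, map_natCast, map_intCast]
      rw [hcj] at h
      simp only [Matrix.mul_add, Matrix.mul_smul, hc, hck, hb, Matrix.trace_add, Matrix.trace_smul,
        htr ι hmι, htr ψ hmψ, htr χ₁ hm₁, htr χ₂ hm₂, hι1, hψv, hm₁v, hm₂v, smul_eq_mul] at h
      linear_combination h
    have e3 : 2 * (c₁ * conj c₁ + c₂ * conj c₂) = (s : ℂ) * s + (p : ℂ) * ((w : ℂ) * w) := by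
      have h1 : (c₁ + c₂) * conj (c₁ + c₂) = (s : ℂ) * s := by rw [hs, map_intCast]
      rw [hDw] at hcc
      push_cast at hcc
      simp only [map_add, map_sub] at h1 hcc
      linear_combination h1 + hcc
    rw [hs] at e1
    have hz1 : (k q : ℤ) + (m : ℤ) * s + (p : ℤ) * b = 0 := by
      apply Int.cast_injective (α := ℂ)
      push_cast
      linear_combination e1
    have hz2 : 2 * (k q : ℤ) * k q + (m : ℤ) * (s * s + (p : ℤ) * (w * w)) + 2 * (p : ℤ) * (b * b) =
        4 * (p : ℤ) * k q := by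
      apply Int.cast_injective (α := ℂ)
      push_cast
      linear_combination 2 * e2 - (m : ℂ) * e3
    obtain ⟨hid, hk2⟩ := identity (by exact_mod_cast hd₁.symm) (by exact_mod_cast hp.ne_zero) rfl hz1 hz2
    refine ⟨s, b, w, _, hs, hb, rfl, hid, hk2, ?_⟩
    rw [← hDw]
    have h1 : (s * s - s) % 2 = 0 := by
      rw [← Int.dvd_iff_emod_eq_zero, show s * s - s = s * (s - 1) by ring]
      exact (Int.even_mul_pred_self s).two_dvd
    rcases abs_choice D with h2 | h2 <;> rw [h2, hD] <;> omega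
  -- summing over the three suborbits
  set T := (Finset.univ : Finset (MulAction.orbitRel.Quotient G (Ω × Ω))).erase d₀ with hT
  have hQ : T.card = 3 := by
    have h := sum_mult_sq (G := G) (Ω := Ω)
    rw [← Finset.sum_subset (s₁ := {ι, ψ, χ₁, χ₂}) (Finset.subset_univ _) (fun χ _ hχ => by
      simp only [Finset.mem_insert, Finset.mem_singleton, not_or] at hχ
      rw [show mult G Ω (χ : G → ℂ) = 0 from by
        by_contra h
        rcases hall χ h with e | e | e | e
        exacts [hχ.1 e, hχ.2.1 e, hχ.2.2.1 e, hχ.2.2.2 e], zero_mul])] at h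
    rw [Finset.sum_insert (by simp [Ne.symm hψι, Ne.symm hι₁, Ne.symm hι₂]),
      Finset.sum_insert (by simp [Ne.symm hψ₁, Ne.symm hψ₂]), Finset.sum_pair (Ne.symm h12),
      hmι, hmψ, hm₁, hm₂, map_one, one_mul] at h
    norm_num1 at h
    have h' : 4 = Nat.card (MulAction.orbitRel.Quotient G (Ω × Ω)) := by exact_mod_cast h
    rw [hT, Finset.card_erase_of_mem (Finset.mem_univ _), Finset.card_univ, ← Nat.card_eq_fintype_card,
      ← h']
  have hsumA : ∑ q ∈ T, A q = J - 1 := by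
    ext x y
    rw [Matrix.sum_apply]
    simp only [hA, Finset.sum_ite_eq]
    by_cases hxy : x = y
    · subst hxy
      rw [if_neg (by rw [hT, Finset.mem_erase]; exact fun h => h.1 ((hdiag x x).2 rfl))]
      simp [J]
    · rw [if_pos (by
        rw [hT, Finset.mem_erase]
        exact ⟨fun h => hxy ((hdiag x y).1 h), Finset.mem_univ _⟩)]
      simp [J, Matrix.one_apply_ne hxy]
  have hsumc : ∀ χ : IrrCharacter G, χ ≠ ι → mult G Ω (χ : G → ℂ) = 1 → ∑ q ∈ T, c q χ = -1 := by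
    intro χ hχ hχm
    have h := congrArg (fun M => M * E χ) hsumA
    simp only [Matrix.sum_mul, hc, Matrix.sub_mul, hJE0 χ hχ, Matrix.one_mul, zero_sub] at h
    rw [← Finset.sum_smul] at h
    exact smul_left_injective ℂ (hE0 χ hχm) (h.trans (neg_one_smul ℂ (E χ)).symm)
  choose! sf bf wf tf hsf hbf htf hidf hkf hparf using hmain
  have hts : ∑ q ∈ T, tf q = 4 := by
    apply Int.cast_injective (α := ℂ)
    push_cast
    rw [Finset.sum_congr rfl (g := fun q => -((c q χ₁ + c q χ₂) + 2 * c q ψ)) fun q hq => by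
      have hq' := Finset.ne_of_mem_erase hq
      rw [hsf q hq', hbf q hq', htf q hq']
      push_cast
      ring]
    rw [Finset.sum_neg_distrib, Finset.sum_add_distrib, Finset.sum_add_distrib, ← Finset.mul_sum,
      hsumc χ₁ hι₁ hm₁, hsumc χ₂ hι₂ hm₂, hsumc ψ hψι hmψ]
    norm_num
  have hp3 : (3 : ℤ) ≤ p := by
    have := hp.two_le
    have : 3 ≤ p := by omega
    exact_mod_cast this
  have hpodd : (p : ℤ) % 2 = 1 := by omega
  have hge : ∀ q ∈ T, 1 ≤ tf q := by
    intro q hq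
    have hq' := Finset.ne_of_mem_erase hq
    by_contra hlt
    push Not at hlt
    have hid := hidf q hq'
    have hk2 := hkf q hq'
    have hkk : (2 : ℤ) ≤ (k q : ℤ) := by exact_mod_cast hk1 q hq'
    rcases eq_or_lt_of_le (show tf q ≤ 0 by omega) with h0 | h0
    · rw [h0] at hid hk2
      have hs4 : 4 ≤ sf q := by linarith
      nlinarith [mul_self_nonneg (wf q), mul_nonneg (show (0 : ℤ) ≤ (p : ℤ) - 1 by omega) (mul_self_nonneg (wf q))]
    · have h1 : 5 ≤ wf q * wf q + tf q * tf q - 4 * tf q := by nlinarith [mul_self_nonneg (wf q)]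
      nlinarith [sq_nonneg (sf q + tf q - 1)]
  obtain ⟨q, hq, htq⟩ : ∃ q ∈ T, tf q = 1 := by
    by_contra hall'
    push Not at hall'
    have h2 : ∀ q ∈ T, (2 : ℤ) ≤ tf q := fun q hq => by
      have := hge q hq
      have := hall' q hq
      omega
    have h3 := Finset.card_nsmul_le_sum T tf 2 h2
    rw [hQ, hts] at h3
    norm_num at h3
  have hq' := Finset.ne_of_mem_erase hq
  have hid := hidf q hq'
  have hk2 := hkf q hq'
  have hpar := hparf q hq'
  rw [htq] at hid hk2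
  rw [mul_one] at hk2
  have hsodd : sf q % 2 = 1 := by omega
  have hwodd : wf q % 2 = 1 := by
    rcases Int.emod_two_eq_zero_or_one (wf q) with h | h
    · exfalso
      have hdv : (2 : ℤ) ∣ (p : ℤ) * (wf q * wf q) :=
        dvd_mul_of_dvd_right (dvd_mul_of_dvd_left (Int.dvd_of_emod_eq_zero h) _) _
      have hdv' : (2 : ℤ) ∣ (p : ℤ) * (wf q * wf q) - sf q := Int.dvd_of_emod_eq_zero hpar
      have := dvd_sub hdv hdv'
      rw [sub_sub_cancel] at this
      omega
    · exact h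
  have hs1 : 1 ≤ sf q * sf q := by
    have : sf q ≠ 0 := by omega
    have := mul_self_pos.2 this
    omega
  rcases (show wf q * wf q = 1 ∨ 4 ≤ wf q * wf q from by
    rcases (show wf q = 1 ∨ wf q = -1 ∨ 2 ≤ wf q ∨ wf q ≤ -2 by omega) with h | h | h | h
    · exact Or.inl (by rw [h]; ring)
    · exact Or.inl (by rw [h]; ring)
    · exact Or.inr (by nlinarith)
    · exact Or.inr (by nlinarith)) with hw | hw
  · rw [hw] at hid
    have hsp : (sf q).natAbs * (sf q).natAbs = p := by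
      have h1 : sf q * sf q = (p : ℤ) := by linarith [show 2 * (sf q + 1 - 1) ^ 2 = 2 * (sf q * sf q) by ring]
      rw [← Int.natAbs_mul, h1, Int.natAbs_natCast]
    exact hp.not_isSquare ⟨_, hsp.symm⟩
  · nlinarith

end Cfsg.Agent.Block.TwoP
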