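import Mathlib

/-!
Maximal invariant subgroups of a power of a nonabelian simple group: products or full diagonals.
-/

set_option autoImplicit false
set_option linter.unusedSectionVars false

namespace Cfsg.Agent.Block.DiagPower

variable {T : Type*} [Group T] [IsSimpleGroup T] {ι : Type*} [Fintype ι] [DecidableEq ι]

/-- A surjective homomorphism from a power of a nonabelian simple group factors through one
coordinate. -/
theorem single_factor (hna : ¬ IsMulCommutative T) (S : Finset ι) (g : (ι → T) →* T)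
    (hg : Function.Surjective g) (hS : ∀ f : ι → T, (∀ i ∈ S, f i = 1) → g f = 1) :
    ∃ i ∈ S, ∃ θ : T ≃* T, ∀ f, g f = θ (f i) := by
  classical
  let u : ι → T →* T := fun i => g.comp (MonoidHom.mulSingle (fun _ => T) i)
  have hu : ∀ i x, u i x = g (Pi.mulSingle i x) := fun _ _ => rfl
  have hdec : ∀ f, g f = g (fun j => if j ∈ S then f j else 1) := by
    intro f
    have : f = (fun j => if j ∈ S then f j else 1) * fun j => if j ∈ S then 1 else f j := by
      funext j
      by_cases h : j ∈ S <;> simp [h]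
    conv_lhs => rw [this, map_mul]
    rw [hS (fun j => if j ∈ S then 1 else f j) fun i hi => if_pos hi, mul_one]
  have hnorm : ∀ i, (u i).range.Normal := fun i => by
    refine ⟨fun y hy t => ?_⟩
    obtain ⟨x, rfl⟩ := hy
    obtain ⟨f, rfl⟩ := hg t
    refine ⟨f i * x * (f i)⁻¹, ?_⟩
    rw [hu, hu, ← map_inv, ← map_mul, ← map_mul]
    congr 1
    funext j
    rcases eq_or_ne j i with rfl | h
    · simp
    · simp [h]
  have hcomm : ∀ i j, i ≠ j → ∀ x y, u i x * u j y = u j y * u i x := fun i j hij x y => by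
    rw [hu, hu, ← map_mul, ← map_mul]
    congr 1
    exact Pi.mulSingle_commute (f := fun _ : ι => T) hij x y
  have hone : ∀ i j, i ≠ j → (u i).range ≠ ⊥ → (u j).range ≠ ⊥ → False := by
    intro i j hij hi hj
    have hi' := (hnorm i).eq_bot_or_eq_top.resolve_left hi
    have hj' := (hnorm j).eq_bot_or_eq_top.resolve_left hj
    refine hna ⟨⟨fun a b => ?_⟩⟩
    obtain ⟨x, rfl⟩ : a ∈ (u i).range := hi' ▸ Subgroup.mem_top a
    obtain ⟨y, rfl⟩ : b ∈ (u j).range := hj' ▸ Subgroup.mem_top b
    exact hcomm i j hij x y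
  obtain ⟨i, hiS, hi⟩ : ∃ i ∈ S, (u i).range ≠ ⊥ := by
    by_contra hno
    push Not at hno
    obtain ⟨t, ht⟩ := exists_ne (1 : T)
    obtain ⟨f, rfl⟩ := hg t
    refine ht ?_
    rw [hdec f]
    have key : ∀ S' : Finset ι, S' ⊆ S → g (fun j => if j ∈ S' then f j else 1) = 1 := by
      intro S'
      induction S' using Finset.induction_on with
      | empty => intro _; simp only [Finset.notMem_empty, if_false]; exact map_one g
      | @insert a S' ha ih =>
        intro hsub
        have e : (fun j => if j ∈ insert a S' then f j else 1) =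
            Pi.mulSingle a (f a) * fun j => if j ∈ S' then f j else 1 := by
          funext j
          rcases eq_or_ne j a with rfl | h
          · simp [ha]
          · simp [h]
        rw [e, map_mul, ih fun x hx => hsub (Finset.mem_insert_of_mem hx), mul_one, ← hu]
        have := hno a (hsub (Finset.mem_insert_self a S'))
        exact Subgroup.mem_bot.1 (this ▸ ⟨f a, rfl⟩ : u a (f a) ∈ (⊥ : Subgroup T))
    exact key S subset_rfl
  have hother : ∀ j, j ≠ i → ∀ x, u j x = 1 := fun j hj x => by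
    by_contra hx
    exact hone j i hj (fun h => hx (Subgroup.mem_bot.1 (h ▸ ⟨x, rfl⟩ : u j x ∈ (⊥ : Subgroup T)))) hi
  have hval : ∀ f, g f = u i (f i) := by
    intro f
    have key : ∀ S' : Finset ι, g (fun j => if j ∈ S' then f j else 1) =
        if i ∈ S' then u i (f i) else 1 := by
      intro S'
      induction S' using Finset.induction_on with
      | empty => simp only [Finset.notMem_empty, if_false]; exact map_one g
      | @insert a S' ha ih =>
        have e : (fun j => if j ∈ insert a S' then f j else 1) =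
            Pi.mulSingle a (f a) * fun j => if j ∈ S' then f j else 1 := by
          funext j
          rcases eq_or_ne j a with rfl | h
          · simp [ha]
          · simp [h]
        rw [e, map_mul, ih, ← hu]
        rcases eq_or_ne a i with rfl | h
        · simp [ha]
        · rw [hother a h, one_mul]
          simp [Ne.symm h]
    rw [hdec f, key S, if_pos hiS]
  have hbij : Function.Bijective (u i) := by
    refine ⟨?_, MonoidHom.range_eq_top.1 ((hnorm i).eq_bot_or_eq_top.resolve_left hi)⟩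
    rcases (inferInstance : (u i).ker.Normal).eq_bot_or_eq_top with h | h
    · exact (MonoidHom.ker_eq_bot_iff _).1 h
    · exact absurd (MonoidHom.range_eq_bot_iff.2 (MonoidHom.ker_eq_top_iff.1 h)) hi
  exact ⟨i, hiS, MulEquiv.ofBijective (u i) hbij, hval⟩

/-- Automorphisms permute the coordinates. -/
theorem exists_form (hna : ¬ IsMulCommutative T) (ψ : (ι → T) ≃* (ι → T)) :
    ∃ σ : ι → ι, Function.Bijective σ ∧ ∃ θ : ι → (T ≃* T), ∀ f j, ψ f j = θ j (f (σ j)) := by
  classical
  have h : ∀ j, ∃ i ∈ (Finset.univ : Finset ι), ∃ θ : T ≃* T, ∀ f, ψ f j = θ (f i) := fun j =>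
    single_factor hna Finset.univ ((Pi.evalMonoidHom (fun _ : ι => T) j).comp ψ.toMonoidHom)
      (fun t => ⟨ψ.symm (Function.const ι t), by simp⟩) fun f hf => by
        rw [show f = 1 from funext fun i => hf i (Finset.mem_univ i)]; simp
  choose σ _ θ hθ using h
  refine ⟨σ, Finite.surjective_iff_bijective.1 fun i => ?_, θ, fun f j => hθ j f⟩
  by_contra hno
  push Not at hno
  obtain ⟨t, ht⟩ := exists_ne (1 : T)
  refine ht ?_
  have e : ψ (Pi.mulSingle i t) = ψ 1 := by
    rw [map_one]; funext j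
    rw [hθ]
    simp [hno j]
  simpa using congrFun (ψ.injective e) i

/-- A subgroup whose projections are onto and have pairwise different kernels fills up every set of
coordinates. -/
theorem fill (hna : ¬ IsMulCommutative T) (R : Subgroup (ι → T))
    (hsurj : ∀ i x, ∃ r ∈ R, r i = x) (S : Finset ι)
    (hdiff : ∀ i ∈ S, ∀ j ∈ S, (∀ r ∈ R, (r i = 1 ↔ r j = 1)) → i = j) (f : ι → T) :
    ∃ r ∈ R, ∀ i ∈ S, r i = f i := by
  classical
  induction S using Finset.induction_on generalizing f with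
  | empty => exact ⟨1, R.one_mem, by simp⟩
  | @insert a S ha ih =>
    have hd : ∀ i ∈ S, ∀ j ∈ S, (∀ r ∈ R, (r i = 1 ↔ r j = 1)) → i = j :=
      fun i hi j hj => hdiff i (Finset.mem_insert_of_mem hi) j (Finset.mem_insert_of_mem hj)
    let L : Subgroup T :=
      { carrier := {x | ∃ r ∈ R, (∀ i ∈ S, r i = 1) ∧ r a = x}
        one_mem' := ⟨1, R.one_mem, fun _ _ => rfl, rfl⟩
        mul_mem' := fun {x y} ⟨r, hr, h1, h2⟩ ⟨r', hr', h1', h2'⟩ =>
          ⟨r * r', R.mul_mem hr hr', fun i hi => by simp [h1 i hi, h1' i hi], by simp [h2, h2']⟩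
        inv_mem' := fun {x} ⟨r, hr, h1, h2⟩ =>
          ⟨r⁻¹, R.inv_mem hr, fun i hi => by simp [h1 i hi], by simp [h2]⟩ }
    have hL : L.Normal := by
      refine ⟨fun x ⟨r, hr, h1, h2⟩ t => ?_⟩
      obtain ⟨s, hs, rfl⟩ := hsurj a t
      exact ⟨s * r * s⁻¹, R.mul_mem (R.mul_mem hs hr) (R.inv_mem hs),
        fun i hi => by simp [h1 i hi], by simp [h2]⟩
    rcases hL.eq_bot_or_eq_top with hb | ht
    · exfalso
      have huniq : ∀ r ∈ R, ∀ r' ∈ R, (∀ i ∈ S, r i = r' i) → r a = r' a := by
        intro r hr r' hr' he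
        have : (r⁻¹ * r') a ∈ L :=
          ⟨r⁻¹ * r', R.mul_mem (R.inv_mem hr) hr', fun i hi => by simp [he i hi], rfl⟩
        rw [hb, Subgroup.mem_bot, Pi.mul_apply, Pi.inv_apply] at this
        exact inv_mul_eq_one.1 this
      choose pick hpR hpS using fun f => ih hd f
      let g : (ι → T) →* T := MonoidHom.mk' (fun f => pick f a) fun f f' =>
        huniq _ (hpR _) _ (R.mul_mem (hpR f) (hpR f')) fun i hi => by
          simp [hpS _ i hi]
      have hg : Function.Surjective g := fun x => by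
        obtain ⟨r, hr, rfl⟩ := hsurj a x
        exact ⟨r, huniq _ (hpR r) _ hr fun i hi => hpS r i hi⟩
      obtain ⟨s, hs, θ, hθ⟩ := single_factor hna S g hg fun f hf =>
        huniq _ (hpR f) 1 R.one_mem fun i hi => by rw [hpS f i hi, hf i hi]; rfl
      refine ha ((hdiff a (Finset.mem_insert_self a S) s (Finset.mem_insert_of_mem hs) fun r hr => ?_) ▸ hs)
      have e : r a = θ (r s) := (huniq _ hr _ (hpR r) fun i hi => (hpS r i hi).symm).trans (hθ r)
      rw [e, map_eq_one_iff θ θ.injective]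
    · obtain ⟨r, hr, hrS⟩ := ih hd f
      obtain ⟨r', hr', h1, h2⟩ : (r a)⁻¹ * f a ∈ L := ht ▸ Subgroup.mem_top _
      refine ⟨r * r', R.mul_mem hr hr', fun i hi => ?_⟩
      rcases Finset.mem_insert.1 hi with rfl | hi
      · simp [h2]
      · simp [hrS i hi, h1 i hi]

/-- Maximal proper invariant subgroups: products of proper subgroups, or twisted diagonals over a
partition into blocks of one size. -/
theorem dichotomy [Finite T] (hna : ¬ IsMulCommutative T) {m : ℕ} (Φ : Set ((Fin m → T) ≃* (Fin m → T)))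
    (R : Subgroup (Fin m → T)) (hR : ∀ ψ ∈ Φ, ∀ r ∈ R, ψ r ∈ R) (hne : R ≠ ⊤)
    (hmax : ∀ X : Subgroup (Fin m → T), R ≤ X → (∀ ψ ∈ Φ, ∀ x ∈ X, ψ x ∈ X) → X = R ∨ X = ⊤)
    (hnorm : ∀ M : Subgroup (Fin m → T), M.Normal → (∀ ψ ∈ Φ, ∀ x ∈ M, ψ x ∈ M) → M = ⊥ ∨ M = ⊤) :
    (∃ K : Fin m → Subgroup T, (∀ i, K i ≠ ⊤) ∧ ∀ f, f ∈ R ↔ ∀ i, f i ∈ K i) ∨
      ∃ (α : Fin m → (T ≃* T)) (k : ℕ) (c : Fin m → Fin m), 2 ≤ k ∧
        (∀ j : Fin m, Nat.card {i : Fin m // c i = j} = k ∨ Nat.card {i : Fin m // c i = j} = 0) ∧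
        ∀ f, f ∈ R ↔ ∀ i j : Fin m, c i = c j → α i (f i) = α j (f j) := by
  classical
  obtain ⟨t₀, ht₀⟩ := exists_ne (1 : T)
  -- invariant sets of coordinates
  have hset : ∀ J : Set (Fin m), J.Nonempty →
      (∀ ψ ∈ Φ, ∀ (σ : Fin m → Fin m) (θ : Fin m → (T ≃* T)), (∀ f j, ψ f j = θ j (f (σ j))) →
        Function.Bijective σ → ∀ j, σ j ∈ J → j ∈ J) → ∀ j, j ∈ J := by
    intro J hJ hinv
    let M : Subgroup (Fin m → T) :=
      { carrier := {f | ∀ j, j ∉ J → f j = 1}
        one_mem' := fun _ _ => rfl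
        mul_mem' := fun {f f'} hf hf' j hj => by simp [hf j hj, hf' j hj]
        inv_mem' := fun {f} hf j hj => by simp [hf j hj] }
    have hMn : M.Normal := ⟨fun f hf t j hj => by simp [hf j hj]⟩
    rcases hnorm M hMn (fun ψ hψ f hf j hj => by
      obtain ⟨σ, hσ, θ, hθ⟩ := exists_form hna ψ
      rw [hθ, hf (σ j) fun h => hj (hinv ψ hψ σ θ hθ hσ j h), map_one]) with h | h
    · obtain ⟨i, hi⟩ := hJ
      have hm : Pi.mulSingle i t₀ ∈ M := fun j hj => by simp [show j ≠ i from fun e => hj (e ▸ hi)]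
      rw [h, Subgroup.mem_bot] at hm
      exact absurd (by simpa using congrFun hm i) ht₀
    · intro j
      by_contra hj
      have hm : Pi.mulSingle j t₀ ∈ M := h ▸ Subgroup.mem_top _
      exact ht₀ (by simpa using hm j hj)
  -- the inverse of an automorphism in `Φ` also preserves `R`
  have hR' : ∀ ψ ∈ Φ, ∀ r, ψ r ∈ R → r ∈ R := by
    intro ψ hψ r hr
    by_contra hrR
    obtain ⟨s, hs⟩ : ∃ s, ψ r = ψ s ∧ s ∈ R := by
      have hinj : Function.Injective fun x : R => (⟨ψ x, hR ψ hψ x x.2⟩ : R) := fun x y e =>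
        Subtype.ext (ψ.injective (congrArg Subtype.val e))
      obtain ⟨x, hx⟩ := Finite.injective_iff_surjective.1 hinj ⟨ψ r, hr⟩
      exact ⟨x, (congrArg Subtype.val hx).symm, x.2⟩
    exact hrR (ψ.injective hs.1 ▸ hs.2)
  by_cases hfull : ∃ i x, ∀ r ∈ R, r i ≠ x
  · left
    let K : Fin m → Subgroup T := fun i => R.map (Pi.evalMonoidHom (fun _ : Fin m => T) i)
    have hK : ∀ i x, x ∈ K i ↔ ∃ r ∈ R, r i = x := fun i x => Iff.rfl
    have hall : ∀ i, K i ≠ ⊤ := by
      refine fun i => hset {i | K i ≠ ⊤} ?_ ?_ i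
      · obtain ⟨i, x, hx⟩ := hfull
        exact ⟨i, fun h => by
          obtain ⟨r, hr, e⟩ := (hK i x).1 (h ▸ Subgroup.mem_top x)
          exact hx r hr e⟩
      · intro ψ hψ σ θ hθ _ j hj h
        refine hj (eq_top_iff.2 fun x _ => ?_)
        obtain ⟨r, hr, e⟩ := (hK j (θ j x)).1 (h ▸ Subgroup.mem_top _)
        refine (hK _ x).2 ⟨ψ.symm r, hR' ψ hψ _ (by rwa [ψ.apply_symm_apply]), ?_⟩
        rw [← ψ.apply_symm_apply r, hθ] at e
        exact (θ j).injective e
    refine ⟨K, hall, ?_⟩
    let X : Subgroup (Fin m → T) := Subgroup.pi Set.univ K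
    have hX : ∀ f, f ∈ X ↔ ∀ i, f i ∈ K i := fun f =>
      ⟨fun h i => h i (Set.mem_univ i), fun h i _ => h i⟩
    rcases hmax X (fun r hr => (hX r).2 fun i => (hK i _).2 ⟨r, hr, rfl⟩) (fun ψ hψ f hf => (hX _).2 fun j => by
      obtain ⟨σ, -, θ, hθ⟩ := exists_form hna ψ
      obtain ⟨r, hr, e⟩ := (hK _ _).1 ((hX f).1 hf (σ j))
      exact (hK j _).2 ⟨ψ r, hR ψ hψ r hr, by rw [hθ, hθ, e]⟩) with h | h
    · exact fun f => by rw [← h]; exact hX f
    · exfalso
      obtain ⟨i, x, hx⟩ := hfull
      refine hall i (eq_top_iff.2 fun y _ => ?_)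
      have := (hX (Function.const _ y)).1 (h ▸ Subgroup.mem_top _) i
      simpa using this
  · right
    push Not at hfull
    let E : Fin m → Fin m → Prop := fun i j => ∀ r ∈ R, (r i = 1 ↔ r j = 1)
    have hEr : ∀ i, E i i := fun i r _ => Iff.rfl
    have hEs : ∀ i j, E i j → E j i := fun i j h r hr => (h r hr).symm
    have hEt : ∀ i j l, E i j → E j l → E i l := fun i j l h h' r hr => (h r hr).trans (h' r hr)
    let c : Fin m → Fin m := fun i =>
      (Finset.univ.filter fun j => E i j).min' ⟨i, by simp [hEr i]⟩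
    have hc : ∀ i, E i (c i) := fun i => by
      have := Finset.min'_mem (Finset.univ.filter fun j => E i j) ⟨i, by simp [hEr i]⟩
      exact (Finset.mem_filter.1 this).2
    have hcE : ∀ i j, c i = c j ↔ E i j := fun i j => by
      refine ⟨fun h => hEt _ _ _ (hc i) (h ▸ hEs _ _ (hc j)), fun h => ?_⟩
      simp only [c]
      congr 1
      exact Finset.filter_congr fun l _ => ⟨fun h' => hEt _ _ _ (hEs _ _ h) h', hEt _ _ _ h⟩
    have hcc : ∀ i, c (c i) = c i := fun i => (hcE _ _).2 (hEs _ _ (hc i))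
    have hβ : ∀ i, ∃ β : T ≃* T, ∀ r ∈ R, r i = β (r (c i)) := by
      intro i
      choose pick hpR hpv using fun x => hfull (c i) x
      have huniq : ∀ r ∈ R, ∀ r' ∈ R, r (c i) = r' (c i) → r i = r' i := fun r hr r' hr' e => by
        have := (hc i (r⁻¹ * r') (R.mul_mem (R.inv_mem hr) hr')).2 (by simp [e])
        simpa [inv_mul_eq_one] using this
      let β : T →* T := MonoidHom.mk' (fun x => pick x i) fun x y =>
        huniq _ (hpR _) _ (R.mul_mem (hpR x) (hpR y)) (by simp [hpv])
      refine ⟨MulEquiv.ofBijective β ⟨fun x y e => ?_, fun y => ?_⟩,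
        fun r hr => huniq _ hr _ (hpR _) (hpv _).symm⟩
      · have e' : pick x i = pick y i := e
        have := (hc i ((pick x)⁻¹ * pick y) (R.mul_mem (R.inv_mem (hpR x)) (hpR y))).1 (by simp [e'])
        simpa [hpv, inv_mul_eq_one] using this
      · obtain ⟨r, hr, rfl⟩ := hfull i y
        exact ⟨r (c i), huniq _ (hpR _) _ hr (hpv _)⟩
    choose β hβ using hβ
    have hβc : ∀ i x, β (c i) x = x := fun i x => by
      obtain ⟨r, hr, rfl⟩ := hfull (c i) x
      have := hβ (c i) r hr
      rw [hcc] at this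
      exact this.symm
    have hmem : ∀ f, f ∈ R ↔ ∀ i j, c i = c j → (β i).symm (f i) = (β j).symm (f j) := by
      intro f
      refine ⟨fun hf i j h => ?_, fun h => ?_⟩
      · rw [hβ i f hf, hβ j f hf, MulEquiv.symm_apply_apply, MulEquiv.symm_apply_apply, h]
      · obtain ⟨r, hr, hrS⟩ := fill hna R (fun i x => hfull i x)
          (Finset.univ.filter fun i => c i = i) (fun i hi j hj hij => by
            rw [← (Finset.mem_filter.1 hi).2, ← (Finset.mem_filter.1 hj).2]
            exact (hcE i j).2 hij) f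
        have : f = r := funext fun i => by
          have h1 := h i (c i) (hcc i).symm
          have hcv : (β (c i)).symm (f (c i)) = f (c i) :=
            (MulEquiv.symm_apply_eq _).2 (hβc i _).symm
          rw [hcv, MulEquiv.symm_apply_eq] at h1
          rw [h1, hβ i r hr, hrS (c i) (by simp [hcc i])]
        exact this ▸ hr
    let size : Fin m → ℕ := fun i => Nat.card {l : Fin m // c l = c i}
    have hsize : ∀ i j, size i = size j := by
      intro i₁ i₂
      refine (hset {i | size i = size i₁} ⟨i₁, rfl⟩ ?_ i₂).symm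
      intro ψ hψ σ θ hθ hσ j hj
      refine Eq.trans ?_ hj
      have hEσ : ∀ a b, E a b → E (σ a) (σ b) := fun a b h r hr => by
        have := h (ψ r) (hR ψ hψ r hr)
        rwa [hθ, hθ, map_eq_one_iff _ (θ a).injective, map_eq_one_iff _ (θ b).injective] at this
      have hEσ' : ∀ a b, E (σ a) (σ b) → E a b := by
        intro a b h
        let F : {x : Fin m × Fin m // E x.1 x.2} → {x : Fin m × Fin m // E x.1 x.2} :=
          fun x => ⟨(σ x.1.1, σ x.1.2), hEσ _ _ x.2⟩
        have hF : Function.Injective F := fun x y e => by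
          have e' := congrArg Subtype.val e
          simp only [F, Prod.mk.injEq] at e'
          exact Subtype.ext (Prod.ext (hσ.1 e'.1) (hσ.1 e'.2))
        obtain ⟨⟨⟨a', b'⟩, hab⟩, e⟩ := Finite.injective_iff_surjective.1 hF ⟨(σ a, σ b), h⟩
        have e' := congrArg Subtype.val e
        simp only [F, Prod.mk.injEq] at e'
        rw [← hσ.1 e'.1, ← hσ.1 e'.2]
        exact hab
      refine Nat.card_congr (Equiv.subtypeEquiv (Equiv.ofBijective σ hσ) fun l => ?_)
      rw [Equiv.ofBijective_apply, hcE, hcE]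
      exact ⟨hEσ _ _, hEσ' _ _⟩
    rcases Nat.eq_zero_or_pos m with hm | hm
    · subst hm
      exact absurd (eq_top_iff.2 fun f _ => (hmem f).2 fun i => i.elim0) hne
    refine ⟨fun i => (β i).symm, size ⟨0, hm⟩, c, ?_, fun j => ?_, hmem⟩
    · by_contra hk
      refine hne (eq_top_iff.2 fun f _ => (hmem f).2 fun i j h => ?_)
      have h1 : size j ≤ 1 := by rw [hsize j ⟨0, hm⟩]; omega
      haveI := (Finite.card_le_one_iff_subsingleton.1 h1)
      have := Subsingleton.elim (⟨i, h⟩ : {l : Fin m // c l = c j}) ⟨j, rfl⟩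
      rw [show i = j from congrArg Subtype.val this]
    · by_cases hj : ∃ i, c i = j
      · obtain ⟨i, rfl⟩ := hj
        exact Or.inl (hsize i _)
      · right
        haveI : IsEmpty {i : Fin m // c i = j} := ⟨fun x => hj ⟨x.1, x.2⟩⟩
        exact Nat.card_of_isEmpty

end Cfsg.Agent.Block.DiagPower
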