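import Cfsg.Agent.Lib.Block.AbelianThreeInvolution
import Cfsg.Agent.Lib.Char.ModP
import Cfsg.Agent.Lib.Invol.Sylow
import Mathlib.GroupTheory.Transfer

/-!
Brauer's theorem on Sylow 2-subgroups that are homocyclic of rank two.

The automizer is trivial or of order three and free; in the latter case the principal block and
the count of products of two involutions equal to an element of order at least four force the
two exceptional characters to be linear, and their kernel has a normal 2-complement.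
-/

open scoped ComplexConjugate IsMulCommutative

namespace Cfsg.Agent.Block

set_option linter.unusedSectionVars false
set_option linter.style.haveILetI false

universe u

variable {G : Type u} [Group G] [Finite G]

/-- An abelian Sylow 2-subgroup with exactly three involutions. -/
def TwoRankTwo (P : Sylow 2 G) : Prop :=
  ∃ a ∈ (P : Subgroup G), ∃ b ∈ (P : Subgroup G), a ≠ 1 ∧ b ≠ 1 ∧ a ≠ b ∧ a * a = 1 ∧ b * b = 1 ∧
    ∀ u ∈ (P : Subgroup G), u * u = 1 → u = 1 ∨ u = a ∨ u = b ∨ u = a * b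

theorem isMulCommutative_of_homocyclic (P : Sylow 2 G) {m : ℕ}
    (e : (P : Subgroup G) ≃* Multiplicative (ZMod (2 ^ m) × ZMod (2 ^ m))) :
    IsMulCommutative (P : Subgroup G) :=
  ⟨⟨fun x y => e.injective (by rw [map_mul, map_mul, mul_comm])⟩⟩

theorem card_homocyclic (P : Sylow 2 G) {m : ℕ}
    (e : (P : Subgroup G) ≃* Multiplicative (ZMod (2 ^ m) × ZMod (2 ^ m))) :
    Nat.card (P : Subgroup G) = 2 ^ m * 2 ^ m := by
  rw [Nat.card_congr e.toEquiv, Nat.card_congr Multiplicative.toAdd, Nat.card_prod, Nat.card_zmod]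

theorem twoRankTwo_of_homocyclic (P : Sylow 2 G) {m : ℕ} (hm : 1 ≤ m)
    (e : (P : Subgroup G) ≃* Multiplicative (ZMod (2 ^ m) × ZMod (2 ^ m))) : TwoRankTwo P := by
  haveI : NeZero (2 ^ m) := ⟨pow_ne_zero _ two_ne_zero⟩
  set α : ZMod (2 ^ m) := ((2 ^ (m - 1) : ℕ) : ZMod (2 ^ m)) with hα
  have hlt : 2 ^ (m - 1) < 2 ^ m := Nat.pow_lt_pow_right one_lt_two (by omega)
  have h2 : 2 ^ (m - 1) + 2 ^ (m - 1) = 2 ^ m := by
    obtain ⟨j, rfl⟩ : ∃ j, m = j + 1 := ⟨m - 1, by omega⟩
    rw [Nat.add_sub_cancel, pow_succ]; ring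
  have hα0 : α ≠ 0 := by
    intro h
    rw [hα, ZMod.natCast_eq_zero_iff] at h
    exact absurd (Nat.le_of_dvd (pow_pos two_pos _) h) (not_le.2 hlt)
  have hαα : α + α = 0 := by rw [hα, ← Nat.cast_add, h2, ZMod.natCast_self]
  have hkey : ∀ x : ZMod (2 ^ m), x + x = 0 → x = 0 ∨ x = α := by
    intro x hx
    have h3 := congrArg ZMod.val hx
    rw [ZMod.val_add, ZMod.val_zero] at h3
    have h4 := ZMod.val_lt x
    obtain ⟨c, hc⟩ := Nat.dvd_of_mod_eq_zero h3
    rcases c with _ | _ | c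
    · left; exact (ZMod.val_eq_zero x).1 (by omega)
    · right
      rw [hα, ← ZMod.natCast_zmod_val x]
      congr 1
      omega
    · exfalso; nlinarith
  let f : ZMod (2 ^ m) × ZMod (2 ^ m) → G := fun x => ((e.symm (Multiplicative.ofAdd x) : (P : Subgroup G)) : G)
  have hf : ∀ x y, f (x + y) = f x * f y := fun x y => by simp [f]
  have hf0 : f 0 = 1 := by simp [f]
  have hinj : Function.Injective f :=
    Subtype.coe_injective.comp (e.symm.injective.comp Multiplicative.ofAdd.injective)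
  refine ⟨f (α, 0), SetLike.coe_mem _, f (0, α), SetLike.coe_mem _, ?_, ?_, ?_, ?_, ?_, ?_⟩
  · rw [← hf0]; exact fun h => hα0 (congrArg Prod.fst (hinj h))
  · rw [← hf0]; exact fun h => hα0 (congrArg Prod.snd (hinj h))
  · exact fun h => hα0 (congrArg Prod.fst (hinj h))
  · rw [← hf, ← hf0]; congr 1; simp [hαα]
  · rw [← hf, ← hf0]; congr 1; simp [hαα]
  · intro u hu huu
    obtain ⟨x, rfl⟩ : ∃ x, f x = u := ⟨(e ⟨u, hu⟩).toAdd, by simp [f]⟩
    rw [← hf, ← hf0] at huu
    have hx := hinj huu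
    obtain ⟨x₁, x₂⟩ := x
    simp only [Prod.mk_add_mk, Prod.mk_eq_zero] at hx
    rw [← hf, ← hf0]
    rcases hkey _ hx.1 with rfl | rfl <;> rcases hkey _ hx.2 with rfl | rfl
    · exact .inl rfl
    · exact .inr (.inr (.inl rfl))
    · exact .inr (.inl rfl)
    · exact .inr (.inr (.inr (by simp)))

theorem TwoRankTwo.third {P : Sylow 2 G} (h : TwoRankTwo P) [IsMulCommutative (P : Subgroup G)]
    {z u v : G} (hz : z ∈ (P : Subgroup G)) (hu : u ∈ (P : Subgroup G)) (hv : v ∈ (P : Subgroup G))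
    (hzz : z * z = 1) (huu : u * u = 1) (hvv : v * v = 1) (hz1 : z ≠ 1) (hu1 : u ≠ 1) (hv1 : v ≠ 1)
    (hzu : z ≠ u) (hzv : z ≠ v) : v = u ∨ v = z * u := by
  obtain ⟨a, ha, b, hb, -, -, -, ha2, hb2, hall⟩ := h
  have hab : b * a = a * b :=
    congrArg Subtype.val (mul_comm (⟨b, hb⟩ : (P : Subgroup G)) ⟨a, ha⟩)
  have haab : a * (a * b) = b := by rw [← mul_assoc, ha2, one_mul]
  have hbab : b * (a * b) = a := by rw [← mul_assoc, hab, mul_assoc, hb2, mul_one]
  have haba : a * b * a = b := by rw [mul_assoc, hab, haab]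
  have habb : a * b * b = a := by rw [mul_assoc, hb2, mul_one]
  rcases (hall z hz hzz).resolve_left hz1 with e1 | e1 | e1 <;>
    rcases (hall u hu huu).resolve_left hu1 with e2 | e2 | e2 <;>
    rcases (hall v hv hvv).resolve_left hv1 with e3 | e3 | e3 <;>
    rw [e1, e2] at hzu <;> rw [e1, e3] at hzv <;> rw [e1, e2, e3] <;>
    first
      | exact Or.inl rfl
      | exact absurd rfl hzu
      | exact absurd rfl hzv
      | (right; simp only [haab, hbab, haba, habb, hab])

theorem pPart_mem_of_normalizer {p : ℕ} (P : Sylow p G) {u : G} {k : ℕ} (hu : orderOf u = p ^ k)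
    (huN : u ∈ Subgroup.normalizer ((P : Subgroup G) : Set G)) : u ∈ (P : Subgroup G) := by
  have hp : IsPGroup p (Subgroup.zpowers u) :=
    IsPGroup.of_card (n := k) (by rw [Nat.card_zpowers, hu])
  have h' := P.3 (hp.to_sup_of_normal_right' P.isPGroup' (Subgroup.zpowers_le.2 huN)) le_sup_right
  exact h' ▸ Subgroup.mem_sup_left (Subgroup.mem_zpowers u)

/-- An odd element of the normalizer fixing an involution centralizes the Sylow subgroup. -/
theorem TwoRankTwo.odd_fix {P : Sylow 2 G} (h : TwoRankTwo P) [IsMulCommutative (P : Subgroup G)]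
    {n : G} (hn : n ∈ Subgroup.normalizer ((P : Subgroup G) : Set G)) (hodd : ¬ 2 ∣ orderOf n)
    {z : G} (hz : z ∈ (P : Subgroup G)) (hz1 : z ≠ 1) (hzz : z * z = 1) (hnz : Commute n z) :
    n ∈ Subgroup.centralizer ((P : Subgroup G) : Set G) := by
  have hmap : ∀ {x : G}, x ∈ (P : Subgroup G) → n * x * n⁻¹ ∈ (P : Subgroup G) := fun hx =>
    (Subgroup.mem_normalizer_iff.1 hn _).1 hx
  obtain ⟨j, hj⟩ : ∃ j : ℕ, (n * n) ^ j = n := by
    obtain ⟨l, hl⟩ := Nat.odd_iff.2 (Nat.two_dvd_ne_zero.1 hodd)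
    refine ⟨l + 1, ?_⟩
    rw [← pow_two, ← pow_mul, show 2 * (l + 1) = orderOf n + 1 by omega, pow_succ,
      pow_orderOf_eq_one, one_mul]
  have hΩ : ∀ u ∈ (P : Subgroup G), u * u = 1 → Commute n u := by
    intro u hu huu
    by_cases hu1 : u = 1
    · rw [hu1]; exact Commute.one_right n
    by_cases huz : z = u
    · rw [← huz]; exact hnz
    set v := n * u * n⁻¹ with hv
    have hvv : v * v = 1 := by rw [hv, conj_mul, huu, mul_one, mul_inv_cancel]
    have hv1 : v ≠ 1 := fun e => hu1 (conj_eq_one_iff.1 e)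
    have hzv : z ≠ v := fun e => huz (mul_left_cancel (a := n) (mul_right_cancel (b := n⁻¹) (by
      rw [← hv, ← e, hnz.eq, mul_inv_cancel_right])))
    rcases h.third hz hu (hmap hu) hzz huu hvv hz1 hu1 hv1 huz hzv with e | e
    · exact mul_inv_eq_iff_eq_mul.1 e
    · have h2 : n * n * u * (n * n)⁻¹ = u := by
        calc n * n * u * (n * n)⁻¹ = n * v * n⁻¹ := by rw [hv]; group
          _ = n * (z * u) * n⁻¹ := by rw [show v = z * u from e]
          _ = z * v := by rw [hv, ← mul_assoc n z u, hnz.eq]; group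
          _ = u := by rw [show v = z * u from e, ← mul_assoc, hzz, one_mul]
      rw [← hj]
      exact (show Commute (n * n) u from mul_inv_eq_iff_eq_mul.1 h2).pow_left j
  have key : ∀ (k : ℕ), ∀ w ∈ (P : Subgroup G), orderOf w = k → Commute n w := by
    intro k
    induction k using Nat.strong_induction_on with
    | _ k ih =>
      intro w hw hk
      by_cases hw1 : w * w = 1
      · exact hΩ w hw hw1
      set d := w⁻¹ * (n * w * n⁻¹) with hd
      have hdP : d ∈ (P : Subgroup G) := mul_mem (inv_mem hw) (hmap hw)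
      have hlt : orderOf (w * w) < k := by
        haveI : Fact (Nat.Prime 2) := ⟨Nat.prime_two⟩
        obtain ⟨i, hi⟩ := pPow_of_mem P.isPGroup' hw
        rcases i with _ | i
        · rw [pow_zero, orderOf_eq_one_iff] at hi
          exact absurd (by rw [hi, one_mul]) hw1
        · rw [← hk, ← pow_two, orderOf_pow' w two_ne_zero, hi, Nat.gcd_eq_right (dvd_pow_self 2 i.succ_ne_zero)]
          exact Nat.div_lt_self (pow_pos two_pos _) one_lt_two
      have hsq : Commute n (w * w) := ih _ hlt _ (mul_mem hw hw) rfl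
      have hcomm : Commute (n * w * n⁻¹) w⁻¹ :=
        congrArg Subtype.val (mul_comm (⟨_, hmap hw⟩ : (P : Subgroup G)) ⟨_, inv_mem hw⟩)
      have hdd : d * d = 1 := by
        calc d * d = w⁻¹ * ((n * w * n⁻¹) * w⁻¹) * (n * w * n⁻¹) := by rw [hd]; group
          _ = w⁻¹ * (w⁻¹ * (n * w * n⁻¹)) * (n * w * n⁻¹) := by rw [hcomm.eq]
          _ = (w * w)⁻¹ * (n * (w * w) * n⁻¹) := by group
          _ = 1 := by rw [hsq.eq, mul_inv_cancel_right, inv_mul_cancel]
      have hnd : Commute n d := hΩ d hdP hdd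
      have hiter : ∀ i : ℕ, n ^ i * w * (n ^ i)⁻¹ = w * d ^ i := by
        intro i
        induction i with
        | zero => simp
        | succ i ih' =>
          calc n ^ (i + 1) * w * (n ^ (i + 1))⁻¹ = n * (n ^ i * w * (n ^ i)⁻¹) * n⁻¹ := by
                rw [pow_succ']; group
            _ = n * w * n⁻¹ * (n * d ^ i * n⁻¹) := by rw [ih']; group
            _ = w * d * d ^ i := by
                rw [(hnd.pow_right i).eq, mul_inv_cancel_right, hd]; group
            _ = w * d ^ (i + 1) := by rw [mul_assoc, ← pow_succ']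
      have h1 := hiter (orderOf n)
      rw [pow_orderOf_eq_one] at h1
      simp only [one_mul, inv_one, mul_one, left_eq_mul] at h1
      have hd1 : d = 1 := by
        obtain ⟨l, hl⟩ := Nat.odd_iff.2 (Nat.two_dvd_ne_zero.1 hodd)
        rwa [hl, pow_succ, pow_mul, pow_two, hdd, one_pow, one_mul] at h1
      rw [hd, inv_mul_eq_one] at hd1
      exact mul_inv_eq_iff_eq_mul.1 hd1.symm
  exact Subgroup.mem_centralizer_iff.2 fun w hw => (key _ w hw rfl).eq.symm

theorem exists_involution_pow {P : Sylow 2 G} {y : G} (hy : y ∈ (P : Subgroup G)) (hy1 : y ≠ 1) :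
    ∃ i : ℕ, (y ^ i) * (y ^ i) = 1 ∧ y ^ i ≠ 1 := by
  haveI : Fact (Nat.Prime 2) := ⟨Nat.prime_two⟩
  obtain ⟨k, hk⟩ := pPow_of_mem P.isPGroup' hy
  rcases k with _ | k
  · rw [pow_zero, orderOf_eq_one_iff] at hk; exact absurd hk hy1
  refine ⟨2 ^ k, ?_, fun h => ?_⟩
  · rw [← pow_add, ← two_mul, ← pow_succ', ← hk, pow_orderOf_eq_one]
  · have h' := orderOf_dvd_of_pow_eq_one h
    rw [hk, pow_succ] at h'
    have := Nat.le_of_dvd (pow_pos two_pos k) h'
    have := pow_pos (show 0 < 2 from two_pos) k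
    omega

/-- The automizer acts freely. -/
theorem TwoRankTwo.free {P : Sylow 2 G} (h : TwoRankTwo P) [IsMulCommutative (P : Subgroup G)]
    {n : G} (hn : n ∈ Subgroup.normalizer ((P : Subgroup G) : Set G)) {y : G}
    (hy : y ∈ (P : Subgroup G)) (hy1 : y ≠ 1) (hny : Commute n y) :
    n ∈ Subgroup.centralizer ((P : Subgroup G) : Set G) := by
  haveI : Fact (Nat.Prime 2) := ⟨Nat.prime_two⟩
  obtain ⟨u, v, huv, -, ⟨k, hk⟩, hv, hu', hv'⟩ := exists_pPart_zpowers (p := 2) n
  have huP := pPart_mem_of_normalizer P hk (Subgroup.zpowers_le.2 hn hu')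
  obtain ⟨i, hi, hi'⟩ := exists_involution_pow hy hy1
  have hvy : Commute v (y ^ i) := by
    obtain ⟨j, rfl⟩ := Subgroup.mem_zpowers_iff.1 hv'
    exact (hny.zpow_left j).pow_right i
  have hvC := h.odd_fix (Subgroup.zpowers_le.2 hn hv') hv (pow_mem hy i) hi' hi hvy
  rw [← huv]
  refine mul_mem (Subgroup.mem_centralizer_iff.2 fun w hw => ?_) hvC
  exact congrArg Subtype.val (mul_comm (⟨w, hw⟩ : (P : Subgroup G)) ⟨u, huP⟩)

/-- The automizer is trivial or of order three, permuting the involutions transitively. -/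
theorem TwoRankTwo.automizer {P : Sylow 2 G} (h : TwoRankTwo P)
    [IsMulCommutative (P : Subgroup G)] :
    Subgroup.normalizer ((P : Subgroup G) : Set G) ≤ Subgroup.centralizer ((P : Subgroup G) : Set G) ∨
    ∃ g ∈ Subgroup.normalizer ((P : Subgroup G) : Set G),
      Subgroup.centralizer ((P : Subgroup G) : Set G) ⊔ Subgroup.zpowers g =
        Subgroup.normalizer ((P : Subgroup G) : Set G) ∧
      (Subgroup.centralizer ((P : Subgroup G) : Set G)).relIndex
        (Subgroup.normalizer ((P : Subgroup G) : Set G)) = 3 ∧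
      ∀ s ∈ (P : Subgroup G), ∀ t ∈ (P : Subgroup G), s ≠ 1 → t ≠ 1 → s * s = 1 → t * t = 1 →
        IsConj s t := by
  haveI : Fact (Nat.Prime 2) := ⟨Nat.prime_two⟩
  by_cases hNC : Subgroup.normalizer ((P : Subgroup G) : Set G) ≤
      Subgroup.centralizer ((P : Subgroup G) : Set G)
  · exact .inl hNC
  right
  set C := Subgroup.centralizer ((P : Subgroup G) : Set G) with hC
  set N := Subgroup.normalizer ((P : Subgroup G) : Set G) with hN
  obtain ⟨g, hgN, hgC⟩ := SetLike.not_le_iff_exists.1 hNC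
  obtain ⟨a, ha, -, -, ha1, -, -, ha2, -, -⟩ := id h
  have hmap : ∀ {x : G}, x ∈ (P : Subgroup G) → g * x * g⁻¹ ∈ (P : Subgroup G) := fun hx =>
    (Subgroup.mem_normalizer_iff.1 hgN _).1 hx
  have hmove : ∀ x ∈ (P : Subgroup G), x ≠ 1 → g * x * g⁻¹ ≠ x := fun x hx hx1 e =>
    hgC (h.free hgN hx hx1 (mul_inv_eq_iff_eq_mul.1 e))
  set b := g * a * g⁻¹ with hb
  set c := g * b * g⁻¹ with hc
  have hbP := hmap ha
  have hcP := hmap hbP
  have hb2 : b * b = 1 := by rw [hb, conj_mul, ha2, mul_one, mul_inv_cancel]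
  have hc2 : c * c = 1 := by rw [hc, conj_mul, hb2, mul_one, mul_inv_cancel]
  have hb1 : b ≠ 1 := fun e => ha1 (conj_eq_one_iff.1 e)
  have hc1 : c ≠ 1 := fun e => hb1 (conj_eq_one_iff.1 e)
  have hab : a ≠ b := (hmove a ha ha1).symm
  have hbc : b ≠ c := (hmove b hbP hb1).symm
  have hca : c ≠ a := by
    intro e
    have hgg : Commute (g * g) a := mul_inv_eq_iff_eq_mul.1 (by
      calc g * g * a * (g * g)⁻¹ = c := by rw [hc, hb]; group
        _ = a := e)
    have h2 : g * g ∈ C := h.free (mul_mem hgN hgN) ha ha1 hgg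
    -- the third involution is then fixed
    have hd := h.third hbP ha (show a * b ∈ (P : Subgroup G) from mul_mem ha hbP) hb2 ha2
      (by
        have hcm : b * a = a * b := congrArg Subtype.val (mul_comm (⟨b, hbP⟩ : (P : Subgroup G)) ⟨a, ha⟩)
        rw [mul_assoc, ← mul_assoc b, hcm, mul_assoc, hb2, mul_one, ha2])
      hb1 ha1 (fun e' => hab (by
        rw [eq_inv_of_mul_eq_one_left e']
        exact inv_eq_of_mul_eq_one_right hb2)) hab.symm
    refine hmove (a * b) (mul_mem ha hbP) (fun e' => hab (by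
        rw [eq_inv_of_mul_eq_one_left e']
        exact inv_eq_of_mul_eq_one_right hb2)) ?_
    have hcm : b * a = a * b := congrArg Subtype.val (mul_comm (⟨b, hbP⟩ : (P : Subgroup G)) ⟨a, ha⟩)
    calc g * (a * b) * g⁻¹ = b * c := by rw [hc, hb]; group
      _ = a * b := by rw [e, hcm]
  have hga : g * c * g⁻¹ = a := by
    set d := g * c * g⁻¹ with hd
    have hd2 : d * d = 1 := by rw [hd, conj_mul, hc2, mul_one, mul_inv_cancel]
    have hd1 : d ≠ 1 := fun e => hc1 (conj_eq_one_iff.1 e)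
    have hdb : d ≠ b := fun e => hca (mul_left_cancel (mul_right_cancel e))
    rcases h.third hbP ha (hmap hcP) hb2 ha2 hd2 hb1 ha1 hd1 hab.symm hdb.symm with e | e
    · exact e
    · exfalso
      rcases h.third hbP ha hcP hb2 ha2 hc2 hb1 ha1 hc1 hab.symm hbc with e' | e'
      · exact hca e'
      · exact hmove c hcP hc1 (e.trans e'.symm)
  have hperm : ∀ x ∈ (P : Subgroup G), x ≠ 1 → x * x = 1 → x = a ∨ x = b ∨ x = c := by
    intro x hx hx1 hxx
    by_cases hxb : b = x
    · exact .inr (.inl hxb.symm)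
    rcases h.third hbP ha hx hb2 ha2 hxx hb1 ha1 hx1 hab.symm hxb with e | e
    · exact .inl e
    · rcases h.third hbP ha hcP hb2 ha2 hc2 hb1 ha1 hc1 hab.symm hbc with e' | e'
      · exact absurd e' hca
      · exact .inr (.inr (e.trans e'.symm))
  have hg3 : g * g * g ∈ C := h.free (mul_mem (mul_mem hgN hgN) hgN) ha ha1
    (mul_inv_eq_iff_eq_mul.1 (by
      calc g * g * g * a * (g * g * g)⁻¹ = g * c * g⁻¹ := by rw [hc, hb]; group
        _ = a := hga))
  have hreps : ∀ n ∈ N, n ∈ C ∨ g⁻¹ * n ∈ C ∨ (g * g)⁻¹ * n ∈ C := by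
    intro n hn
    have hx := (Subgroup.mem_normalizer_iff.1 hn a).1 ha
    rcases hperm _ hx (fun e => ha1 (conj_eq_one_iff.1 e))
      (by rw [conj_mul, ha2, mul_one, mul_inv_cancel]) with e | e | e
    · exact .inl (h.free hn ha ha1 (mul_inv_eq_iff_eq_mul.1 e))
    · refine .inr (.inl (h.free (mul_mem (inv_mem hgN) hn) ha ha1 (mul_inv_eq_iff_eq_mul.1 ?_)))
      calc g⁻¹ * n * a * (g⁻¹ * n)⁻¹ = g⁻¹ * (n * a * n⁻¹) * g := by group
        _ = a := by rw [e, hb]; group
    · refine .inr (.inr (h.free (mul_mem (inv_mem (mul_mem hgN hgN)) hn) ha ha1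
        (mul_inv_eq_iff_eq_mul.1 ?_)))
      calc (g * g)⁻¹ * n * a * ((g * g)⁻¹ * n)⁻¹ = (g * g)⁻¹ * (n * a * n⁻¹) * (g * g) := by
            simp only [mul_inv_rev, inv_inv, mul_assoc]
        _ = a := by rw [e, hc, hb]; group
  have hCN : C ≤ N := Subgroup.centralizer_le_normalizer _
  refine ⟨g, hgN, ?_, ?_, fun s hs t ht hs1 ht1 hs2 ht2 => ?_⟩
  · refine le_antisymm (sup_le hCN (Subgroup.zpowers_le.2 hgN)) fun n hn => ?_
    rcases hreps n hn with e | e | e
    · exact Subgroup.mem_sup_left e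
    · rw [show n = g * (g⁻¹ * n) by group]
      exact mul_mem (Subgroup.mem_sup_right (Subgroup.mem_zpowers g)) (Subgroup.mem_sup_left e)
    · rw [show n = g * g * ((g * g)⁻¹ * n) by group]
      exact mul_mem (Subgroup.mem_sup_right (mul_mem (Subgroup.mem_zpowers g) (Subgroup.mem_zpowers g)))
        (Subgroup.mem_sup_left e)
  · haveI hCn : (C.subgroupOf N).Normal := ⟨fun x hx n => centralizer_conj_mem n.2 hx⟩
    let q := QuotientGroup.mk' (C.subgroupOf N)
    let r := q ⟨g, hgN⟩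
    have hr1 : r ≠ 1 := fun e => hgC ((QuotientGroup.eq_one_iff (N := C.subgroupOf N) _).1 e)
    haveI : Fact (Nat.Prime 3) := ⟨Nat.prime_three⟩
    have hr3 : r ^ 3 = 1 := by
      rw [← map_pow]
      refine (QuotientGroup.eq_one_iff (N := C.subgroupOf N) _).2 ?_
      show ((⟨g, hgN⟩ : N) ^ 3 : N).1 ∈ C
      rw [SubmonoidClass.coe_pow, pow_succ, pow_two]
      exact hg3
    have htop : Subgroup.zpowers r = ⊤ := by
      refine eq_top_iff.2 fun w _ => ?_
      obtain ⟨⟨n, hn⟩, rfl⟩ := QuotientGroup.mk'_surjective _ w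
      rcases hreps n hn with e | e | e
      · rw [show (QuotientGroup.mk' (C.subgroupOf N)) ⟨n, hn⟩ = 1 from (QuotientGroup.eq_one_iff (N := C.subgroupOf N) _).2 e]
        exact one_mem _
      · rw [← show r = (QuotientGroup.mk' (C.subgroupOf N)) ⟨n, hn⟩ from (QuotientGroup.eq (s := C.subgroupOf N)).2 e]
        exact Subgroup.mem_zpowers r
      · rw [← show r * r = (QuotientGroup.mk' (C.subgroupOf N)) ⟨n, hn⟩ from by
          rw [← map_mul]; exact (QuotientGroup.eq (s := C.subgroupOf N)).2 e]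
        exact mul_mem (Subgroup.mem_zpowers r) (Subgroup.mem_zpowers r)
    show (C.subgroupOf N).index = 3
    rw [Subgroup.index, ← Subgroup.card_top, ← htop, Nat.card_zpowers, orderOf_eq_prime hr3 hr1]
  · have hto : ∀ x ∈ (P : Subgroup G), x ≠ 1 → x * x = 1 → IsConj a x := by
      intro x hx hx1 hxx
      rcases hperm x hx hx1 hxx with rfl | rfl | rfl
      · exact IsConj.refl _
      · exact isConj_iff.2 ⟨g, rfl⟩
      · exact (isConj_iff.2 ⟨g, hb.symm⟩).trans (isConj_iff.2 ⟨g, hc.symm⟩)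
    exact (hto s hs hs1 hs2).symm.trans (hto t ht ht1 ht2)

/-- A Sylow subgroup centralized by its normalizer, with trivial odd core, is everything. -/
theorem sylow_top_of_central {P : Sylow 2 G}
    (hO : ∀ N : Subgroup G, N.Normal → Odd (Nat.card N) → N = ⊥)
    (hN : Subgroup.normalizer ((P : Subgroup G) : Set G) ≤ Subgroup.centralizer ((P : Subgroup G) : Set G)) :
    (P : Subgroup G) = ⊤ := by
  haveI : Fact (Nat.Prime 2) := ⟨Nat.prime_two⟩
  have hcomp := MonoidHom.ker_transferSylow_isComplement' P hN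
  have hbot := hO _ inferInstance (Nat.odd_iff.2 (Nat.two_dvd_ne_zero.1
    (MonoidHom.not_dvd_card_ker_transferSylow P hN)))
  rw [hbot] at hcomp
  exact Subgroup.isComplement'_bot_left.1 hcomp

set_option maxHeartbeats 1000000 in
/-- The principal block forces two nontrivial linear characters. -/
theorem TwoRankTwo.exists_linear {M : Ideal AlgInt} (hM : IsPModular 2 M) {P : Sylow 2 G}
    [IsMulCommutative (P : Subgroup G)] (h : TwoRankTwo P) (F : FreeThree P)
    (hbig : 16 ≤ Nat.card (P : Subgroup G)) :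
    ∃ χ : IrrCharacter G, χ ∈ principalBlock M G ∧ χ ≠ trivialIrr G ∧ (χ : G → ℂ) 1 = 1 ∧
      ∀ y ∈ (P : Subgroup G), y ≠ 1 → (χ : G → ℂ) y = 1 := by
  classical
  haveI : Fact (Nat.Prime 2) := ⟨Nat.prime_two⟩
  cases nonempty_fintype G
  cases nonempty_fintype (P : Subgroup G)
  haveI := lin_finite (H := (P : Subgroup G))
  cases nonempty_fintype ((P : Subgroup G) →* ℂˣ)
  obtain ⟨χa, χb, va, vb, δ, η, hva, hvb, hδ, haB, hbB, hao, hbo, -, -, -, -, hval, hdeg, hmom⟩ :=
    three_block hM F (by omega)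
  obtain ⟨a, haP, b, hbP, ha1, -, -, ha2, -, hΩ⟩ := h
  set t : (P : Subgroup G) := ⟨a, haP⟩ with ht
  have ht1 : t ≠ 1 := fun e => ha1 (congrArg Subtype.val e)
  have htt : t * t = 1 := Subtype.ext ha2
  -- an element of order at least four
  obtain ⟨y, hy⟩ : ∃ y : (P : Subgroup G), y * y ≠ 1 := by
    by_contra hall
    push Not at hall
    have hsub : (Finset.univ : Finset (P : Subgroup G)) ⊆
        {1, t, ⟨b, hbP⟩, t * ⟨b, hbP⟩} := by
      intro u _
      rcases hΩ u u.2 (congrArg Subtype.val (hall u)) with e | e | e | e <;>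
        simp [Finset.mem_insert, Subtype.ext_iff, e, ht]
    have := (Finset.card_le_card hsub).trans Finset.card_le_four
    rw [Finset.card_univ, ← Nat.card_eq_fintype_card] at this
    omega
  have hy1 : y ≠ 1 := fun e => hy (by rw [e, one_mul])
  have hσ2 : ∀ w : (P : Subgroup G), w * w = 1 → F.σ w * F.σ w = 1 := fun w hw => by
    rw [← map_mul, hw, map_one]
  have hyΩ : ∀ w : (P : Subgroup G), w * w = 1 → y * w ≠ 1 := fun w hw e => hy (by
    rw [eq_inv_of_mul_eq_one_left e, ← mul_inv_rev, hw, inv_one])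
  have hpair : ∑ᶠ χ ∈ principalBlock M G,
      (χ : G → ℂ) (t : G) ^ 2 / (χ : G → ℂ) 1 * (χ : G → ℂ) (y : G) = 0 := by
    refine block_involution_product' hM isPBlock_principalBlock (pPow_of_mem P.isPGroup' y.2) ?_
    intro g u z hu hyz hc
    obtain ⟨h', -, hz, -⟩ := pair_inverts ha2 hu hc
    refine hy (by
      rw [← pow_two]
      refine F.sq_eq_one_of_inverted ?_
      have hzz : IsConj z z⁻¹ := isConj_iff.2 ⟨h' * (t : G) * h'⁻¹, hz⟩
      refine hyz.trans (hzz.trans ?_)
      obtain ⟨c, hc'⟩ := isConj_iff.1 hyz.symm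
      exact isConj_iff.2 ⟨c, by rw [← hc']; group⟩)
  -- a linear character of the Sylow subgroup
  obtain ⟨ψ₀, hψ₀⟩ : ∃ ψ : (P : Subgroup G) →* ℂˣ, ψ ≠ 1 := by
    obtain ⟨φ, hφ⟩ := CommGroup.exists_apply_ne_one_of_hasEnoughRootsOfUnity
      (P : Subgroup G) ℂ (a := t) ht1
    exact ⟨φ, fun e => hφ (by rw [e]; rfl)⟩
  set d := charDegree (η ψ₀ : G → ℂ) with hd
  set da := charDegree (χa : G → ℂ) with hda
  set db := charDegree (χb : G → ℂ) with hdb
  set ev : (↥(P : Subgroup G) →* ℂˣ) → ↥(P : Subgroup G) → ℂ := fun ψ w => ((ψ w : ℂˣ) : ℂ) with hev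
  have hone : ∀ g, ((trivialIrr G : IrrCharacter G) : G → ℂ) g = 1 := fun _ => rfl
  -- expansion of a block sum at `y`
  have hblock : ∀ f : IrrCharacter G → ℂ, ∑ᶠ χ ∈ principalBlock M G, f χ * (χ : G → ℂ) (y : G) =
      f (trivialIrr G) + (va : ℂ) * f χa + (vb : ℂ) * f χb +
        (δ : ℂ) * ∑ ψ ∈ Finset.univ.erase (1 : (P : Subgroup G) →* ℂˣ), ev ψ y * f (η ψ) := by
    intro f
    have h1 : ∑ ψ ∈ Finset.univ.erase (1 : (P : Subgroup G) →* ℂˣ), ev ψ y = -1 := by
      have h := lin_sum_hom (H := (P : Subgroup G)) y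
      rw [if_neg hy1, ← Finset.add_sum_erase _ _ (Finset.mem_univ (1 : (P : Subgroup G) →* ℂˣ))] at h
      simp only [MonoidHom.one_apply, Units.val_one] at h
      simp only [hev]
      linear_combination h
    calc ∑ᶠ χ ∈ principalBlock M G, f χ * (χ : G → ℂ) (y : G)
        = ∑ ψ ∈ Finset.univ.erase (1 : (P : Subgroup G) →* ℂˣ), ev ψ y *
            ∑ᶠ χ ∈ principalBlock M G, linCoef P χ ψ * f χ := by
          simp only [finsum_mem_block, Finset.mul_sum]
          rw [Finset.sum_comm]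
          refine Finset.sum_congr rfl fun χ _ => ?_
          rw [value_eq_linCoef χ hy1,
            ← Finset.add_sum_erase _ _ (Finset.mem_univ (1 : (P : Subgroup G) →* ℂˣ)), linCoef_one,
            zero_mul, zero_add, Finset.mul_sum]
          exact Finset.sum_congr rfl fun ψ _ => by simp only [hev]; ring
      _ = ∑ ψ ∈ Finset.univ.erase (1 : (P : Subgroup G) →* ℂˣ),
            (ev ψ y * (-f (trivialIrr G) - (va : ℂ) * f χa - (vb : ℂ) * f χb) +
              (δ : ℂ) * (ev ψ y * f (η ψ))) := by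
          refine Finset.sum_congr rfl fun ψ hψ => ?_
          rw [hmom ψ (Finset.ne_of_mem_erase hψ) f]
          ring
      _ = _ := by
          rw [Finset.sum_add_distrib, ← Finset.sum_mul, h1, ← Finset.mul_sum]
          ring
  -- the equation at `y`
  have hE : 1 + (va : ℂ) / (da : ℂ) + (vb : ℂ) / (db : ℂ) - 9 * (δ : ℂ) / (d : ℂ) = 0 := by
    rw [hblock, hone, hone] at hpair
    have hsqv : ∀ {v : ℤ}, v = 1 ∨ v = -1 → (v : ℂ) ^ 2 = 1 := fun hv => by
      rcases hv with rfl | rfl <;> norm_num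
    rw [(hval t ht1).1, (hval t ht1).2.1, hsqv hva, hsqv hvb, charDeg_spec' χa,
      charDeg_spec' χb] at hpair
    have hcalc : ∑ ψ ∈ Finset.univ.erase (1 : (P : Subgroup G) →* ℂˣ),
        ev ψ y * ((η ψ : G → ℂ) (t : G) ^ 2 / (η ψ : G → ℂ) 1) = -9 / (d : ℂ) := by
      have hterm : ∀ ψ ∈ Finset.univ.erase (1 : (P : Subgroup G) →* ℂˣ),
          ev ψ y * ((η ψ : G → ℂ) (t : G) ^ 2 / (η ψ : G → ℂ) 1) =
            (3 * ev ψ y + 2 * ev ψ (y * t) + 2 * ev ψ (y * F.σ t) + 2 * ev ψ (y * F.σ (F.σ t))) /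
              (d : ℂ) := by
        intro ψ hψ
        have hψ1 := Finset.ne_of_mem_erase hψ
        rw [(hval t ht1).2.2 ψ hψ1, charDeg_spec' (η ψ), hdeg ψ ψ₀ hψ1 hψ₀, ← hd, mul_pow,
          hsqv hδ, one_mul, mul_div_assoc']
        congr 1
        have hm : ∀ u w : (P : Subgroup G), ev ψ (u * w) = ev ψ u * ev ψ w := fun u w => by
          simp [hev]
        have hq : ∀ w : (P : Subgroup G), w * w = 1 → ev ψ w * ev ψ w = 1 := fun w hw => by
          rw [← hm, hw]; simp [hev]
        have h3 : ev ψ t * ev ψ (F.σ t) * ev ψ (F.σ (F.σ t)) = 1 := by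
          rw [← hm, ← hm, F.orbit_prod t]; simp [hev]
        show ev ψ y * (ev ψ t + ev ψ (F.σ t) + ev ψ (F.σ (F.σ t))) ^ 2 = _
        have q1 := hq t htt
        have q2 := hq _ (hσ2 t htt)
        have q3 := hq _ (hσ2 _ (hσ2 t htt))
        rw [hm, hm, hm]
        linear_combination (ev ψ y) * q1 + (ev ψ y) * q2 + (ev ψ y) * q3 +
          (2 * ev ψ y * ev ψ (F.σ (F.σ t))) * h3 -
          (2 * ev ψ y * ev ψ t * ev ψ (F.σ t)) * q3 +
          (2 * ev ψ y * ev ψ t) * h3 - (2 * ev ψ y * ev ψ (F.σ t) * ev ψ (F.σ (F.σ t))) * q1 +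
          (2 * ev ψ y * ev ψ (F.σ t)) * h3 - (2 * ev ψ y * ev ψ t * ev ψ (F.σ (F.σ t))) * q2
      rw [Finset.sum_congr rfl hterm, ← Finset.sum_div, Finset.sum_add_distrib,
        Finset.sum_add_distrib, Finset.sum_add_distrib, ← Finset.mul_sum, ← Finset.mul_sum,
        ← Finset.mul_sum, ← Finset.mul_sum]
      have h1 : ∀ w : (P : Subgroup G), w ≠ 1 →
          ∑ ψ ∈ Finset.univ.erase (1 : (P : Subgroup G) →* ℂˣ), ev ψ w = -1 := by
        intro w hw
        have h := lin_sum_hom (H := (P : Subgroup G)) w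
        rw [if_neg hw, ← Finset.add_sum_erase _ _ (Finset.mem_univ (1 : (P : Subgroup G) →* ℂˣ))] at h
        simp only [MonoidHom.one_apply, Units.val_one] at h
        simp only [hev]
        linear_combination h
      rw [h1 y hy1, h1 _ (hyΩ t htt), h1 _ (hyΩ _ (hσ2 t htt)), h1 _ (hyΩ _ (hσ2 _ (hσ2 t htt)))]
      norm_num
    rw [hcalc] at hpair
    linear_combination hpair
  -- the degree relation
  have hD : (δ : ℤ) * d = 1 + va * da + vb * db := by
    have h := linCoef_deg (P := P) hM ψ₀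
    rw [hmom ψ₀ hψ₀, hone, charDeg_spec' χa, charDeg_spec' χb, charDeg_spec' (η ψ₀)] at h
    have : ((δ * (d : ℤ) : ℤ) : ℂ) = ((1 + va * (da : ℤ) + vb * (db : ℤ) : ℤ) : ℂ) := by
      push_cast
      simp only [← hd, ← hda, ← hdb] at h
      linear_combination h
    exact_mod_cast this
  -- congruences modulo the order of the Sylow subgroup
  have hcong : ∀ (χ : IrrCharacter G) (c : ℤ),
      (∑ w ∈ (Finset.univ : Finset (P : Subgroup G)).erase 1, (χ : G → ℂ) (w : G) = (c : ℂ)) →
      (Nat.card (P : Subgroup G) : ℤ) ∣ (charDegree (χ : G → ℂ) : ℤ) + c := by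
    intro χ c hc
    obtain ⟨n, hn⟩ := Cfsg.Agent.Char.IsChar.classInner_nat
      (Cfsg.Agent.Char.IsChar.res (irr_isChar χ) (P : Subgroup G))
      (Cfsg.Agent.Char.IsChar.one (G := (P : Subgroup G)))
    refine ⟨n, ?_⟩
    rw [classInner, ← Finset.add_sum_erase _ _ (Finset.mem_univ (1 : (P : Subgroup G))),
      inv_mul_eq_iff_eq_mul₀ (Nat.cast_ne_zero.2 Nat.card_pos.ne')] at hn
    simp only [map_one, mul_one, OneMemClass.coe_one] at hn
    rw [hc, charDeg_spec' χ] at hn
    exact_mod_cast hn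
  have hne1 : ∀ w ∈ (Finset.univ : Finset (P : Subgroup G)).erase 1, w ≠ 1 := fun w hw =>
    Finset.ne_of_mem_erase hw
  have hk1 : ((Finset.univ : Finset (P : Subgroup G)).erase 1).card = Nat.card (P : Subgroup G) - 1 := by
    rw [Finset.card_erase_of_mem (Finset.mem_univ _), Finset.card_univ, Nat.card_eq_fintype_card]
  have hca : (Nat.card (P : Subgroup G) : ℤ) ∣ (da : ℤ) - va := by
    have h := hcong χa ((Nat.card (P : Subgroup G) - 1 : ℕ) * va) (by
      rw [Finset.sum_congr rfl fun w hw => (hval w (hne1 w hw)).1, Finset.sum_const, hk1, nsmul_eq_mul]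
      push_cast; ring)
    rw [Nat.cast_sub Nat.card_pos] at h
    have := dvd_sub h (dvd_mul_right (Nat.card (P : Subgroup G) : ℤ) va)
    rw [show (da : ℤ) - va = (charDegree (χa : G → ℂ) : ℤ) +
      ((Nat.card (P : Subgroup G) : ℤ) - ((1 : ℕ) : ℤ)) * va - (Nat.card (P : Subgroup G) : ℤ) * va by
        simp only [← hda]; push_cast; ring]
    exact this
  have hcb : (Nat.card (P : Subgroup G) : ℤ) ∣ (db : ℤ) - vb := by
    have h := hcong χb ((Nat.card (P : Subgroup G) - 1 : ℕ) * vb) (by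
      rw [Finset.sum_congr rfl fun w hw => (hval w (hne1 w hw)).2.1, Finset.sum_const, hk1, nsmul_eq_mul]
      push_cast; ring)
    rw [Nat.cast_sub Nat.card_pos] at h
    have := dvd_sub h (dvd_mul_right (Nat.card (P : Subgroup G) : ℤ) vb)
    rw [show (db : ℤ) - vb = (charDegree (χb : G → ℂ) : ℤ) +
      ((Nat.card (P : Subgroup G) : ℤ) - ((1 : ℕ) : ℤ)) * vb - (Nat.card (P : Subgroup G) : ℤ) * vb by
        simp only [← hdb]; push_cast; ring]
    exact this
  have hcd : (Nat.card (P : Subgroup G) : ℤ) ∣ (d : ℤ) + (-3 * δ) := by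
    refine hcong (η ψ₀) (-3 * δ) ?_
    have h1 : ∀ φ : (P : Subgroup G) →* ℂˣ, φ ≠ 1 →
        ∑ w ∈ (Finset.univ : Finset (P : Subgroup G)).erase 1, ev φ w = -1 := by
      intro φ hφ
      have h := lin_sum_elements φ
      rw [if_neg hφ, ← Finset.add_sum_erase _ _ (Finset.mem_univ (1 : (P : Subgroup G))), map_one,
        Units.val_one] at h
      simp only [hev]
      linear_combination h
    rw [Finset.sum_congr rfl fun w hw => (hval w (hne1 w hw)).2.2 ψ₀ hψ₀, ← Finset.mul_sum,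
      Finset.sum_add_distrib, Finset.sum_add_distrib]
    have e1 := h1 ψ₀ hψ₀
    have e2 := h1 _ (F.τ_ne_one hψ₀)
    have e3 := h1 _ (F.τ_ne_one (F.τ_ne_one hψ₀))
    simp only [hev] at e1 e2 e3
    rw [e1, e2, e3]
    push_cast
    ring
  have hN : (va : ℚ) * db * d + vb * da * d + (da : ℚ) * db * d - 9 * δ * (da * db) = 0 := by
    have hz : va * (db : ℤ) * d + vb * da * d + (da : ℤ) * db * d - 9 * δ * (da * db) = 0 := by
      have : ((va * (db : ℤ) * d + vb * da * d + (da : ℤ) * db * d - 9 * δ * (da * db) : ℤ) : ℂ) = 0 := by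
        have h1 : (da : ℂ) ≠ 0 := Nat.cast_ne_zero.2 (charDeg_pos χa).ne'
        have h2 : (db : ℂ) ≠ 0 := Nat.cast_ne_zero.2 (charDeg_pos χb).ne'
        have h3 : (d : ℂ) ≠ 0 := Nat.cast_ne_zero.2 (charDeg_pos (η ψ₀)).ne'
        push_cast
        field_simp at hE
        linear_combination hE
      exact_mod_cast this
    exact_mod_cast hz
  have key : ∀ (v : ℤ) (e : ℕ), (v = 1 ∨ v = -1) → 0 < e →
      (Nat.card (P : Subgroup G) : ℤ) ∣ (e : ℤ) - v → (v = 1 ∨ 15 ≤ e) := by
    rintro v e (rfl | rfl) he hdiv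
    · exact .inl rfl
    · right
      have := Int.le_of_dvd (by omega) hdiv
      omega
  have kd : (δ = 1 ∧ d = 3) ∨ (δ = -1 ∧ 13 ≤ d) ∨ (δ = 1 ∧ 19 ≤ d) := by
    have hdpos := charDeg_pos (η ψ₀)
    obtain ⟨k, hk⟩ := hcd
    rcases hδ with rfl | rfl
    · rcases lt_trichotomy k 0 with hk0 | hk0 | hk0
      · exfalso; nlinarith
      · left; subst hk0; exact ⟨rfl, by omega⟩
      · right; right; refine ⟨rfl, ?_⟩; nlinarith
    · right; left; refine ⟨rfl, ?_⟩
      have : 1 ≤ k := by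
        by_contra hlt
        push Not at hlt
        have : (Nat.card (P : Subgroup G) : ℤ) * k ≤ 0 :=
          mul_nonpos_of_nonneg_of_nonpos (by omega) (by omega)
        omega
      nlinarith
  have hdaQ : (1 : ℚ) ≤ da := by exact_mod_cast charDeg_pos χa
  have hdbQ : (1 : ℚ) ≤ db := by exact_mod_cast charDeg_pos χb
  have ka : (va : ℚ) = 1 ∨ ((va : ℚ) = -1 ∧ (15 : ℚ) ≤ da) := by
    rcases key va da hva (charDeg_pos χa) hca with e | e
    · left; exact_mod_cast e
    · rcases hva with f | f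
      · left; exact_mod_cast f
      · right; exact ⟨by exact_mod_cast f, by exact_mod_cast e⟩
  have kb : (vb : ℚ) = 1 ∨ ((vb : ℚ) = -1 ∧ (15 : ℚ) ≤ db) := by
    rcases key vb db hvb (charDeg_pos χb) hcb with e | e
    · left; exact_mod_cast e
    · rcases hvb with f | f
      · left; exact_mod_cast f
      · right; exact ⟨by exact_mod_cast f, by exact_mod_cast e⟩
  have hlow : (13 / 15 : ℚ) * (da * db) ≤ va * db + vb * da + da * db := by
    rcases ka with ea | ⟨ea, la⟩ <;> rcases kb with eb | ⟨eb, lb⟩ <;> rw [ea, eb] <;> nlinarith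
  have hpos : (0 : ℚ) < da * db := by positivity
  rcases kd with ⟨hδ1, hd3⟩ | ⟨hδ1, hd13⟩ | ⟨hδ1, hd19⟩
  · have hδq : (δ : ℚ) = 1 := by exact_mod_cast hδ1
    have hdq : (d : ℚ) = 3 := by exact_mod_cast hd3
    rw [hδq, hdq] at hN
    have hone' : (va : ℚ) = 1 ∧ da = 1 := by
      rcases ka with ea | ⟨ea, la⟩ <;> rcases kb with eb | ⟨eb, lb⟩ <;> rw [ea, eb] at hN
      · refine ⟨ea, ?_⟩
        by_contra hne
        have h2 : (2 : ℚ) ≤ da := by
          have : 2 ≤ da := by have := charDeg_pos χa; omega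
          exact_mod_cast this
        nlinarith
      · exfalso; nlinarith
      · exfalso; nlinarith
      · exfalso; nlinarith
    refine ⟨χa, haB, hao, by rw [charDeg_spec' χa, ← hda, hone'.2, Nat.cast_one], fun w hw hw1 => ?_⟩
    rw [(hval ⟨w, hw⟩ fun e => hw1 (congrArg Subtype.val e)).1,
      show va = 1 by exact_mod_cast hone'.1, Int.cast_one]
  · exfalso
    have hδq : (δ : ℚ) = -1 := by exact_mod_cast hδ1
    rw [hδq] at hN
    have hdq : (13 : ℚ) ≤ d := by exact_mod_cast hd13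
    nlinarith
  · exfalso
    have hδq : (δ : ℚ) = 1 := by exact_mod_cast hδ1
    rw [hδq] at hN
    have hdq : (19 : ℚ) ≤ d := by exact_mod_cast hd19
    nlinarith

/-- Brauer: a homocyclic Sylow 2-subgroup of rank two and exponent at least four is normal when
the odd core is trivial. -/
theorem homocyclic_normal (P : Sylow 2 G) {m : ℕ} (hm : 2 ≤ m)
    (e : (P : Subgroup G) ≃* Multiplicative (ZMod (2 ^ m) × ZMod (2 ^ m)))
    (hO : ∀ N : Subgroup G, N.Normal → Odd (Nat.card N) → N = ⊥) :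
    (P : Subgroup G).Normal ∧ Subgroup.centralizer (P : Set G) = (P : Subgroup G) ∧
      ((P : Subgroup G).index = 1 ∨ (P : Subgroup G).index = 3) := by
  classical
  haveI : Fact (Nat.Prime 2) := ⟨Nat.prime_two⟩
  haveI hab := isMulCommutative_of_homocyclic P e
  have h := twoRankTwo_of_homocyclic P (by omega) e
  have hPC : (P : Subgroup G) ≤ Subgroup.centralizer (P : Set G) := fun x hx =>
    Subgroup.mem_centralizer_iff.2 fun w hw =>
      congrArg Subtype.val (mul_comm (⟨w, hw⟩ : (P : Subgroup G)) ⟨x, hx⟩)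
  rcases h.automizer with hNC | ⟨g, hgN, hgen, hrel, -⟩
  · have htop := sylow_top_of_central hO hNC
    refine ⟨by rw [htop]; infer_instance, le_antisymm (fun x _ => by rw [htop]; trivial) hPC, .inl ?_⟩
    rw [htop, Subgroup.index_top]
  obtain ⟨M, hM⟩ := Cfsg.Agent.Char.exists_isPModular 2 Nat.prime_two
  have hfrob : ∀ y : G, y ∈ (P : Subgroup G) → y ≠ 1 → Subgroup.centralizer ({y} : Set G) ⊓
      Subgroup.normalizer ((P : Subgroup G) : Set G) =
      Subgroup.centralizer ((P : Subgroup G) : Set G) := fun y hy hy1 =>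
    le_antisymm (fun n hn => h.free hn.2 hy hy1 (Subgroup.mem_centralizer_singleton_iff.1 hn.1))
      (le_inf (Subgroup.centralizer_le (Set.singleton_subset_iff.2 hy))
        (Subgroup.centralizer_le_normalizer _))
  obtain ⟨F⟩ := exists_freeThree P hrel ⟨g, hgN, hgen⟩ hfrob
  have hbig : 16 ≤ Nat.card (P : Subgroup G) := by
    rw [card_homocyclic P e]
    have : 2 ^ 2 ≤ 2 ^ m := Nat.pow_le_pow_right two_pos hm
    nlinarith
  obtain ⟨χ, hχB, hχ1, hdeg, hχP⟩ := h.exists_linear hM F hbig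
  obtain ⟨l, hl⟩ := Cfsg.Agent.Char.linearHom_of_isCharacter (irr_isChar χ) hdeg
  set K := l.ker with hK
  have hmemK : ∀ g, g ∈ K ↔ (χ : G → ℂ) g = 1 := fun g => by
    rw [hK, MonoidHom.mem_ker, congrFun hl g]
    exact ⟨fun e => by rw [e]; rfl, fun e => Units.ext (by simpa using e)⟩
  have hPK : (P : Subgroup G) ≤ K := fun y hy => (hmemK y).2 (by
    by_cases hy1 : y = 1
    · rw [hy1, hdeg]
    · exact hχP y hy hy1)
  obtain ⟨y, hy, hy1⟩ : ∃ y ∈ (P : Subgroup G), y ≠ 1 := by
    obtain ⟨a, ha, -, -, ha1, -⟩ := id h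
    exact ⟨a, ha, ha1⟩
  obtain ⟨Kc, kc, hKn, hKc, hidx, -, -⟩ := abelian_centralizer_complement P hy
    (by rw [inf_comm]; exact (hfrob y hy hy1).le)
  haveI := hKn
  -- odd elements centralizing `P` lie in the kernel
  have hCK : Subgroup.centralizer (P : Set G) ≤ K := by
    intro c hc
    obtain ⟨u, v, huv, -, ⟨k, hk⟩, hv, hu', hv'⟩ := exists_pPart_zpowers (p := 2) c
    have hcN : c ∈ Subgroup.normalizer ((P : Subgroup G) : Set G) :=
      Subgroup.centralizer_le_normalizer _ hc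
    have huK := hPK (pPart_mem_of_normalizer P hk (Subgroup.zpowers_le.2 hcN hu'))
    have hvC : v ∈ Subgroup.centralizer ({y} : Set G) := Subgroup.mem_centralizer_singleton_iff.2
      (Subgroup.mem_centralizer_iff.1 (Subgroup.zpowers_le.2 hc hv') y hy).symm
    have hv2 : ¬ 2 ∣ orderOf (⟨v, hvC⟩ : Subgroup.centralizer ({y} : Set G)) := by
      rwa [← Subgroup.orderOf_coe]
    have hs := principal_section_const hM (pPow_of_mem P.isPGroup' hy) hKc hv2
      (regular_mem_of_index_pPow hidx hv2) hχB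
    have hyv : y * v ∈ K := (hmemK _).2 (by rw [hs]; exact hχP y hy hy1)
    have hvK : v ∈ K := by
      simpa using mul_mem (inv_mem (hPK hy)) hyv
    rw [← huv]
    exact mul_mem huK hvK
  have hgK : g ∉ K := by
    intro hgK
    have hNK : Subgroup.normalizer ((P : Subgroup G) : Set G) ≤ K := by
      rw [← hgen]; exact sup_le hCK (Subgroup.zpowers_le.2 hgK)
    have hKtop : K = ⊤ := by
      haveI : K.Normal := MonoidHom.normal_ker l
      have hF := Sylow.normalizer_sup_eq_top (P.subtype hPK)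
      rw [Sylow.coe_subtype, Subgroup.subgroupOf_map_subtype, inf_eq_left.2 hPK] at hF
      exact eq_top_iff.2 (hF ▸ sup_le hNK le_rfl)
    exact hχ1 (Subtype.ext (funext fun x => (hmemK x).1 (hKtop ▸ Subgroup.mem_top x)))
  haveI hKnorm : K.Normal := MonoidHom.normal_ker l
  have hKN : K ⊓ Subgroup.normalizer ((P : Subgroup G) : Set G) ≤
      Subgroup.centralizer ((P : Subgroup G) : Set G) := by
    have hC1 : Subgroup.centralizer ((P : Subgroup G) : Set G) ≤
        K ⊓ Subgroup.normalizer ((P : Subgroup G) : Set G) :=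
      le_inf hCK (Subgroup.centralizer_le_normalizer _)
    have hmul := Subgroup.relIndex_mul_relIndex _ _ _ hC1 inf_le_right
    rw [hrel] at hmul
    rcases (Nat.dvd_prime Nat.prime_three).1 ⟨_, hmul.symm⟩ with h1 | h1
    · exact Subgroup.relIndex_eq_one.1 h1
    · rw [h1] at hmul
      exact absurd (Subgroup.relIndex_eq_one.1
        (Nat.eq_of_mul_eq_mul_left (by norm_num) (hmul.trans (mul_one 3).symm)) hgN).1 hgK
  set PK : Sylow 2 K := P.subtype hPK with hPKdef
  have hNKC : Subgroup.normalizer ((PK : Subgroup K) : Set K) ≤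
      Subgroup.centralizer ((PK : Subgroup K) : Set K) := by
    intro n hn
    have hnN : (n : G) ∈ Subgroup.normalizer ((P : Subgroup G) : Set G) := by
      refine Subgroup.mem_normalizer_iff.2 fun w => ⟨fun hw => ?_, fun hw => ?_⟩
      · exact (Subgroup.mem_normalizer_iff.1 hn ⟨w, hPK hw⟩).1 hw
      · have hwK : w ∈ K := by
          have := mul_mem (mul_mem (inv_mem n.2) (hPK hw)) n.2
          simpa [mul_assoc] using this
        exact (Subgroup.mem_normalizer_iff.1 hn ⟨w, hwK⟩).2 hw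
    have hnC : (n : G) ∈ Subgroup.centralizer ((P : Subgroup G) : Set G) :=
      hKN ⟨n.2, hnN⟩
    exact Subgroup.mem_centralizer_iff.2 fun w hw => Subtype.ext
      (Subgroup.mem_centralizer_iff.1 hnC (w : G) hw)
  have hcomp := MonoidHom.ker_transferSylow_isComplement' PK hNKC
  set O := (MonoidHom.transferSylow PK hNKC).ker
  have hOodd : ¬ 2 ∣ Nat.card O := MonoidHom.not_dvd_card_ker_transferSylow PK hNKC
  have hObot : O.map K.subtype = ⊥ := by
    refine hO _ ⟨?_⟩ ?_
    · rintro _ ⟨⟨n, hnK⟩, hnO, rfl⟩ x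
      refine ⟨⟨x * n * x⁻¹, hKnorm.conj_mem n hnK x⟩, ?_, rfl⟩
      obtain ⟨j, hj⟩ := IsPGroup.iff_card.1 PK.isPGroup'
      refine regular_mem_of_index_pPow (p := 2) (k := j)
        (by rw [hcomp.symm.index_eq_card, hj]) ?_
      rw [← Subgroup.orderOf_coe]
      show ¬ 2 ∣ orderOf (x * n * x⁻¹)
      rw [← MulAut.conj_apply, MulEquiv.orderOf_eq]
      intro hd
      have h1 := Subgroup.orderOf_dvd_natCard O hnO
      rw [← Subgroup.orderOf_coe] at h1
      exact hOodd (hd.trans h1)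
    · rw [Subgroup.card_map_of_injective (Subgroup.subtype_injective K)]
      exact Nat.odd_iff.2 (Nat.two_dvd_ne_zero.1 hOodd)
  have hKP : K = (P : Subgroup G) := by
    refine le_antisymm (fun x hx => ?_) hPK
    rw [Subgroup.map_eq_bot_iff_of_injective _ (Subgroup.subtype_injective K)] at hObot
    rw [hObot] at hcomp
    exact (show (⟨x, hx⟩ : K) ∈ (PK : Subgroup K) from
      (Subgroup.isComplement'_bot_left.1 hcomp).symm ▸ Subgroup.mem_top _)
  refine ⟨hKP ▸ hKnorm, le_antisymm (hCK.trans hKP.le) hPC, .inr ?_⟩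
  have hC : Subgroup.centralizer ((P : Subgroup G) : Set G) = (P : Subgroup G) :=
    le_antisymm (hCK.trans hKP.le) hPC
  have hN : Subgroup.normalizer ((P : Subgroup G) : Set G) = ⊤ :=
    Subgroup.normalizer_eq_top_iff.2 (hKP ▸ hKnorm)
  rw [hC, hN, Subgroup.relIndex_top_right] at hrel
  exact hrel

end Cfsg.Agent.Block
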