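import Mathlib

/-!
# Groups induced on subsets, homogeneity and multiple transitivity
-/

set_option autoImplicit false

namespace Cfsg.Agent.Block.Homog

open Equiv Equiv.Perm

variable {α : Type*} [Fintype α] [DecidableEq α]

/-- The setwise stabiliser in `G` of a finset. -/
def setStab (G : Subgroup (Perm α)) (S : Finset α) : Subgroup (Perm α) where
  carrier := {g | g ∈ G ∧ ∀ x, g x ∈ S ↔ x ∈ S}
  one_mem' := ⟨G.one_mem, fun _ => Iff.rfl⟩
  mul_mem' {a b} ha hb := ⟨G.mul_mem ha.1 hb.1, fun x => (ha.2 (b x)).trans (hb.2 x)⟩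
  inv_mem' {a} ha := ⟨G.inv_mem ha.1, fun x => by
    have h := ha.2 (a⁻¹ x)
    rw [show a (a⁻¹ x) = x from a.apply_symm_apply x] at h
    exact h.symm⟩

theorem mem_setStab {G : Subgroup (Perm α)} {S : Finset α} {g : Perm α} :
    g ∈ setStab G S ↔ g ∈ G ∧ ∀ x, g x ∈ S ↔ x ∈ S := Iff.rfl

theorem mem_setStab_of_maps {G : Subgroup (Perm α)} {S : Finset α} {g : Perm α} (hg : g ∈ G)
    (h : ∀ x ∈ S, g x ∈ S) : g ∈ setStab G S := by
  have he : S.map g.toEmbedding = S := Finset.eq_of_subset_of_card_le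
    (fun y hy => by obtain ⟨x, hx, rfl⟩ := Finset.mem_map.1 hy; exact h x hx) (by rw [Finset.card_map])
  refine ⟨hg, fun x => ⟨fun hx => ?_, h x⟩⟩
  rw [← he, Finset.mem_map] at hx
  obtain ⟨y, hy, hyx⟩ := hx
  exact g.injective hyx ▸ hy

/-- Restriction to an invariant subset. -/
def restrict (G : Subgroup (Perm α)) (S : Finset α) : setStab G S →* Perm S where
  toFun g := (g : Perm α).subtypePerm g.2.2
  map_one' := rfl
  map_mul' _ _ := rfl

theorem restrict_apply (G : Subgroup (Perm α)) (S : Finset α) (g : setStab G S) (x : S) :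
    ((restrict G S g x : S) : α) = (g : Perm α) x := rfl

/-- The group induced on a subset by its setwise stabiliser. -/
def induced (G : Subgroup (Perm α)) (S : Finset α) : Subgroup (Perm S) := (restrict G S).range

theorem mem_induced {G : Subgroup (Perm α)} {S : Finset α} {σ : Perm S} :
    σ ∈ induced G S ↔ ∃ g ∈ G, ∀ x : S, g x = σ x := by
  constructor
  · rintro ⟨g, rfl⟩
    exact ⟨g, g.2.1, fun _ => rfl⟩
  · rintro ⟨g, hg, h⟩
    have hmaps : ∀ x ∈ S, g x ∈ S := fun x hx => by rw [h ⟨x, hx⟩]; exact (σ ⟨x, hx⟩).2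
    exact ⟨⟨g, mem_setStab_of_maps hg hmaps⟩, Equiv.ext fun x => Subtype.ext (h x)⟩

theorem swap_mem_induced {G : Subgroup (Perm α)} {S : Finset α} {g : Perm α} (hg : g ∈ G) (a b : S)
    (hab : g a = b) (hba : g b = a) (hrest : ∀ x ∈ S, x ≠ (a : α) → x ≠ (b : α) → g x = x) :
    Equiv.swap a b ∈ induced G S := by
  refine mem_induced.2 ⟨g, hg, fun x => ?_⟩
  by_cases h1 : x = a
  · subst h1; rw [Equiv.swap_apply_left, hab]
  by_cases h2 : x = b
  · subst h2; rw [Equiv.swap_apply_right, hba]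
  rw [Equiv.swap_apply_of_ne_of_ne h1 h2]
  exact hrest x x.2 (fun e => h1 (Subtype.ext e)) (fun e => h2 (Subtype.ext e))

theorem eq_top_of_swaps {β : Type*} [Fintype β] [DecidableEq β] (H : Subgroup (Perm β))
    (h : ∀ a b : β, a ≠ b → Equiv.swap a b ∈ H) : H = ⊤ := by
  rw [eq_top_iff]
  rintro σ -
  induction σ using Equiv.Perm.swap_induction_on with
  | one => exact H.one_mem
  | swap_mul f x y hxy hf => exact H.mul_mem (h x y hxy) hf

theorem eq_top_of_alternating_of_odd {β : Type*} [Fintype β] [DecidableEq β] (H : Subgroup (Perm β))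
    (hA : alternatingGroup β ≤ H) {σ : Perm β} (hσ : σ ∈ H) (hs : sign σ = -1) : H = ⊤ := by
  rw [eq_top_iff]
  intro τ _
  rcases Int.units_eq_one_or (sign τ) with e | e
  · exact hA (mem_alternatingGroup.2 e)
  · have : τ * σ ∈ H := hA (mem_alternatingGroup.2 (by rw [map_mul, e, hs]; rfl))
    have := H.mul_mem this (H.inv_mem hσ)
    rwa [mul_inv_cancel_right] at this

theorem alternating_le_of_double {β : Type*} [Fintype β] [DecidableEq β] (H : Subgroup (Perm β))
    (h5 : 5 ≤ Fintype.card β)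
    (h : ∀ a b d e : β, a ≠ b → d ≠ e → a ≠ d → a ≠ e → b ≠ d → b ≠ e →
      Equiv.swap a b * Equiv.swap d e ∈ H) : alternatingGroup β ≤ H := by
  rw [← closure_three_cycles_eq_alternating, Subgroup.closure_le]
  intro σ hσ
  obtain ⟨a, ha⟩ := hσ.isCycle.nonempty_support
  obtain ⟨b, hb⟩ : ∃ b, b = σ a := ⟨_, rfl⟩
  obtain ⟨c, hc⟩ : ∃ c, c = σ b := ⟨_, rfl⟩
  have hab : a ≠ b := fun e => mem_support.1 ha (hb.symm.trans e.symm)
  have hbs : b ∈ σ.support := hb ▸ apply_mem_support.2 ha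
  have hbc : b ≠ c := fun e => mem_support.1 hbs (hc.symm.trans e.symm)
  have h3 : σ * σ * σ = 1 := by
    have := pow_orderOf_eq_one σ
    rwa [hσ.orderOf, pow_succ, pow_two] at this
  have hca : σ c = a := by
    rw [hc, hb, ← Perm.mul_apply, ← Perm.mul_apply, h3, Perm.one_apply]
  have hac : a ≠ c := fun e => by
    have : σ a = a := by rw [← e] at hca; exact hca
    exact mem_support.1 ha this
  have hsupp : σ.support = {a, b, c} := by
    refine (Finset.eq_of_subset_of_card_le ?_ ?_).symm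
    · intro x hx
      simp only [Finset.mem_insert, Finset.mem_singleton] at hx
      rcases hx with rfl | rfl | rfl
      exacts [ha, hbs, hc ▸ apply_mem_support.2 hbs]
    · rw [hσ.card_support, Finset.card_eq_three.2 ⟨a, b, c, hab, hac, hbc, rfl⟩]
  have heq : σ = Equiv.swap a c * Equiv.swap a b := by
    ext x
    rw [Perm.mul_apply]
    by_cases h1 : x = a
    · subst h1; rw [Equiv.swap_apply_left, Equiv.swap_apply_of_ne_of_ne hab.symm hbc, hb]
    by_cases h2 : x = b
    · subst h2; rw [Equiv.swap_apply_right, Equiv.swap_apply_left, hc]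
    by_cases h3 : x = c
    · subst h3; rw [Equiv.swap_apply_of_ne_of_ne h1 h2, Equiv.swap_apply_right, hca]
    rw [Equiv.swap_apply_of_ne_of_ne h1 h2, Equiv.swap_apply_of_ne_of_ne h1 h3]
    by_contra hx
    have : x ∈ ({a, b, c} : Finset β) := hsupp ▸ mem_support.2 hx
    simp [h1, h2, h3] at this
  obtain ⟨d, hd⟩ : ∃ d, d ∈ ({a, b, c} : Finset β)ᶜ := Finset.card_pos.1 (by
    rw [Finset.card_compl, Finset.card_eq_three.2 ⟨a, b, c, hab, hac, hbc, rfl⟩]; omega)
  obtain ⟨e, he⟩ : ∃ e, e ∈ ({a, b, c, d} : Finset β)ᶜ := Finset.card_pos.1 (by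
    have : ({a, b, c, d} : Finset β).card ≤ 4 := Finset.card_le_four
    rw [Finset.card_compl]; omega)
  simp only [Finset.mem_compl, Finset.mem_insert, Finset.mem_singleton, not_or] at hd he
  have hde : Commute (Equiv.swap d e) (Equiv.swap a b) := (Equiv.Perm.disjoint_iff_disjoint_support.2 (by
    rw [Equiv.Perm.support_swap (Ne.symm he.2.2.2), Equiv.Perm.support_swap hab]
    simp [hd.1, hd.2.1, he.1, he.2.1, Ne.symm hd.1, Ne.symm hd.2.1, Ne.symm he.1, Ne.symm he.2.1])).commute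
  have hmul := H.mul_mem (h a c d e hac (Ne.symm he.2.2.2) (Ne.symm hd.1) (Ne.symm he.1) (Ne.symm hd.2.2)
    (Ne.symm he.2.2.1)) (h a b d e hab (Ne.symm he.2.2.2) (Ne.symm hd.1) (Ne.symm he.1) (Ne.symm hd.2.1)
    (Ne.symm he.2.1))
  have h1 : Equiv.swap a c * Equiv.swap d e * (Equiv.swap a b * Equiv.swap d e) = σ := by
    rw [heq, ← hde.eq, mul_assoc, ← mul_assoc (Equiv.swap d e) (Equiv.swap d e), Equiv.swap_mul_self, one_mul]
  rwa [h1] at hmul

/-- An element of `G` carrying one `k`-subset to another. -/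
def Hom (G : Subgroup (Perm α)) (k : ℕ) : Prop :=
  ∀ s t : Finset α, s.card = k → t.card = k → ∃ g ∈ G, s.map g.toEmbedding = t

open scoped Pointwise in
theorem hom_of_pretransitive {G : Subgroup (Perm α)} {k : ℕ}
    (h : MulAction.IsPretransitive G (Set.powersetCard α k)) : Hom G k := by
  intro s t hs ht
  obtain ⟨g, hg⟩ := h.exists_smul_eq (⟨s, hs⟩ : Set.powersetCard α k) ⟨t, ht⟩
  refine ⟨g, g.2, ?_⟩
  rw [← show g • s = t from congrArg (fun u : Set.powersetCard α k => (u : Finset α)) hg]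
  ext x
  rw [Finset.mem_map, Finset.mem_smul_finset]
  rfl

open scoped Pointwise in
theorem pretransitive_of_hom {G : Subgroup (Perm α)} {k : ℕ} (h : Hom G k) :
    MulAction.IsPretransitive G (Set.powersetCard α k) := by
  constructor
  intro s t
  obtain ⟨g, hg, he⟩ := h s t s.2 t.2
  refine ⟨⟨g, hg⟩, Subtype.ext ?_⟩
  rw [← he]
  ext x
  show x ∈ (⟨g, hg⟩ : G) • (s : Finset α) ↔ _
  rw [Finset.mem_map, Finset.mem_smul_finset]
  rfl

theorem ext_map {G : Subgroup (Perm α)} {m : ℕ} (hT : MulAction.IsMultiplyPretransitive G α m)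
    (hm : m ≤ Fintype.card α) (s : Finset α) (hs : s.card ≤ m) (f : Perm α) :
    ∃ g ∈ G, ∀ x ∈ s, g x = f x := by
  haveI := hT
  obtain ⟨s', hss, -, hs'⟩ := Finset.exists_subsuperset_card_eq (Finset.subset_univ s) (n := m) hs
    (by simpa using hm)
  let e : Fin m ≃ s' := (Fintype.equivFinOfCardEq (by rw [Fintype.card_coe, hs'])).symm
  let x : Fin m ↪ α := e.toEmbedding.trans (Function.Embedding.subtype _)
  obtain ⟨g, hg⟩ := MulAction.exists_smul_eq G x (x.trans f.toEmbedding)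
  refine ⟨g, g.2, fun z hz => ?_⟩
  have := DFunLike.congr_fun hg (e.symm ⟨z, hss hz⟩)
  simpa [x, Subgroup.smul_def] using this

theorem exists_perm_map {s t : Finset α} (h : s.card = t.card) : ∃ f : Perm α, s.map f.toEmbedding = t := by
  let e : s ≃ t := Fintype.equivOfCardEq (by rw [Fintype.card_coe, Fintype.card_coe, h])
  refine ⟨e.extendSubtype, Finset.eq_of_subset_of_card_le ?_ (by rw [Finset.card_map, h])⟩
  intro y hy
  obtain ⟨x, hx, rfl⟩ := Finset.mem_map.1 hy
  exact e.extendSubtype_mem x hx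

theorem hom_of_trans {G : Subgroup (Perm α)} {m : ℕ} (hT : MulAction.IsMultiplyPretransitive G α m)
    (hm : m ≤ Fintype.card α) {k : ℕ} (hk : k ≤ m) : Hom G k := by
  intro s t hs ht
  obtain ⟨f, hf⟩ := exists_perm_map (hs.trans ht.symm)
  obtain ⟨g, hg, hgf⟩ := ext_map hT hm s (by omega) f
  refine ⟨g, hg, ?_⟩
  rw [← hf]
  ext y
  simp only [Finset.mem_map, Equiv.coe_toEmbedding]
  exact ⟨fun ⟨x, hx, e⟩ => ⟨x, hx, (hgf x hx) ▸ e⟩, fun ⟨x, hx, e⟩ => ⟨x, hx, (hgf x hx).symm ▸ e⟩⟩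

/-- Homogeneity and one fully induced subset give multiple transitivity. -/
theorem trans_of_induced {G : Subgroup (Perm α)} {k : ℕ} (hh : Hom G k) {S : Finset α} (hS : S.card = k)
    (h : induced G S = ⊤) : MulAction.IsMultiplyPretransitive G α k := by
  constructor
  intro x y
  have hcard : ∀ z : Fin k ↪ α, (Finset.univ.map z).card = k := fun z => by simp
  obtain ⟨g₁, hg₁, e₁⟩ := hh _ S (hcard x) hS
  obtain ⟨g₂, hg₂, e₂⟩ := hh _ S (hcard y) hS
  have hm : ∀ (g : Perm α) (z : Fin k ↪ α), (Finset.univ.map z).map g.toEmbedding = S → ∀ i, g (z i) ∈ S :=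
    fun g z e i => e ▸ Finset.mem_map_of_mem g.toEmbedding (Finset.mem_map_of_mem z (Finset.mem_univ i))
  let u : ∀ (g : Perm α) (z : Fin k ↪ α), (Finset.univ.map z).map g.toEmbedding = S → Fin k ≃ S :=
    fun g z e => Equiv.ofBijective (fun i => ⟨g (z i), hm g z e i⟩)
      ((Fintype.bijective_iff_injective_and_card _).2 ⟨fun i j hij =>
        z.injective (g.injective (congrArg Subtype.val hij)), by rw [Fintype.card_fin, Fintype.card_coe, hS]⟩)
  obtain ⟨g, hg, hσ⟩ := mem_induced.1 (show (u g₁ x e₁).symm.trans (u g₂ y e₂) ∈ induced G S by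
    rw [h]; trivial)
  refine ⟨⟨g₂⁻¹ * g * g₁, G.mul_mem (G.mul_mem (G.inv_mem hg₂) hg) hg₁⟩, ?_⟩
  ext i
  show g₂⁻¹ (g (g₁ (x i))) = y i
  have := hσ (u g₁ x e₁ i)
  rw [Equiv.trans_apply, Equiv.symm_apply_apply] at this
  rw [Perm.inv_eq_iff_eq]
  exact this

/-- Orbit-stabiliser for a homogeneous group. -/
theorem hom_card {G : Subgroup (Perm α)} {k : ℕ} (hh : Hom G k) {S : Finset α} (hS : S.card = k) :
    Nat.card G = (Fintype.card α).choose k * Nat.card (setStab G S) := by
  classical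
  let GF : Finset (Perm α) := Finset.univ.filter fun g => g ∈ G
  have hG : Nat.card G = GF.card := by
    rw [Nat.card_eq_fintype_card, Fintype.card_subtype]
  have hst : Nat.card (setStab G S) = (Finset.univ.filter fun g => g ∈ setStab G S).card := by
    rw [Nat.card_eq_fintype_card, Fintype.card_subtype]
  rw [hG, Finset.card_eq_sum_card_fiberwise (f := fun g : Perm α => S.map g.toEmbedding)
    (t := Finset.univ.powersetCard k) (fun g _ => Finset.mem_powersetCard.2
      ⟨Finset.subset_univ _, by rw [Finset.card_map, hS]⟩)]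
  rw [Finset.sum_const_nat (m := Nat.card (setStab G S)), Finset.card_powersetCard, Finset.card_univ]
  intro T hT
  obtain ⟨g₀, hg₀, hT0⟩ := hh S T hS (Finset.mem_powersetCard.1 hT).2
  rw [hst]
  refine Finset.card_bij' (fun g _ => g₀⁻¹ * g) (fun g _ => g₀ * g) ?_ ?_ ?_ ?_
  · intro g hg
    simp only [GF, Finset.mem_filter, Finset.mem_univ, true_and] at hg ⊢
    refine mem_setStab_of_maps (G.mul_mem (G.inv_mem hg₀) hg.1) fun x hx => ?_
    have : g x ∈ T := hg.2 ▸ Finset.mem_map_of_mem g.toEmbedding hx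
    rw [← hT0, Finset.mem_map] at this
    obtain ⟨y, hy, e⟩ := this
    show g₀⁻¹ (g x) ∈ S
    rw [← e]
    show g₀⁻¹ (g₀ y) ∈ S
    rw [show g₀⁻¹ (g₀ y) = y from g₀.symm_apply_apply y]
    exact hy
  · intro g hg
    simp only [GF, Finset.mem_filter, Finset.mem_univ, true_and] at hg ⊢
    refine ⟨G.mul_mem hg₀ hg.1, ?_⟩
    refine Finset.eq_of_subset_of_card_le (fun y hy => ?_) (by rw [← hT0, Finset.card_map, Finset.card_map])
    obtain ⟨x, hx, rfl⟩ := Finset.mem_map.1 hy
    rw [← hT0]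
    exact Finset.mem_map_of_mem g₀.toEmbedding ((hg.2 x).2 hx)
  · intro g _; simp
  · intro g _; simp

theorem card_induced {G : Subgroup (Perm α)} {S : Finset α}
    (hinj : ∀ g ∈ G, (∀ x ∈ S, g x = x) → g = 1) : Nat.card (induced G S) = Nat.card (setStab G S) := by
  refine (Nat.card_congr (MonoidHom.ofInjective (f := restrict G S) ?_).toEquiv).symm
  rw [injective_iff_map_eq_one]
  intro g hg
  refine Subtype.ext (hinj g g.2.1 fun x hx => ?_)
  exact congrArg Subtype.val (DFunLike.congr_fun hg ⟨x, hx⟩)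

theorem card_setStab_mul (G : Subgroup (Perm α)) (S : Finset α) :
    Nat.card (setStab G S) = Nat.card (induced G S) * Nat.card (restrict G S).ker := by
  rw [← (restrict G S).ker.card_mul_index, Subgroup.index_ker, mul_comm]
  rfl

/-- An odd power of a lift is an involution. -/
theorem pow_odd {G : Subgroup (Perm α)} {g : Perm α} (hg : g ∈ G) {s : Finset α}
    (hinv : ∀ i ∈ G, i ^ 2 = 1 → (∀ x ∈ s, i x = x) → i = 1) (hs : ∀ x ∈ s, g (g x) = x) :
    ∃ o, Odd o ∧ (g ^ o) ^ 2 = 1 ∧ ∀ x, g (g x) = x → (g ^ o) x = g x := by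
  have hodd : Odd (orderOf (g ^ 2)) := by
    by_contra h
    rw [Nat.not_odd_iff_even] at h
    obtain ⟨c, hc⟩ := h
    have h1 : ((g ^ 2) ^ c) ^ 2 = 1 := by
      rw [← pow_mul, show c * 2 = orderOf (g ^ 2) by omega, pow_orderOf_eq_one]
    have h2 : (g ^ 2) ^ c = 1 := hinv _ (G.pow_mem (G.pow_mem hg 2) c) h1 fun x hx =>
      pow_apply_eq_self_of_apply_eq_self (by rw [sq, Perm.mul_apply, hs x hx]) c
    have h3 := orderOf_dvd_of_pow_eq_one h2
    have h4 := orderOf_pos (g ^ 2)
    have := Nat.le_of_dvd (by omega) h3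
    omega
  refine ⟨orderOf (g ^ 2), hodd, ?_, fun x hx => ?_⟩
  · rw [← pow_mul, mul_comm, pow_mul, pow_orderOf_eq_one]
  · obtain ⟨c, hc⟩ := hodd
    rw [hc, pow_succ', pow_mul, Perm.mul_apply,
      pow_apply_eq_self_of_apply_eq_self (by rw [sq, Perm.mul_apply, hx]) c]

/-- A fixed-point count for involutions. -/
theorem even_moved {i : Perm α} (hi : i ^ 2 = 1) :
    Even (Fintype.card α - (Finset.univ.filter fun x => i x = x).card) := by
  have h : i.support.card = Fintype.card α - (Finset.univ.filter fun x => i x = x).card := by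
    rw [← Finset.card_univ_sdiff]
    congr 1
    ext x
    simp
  rw [← h, ← sum_cycleType]
  by_cases h1 : i = 1
  · simp [h1]
  obtain ⟨n, hn⟩ := cycleType_prime_order (σ := i) ((orderOf_eq_prime hi h1).symm ▸ Nat.prime_two)
  rw [orderOf_eq_prime hi h1] at hn
  rw [hn, Multiset.sum_replicate, smul_eq_mul, mul_comm]
  exact even_two_mul _

end Cfsg.Agent.Block.Homog
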