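import Cfsg.Agent.Lib.Block.HomogeneousCount
import Cfsg.Agent.S0743

/-!
# An alternating group induced on some subset of a multiply transitive group
-/

set_option autoImplicit false

namespace Cfsg.Agent.Block.Homog

open Equiv Equiv.Perm

universe u

theorem conj_fixSet {α : Type*} [Fintype α] [DecidableEq α] (f t : Perm α) :
    fixSet (f * t * f⁻¹) = (fixSet t).map f.toEmbedding := by
  ext x
  rw [mem_fixSet, Finset.mem_map]
  constructor
  · intro h
    refine ⟨f⁻¹ x, mem_fixSet.2 ?_, f.apply_symm_apply x⟩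
    rw [Perm.mul_apply, Perm.mul_apply] at h
    conv_rhs => rw [← h]
    exact (f.symm_apply_apply _).symm
  · rintro ⟨y, hy, rfl⟩
    show f (t (f⁻¹ (f y))) = f y
    rw [show f⁻¹ (f y) = y from f.symm_apply_apply y, mem_fixSet.1 hy]

theorem exists_alternating : ∀ (n : ℕ) (α : Type u) [Fintype α] [DecidableEq α], Fintype.card α = n →
    ∀ (G : Subgroup (Perm α)) (k : ℕ), 4 ≤ k → k < n → MulAction.IsMultiplyPretransitive G α k →
      ∃ Δ : Finset α, Δ.card = k + 1 ∧ alternatingGroup Δ ≤ induced G Δ := by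
  intro n
  induction n using Nat.strong_induction_on with
  | _ n ih =>
  intro α _ _ hn G k hk hkn hT
  classical
  have hkn' : k ≤ Fintype.card α := by omega
  by_cases hcase : ∃ g ∈ G, g ≠ 1 ∧ k + 1 ≤ (fixSet g).card
  · obtain ⟨g, hg, hg1, hgF⟩ := hcase
    obtain ⟨p, hp, hpd⟩ := Nat.exists_prime_and_dvd (fun h => hg1 (orderOf_eq_one_iff.1 h) : orderOf g ≠ 1)
    haveI := Fact.mk hp
    set z := g ^ (orderOf g / p) with hz
    have hzo : orderOf z = p := orderOf_pow_orderOf_div (orderOf_pos g).ne' hpd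
    let FQ : Subgroup (Perm α) → Finset α := fun Q => Finset.univ.filter fun x => ∀ q ∈ Q, q x = x
    have hFQ : ∀ Q x, x ∈ FQ Q ↔ ∀ q ∈ Q, q x = x := fun Q x => by simp [FQ]
    haveI := Fintype.ofFinite (Subgroup (Perm α))
    let C := (Finset.univ : Finset (Subgroup (Perm α))).filter fun Q =>
      Q ≤ G ∧ IsPGroup p Q ∧ k + 1 ≤ (FQ Q).card
    have hzC : Subgroup.zpowers z ∈ C := by
      refine Finset.mem_filter.2 ⟨Finset.mem_univ _, Subgroup.zpowers_le.2 (G.pow_mem hg _),
        IsPGroup.of_card (n := 1) (by rw [Nat.card_zpowers, hzo, pow_one]), hgF.trans (Finset.card_le_card ?_)⟩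
      intro x hx
      rw [hFQ]
      rintro q ⟨j, rfl⟩
      exact zpow_apply_eq_self_of_apply_eq_self
        (pow_apply_eq_self_of_apply_eq_self (mem_fixSet.1 hx) _) j
    obtain ⟨Q, hQ, hmax⟩ := Finset.exists_max_image C (fun Q => Nat.card Q) ⟨_, hzC⟩
    obtain ⟨hQG, hQp, hQF⟩ := (Finset.mem_filter.1 hQ).2
    set F := FQ Q with hFdef
    have hFmem : ∀ x, x ∈ F ↔ ∀ q ∈ Q, q x = x := fun x => by rw [hFdef]; exact hFQ Q x
    have hFn : F.card < n := by
      rw [← hn]
      refine lt_of_le_of_ne (Finset.card_le_univ _) fun e => ?_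
      have hu := (Finset.card_eq_iff_eq_univ _).1 e
      have hbot : Q = ⊥ := by
        rw [Subgroup.eq_bot_iff_forall]
        intro q hq
        ext x
        exact (hFmem x).1 (hu ▸ Finset.mem_univ x) q hq
      have h1 := hmax _ hzC
      rw [hbot, Subgroup.card_bot, Nat.card_zpowers, hzo] at h1
      exact absurd h1 (not_le.2 hp.one_lt)
    let NQ : Subgroup (Perm α) := G ⊓ Subgroup.normalizer (Q : Set (Perm α))
    have hNF : ∀ h ∈ NQ, ∀ x ∈ F, h x ∈ F := by
      intro h hh x hx
      rw [hFmem] at hx ⊢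
      intro q hq
      have hmem : h⁻¹ * q * (h⁻¹)⁻¹ ∈ Q :=
        (Subgroup.mem_normalizer_iff.1 (inv_mem (Subgroup.mem_inf.1 hh).2) q).1 hq
      have := hx _ hmem
      rw [inv_inv, Perm.mul_apply, Perm.mul_apply, Perm.inv_eq_iff_eq] at this
      exact this
    let PT : Finset α → Subgroup (Perm α) := fun S =>
      { carrier := {h | h ∈ G ∧ ∀ x ∈ S, h x = x}
        one_mem' := ⟨G.one_mem, fun _ _ => rfl⟩
        mul_mem' := fun {a b} ha hb => ⟨G.mul_mem ha.1 hb.1, fun x hx => by
          rw [Perm.mul_apply, hb.2 x hx, ha.2 x hx]⟩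
        inv_mem' := fun {a} ha => ⟨G.inv_mem ha.1, fun x hx => by
          conv_lhs => rw [← ha.2 x hx]
          exact a.symm_apply_apply x⟩ }
    have hPT : ∀ S h, h ∈ PT S ↔ h ∈ G ∧ ∀ x ∈ S, h x = x := fun _ _ => Iff.rfl
    have hQPT : ∀ S ⊆ F, Q ≤ PT S := fun S hS q hq => ⟨hQG hq, fun x hx => (hFmem x).1 (hS hx) q hq⟩
    have hPTcard : ∀ S T : Finset α, S.card = k → T.card = k → Nat.card (PT S) ≤ Nat.card (PT T) := by
      intro S T hS hT'
      obtain ⟨f, hf, hfST⟩ := hom_of_trans hT hkn' le_rfl S T hS hT'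
      refine Nat.card_le_card_of_injective (fun h => (⟨f * h * f⁻¹, G.mul_mem (G.mul_mem hf h.2.1) (G.inv_mem hf),
        fun x hx => ?_⟩ : PT T)) fun a b e => Subtype.ext (by simpa using congrArg Subtype.val e)
      rw [← hfST, Finset.mem_map] at hx
      obtain ⟨y, hy, rfl⟩ := hx
      show f ((h : Perm α) (f⁻¹ (f y))) = f y
      rw [show f⁻¹ (f y) = y from f.symm_apply_apply y, h.2.2 y hy]
    let X := induced NQ F
    have hXT : MulAction.IsMultiplyPretransitive X F k := by
      by_cases hsyl : ∃ S : Finset α, S ⊆ F ∧ S.card = k ∧ Nat.card Q = p ^ (Nat.card (PT S)).factorization p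
      · obtain ⟨S, hSF, hS, hQS⟩ := hsyl
        constructor
        intro x y
        let xα : Fin k ↪ α := x.trans (Function.Embedding.subtype _)
        let yα : Fin k ↪ α := y.trans (Function.Embedding.subtype _)
        haveI := hT
        obtain ⟨f, hf⟩ := MulAction.exists_smul_eq G xα yα
        have hfi : ∀ i, (f : Perm α) (x i : α) = (y i : α) := fun i => DFunLike.congr_fun hf i
        set T := Finset.univ.map yα with hTdef
        have hTF : T ⊆ F := fun z hz => by
          obtain ⟨i, -, rfl⟩ := Finset.mem_map.1 hz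
          exact (y i).2
        have hTc : T.card = k := by simp [hTdef]
        have hQT : Nat.card Q = p ^ (Nat.card (PT T)).factorization p := by
          rw [hQS, le_antisymm (hPTcard T S hTc hS) (hPTcard S T hS hTc)]
        let R := Q.map (MulAut.conj (f : Perm α)).toMonoidHom
        have hR : R ≤ PT T := by
          rintro r ⟨q, hq, rfl⟩
          refine ⟨G.mul_mem (G.mul_mem f.2 (hQG hq)) (G.inv_mem f.2), fun z hz => ?_⟩
          obtain ⟨i, -, rfl⟩ := Finset.mem_map.1 hz
          show (f : Perm α) (q ((f : Perm α)⁻¹ (y i : α))) = (y i : α)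
          rw [← hfi i, show (f : Perm α)⁻¹ ((f : Perm α) (x i : α)) = (x i : α) from
            (f : Perm α).symm_apply_apply _, (hFmem _).1 (x i).2 q hq]
        have hRc : Nat.card R = Nat.card Q :=
          Subgroup.card_map_of_injective (MulAut.conj (f : Perm α)).injective
        let SQ : Sylow p (PT T) := Sylow.ofCard (Q.subgroupOf (PT T)) (by
          rw [Nat.card_congr (Subgroup.subgroupOfEquivOfLe (hQPT T hTF)).toEquiv, hQT])
        let SR : Sylow p (PT T) := Sylow.ofCard (R.subgroupOf (PT T)) (by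
          rw [Nat.card_congr (Subgroup.subgroupOfEquivOfLe hR).toEquiv, hRc, hQT])
        obtain ⟨c, hc⟩ := MulAction.exists_smul_eq (PT T) SR SQ
        have hnQ : ∀ q ∈ Q, ((c : Perm α) * f) * q * ((c : Perm α) * f)⁻¹ ∈ Q := by
          intro q hq
          have hr : (⟨_, hR ⟨q, hq, rfl⟩⟩ : PT T) ∈ (SR : Subgroup (PT T)) :=
            Subgroup.mem_subgroupOf.2 ⟨q, hq, rfl⟩
          have hmem : c * ⟨_, hR ⟨q, hq, rfl⟩⟩ * c⁻¹ ∈ ((c • SR : Sylow p (PT T)) : Subgroup (PT T)) := by
            rw [Sylow.coe_subgroup_smul]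
            exact ⟨_, hr, rfl⟩
          rw [hc] at hmem
          have h2 := Subgroup.mem_subgroupOf.1 hmem
          simpa [mul_assoc] using h2
        have hn' : (c : Perm α) * f ∈ NQ := by
          refine Subgroup.mem_inf.2 ⟨G.mul_mem c.2.1 f.2, ?_⟩
          rw [Subgroup.mem_normalizer_iff]
          intro q
          refine ⟨fun hq => hnQ q hq, fun hq => ?_⟩
          have hle : Q.map (MulAut.conj ((c : Perm α) * f)).toMonoidHom ≤ Q := by
            rintro r ⟨s, hs, rfl⟩; exact hnQ s hs
          have heq := Subgroup.eq_of_le_of_card_ge hle (by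
            rw [Subgroup.card_map_of_injective (MulAut.conj ((c : Perm α) * f)).injective])
          obtain ⟨s, hs, e⟩ := heq.ge hq
          rwa [← (MulAut.conj ((c : Perm α) * f)).injective e]
        refine ⟨⟨restrict NQ F ⟨_, mem_setStab_of_maps hn' (hNF _ hn')⟩, ⟨_, rfl⟩⟩, ?_⟩
        ext i
        show (c : Perm α) ((f : Perm α) (x i : α)) = (y i : α)
        rw [hfi]
        exact c.2.2 _ (Finset.mem_map_of_mem yα (Finset.mem_univ i))
      · push Not at hsyl
        refine Cfsg.Agent.S0743.result X (p := p) hp (by omega) (by rw [Fintype.card_coe]; omega) fun s hs => ?_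
        set S := s.map (Function.Embedding.subtype _) with hSdef
        have hSF : S ⊆ F := fun z hz => by
          obtain ⟨i, -, rfl⟩ := Finset.mem_map.1 hz
          exact i.2
        have hS : S.card = k := by rw [hSdef, Finset.card_map, hs]
        have hQsub : IsPGroup p (Q.subgroupOf (PT S)) :=
          hQp.of_equiv (Subgroup.subgroupOfEquivOfLe (hQPT S hSF)).symm
        obtain ⟨P, hP⟩ := hQsub.exists_le_sylow
        set P' := (P : Subgroup (PT S)).map (PT S).subtype with hP'def
        have hP'p : IsPGroup p P' := P.isPGroup'.map _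
        have hQP : Q < P' := by
          refine lt_of_le_of_ne (fun q hq => ⟨⟨q, hQPT S hSF hq⟩, hP (Subgroup.mem_subgroupOf.2 hq), rfl⟩)
            fun e => hsyl S hSF hS ?_
          rw [e, Subgroup.card_map_of_injective (Subgroup.subtype_injective _), Sylow.card_eq_multiplicity]
        haveI : Group.IsNilpotent P' := hP'p.isNilpotent
        have hlt : Q.subgroupOf P' < ⊤ := by
          refine lt_top_iff_ne_top.2 fun e => hQP.not_ge ?_
          exact Subgroup.subgroupOf_eq_top.1 e
        have hnc := (normalizerCondition_of_isNilpotent (G := P')) _ hlt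
        obtain ⟨w, hw, hwQ⟩ := SetLike.exists_of_lt hnc
        set P'' := P' ⊓ Subgroup.normalizer (Q : Set (Perm α)) with hP''def
        have hQP'' : Q ≤ P'' := le_inf hQP.le Subgroup.le_normalizer
        have hwP'' : (w : Perm α) ∈ P'' := by
          refine Subgroup.mem_inf.2 ⟨w.2, ?_⟩
          rw [Subgroup.mem_normalizer_iff]
          intro q
          have hwq := Subgroup.mem_normalizer_iff.1 hw
          refine ⟨fun hq => ?_, fun hq => ?_⟩
          · exact Subgroup.mem_subgroupOf.1 ((hwq ⟨q, hQP.le hq⟩).1 (Subgroup.mem_subgroupOf.2 hq))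
          · have hqP : q ∈ P' := by
              have h := P'.mul_mem (P'.mul_mem (P'.inv_mem w.2) (hQP.le hq)) w.2
              simpa [mul_assoc] using h
            exact Subgroup.mem_subgroupOf.1 ((hwq ⟨q, hqP⟩).2 (Subgroup.mem_subgroupOf.2 hq))
        have hfix : ∀ x ∈ F, (∀ h ∈ P'', h x = x) → x ∈ S := by
          intro x hx hall
          by_contra hxS
          have hmem : P'' ∈ C := by
            refine Finset.mem_filter.2 ⟨Finset.mem_univ _, ?_, hP'p.to_le inf_le_left, ?_⟩
            · intro h hh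
              exact ((hPT S h).1 (Subgroup.map_subtype_le _ (Subgroup.mem_inf.1 hh).1)).1
            · rw [← hS, ← Finset.card_insert_of_notMem hxS]
              refine Finset.card_le_card fun z hz => (hFQ P'' z).2 fun h hh => ?_
              rcases Finset.mem_insert.1 hz with rfl | hz
              · exact hall h hh
              · exact ((hPT S h).1 (Subgroup.map_subtype_le _ (Subgroup.mem_inf.1 hh).1)).2 z hz
          have hle := hmax _ hmem
          have heq := Subgroup.eq_of_le_of_card_ge hQP'' hle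
          exact hwQ (Subgroup.mem_subgroupOf.2 (heq ▸ hwP''))
        have hPN : P'' ≤ setStab NQ F := fun h hh => by
          have hN : h ∈ NQ := Subgroup.mem_inf.2
            ⟨((hPT S h).1 (Subgroup.map_subtype_le _ (Subgroup.mem_inf.1 hh).1)).1, (Subgroup.mem_inf.1 hh).2⟩
          exact mem_setStab_of_maps hN (hNF h hN)
        let ψ : P'' →* X := ((restrict NQ F).rangeRestrict).comp (Subgroup.inclusion hPN)
        refine ⟨ψ.range, (hP'p.to_le inf_le_left).of_surjective ψ.rangeRestrict ψ.rangeRestrict_surjective, ?_⟩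
        ext z
        constructor
        · intro hz
          have hzS : (z : α) ∈ S := by
            refine hfix z z.2 fun h hh => ?_
            exact congrArg Subtype.val (hz ⟨ψ ⟨h, hh⟩, ⟨_, rfl⟩⟩)
          obtain ⟨i, hi, e⟩ := Finset.mem_map.1 hzS
          rw [Finset.mem_coe, ← show i = z from Subtype.ext e]
          exact hi
        · intro hz
          rintro ⟨-, ⟨h, rfl⟩⟩
          refine Subtype.ext ?_
          exact ((hPT S h).1 (Subgroup.map_subtype_le _ (Subgroup.mem_inf.1 h.2).1)).2 z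
            (Finset.mem_map_of_mem _ hz)
    obtain ⟨Δ, hΔ, hA⟩ := ih F.card hFn F (Fintype.card_coe F) X k hk (by omega) hXT
    refine ⟨Δ.map (Function.Embedding.subtype _), by rw [Finset.card_map, hΔ], fun σ hσ => ?_⟩
    let e : Δ ≃ (Δ.map (Function.Embedding.subtype fun x => x ∈ F) : Finset α) :=
      Equiv.ofBijective (fun d => ⟨(d : F), Finset.mem_map_of_mem _ d.2⟩)
        ((Fintype.bijective_iff_injective_and_card _).2 ⟨fun a b h => by
          refine Subtype.ext (Subtype.ext ?_)
          exact congrArg (fun z : (Δ.map (Function.Embedding.subtype fun x => x ∈ F) : Finset α) => (z : α)) h,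
          by rw [Fintype.card_coe, Fintype.card_coe, Finset.card_map]⟩)
    have hσ' : e.symm.permCongr σ ∈ induced X Δ := hA (by
      rw [mem_alternatingGroup, Equiv.Perm.sign_permCongr]; exact mem_alternatingGroup.1 hσ)
    obtain ⟨ξ, hξ, hξΔ⟩ := mem_induced.1 hσ'
    obtain ⟨h, hh, hhF⟩ := mem_induced.1 hξ
    refine mem_induced.2 ⟨h, (Subgroup.mem_inf.1 hh).1, fun x => ?_⟩
    obtain ⟨d, rfl⟩ := e.surjective x
    show h ((d : F) : α) = _
    rw [hhF (d : F), hξΔ d, Equiv.permCongr_apply, Equiv.symm_symm]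
    show ((e (e.symm (σ (e d))) : (Δ.map (Function.Embedding.subtype fun x => x ∈ F) : Finset α)) : α) = _
    rw [Equiv.apply_symm_apply]
  · push Not at hcase
    have hinj : ∀ g ∈ G, ∀ s : Finset α, s.card = k + 1 → (∀ x ∈ s, g x = x) → g = 1 := by
      intro g hg s hs h
      by_contra h1
      have hle := Finset.card_le_card (fun x hx => mem_fixSet.2 (h x hx) : s ⊆ fixSet g)
      have := hcase g hg h1
      omega
    obtain ⟨Δ₀, -, hΔ₀⟩ := Finset.exists_subset_card_eq (s := (Finset.univ : Finset α)) (n := k + 1)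
      (by rw [Finset.card_univ]; omega)
    by_cases h1 : ∃ i ∈ G, i ^ 2 = 1 ∧ i ≠ 1 ∧ k ≤ (fixSet i).card
    · obtain ⟨i, hi, hi2, hi1, hiF⟩ := h1
      have hic : (fixSet i).card = k := by have := hcase i hi hi1; omega
      refine ⟨Δ₀, hΔ₀, ?_⟩
      rw [full_of_fix G (c := k) (by omega) hinj ?_ Δ₀ hΔ₀]
      · exact le_top
      intro R hR
      obtain ⟨f, hf, hfR⟩ := hom_of_trans hT hkn' le_rfl _ R hic hR
      exact ⟨f * i * f⁻¹, G.mul_mem (G.mul_mem hf hi) (G.inv_mem hf),
        by rw [conj_pow, hi2, mul_one, mul_inv_cancel], by rw [conj_fixSet, hfR]⟩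
    push Not at h1
    have hno : ∀ i ∈ G, i ^ 2 = 1 → ∀ s : Finset α, s.card = k → (∀ x ∈ s, i x = x) → i = 1 := by
      intro i hi hi2 s hs h
      by_contra hne
      have := h1 i hi hi2 hne
      have := Finset.card_le_card (fun x hx => mem_fixSet.2 (h x hx) : s ⊆ fixSet i)
      omega
    by_cases h2 : ∃ τ ∈ G, τ ^ 2 = 1 ∧ τ ≠ 1 ∧ (fixSet τ).card = k - 1
    · obtain ⟨τ, hτ, hτ2, hτ1, hτF⟩ := h2
      obtain ⟨Δ, hΔ, hfull⟩ := full_of_commuting G hk hkn' hT hno hτ hτ2 hτ1 hτF
      exact ⟨Δ, hΔ, by rw [hfull]; exact le_top⟩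
    push Not at h2
    refine ⟨Δ₀, hΔ₀, double_of_fix G (c := k - 2) (by omega) (by rwa [show k - 2 + 3 = k + 1 by omega]) ?_ Δ₀
      (by omega)⟩
    intro Q hQ a b ha hb hab
    set S := insert a (insert b Q) with hSdef
    have hS : S.card = k := by
      rw [hSdef, Finset.card_insert_of_notMem (by simp [hab, ha]), Finset.card_insert_of_notMem hb, hQ]
      omega
    obtain ⟨g, hg, hgS⟩ := ext_map hT hkn' S hS.le (Equiv.swap a b)
    have hsw : ∀ y ∈ S, Equiv.swap a b y ∈ S := fun y hy => by
      rw [Equiv.swap_apply_def]; split_ifs <;> simp_all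
    have hgg : ∀ y ∈ S, g (g y) = y := fun y hy => by
      rw [hgS y hy, hgS _ (hsw y hy), Equiv.swap_apply_self]
    obtain ⟨o, -, ht2, hte⟩ := pow_odd hg (fun i hi hi2 h => hno i hi hi2 S hS h) hgg
    have htS : ∀ y ∈ S, (g ^ o) y = Equiv.swap a b y := fun y hy => by rw [hte y (hgg y hy), hgS y hy]
    have hta : (g ^ o) a = b := by rw [htS a (by simp [hSdef]), Equiv.swap_apply_left]
    have hsub : Q ⊆ fixSet (g ^ o) := fun x hx => by
      rw [mem_fixSet, htS x (by simp [hSdef, hx]),
        Equiv.swap_apply_of_ne_of_ne (show x ≠ a from fun e => ha (e ▸ hx)) (show x ≠ b from fun e => hb (e ▸ hx))]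
    refine ⟨g ^ o, G.pow_mem hg o, ht2, ?_, hta⟩
    have ht1 : g ^ o ≠ 1 := fun e => hab (by rw [e, Perm.one_apply] at hta; exact hta)
    have hlt := h1 _ (G.pow_mem hg o) ht2 ht1
    have hne := h2 _ (G.pow_mem hg o) ht2 ht1
    exact (Finset.eq_of_subset_of_card_le hsub (by omega)).symm

end Cfsg.Agent.Block.Homog
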