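import Cfsg.Agent.Lib.Block.Homogeneous

/-!
# Counting involutions by their fixed sets
-/

set_option autoImplicit false

namespace Cfsg.Agent.Block.Homog

open Equiv Equiv.Perm

variable {α : Type*} [Fintype α] [DecidableEq α]

/-- The fixed points, as a finset. -/
def fixSet (g : Perm α) : Finset α := Finset.univ.filter fun x => g x = x

theorem mem_fixSet {g : Perm α} {x : α} : x ∈ fixSet g ↔ g x = x := by simp [fixSet]

theorem invol_apply {t : Perm α} (h : t ^ 2 = 1) (x : α) : t (t x) = x := by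
  rw [← Perm.mul_apply, ← sq, h, Perm.one_apply]

theorem eq_of_agree {G : Subgroup (Perm α)} {m : ℕ}
    (hinj : ∀ g ∈ G, ∀ s : Finset α, s.card = m → (∀ x ∈ s, g x = x) → g = 1)
    {t t' : Perm α} (ht : t ∈ G) (ht' : t' ∈ G) {s : Finset α} (hs : s.card = m)
    (h : ∀ x ∈ s, t x = t' x) : t = t' := by
  refine (inv_mul_eq_one.1 (hinj _ (G.mul_mem (G.inv_mem ht') ht) s hs fun x hx => ?_)).symm
  rw [Perm.mul_apply, h x hx]
  exact t'.symm_apply_apply x

theorem full_of_fix (G : Subgroup (Perm α)) {c : ℕ} (hc : 1 ≤ c)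
    (hinj : ∀ g ∈ G, ∀ s : Finset α, s.card = c + 1 → (∀ x ∈ s, g x = x) → g = 1)
    (h : ∀ R : Finset α, R.card = c → ∃ t ∈ G, t ^ 2 = 1 ∧ fixSet t = R)
    (Δ : Finset α) (hΔ : Δ.card = c + 1) : induced G Δ = ⊤ := by
  classical
  choose! T hTG hT2 hTF using h
  let W : Finset (Finset α × α × α) := ((Finset.univ : Finset α).powersetCard c ×ˢ
    (Finset.univ ×ˢ Finset.univ)).filter fun w => w.2.1 ∈ w.1 ∧ w.2.2 ∉ w.1
  let φ : Finset α × α × α → Finset α × α × α := fun w =>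
    (insert (T w.1 w.2.2) (w.1.erase w.2.1), T w.1 w.2.2, w.2.2)
  have hW : ∀ w, w ∈ W ↔ w.1.card = c ∧ w.2.1 ∈ w.1 ∧ w.2.2 ∉ w.1 := fun w => by
    simp [W]
  have hmov : ∀ w ∈ W, T w.1 w.2.2 ≠ w.2.2 ∧ T w.1 w.2.2 ∉ w.1 := by
    intro w hw
    obtain ⟨hwc, -, hwa⟩ := (hW w).1 hw
    refine ⟨fun e => hwa (by rw [← hTF _ hwc]; exact mem_fixSet.2 e), fun e => hwa ?_⟩
    have e' : T w.1 (T w.1 w.2.2) = T w.1 w.2.2 := mem_fixSet.1 (by rw [hTF _ hwc]; exact e)
    rw [invol_apply (hT2 _ hwc)] at e'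
    rw [← e'] at e; exact e
  have hmaps : ∀ w ∈ W, φ w ∈ W := by
    intro w hw
    obtain ⟨hwc, hwq, hwa⟩ := (hW w).1 hw
    obtain ⟨h1, h2⟩ := hmov w hw
    refine (hW _).2 ⟨?_, Finset.mem_insert_self _ _, ?_⟩
    · rw [Finset.card_insert_of_notMem (fun e => h2 (Finset.mem_of_mem_erase e)), Finset.card_erase_of_mem hwq]
      omega
    · simp only [φ, Finset.mem_insert, not_or]
      exact ⟨Ne.symm h1, fun e => hwa (Finset.mem_of_mem_erase e)⟩
  have hinjφ : Set.InjOn φ W := by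
    intro w hw w' hw' e
    simp only [φ, Prod.mk.injEq] at e
    obtain ⟨e1, e2, e3⟩ := e
    obtain ⟨hwc, hwq, hwa⟩ := (hW w).1 hw
    obtain ⟨hwc', hwq', hwa'⟩ := (hW w').1 hw'
    have hAe : w.1.erase w.2.1 = w'.1.erase w'.2.1 := by
      rw [← Finset.erase_insert (s := w.1.erase w.2.1) (fun e => (hmov w hw).2 (Finset.mem_of_mem_erase e)),
        ← Finset.erase_insert (s := w'.1.erase w'.2.1) (fun e => (hmov w' hw').2 (Finset.mem_of_mem_erase e)),
        e1, e2]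
    have hs : (insert w.2.2 (insert (T w.1 w.2.2) (w.1.erase w.2.1))).card = c + 1 := by
      rw [Finset.card_insert_of_notMem, Finset.card_insert_of_notMem
        (fun e => (hmov w hw).2 (Finset.mem_of_mem_erase e)), Finset.card_erase_of_mem hwq]
      · omega
      · simp only [Finset.mem_insert, not_or]
        exact ⟨Ne.symm (hmov w hw).1, fun e => hwa (Finset.mem_of_mem_erase e)⟩
    have hTT : T w.1 = T w'.1 := by
      refine eq_of_agree hinj (hTG _ hwc) (hTG _ hwc') hs fun x hx => ?_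
      simp only [Finset.mem_insert] at hx
      rcases hx with rfl | rfl | hx
      · rw [e2, e3]
      · rw [invol_apply (hT2 _ hwc), e2, invol_apply (hT2 _ hwc'), e3]
      · rw [mem_fixSet.1 (by rw [hTF _ hwc]; exact Finset.mem_of_mem_erase hx),
          mem_fixSet.1 (by rw [hTF _ hwc']; exact Finset.mem_of_mem_erase (hAe ▸ hx))]
    have h1 : w.1 = w'.1 := by rw [← hTF _ hwc, ← hTF _ hwc', hTT]
    have h2 : w.2.1 = w'.2.1 := by
      have hmem : w'.2.1 ∉ w.1.erase w.2.1 := by rw [hAe]; exact Finset.notMem_erase _ _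
      by_contra hne
      exact hmem (Finset.mem_erase.2 ⟨Ne.symm hne, h1 ▸ hwq'⟩)
    exact Prod.ext h1 (Prod.ext h2 e3)
  refine eq_top_of_swaps _ fun a b hab => ?_
  have hab' : (a : α) ≠ b := fun e => hab (Subtype.ext e)
  have htgt : ((Δ.erase (a : α)), (b : α), (a : α)) ∈ W := by
    refine (hW _).2 ⟨?_, Finset.mem_erase.2 ⟨Ne.symm hab', b.2⟩, Finset.notMem_erase _ _⟩
    rw [Finset.card_erase_of_mem a.2, hΔ]; omega
  obtain ⟨w, hw, hφ⟩ := Finset.surjOn_of_injOn_of_card_le φ (fun w hw => hmaps w hw) hinjφ le_rfl htgt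
  simp only [φ, Prod.mk.injEq] at hφ
  obtain ⟨e1, e2, e3⟩ := hφ
  obtain ⟨hwc, hwq, hwa⟩ := (hW w).1 hw
  refine swap_mem_induced (hTG _ hwc) a b (e3 ▸ e2) ?_ ?_
  · rw [← e2, invol_apply (hT2 _ hwc), e3]
  · intro x hx hxa hxb
    have : x ∈ insert (T w.1 w.2.2) (w.1.erase w.2.1) := e1 ▸ Finset.mem_erase.2 ⟨hxa, hx⟩
    rw [e2, Finset.mem_insert] at this
    exact mem_fixSet.1 (by rw [hTF _ hwc]; exact Finset.mem_of_mem_erase (this.resolve_left hxb))

theorem double_of_fix (G : Subgroup (Perm α)) {c : ℕ} (hc : 2 ≤ c)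
    (hinj : ∀ g ∈ G, ∀ s : Finset α, s.card = c + 3 → (∀ x ∈ s, g x = x) → g = 1)
    (h : ∀ Q : Finset α, Q.card = c → ∀ a b, a ∉ Q → b ∉ Q → a ≠ b →
      ∃ t ∈ G, t ^ 2 = 1 ∧ fixSet t = Q ∧ t a = b)
    (Δ : Finset α) (hΔ : Δ.card = c + 3) : alternatingGroup Δ ≤ induced G Δ := by
  classical
  choose! T hTG hT2 hTF hTab using h
  let W : Finset (Finset α × α × α × α × α) := ((Finset.univ : Finset α).powersetCard c ×ˢ
    (Finset.univ ×ˢ (Finset.univ ×ˢ (Finset.univ ×ˢ Finset.univ)))).filter fun w =>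
      w.2.1 ∈ w.1 ∧ w.2.2.1 ∉ w.1 ∧ w.2.2.2.1 ∉ w.1 ∧ w.2.2.2.2 ∉ w.1 ∧
        w.2.2.1 ≠ w.2.2.2.1 ∧ w.2.2.2.2 ≠ w.2.2.1 ∧ w.2.2.2.2 ≠ w.2.2.2.1
  let τ : Finset α × α × α × α × α → Perm α := fun w => T w.1 w.2.2.1 w.2.2.2.1
  let φ : Finset α × α × α × α × α → Finset α × α × α × α × α := fun w =>
    (insert (τ w w.2.2.2.2) (w.1.erase w.2.1), τ w w.2.2.2.2, w.2.2)
  have hW : ∀ w, w ∈ W ↔ w.1.card = c ∧ w.2.1 ∈ w.1 ∧ w.2.2.1 ∉ w.1 ∧ w.2.2.2.1 ∉ w.1 ∧ w.2.2.2.2 ∉ w.1 ∧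
      w.2.2.1 ≠ w.2.2.2.1 ∧ w.2.2.2.2 ≠ w.2.2.1 ∧ w.2.2.2.2 ≠ w.2.2.2.1 := fun w => by
    simp [W]
  have hτ : ∀ w ∈ W, τ w ∈ G ∧ τ w ^ 2 = 1 ∧ fixSet (τ w) = w.1 ∧ τ w w.2.2.1 = w.2.2.2.1 ∧
      τ w w.2.2.2.1 = w.2.2.1 := by
    intro w hw
    obtain ⟨hwc, -, ha, hb, -, hab, -, -⟩ := (hW w).1 hw
    refine ⟨hTG _ hwc _ _ ha hb hab, hT2 _ hwc _ _ ha hb hab, hTF _ hwc _ _ ha hb hab,
      hTab _ hwc _ _ ha hb hab, ?_⟩
    conv_lhs => rw [← hTab _ hwc _ _ ha hb hab]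
    exact invol_apply (hT2 _ hwc _ _ ha hb hab) _
  have hmov : ∀ w ∈ W, τ w w.2.2.2.2 ≠ w.2.2.2.2 ∧ τ w w.2.2.2.2 ∉ w.1 ∧
      τ w w.2.2.2.2 ≠ w.2.2.1 ∧ τ w w.2.2.2.2 ≠ w.2.2.2.1 := by
    intro w hw
    obtain ⟨hwc, -, ha, hb, hd, hab, hda, hdb⟩ := (hW w).1 hw
    obtain ⟨-, h2, hF, e1, e2⟩ := hτ w hw
    refine ⟨fun e => hd (hF ▸ mem_fixSet.2 e), fun e => hd ?_, fun e => hdb ((τ w).injective (e.trans e2.symm)),
      fun e => hda ((τ w).injective (e.trans e1.symm))⟩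
    have e' : τ w (τ w w.2.2.2.2) = τ w w.2.2.2.2 := mem_fixSet.1 (by rw [hF]; exact e)
    rw [invol_apply h2] at e'
    rw [← e'] at e; exact e
  have hmaps : ∀ w ∈ W, φ w ∈ W := by
    intro w hw
    obtain ⟨hwc, hwq, ha, hb, hd, hab, hda, hdb⟩ := (hW w).1 hw
    obtain ⟨h1, h2, h3, h4⟩ := hmov w hw
    refine (hW _).2 ⟨?_, Finset.mem_insert_self _ _, ?_, ?_, ?_, hab, hda, hdb⟩
    · rw [Finset.card_insert_of_notMem (fun e => h2 (Finset.mem_of_mem_erase e)), Finset.card_erase_of_mem hwq]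
      omega
    all_goals simp only [φ, Finset.mem_insert, not_or]
    exacts [⟨Ne.symm h3, fun e => ha (Finset.mem_of_mem_erase e)⟩,
      ⟨Ne.symm h4, fun e => hb (Finset.mem_of_mem_erase e)⟩,
      ⟨Ne.symm h1, fun e => hd (Finset.mem_of_mem_erase e)⟩]
  have hinjφ : Set.InjOn φ W := by
    intro w hw w' hw' e
    simp only [φ, Prod.mk.injEq] at e
    obtain ⟨e1, e2, e3⟩ := e
    obtain ⟨hwc, hwq, ha, hb, hd, hab, hda, hdb⟩ := (hW w).1 hw
    obtain ⟨hwc', hwq', -, -, -, -, -, -⟩ := (hW w').1 hw'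
    obtain ⟨hG, h2, hF, ea, eb⟩ := hτ w hw
    obtain ⟨hG', h2', hF', ea', eb'⟩ := hτ w' hw'
    obtain ⟨m1, m2, m3, m4⟩ := hmov w hw
    have hAe : w.1.erase w.2.1 = w'.1.erase w'.2.1 := by
      rw [← Finset.erase_insert (s := w.1.erase w.2.1) (fun e => m2 (Finset.mem_of_mem_erase e)),
        ← Finset.erase_insert (s := w'.1.erase w'.2.1) (fun e => (hmov w' hw').2.1 (Finset.mem_of_mem_erase e)),
        e1, e2]
    set s := insert w.2.2.1 (insert w.2.2.2.1 (insert w.2.2.2.2 (insert (τ w w.2.2.2.2) (w.1.erase w.2.1))))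
      with hsdef
    have hs : s.card = c + 3 := by
      rw [hsdef, Finset.card_insert_of_notMem, Finset.card_insert_of_notMem, Finset.card_insert_of_notMem,
        Finset.card_insert_of_notMem (fun e => m2 (Finset.mem_of_mem_erase e)), Finset.card_erase_of_mem hwq]
      · omega
      all_goals simp only [Finset.mem_insert, not_or]
      · exact ⟨Ne.symm m1, fun e => hd (Finset.mem_of_mem_erase e)⟩
      · exact ⟨Ne.symm hdb, Ne.symm m4, fun e => hb (Finset.mem_of_mem_erase e)⟩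
      · exact ⟨hab, Ne.symm hda, Ne.symm m3, fun e => ha (Finset.mem_of_mem_erase e)⟩
    have hTT : τ w = τ w' := by
      refine eq_of_agree hinj hG hG' hs fun x hx => ?_
      simp only [hsdef, Finset.mem_insert] at hx
      rcases hx with rfl | rfl | rfl | rfl | hx
      · rw [ea, e3, ea']
      · rw [eb, e3, eb']
      · rw [e2, e3]
      · rw [invol_apply h2, e2, invol_apply h2', e3]
      · rw [mem_fixSet.1 (by rw [hF]; exact Finset.mem_of_mem_erase hx),
          mem_fixSet.1 (by rw [hF']; exact Finset.mem_of_mem_erase (hAe ▸ hx))]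
    have h1 : w.1 = w'.1 := by rw [← hF, ← hF', hTT]
    have h2 : w.2.1 = w'.2.1 := by
      have hmem : w'.2.1 ∉ w.1.erase w.2.1 := by rw [hAe]; exact Finset.notMem_erase _ _
      by_contra hne
      exact hmem (Finset.mem_erase.2 ⟨Ne.symm hne, h1 ▸ hwq'⟩)
    exact Prod.ext h1 (Prod.ext h2 e3)
  refine alternating_le_of_double _ (by rw [Fintype.card_coe, hΔ]; omega) fun a b d e hab hde had hae hbd hbe => ?_
  have hv : ∀ {x y : Δ}, x ≠ y → (x : α) ≠ y := fun h e => h (Subtype.ext e)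
  set Q := ((Δ.erase (a : α)).erase (b : α)).erase (d : α) with hQ
  have heQ : (e : α) ∈ Q := by
    simp only [hQ, Finset.mem_erase]
    exact ⟨hv (Ne.symm hde), hv (Ne.symm hbe), hv (Ne.symm hae), e.2⟩
  have htgt : (Q, (e : α), (a : α), (b : α), (d : α)) ∈ W := by
    refine (hW _).2 ⟨?_, heQ, by simp [hQ], by simp [hQ], by simp [hQ], hv hab, hv (Ne.symm had),
      hv (Ne.symm hbd)⟩
    show Q.card = c
    rw [hQ, Finset.card_erase_of_mem, Finset.card_erase_of_mem, Finset.card_erase_of_mem a.2, hΔ]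
    · omega
    · exact Finset.mem_erase.2 ⟨hv (Ne.symm hab), b.2⟩
    · exact Finset.mem_erase.2 ⟨hv (Ne.symm hbd), Finset.mem_erase.2 ⟨hv (Ne.symm had), d.2⟩⟩
  obtain ⟨w, hw, hφ⟩ := Finset.surjOn_of_injOn_of_card_le φ (fun w hw => hmaps w hw) hinjφ le_rfl htgt
  simp only [φ, Prod.mk.injEq] at hφ
  obtain ⟨e1, e2, e3⟩ := hφ
  obtain ⟨hG, h2, hF, ea, eb⟩ := hτ w hw
  simp only [Prod.ext_iff] at e3
  obtain ⟨ea3, eb3, ed3⟩ := e3
  rw [ea3, eb3] at ea eb
  rw [ed3] at e2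
  refine mem_induced.2 ⟨τ w, hG, fun x => ?_⟩
  rw [Perm.mul_apply]
  by_cases h1 : x = a
  · subst h1; rw [Equiv.swap_apply_of_ne_of_ne had hae, Equiv.swap_apply_left, ea]
  by_cases h3 : x = b
  · subst h3; rw [Equiv.swap_apply_of_ne_of_ne hbd hbe, Equiv.swap_apply_right, eb]
  by_cases h4 : x = d
  · subst h4; rw [Equiv.swap_apply_left, Equiv.swap_apply_of_ne_of_ne (Ne.symm hae) (Ne.symm hbe), e2]
  by_cases h5 : x = e
  · subst h5
    rw [Equiv.swap_apply_right, Equiv.swap_apply_of_ne_of_ne (Ne.symm had) (Ne.symm hbd), ← e2, invol_apply h2]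
  rw [Equiv.swap_apply_of_ne_of_ne h4 h5, Equiv.swap_apply_of_ne_of_ne h1 h3]
  have hxQ : (x : α) ∈ Q := by
    simp only [hQ, Finset.mem_erase]
    exact ⟨hv h4, hv h3, hv h1, x.2⟩
  have : (x : α) ∈ insert (τ w w.2.2.2.2) (w.1.erase w.2.1) := e1 ▸ hxQ
  rw [ed3, e2, Finset.mem_insert] at this
  exact mem_fixSet.1 (by rw [hF]; exact Finset.mem_of_mem_erase (this.resolve_left (hv h5)))

theorem conj_swap_mem {β : Type*} [DecidableEq β] {H : Subgroup (Perm β)} {p q a b : β}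
    (hpq : Equiv.swap p q ∈ H) (hab : Equiv.swap a b ∈ H) :
    Equiv.swap (Equiv.swap p q a) (Equiv.swap p q b) ∈ H := by
  rw [Equiv.swap_apply_apply]
  exact H.mul_mem (H.mul_mem hpq hab) (H.inv_mem hpq)

/-- An involution with `k - 1` fixed points in a `k`-transitive group. -/
theorem full_of_commuting (G : Subgroup (Perm α)) {k : ℕ} (hk : 4 ≤ k) (hkn : k ≤ Fintype.card α)
    (hT : MulAction.IsMultiplyPretransitive G α k)
    (hno : ∀ i ∈ G, i ^ 2 = 1 → ∀ s : Finset α, s.card = k → (∀ x ∈ s, i x = x) → i = 1)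
    {τ : Perm α} (hτ : τ ∈ G) (hτ2 : τ ^ 2 = 1) (hτ1 : τ ≠ 1) (hF : (fixSet τ).card = k - 1) :
    ∃ Δ : Finset α, Δ.card = k + 1 ∧ induced G Δ = ⊤ := by
  classical
  have hfix : ∀ i ∈ G, i ^ 2 = 1 → i ≠ 1 → (fixSet i).card ≤ k - 1 := by
    intro i hi h2 h1
    by_contra hcon
    obtain ⟨s, hs, hsc⟩ := Finset.exists_subset_card_eq (s := fixSet i) (n := k) (by omega)
    exact h1 (hno i hi h2 s hsc fun x hx => mem_fixSet.1 (hs hx))
  have key : ∀ t ∈ G, t ^ 2 = 1 → (fixSet t).card = k - 1 → ∀ x, t x ≠ x →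
      ∀ u ∈ fixSet t, ∀ w ∈ fixSet t, u ≠ w → ∃ σ ∈ G, σ ^ 2 = 1 ∧ σ u = w ∧ σ w = u ∧
        (fixSet σ).card = k - 1 ∧ fixSet σ = insert x (insert (t x) (((fixSet t).erase u).erase w)) := by
    intro t ht ht2 htF x hx u hu w hw huw
    have hxF : x ∉ fixSet t := fun h => hx (mem_fixSet.1 h)
    have htxF : t x ∉ fixSet t := fun h => hx (by
      have := mem_fixSet.1 h
      rw [invol_apply ht2] at this
      exact this.symm)
    obtain ⟨v, hv⟩ : ∃ v, v ∈ ((fixSet t).erase u).erase w := Finset.card_pos.1 (by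
      rw [Finset.card_erase_of_mem (Finset.mem_erase.2 ⟨huw.symm, hw⟩), Finset.card_erase_of_mem hu]; omega)
    obtain ⟨hvw, hvu, hvF⟩ : v ≠ w ∧ v ≠ u ∧ v ∈ fixSet t := by simpa using hv
    set S := insert x (insert (t x) ((fixSet t).erase v)) with hS
    have hxtx : t x ∉ (fixSet t).erase v := fun h => htxF (Finset.mem_of_mem_erase h)
    have hxins : x ∉ insert (t x) ((fixSet t).erase v) := by
      simp only [Finset.mem_insert, not_or]
      exact ⟨Ne.symm hx, fun h => hxF (Finset.mem_of_mem_erase h)⟩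
    have hScard : S.card = k := by
      rw [hS, Finset.card_insert_of_notMem hxins, Finset.card_insert_of_notMem hxtx, Finset.card_erase_of_mem hvF]
      omega
    have huS : u ∈ S := by simp [hS, hu, hvu.symm]
    have hwS : w ∈ S := by simp [hS, hw, hvw.symm]
    obtain ⟨g, hg, hgS⟩ := ext_map hT hkn S hScard.le (Equiv.swap u w)
    have hgg : ∀ y ∈ S, g (g y) = y := by
      intro y hy
      have hmem : Equiv.swap u w y ∈ S := by
        rw [Equiv.swap_apply_def]; split_ifs <;> assumption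
      rw [hgS y hy, hgS _ hmem, Equiv.swap_apply_self]
    obtain ⟨o, -, hσ2, hσe⟩ := pow_odd hg (fun i hi h2 h => hno i hi h2 S hScard h) hgg
    set σ₀ := g ^ o
    have hσS : ∀ y ∈ S, σ₀ y = Equiv.swap u w y := fun y hy => by rw [hσe y (hgg y hy), hgS y hy]
    have hswapS : ∀ y ∈ S, Equiv.swap u w y ∈ S := fun y hy => by
      rw [Equiv.swap_apply_def]; split_ifs <;> assumption
    have htS : ∀ y ∈ S, t y ∈ S := by
      intro y hy
      simp only [hS, Finset.mem_insert] at hy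
      rcases hy with rfl | rfl | hy
      · simp [hS]
      · rw [invol_apply ht2]; simp [hS]
      · rw [mem_fixSet.1 (Finset.mem_of_mem_erase hy), hS]
        simp [hy]
    have hcomm : ∀ y ∈ S, t (Equiv.swap u w y) = Equiv.swap u w (t y) := by
      intro y hy
      have htu : t u = u := mem_fixSet.1 hu
      have htw : t w = w := mem_fixSet.1 hw
      by_cases h1 : y = u
      · subst h1; rw [htu, Equiv.swap_apply_left, htw]
      by_cases h2 : y = w
      · subst h2; rw [htw, Equiv.swap_apply_right, htu]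
      rw [Equiv.swap_apply_of_ne_of_ne h1 h2, Equiv.swap_apply_of_ne_of_ne
        (fun e => h1 (t.injective (e.trans htu.symm))) (fun e => h2 (t.injective (e.trans htw.symm)))]
    set m := t * σ₀ with hm
    have hmG : m ∈ G := G.mul_mem ht (G.pow_mem hg o)
    have hmm : ∀ y ∈ S, m (m y) = y := by
      intro y hy
      simp only [hm, Perm.mul_apply]
      rw [hσS y hy, hσS _ (htS _ (hswapS y hy)), hcomm y hy, Equiv.swap_apply_self, invol_apply ht2]
    obtain ⟨o', -, hm2, hme⟩ := pow_odd hmG (fun i hi h2 h => hno i hi h2 S hScard h) hmm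
    set σ₁ := m ^ o'
    have hσ₀inv : σ₀⁻¹ = σ₀ := inv_eq_of_mul_eq_one_right (by rw [← sq]; exact hσ2)
    have htinv : t⁻¹ = t := inv_eq_of_mul_eq_one_right (by rw [← sq]; exact ht2)
    have htm : t * σ₁ = σ₁ * t := by
      have h1 : t * m * t⁻¹ = m⁻¹ := by
        rw [hm, mul_inv_rev, hσ₀inv, htinv, ← mul_assoc t t, ← sq, ht2, one_mul]
      have h2 : t * σ₁ * t⁻¹ = σ₁ := by
        rw [← conj_pow, h1, inv_pow]
        exact inv_eq_of_mul_eq_one_right (by rw [← sq]; exact hm2)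
      exact mul_inv_eq_iff_eq_mul.1 h2
    refine ⟨t * σ₁, G.mul_mem ht (G.pow_mem hmG o'), ?_, ?_⟩
    · rw [(show Commute t σ₁ from htm).mul_pow, ht2, hm2, one_mul]
    have hσy : ∀ y ∈ S, (t * σ₁) y = Equiv.swap u w y := by
      intro y hy
      rw [Perm.mul_apply, hme y (hmm y hy), hm, Perm.mul_apply, invol_apply ht2, hσS y hy]
    have hσu : (t * σ₁) u = w := by rw [hσy u huS, Equiv.swap_apply_left]
    have hσw : (t * σ₁) w = u := by rw [hσy w hwS, Equiv.swap_apply_right]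
    have hσF : ∀ y ∈ fixSet t, (t * σ₁) y ∈ fixSet t := fun y hy => by
      rw [mem_fixSet, ← Perm.mul_apply, ← mul_assoc, ← sq, ht2, one_mul, Perm.mul_apply, ← Perm.mul_apply,
        htm, Perm.mul_apply, mem_fixSet.1 hy]
    have hσv : (t * σ₁) v = v := by
      by_contra hne
      have h1 := hσF v hvF
      set z := (t * σ₁) v with hz
      have hzS : z ∈ S := by simp [hS, h1, hne]
      have hzz : (t * σ₁) (Equiv.swap u w z) = z := by
        rw [hσy _ (hswapS z hzS), Equiv.swap_apply_self]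
      have := (t * σ₁).injective (hzz.trans hz)
      refine (fun h : v ∈ S => ?_) (this ▸ hswapS z hzS)
      simp only [hS, Finset.mem_insert, Finset.mem_erase, ne_eq, not_true_eq_false, false_and, or_false] at h
      rcases h with h | h
      exacts [hxF (h ▸ hvF), htxF (h ▸ hvF)]
    have hsub : insert x (insert (t x) (((fixSet t).erase u).erase w)) ⊆ fixSet (t * σ₁) := by
      intro y hy
      rw [mem_fixSet]
      by_cases hyv : y = v
      · rw [hyv, hσv]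
      simp only [Finset.mem_insert, Finset.mem_erase] at hy
      have hyS : y ∈ S ∧ y ≠ u ∧ y ≠ w := by
        rcases hy with rfl | rfl | ⟨h1, h2, h3⟩
        · exact ⟨by simp [hS], fun e => hxF (e ▸ hu), fun e => hxF (e ▸ hw)⟩
        · exact ⟨by simp [hS], fun e => htxF (e ▸ hu), fun e => htxF (e ▸ hw)⟩
        · exact ⟨by simp [hS, h3, hyv], h2, h1⟩
      rw [hσy y hyS.1, Equiv.swap_apply_of_ne_of_ne hyS.2.1 hyS.2.2]
    have hc : (insert x (insert (t x) (((fixSet t).erase u).erase w))).card = k - 1 := by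
      rw [Finset.card_insert_of_notMem, Finset.card_insert_of_notMem
        (fun h => htxF (Finset.mem_of_mem_erase (Finset.mem_of_mem_erase h))),
        Finset.card_erase_of_mem (Finset.mem_erase.2 ⟨huw.symm, hw⟩), Finset.card_erase_of_mem hu]
      · omega
      · simp only [Finset.mem_insert, not_or]
        exact ⟨Ne.symm hx, fun h => hxF (Finset.mem_of_mem_erase (Finset.mem_of_mem_erase h))⟩
    have hσG := G.mul_mem ht (G.pow_mem hmG o')
    have hle := hfix _ hσG (by rw [(show Commute t σ₁ from htm).mul_pow, ht2, hm2, one_mul])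
      (fun e => huw (by rw [e, Perm.one_apply] at hσu; exact hσu))
    have heq := Finset.eq_of_subset_of_card_le hsub (by rw [hc]; exact hle)
    exact ⟨hσu, hσw, by rw [← heq, hc], heq.symm⟩
  obtain ⟨x, hx⟩ : ∃ x, τ x ≠ x := by
    by_contra h
    push Not at h
    exact hτ1 (Equiv.ext h)
  have hxF : x ∉ fixSet τ := fun h => hx (mem_fixSet.1 h)
  have htxF : τ x ∉ fixSet τ := fun h => hx (by
    have := mem_fixSet.1 h
    rw [invol_apply hτ2] at this
    exact this.symm)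
  set Δ := insert x (insert (τ x) (fixSet τ)) with hΔdef
  have hxi : x ∉ insert (τ x) (fixSet τ) := by
    simp only [Finset.mem_insert, not_or]; exact ⟨Ne.symm hx, hxF⟩
  have hΔ : Δ.card = k + 1 := by
    rw [hΔdef, Finset.card_insert_of_notMem hxi, Finset.card_insert_of_notMem htxF, hF]; omega
  refine ⟨Δ, hΔ, ?_⟩
  have hxΔ : x ∈ Δ := by simp [hΔdef]
  have htxΔ : τ x ∈ Δ := by simp [hΔdef]
  have hFΔ : ∀ {y}, y ∈ fixSet τ → y ∈ Δ := fun {y} hy => by simp [hΔdef, hy]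
  -- transpositions at a fixed point
  have hin : ∀ (u w : α) (hu : u ∈ fixSet τ) (hw : w ∈ fixSet τ), u ≠ w →
      Equiv.swap (⟨u, hFΔ hu⟩ : Δ) ⟨w, hFΔ hw⟩ ∈ induced G Δ := by
    intro u w hu hw huw
    obtain ⟨σ, hσ, -, h1, h2, -, h4⟩ := key τ hτ hτ2 hF x hx u hu w hw huw
    refine swap_mem_induced hσ _ _ h1 h2 fun y hy hyu hyw => mem_fixSet.1 ?_
    rw [h4]
    simp only [hΔdef, Finset.mem_insert] at hy
    simp only [Finset.mem_insert, Finset.mem_erase]
    rcases hy with h | h | h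
    exacts [Or.inl h, Or.inr (Or.inl h), Or.inr (Or.inr ⟨hyw, hyu, h⟩)]
  have hτswap : Equiv.swap (⟨x, hxΔ⟩ : Δ) ⟨τ x, htxΔ⟩ ∈ induced G Δ := by
    refine swap_mem_induced hτ _ _ rfl (invol_apply hτ2 x) fun y hy hyx hytx => mem_fixSet.1 ?_
    simp only [hΔdef, Finset.mem_insert] at hy
    rcases hy with h | h | h
    exacts [absurd h hyx, absurd h hytx, h]
  obtain ⟨v, hv⟩ : ∃ v, v ∈ fixSet τ := Finset.card_pos.1 (by omega)
  obtain ⟨u, hu⟩ : ∃ u, u ∈ (fixSet τ).erase v := Finset.card_pos.1 (by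
    rw [Finset.card_erase_of_mem hv]; omega)
  obtain ⟨w, hw⟩ : ∃ w, w ∈ ((fixSet τ).erase v).erase u := Finset.card_pos.1 (by
    rw [Finset.card_erase_of_mem hu, Finset.card_erase_of_mem hv]; omega)
  simp only [Finset.mem_erase] at hu hw
  obtain ⟨σ, hσ, hσ2, hσu, hσw, hσc, hσF⟩ := key τ hτ hτ2 hF x hx u hu.2 w hw.2.2 (Ne.symm hw.1)
  have hvσ : v ∈ fixSet σ := by
    rw [hσF]; simp [hv, Ne.symm hu.1, Ne.symm hw.2.1]
  have hxσ : x ∈ fixSet σ := by rw [hσF]; simp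
  have hσu' : σ u ≠ u := by rw [hσu]; exact hw.1
  obtain ⟨π, hπ, -, hπ1, hπ2, -, hπF⟩ := key σ hσ hσ2 hσc u hσu' v hvσ x hxσ (fun e => hxF (e ▸ hv))
  have hvx : Equiv.swap (⟨v, hFΔ hv⟩ : Δ) ⟨x, hxΔ⟩ ∈ induced G Δ := by
    refine swap_mem_induced hπ _ _ hπ1 hπ2 fun y hy hyv hyx => mem_fixSet.1 ?_
    rw [hπF, hσu, hσF]
    simp only [hΔdef, Finset.mem_insert] at hy
    simp only [Finset.mem_insert, Finset.mem_erase]
    rcases hy with h | h | h
    · exact absurd h hyx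
    · exact Or.inr (Or.inr ⟨hyx, hyv, Or.inr (Or.inl h)⟩)
    · by_cases h1 : y = u
      · exact Or.inl h1
      by_cases h2 : y = w
      · exact Or.inr (Or.inl h2)
      exact Or.inr (Or.inr ⟨hyx, hyv, Or.inr (Or.inr ⟨h2, h1, h⟩)⟩)
  have hvtx : Equiv.swap (⟨v, hFΔ hv⟩ : Δ) ⟨τ x, htxΔ⟩ ∈ induced G Δ := by
    have h := conj_swap_mem hτswap hvx
    have e1 : (⟨v, hFΔ hv⟩ : Δ) ≠ ⟨x, hxΔ⟩ := fun e => hxF (by
      have e' : v = x := congrArg Subtype.val e
      rw [← e']; exact hv)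
    have e2 : (⟨v, hFΔ hv⟩ : Δ) ≠ ⟨τ x, htxΔ⟩ := fun e => htxF (by
      have e' : v = τ x := congrArg Subtype.val e
      rw [← e']; exact hv)
    rwa [Equiv.swap_apply_left, Equiv.swap_apply_of_ne_of_ne e1 e2] at h
  have hstar : ∀ a : Δ, (a : α) ≠ v → Equiv.swap (⟨v, hFΔ hv⟩ : Δ) a ∈ induced G Δ := by
    intro a hav
    have ha := a.2
    simp only [hΔdef, Finset.mem_insert] at ha
    rcases ha with h | h | h
    · rwa [show a = ⟨x, hxΔ⟩ from Subtype.ext h]
    · rwa [show a = ⟨τ x, htxΔ⟩ from Subtype.ext h]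
    · exact hin v a hv h (Ne.symm hav)
  refine eq_top_of_swaps _ fun a b hab => ?_
  by_cases ha : (a : α) = v
  · rw [show a = ⟨v, hFΔ hv⟩ from Subtype.ext ha]
    exact hstar b fun e => hab (Subtype.ext (ha.trans e.symm))
  by_cases hb : (b : α) = v
  · rw [show b = ⟨v, hFΔ hv⟩ from Subtype.ext hb, Equiv.swap_comm]
    exact hstar a ha
  have h := conj_swap_mem (hstar a ha) (hstar b hb)
  rwa [Equiv.swap_apply_left, Equiv.swap_apply_of_ne_of_ne
    (fun e => hb (congrArg (fun z : Δ => (z : α)) e)) (Ne.symm hab)] at h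

end Cfsg.Agent.Block.Homog
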