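import Cfsg.Agent.Lib.Block.HomogeneousSecond
import Cfsg.Agent.S0680

/-!
# Homogeneous groups of degree below twice the size of the subsets
-/

set_option autoImplicit false

namespace Cfsg.Agent.Block.Homog

open Equiv Equiv.Perm

variable {α : Type*} [Fintype α] [DecidableEq α]

/-- There is no sharply triply transitive group of degree seven. -/
theorem no_sharp_seven {G : Subgroup (Perm α)} (hT : MulAction.IsMultiplyPretransitive G α 3)
    (hα : Fintype.card α = 7) (hG : Nat.card G = 210) : False := by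
  obtain ⟨w⟩ : Nonempty α := Fintype.card_pos_iff.1 (by omega)
  set T := (Finset.univ : Finset α).erase w with hTdef
  have hTc : T.card = 6 := by rw [hTdef, Finset.card_erase_of_mem (Finset.mem_univ w), Finset.card_univ, hα]
  have hmemT : ∀ x, x ∈ T ↔ x ≠ w := fun x => by simp [hTdef]
  have hone : ∀ g ∈ G, ∀ s : Finset α, s.card = 3 → (∀ x ∈ s, g x = x) → g = 1 := by
    intro g hg s hs h
    have hc := card_trans hT (by omega) hs
    rw [hG, hα, show Nat.choose 7 3 = 35 from rfl, show Nat.factorial 3 = 6 from rfl] at hc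
    have h1 : Nat.card (restrict G s).ker = 1 := by omega
    let g' : setStab G s := ⟨g, mem_setStab_of_maps hg fun x hx => by rwa [h x hx]⟩
    have hmem : g' ∈ (restrict G s).ker := Equiv.ext fun x => Subtype.ext (h x x.2)
    exact congrArg Subtype.val (Subgroup.eq_bot_iff_forall _ |>.1 (Subgroup.card_eq_one.1 h1) g' hmem)
  have hex : ∀ g ∈ G, g w = w → g ∈ setStab G T := fun g hg hw => mem_setStab_of_maps hg fun z hz => by
    rw [hmemT] at hz ⊢; exact fun e => hz (g.injective (e.trans hw.symm))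
  haveI : MulAction.IsMultiplyPretransitive (induced G T) T 2 := by
    rw [MulAction.is_two_pretransitive_iff]
    intro a b c d hab hcd
    have hv : ∀ {u v : T}, u ≠ v → (u : α) ≠ v := fun h e => h (Subtype.ext e)
    set f := Equiv.swap (Equiv.swap (a : α) c b) (d : α) * Equiv.swap (a : α) c with hf
    have hfa : f a = c := by
      rw [hf, Perm.mul_apply, Equiv.swap_apply_left, Equiv.swap_apply_of_ne_of_ne ?_ (hv hcd)]
      intro e
      have := congrArg (Equiv.swap (a : α) c) e
      rw [Equiv.swap_apply_self, Equiv.swap_apply_right] at this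
      exact hv hab this
    have hfb : f b = d := by rw [hf, Perm.mul_apply, Equiv.swap_apply_left]
    have hfw : f w = w := by
      have hne : ∀ u : T, w ≠ (u : α) := fun u e => (hmemT u).1 u.2 e.symm
      rw [hf, Perm.mul_apply, Equiv.swap_apply_of_ne_of_ne (hne a) (hne c),
        Equiv.swap_apply_of_ne_of_ne ?_ (hne d)]
      intro e
      have := congrArg (Equiv.swap (a : α) c) e
      rw [Equiv.swap_apply_self, Equiv.swap_apply_of_ne_of_ne (hne a) (hne c)] at this
      exact hne b this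
    obtain ⟨g, hg, hgf⟩ := ext_map hT (by omega) ({(a : α), (b : α), w} : Finset α) Finset.card_le_three f
    have hw : g w = w := (hgf w (by simp)).trans hfw
    refine ⟨⟨restrict G T ⟨g, hex g hg hw⟩, ⟨_, rfl⟩⟩, Subtype.ext ?_, Subtype.ext ?_⟩
    · show g a = c; rw [hgf a (by simp), hfa]
    · show g b = d; rw [hgf b (by simp), hfb]
  have hsharp : ∀ x : Fin 2 ↪ T, MulAction.stabilizer (induced G T) x = ⊥ := by
    intro x
    rw [Subgroup.eq_bot_iff_forall]
    rintro ⟨σ, g, rfl⟩ hσ
    have h : ∀ i, (g : Perm α) (x i) = x i := fun i =>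
      congrArg Subtype.val (DFunLike.congr_fun (MulAction.mem_stabilizer_iff.1 hσ) i)
    have hgw : (g : Perm α) w = w := by
      by_contra hne
      exact hne (((hmemT _).not_left).1 fun hmem => (hmemT w).1 ((g.2.2 w).1 hmem) rfl)
    have h01 : (x 0 : α) ≠ x 1 := fun e => absurd (x.injective (Subtype.ext e)) (by decide)
    have hg1 := hone (g : Perm α) g.2.1 {w, (x 0 : α), (x 1 : α)} (Finset.card_eq_three.2
      ⟨w, _, _, fun e => (hmemT _).1 (x 0).2 e.symm, fun e => (hmemT _).1 (x 1).2 e.symm, h01, rfl⟩) (by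
      intro z hz
      simp only [Finset.mem_insert, Finset.mem_singleton] at hz
      rcases hz with rfl | rfl | rfl
      exacts [hgw, h 0, h 1])
    refine Subtype.ext ?_
    show restrict G T g = 1
    rw [show g = 1 from Subtype.ext hg1, map_one]
  obtain ⟨p, j, hp, hj, hpj, -⟩ := Cfsg.Agent.S0680.result (induced G T) hsharp (by rw [Fintype.card_coe, hTc]; norm_num)
  rw [Fintype.card_coe, hTc] at hpj
  have h2 : (2 : ℕ) ∣ p ^ j := hpj ▸ (by norm_num)
  have h3 : (3 : ℕ) ∣ p ^ j := hpj ▸ (by norm_num)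
  have e2 := (Nat.prime_dvd_prime_iff_eq Nat.prime_two hp).1 (Nat.prime_two.dvd_of_dvd_pow h2)
  have e3 := (Nat.prime_dvd_prime_iff_eq Nat.prime_three hp).1 (Nat.prime_three.dvd_of_dvd_pow h3)
  omega

set_option maxHeartbeats 1000000 in
theorem exceptional (G : Subgroup (Perm α)) {k : ℕ} (hk : 3 ≤ k) (hkn : k ≤ Fintype.card α)
    (hT : MulAction.IsMultiplyPretransitive G α (k - 2))
    (hnt : ¬ MulAction.IsMultiplyPretransitive G α (k - 1)) (hh1 : Hom G (k - 1)) (hh : Hom G k) :
    (k = Fintype.card α ∧ G = alternatingGroup α) ∨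
    (Fintype.card α = 5 ∧ k = 4 ∧ Nat.card G = 20) ∨ (Fintype.card α = 6 ∧ k = 5 ∧ Nat.card G = 120) ∨
    (Fintype.card α = 9 ∧ k = 5 ∧ (Nat.card G = 504 ∨ Nat.card G = 1512)) := by
  classical
  set n := Fintype.card α with hn
  haveI : Nontrivial α := Fintype.one_lt_card_iff_nontrivial.1 (by omega)
  have halt : 2 * Nat.card G = n.factorial → G = alternatingGroup α := by
    intro h
    refine eq_alternatingGroup_of_index_eq_two (Nat.eq_of_mul_eq_mul_right (Nat.card_pos (α := G)) ?_)
    rw [G.index_mul_card, Nat.card_perm, Nat.card_eq_fintype_card, ← hn, ← h]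
  have hl : ¬ ∃ g ∈ G, g ≠ 1 ∧ ∃ s : Finset α, s.card = k - 1 ∧ ∀ x ∈ s, g x = x := by
    rintro ⟨g, hg, hg1, s, hs, hgs⟩
    obtain ⟨T, -, hTc⟩ := Finset.exists_subset_card_eq (s := (Finset.univ : Finset α)) (n := k)
      (by rw [Finset.card_univ]; omega)
    have hconj : ∀ {m : ℕ}, Hom G m → ∀ s t : Finset α, s.card = m → t.card = m →
        Nat.card (fixingSubgroup G (s : Set α)) ≤ Nat.card (fixingSubgroup G (t : Set α)) := by
      intro m hm s t hs ht
      obtain ⟨f, hf, hft⟩ := hm s t hs ht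
      refine Nat.card_le_card_of_injective (fun h => (⟨⟨f, hf⟩ * (h : G) * ⟨f, hf⟩⁻¹, ?_⟩ :
        fixingSubgroup G (t : Set α))) fun a b e => Subtype.ext (by simpa using congrArg Subtype.val e)
      rw [mem_fixingSubgroup_iff]
      intro x hx
      rw [← hft, Finset.coe_map] at hx
      obtain ⟨y, hy, rfl⟩ := hx
      show f ((h : G).1 (f⁻¹ (f y))) = f y
      rw [show f⁻¹ (f y) = y from f.symm_apply_apply y]
      exact congrArg f ((mem_fixingSubgroup_iff G).1 h.2 y hy)
    refine hnt (Cfsg.Agent.S0744.result G (by omega) (by omega) (Nat.card (fixingSubgroup G (s : Set α)))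
      (Nat.card (fixingSubgroup G (T : Set α))) ?_ ?_ ?_)
    · rw [Finite.one_lt_card_iff_nontrivial]
      refine ⟨⟨⟨⟨g, hg⟩, (mem_fixingSubgroup_iff G).2 fun x hx => hgs x hx⟩, 1, fun e => hg1 ?_⟩⟩
      exact congrArg (fun z : fixingSubgroup G (s : Set α) => ((z : G) : Perm α)) e
    · exact fun t ht => le_antisymm (hconj hh1 t s ht hs) (hconj hh1 s t hs ht)
    · exact fun t ht => le_antisymm (hconj hh t T ht hTc) (hconj hh T t hTc ht)
  push Not at hl
  have hinj : ∀ g ∈ G, ∀ s : Finset α, s.card = k - 1 → (∀ x ∈ s, g x = x) → g = 1 := by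
    intro g hg s hs h
    by_contra h1
    obtain ⟨x, hx, hne⟩ := hl g hg h1 s hs
    exact hne (h x hx)
  have hnotop : ∀ S : Finset α, S.card = k - 1 → induced G S ≠ ⊤ := fun S hS h => hnt (trans_of_induced hh1 hS h)
  obtain ⟨S, -, hS⟩ := Finset.exists_subset_card_eq (s := (Finset.univ : Finset α)) (n := k - 1)
    (by rw [Finset.card_univ]; omega)
  by_cases h2 : ∃ i ∈ G, i ^ 2 = 1 ∧ i ≠ 1 ∧ k - 2 ≤ (fixSet i).card
  · obtain ⟨i, hi, hi2, hi1, hiF⟩ := h2
    have hic : (fixSet i).card = k - 2 := by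
      by_contra hne
      obtain ⟨s, hs, hsc⟩ := Finset.exists_subset_card_eq (s := fixSet i) (n := k - 1) (by omega)
      exact hi1 (hinj i hi s hsc fun x hx => mem_fixSet.1 (hs hx))
    refine (hnotop S hS (full_of_fix G (c := k - 2) (by omega) (by rwa [show k - 2 + 1 = k - 1 by omega]) ?_ S (by omega))).elim
    intro R hR
    obtain ⟨f, hf, hfR⟩ := hom_of_trans hT (by omega) le_rfl _ R hic hR
    exact ⟨f * i * f⁻¹, G.mul_mem (G.mul_mem hf hi) (G.inv_mem hf),
      by rw [conj_pow, hi2, mul_one, mul_inv_cancel], by rw [conj_fixSet, hfR]⟩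
  push Not at h2
  have hno : ∀ i ∈ G, i ^ 2 = 1 → ∀ s : Finset α, s.card = k - 2 → (∀ x ∈ s, i x = x) → i = 1 := by
    intro i hi hi2 s hs h
    by_contra hne
    have := h2 i hi hi2 hne
    have := Finset.card_le_card (fun x hx => mem_fixSet.2 (h x hx) : s ⊆ fixSet i)
    omega
  -- the orders
  obtain ⟨R, -, hR⟩ := Finset.exists_subset_card_eq (s := (Finset.univ : Finset α)) (n := k - 2)
    (by rw [Finset.card_univ]; omega)
  obtain ⟨T, -, hTc⟩ := Finset.exists_subset_card_eq (s := (Finset.univ : Finset α)) (n := k)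
    (by rw [Finset.card_univ]; omega)
  set s := Nat.card (setStab G S) with hsdef
  set t := Nat.card (setStab G T) with htdef
  set r := Nat.card (restrict G R).ker with hrdef
  have hGs : Nat.card G = n.choose (k - 1) * s := hom_card hh1 hS
  have hGt : Nat.card G = n.choose k * t := hom_card hh hTc
  have hGr : Nat.card G = n.choose (k - 2) * ((k - 2).factorial * r) := card_trans hT (by omega) hR
  have hsind : s = Nat.card (induced G S) := (card_induced fun g hg h => hinj g hg S hS h).symm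
  have hsdvd : s ∣ (k - 1).factorial := by
    rw [hsind]
    have := (induced G S).card_subgroup_dvd_card
    rwa [Nat.card_perm, Nat.card_eq_finsetCard, hS] at this
  have hsne : s ≠ (k - 1).factorial := fun e => hnotop S hS (Subgroup.eq_top_of_card_eq _ (by
    rw [← hsind, e, Nat.card_perm, Nat.card_eq_finsetCard, hS]))
  have hst : s * k = t * (n - (k - 1)) := by
    have h := Nat.choose_succ_right_eq n (k - 1)
    rw [show k - 1 + 1 = k by omega] at h
    refine Nat.eq_of_mul_eq_mul_left (Nat.choose_pos (show k - 1 ≤ n by omega)) ?_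
    calc n.choose (k - 1) * (s * k) = Nat.card G * k := by rw [hGs]; ring
      _ = n.choose k * k * t := by rw [hGt]; ring
      _ = _ := by rw [h]; ring
  have hsr : s * (n - (k - 2)) = (k - 1).factorial * r := by
    have h := Nat.choose_succ_right_eq n (k - 2)
    rw [show k - 2 + 1 = k - 1 by omega] at h
    refine Nat.eq_of_mul_eq_mul_left (Nat.choose_pos (show k - 2 ≤ n by omega)) ?_
    have hf : (k - 1).factorial = (k - 1) * (k - 2).factorial := by
      conv_lhs => rw [show k - 1 = k - 2 + 1 by omega, Nat.factorial_succ, show k - 2 + 1 = k - 1 by omega]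
    calc n.choose (k - 2) * (s * (n - (k - 2))) = n.choose (k - 1) * (k - 1) * s := by rw [h]; ring
      _ = Nat.card G * (k - 1) := by rw [hGs]; ring
      _ = _ := by rw [hGr, hf]; ring
  have hrodd : Odd r := by
    rw [← Nat.not_even_iff_odd, even_iff_two_dvd]
    intro h
    obtain ⟨i, hi⟩ := exists_prime_orderOf_dvd_card' (G := (restrict G R).ker) 2 h
    rw [← Subgroup.orderOf_coe, ← Subgroup.orderOf_coe] at hi
    have h1 := hno _ (i : setStab G R).2.1 (hi ▸ pow_orderOf_eq_one _) R hR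
      (fun x hx => by
        have h2 : restrict G R (i : setStab G R) = 1 := i.2
        exact congrArg (fun z : R => (z : α)) (DFunLike.congr_fun h2 ⟨x, hx⟩))
    rw [h1, orderOf_one] at hi
    norm_num at hi
  have hspos : 0 < s := Nat.card_pos
  rcases (show k = 3 ∨ k = 4 ∨ k = 5 ∨ 6 ≤ k by omega) with rfl | rfl | rfl | hk6
  · -- k = 3
    norm_num [Nat.factorial] at hsdvd hsne hst hsr
    have hs1 : s = 1 := ((Nat.dvd_prime Nat.prime_two).1 hsdvd).resolve_right hsne
    rw [hs1] at hst hsr hGs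
    have hd : n - 2 ∣ 3 := ⟨t, by rw [show 3 = 1 * 3 from rfl, hst]; ring⟩
    rcases (Nat.dvd_prime Nat.prime_three).1 hd with h | h
    · refine Or.inl ⟨by omega, halt ?_⟩
      rw [hGs, show n = 3 by omega]; rfl
    · exfalso
      obtain ⟨c, hc⟩ := hrodd
      omega
  · -- k = 4
    norm_num [Nat.factorial] at hsdvd hsne hst hsr
    have hkey : ∀ a ∈ Nat.divisors 6, ∀ m ∈ Finset.Icc 4 27, a ≠ 6 → (a * 4) % (m - 3) = 0 →
        (a * (m - 2)) % 12 = 6 → m = 4 ∧ a = 3 ∨ m = 5 ∧ a = 2 ∨ m = 11 ∧ a = 2 := by decide +kernel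
    have hnle : n - 3 ≤ 24 := by
      have h1 : n - 3 ∣ s * 4 := ⟨t, by rw [hst]; ring⟩
      have := Nat.le_of_dvd (by omega) h1
      have := Nat.le_of_dvd (by norm_num) hsdvd
      omega
    rcases hkey s (Nat.mem_divisors.2 ⟨hsdvd, by norm_num⟩) n (Finset.mem_Icc.2 ⟨by omega, by omega⟩)
      hsne (by rw [hst]; exact Nat.mul_mod_left _ _) (by obtain ⟨c, hc⟩ := hrodd; rw [hsr, hc]; omega)
      with ⟨e, e'⟩ | ⟨e, e'⟩ | ⟨e, e'⟩
    · refine Or.inl ⟨e.symm, halt ?_⟩
      rw [hGs, e, e']; rfl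
    · refine Or.inr (Or.inl ⟨e, rfl, ?_⟩)
      rw [hGs, e, e']; rfl
    · exfalso
      haveI : Fact (Nat.Prime 11) := ⟨by norm_num⟩
      haveI : MulAction.IsPretransitive G α := by
        constructor
        intro x y
        obtain ⟨g, hg, h⟩ := ext_map hT (by omega) {x} (by simp) (Equiv.swap x y)
        refine ⟨⟨g, hg⟩, ?_⟩
        show g x = y
        rw [h x (Finset.mem_singleton_self x), Equiv.swap_apply_left]
      refine prime_degree_false (p := 11) (hn ▸ e) G 30 ?_ (by decide +kernel) (by norm_num)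
      rw [hGs, e, e']; rfl
  · -- k = 5
    norm_num [Nat.factorial] at hsdvd hsne hst hsr
    have hkey : ∀ a ∈ Nat.divisors 24, ∀ m ∈ Finset.Icc 5 124, a ≠ 24 → (a * 5) % (m - 4) = 0 →
        (a * (m - 3)) % 48 = 24 → m = 5 ∧ a = 12 ∨ m = 6 ∧ a = 8 ∨ m = 7 ∧ a = 6 ∨ m = 9 ∧ (a = 4 ∨ a = 12) ∨
          a = 8 ∧ (m = 12 ∨ m = 24) := by decide +kernel
    have hnle : n - 4 ≤ 120 := by
      have h1 : n - 4 ∣ s * 5 := ⟨t, by rw [hst]; ring⟩
      have := Nat.le_of_dvd (by omega) h1
      have := Nat.le_of_dvd (by norm_num) hsdvd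
      omega
    haveI := hT
    rcases hkey s (Nat.mem_divisors.2 ⟨hsdvd, by norm_num⟩) n (Finset.mem_Icc.2 ⟨by omega, by omega⟩)
      hsne (by rw [hst]; exact Nat.mul_mod_left _ _) (by obtain ⟨c, hc⟩ := hrodd; rw [hsr, hc]; omega)
      with ⟨e, e'⟩ | ⟨e, e'⟩ | ⟨e, e'⟩ | ⟨e, e'⟩ | ⟨e', e⟩
    · refine Or.inl ⟨e.symm, halt ?_⟩
      rw [hGs, e, e']; rfl
    · refine Or.inr (Or.inr (Or.inl ⟨e, rfl, ?_⟩))
      rw [hGs, e, e']; rfl
    · exact (no_sharp_seven hT (hn ▸ e) (by rw [hGs, e, e']; rfl)).elim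
    · refine Or.inr (Or.inr (Or.inr ⟨e, rfl, ?_⟩))
      rcases e' with e' | e'
      · left; rw [hGs, e, e']; rfl
      · right; rw [hGs, e, e']; rfl
    · exfalso
      have h2T : MulAction.IsMultiplyPretransitive G α 2 :=
        MulAction.isMultiplyPretransitive_of_le (n := 3) (by norm_num) (by simp; omega)
      rcases e with e | e
      · haveI : Fact (Nat.Prime 11) := ⟨by norm_num⟩
        refine prime_degree_stab_false h2T (p := 11) (hn ▸ e) 30 ?_ (by decide +kernel) (by norm_num)
        rw [hGs, e', e]; rfl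
      · haveI : Fact (Nat.Prime 23) := ⟨by norm_num⟩
        refine prime_degree_stab_false h2T (p := 23) (hn ▸ e) 154 ?_ (by decide +kernel) (by norm_num)
        rw [hGs, e', e]; decide +kernel
  -- k ≥ 6
  obtain ⟨Q, -, hQ⟩ := Finset.exists_subset_card_eq (s := (Finset.univ : Finset α)) (n := k - 4)
    (by rw [Finset.card_univ]; omega)
  have hlift : ∀ Q : Finset α, Q.card = k - 4 → ∀ a b, a ∉ Q → b ∉ Q → a ≠ b →
      ∃ t ∈ G, t ^ 2 = 1 ∧ t a = b ∧ t b = a ∧ Q ⊆ fixSet t ∧ (fixSet t).card < k - 2 :=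
    fun Q hQ a b ha hb hab => swap_lift hT (by omega) hno (by omega) ha hb hab
  have hpar : ∀ (Q : Finset α) (t : Perm α), Q.card = k - 4 → t ^ 2 = 1 → Q ⊆ fixSet t →
      (fixSet t).card < k - 2 → (Even (n - k) → fixSet t = Q) ∧ (¬ Even (n - k) → (fixSet t).card = k - 3) := by
    intro Q t hQ ht hQt hlt
    have hev : Even (n - (fixSet t).card) := even_moved ht
    have hle := Finset.card_le_card hQt
    rw [Nat.even_iff] at hev
    refine ⟨fun h => (Finset.eq_of_subset_of_card_le hQt ?_).symm, fun h => ?_⟩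
    · rw [Nat.even_iff] at h; omega
    · rw [Nat.even_iff] at h; omega
  obtain ⟨a, ha⟩ : ∃ a, a ∈ Qᶜ := Finset.card_pos.1 (by rw [Finset.card_compl, hQ]; omega)
  obtain ⟨b, hb⟩ : ∃ b, b ∈ Qᶜ.erase a := Finset.card_pos.1 (by
    rw [Finset.card_erase_of_mem ha, Finset.card_compl, hQ]; omega)
  simp only [Finset.mem_erase, Finset.mem_compl] at ha hb
  obtain ⟨g, hg, hg2, hga, -, hQg, hlt⟩ := hlift Q hQ a b ha hb.2 (Ne.symm hb.1)
  by_cases hev : Even (n - k)
  · have hA : ∀ S : Finset α, S.card = k - 1 → alternatingGroup S ≤ induced G S := by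
      intro S hS
      refine double_of_fix G (c := k - 4) (by omega) (by rwa [show k - 4 + 3 = k - 1 by omega]) ?_ S (by omega)
      intro Q hQ a b ha hb hab
      obtain ⟨t, ht, ht2, hta, -, hQt, hlt⟩ := hlift Q hQ a b ha hb hab
      exact ⟨t, ht, ht2, (hpar Q t hQ ht2 hQt hlt).1 hev, hta⟩
    have hsh : 2 * s = (k - 1).factorial := by
      haveI : Nontrivial S := Fintype.one_lt_card_iff_nontrivial.1 (by rw [Fintype.card_coe, hS]; omega)
      have h2a := two_mul_nat_card_alternatingGroup (α := S)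
      rw [Nat.card_perm, Nat.card_eq_finsetCard, hS] at h2a
      obtain ⟨c, hc⟩ : Nat.card (alternatingGroup S) ∣ s := hsind ▸ Subgroup.card_dvd_of_le (hA S hS)
      rw [← h2a] at hsdvd hsne ⊢
      rw [hc] at hsdvd hsne ⊢
      have h2c : c ∣ 2 := Nat.dvd_of_mul_dvd_mul_left (Nat.card_pos (α := alternatingGroup S))
        (by rwa [mul_comm 2] at hsdvd)
      rcases (Nat.dvd_prime Nat.prime_two).1 h2c with rfl | rfl
      · ring
      · exact absurd (mul_comm _ _) hsne
    rcases (show k = n ∨ k + 2 ≤ n by rw [Nat.even_iff] at hev; omega) with e | e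
    · refine Or.inl ⟨e, halt ?_⟩
      rw [hGs, ← e, show k.choose (k - 1) = k from by
        rw [Nat.choose_symm (by omega : 1 ≤ k), Nat.choose_one_right], ← mul_assoc, mul_comm 2 k, mul_assoc, hsh]
      exact Nat.mul_factorial_pred (by omega)
    exfalso
    rcases (show k = 6 ∨ 7 ≤ k by omega) with rfl | hk7
    · norm_num [Nat.factorial] at hsh
      have hs60 : s = 60 := by omega
      rw [hs60] at hst hsr
      norm_num [Nat.factorial] at hst hsr
      have hkey : ∀ m ∈ Finset.Icc 8 365, 360 % (m - 5) = 0 → (60 * (m - 4)) % 240 = 120 →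
          m = 10 ∨ m = 14 ∨ m = 50 := by decide +kernel
      have hnle : n - 5 ≤ 360 := Nat.le_of_dvd (by norm_num) ⟨t, by rw [hst]; ring⟩
      have hn' := hkey n (Finset.mem_Icc.2 ⟨by omega, by omega⟩)
        (by rw [hst]; exact Nat.mul_mod_left _ _)
        (by obtain ⟨c, hc⟩ := hrodd; rw [hsr, hc]; omega)
      obtain ⟨S₃, -, hS₃⟩ := Finset.exists_subset_card_eq (s := (Finset.univ : Finset α)) (n := 3)
        (by rw [Finset.card_univ]; omega)
      haveI := hT
      have h3T : MulAction.IsMultiplyPretransitive G α 3 :=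
        MulAction.isMultiplyPretransitive_of_le (n := 4) (by norm_num) (by simp; omega)
      have hG3 := card_trans h3T (by omega) hS₃
      have hker : Nat.card (restrict G S₃).ker = (n - 3) * r := by
        rw [hGr] at hG3
        rcases hn' with e | e | e <;> rw [← hn, e] at hG3 <;> rw [e] <;>
          norm_num [Nat.choose_eq_factorial_div_factorial, Nat.factorial] at hG3 ⊢ <;> omega
      rcases hn' with e | e | e
      · haveI : Fact (Nat.Prime 7) := ⟨by norm_num⟩
        exact no_three_fixed hT (p := 7) (r := r) (by omega) (by norm_num) (by omega) hS₃ (by rw [hker, e]) hinj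
      · haveI : Fact (Nat.Prime 11) := ⟨by norm_num⟩
        exact no_three_fixed hT (p := 11) (r := r) (by omega) (by norm_num) (by omega) hS₃ (by rw [hker, e]) hinj
      · haveI : Fact (Nat.Prime 47) := ⟨by norm_num⟩
        exact no_three_fixed hT (p := 47) (r := r) (by omega) (by norm_num) (by omega) hS₃ (by rw [hker, e]) hinj
    · have hgF := (hpar Q g hQ hg2 hQg hlt).1 hev
      have hgs : g.support = Qᶜ := by
        ext x
        rw [mem_support, Finset.mem_compl, ← hgF, mem_fixSet]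
      obtain ⟨S', hS', σ, hσ, hs'⟩ := exists_odd_subset hg hg2 (j := k - 7) (by rw [hgF, hQ]; omega)
        (by rw [hgs, Finset.card_compl, hQ]; omega)
      exact hnotop S' (by omega) (eq_top_of_alternating_of_odd _ (hA S' (by omega)) hσ hs')
  · exfalso
    have hg1 : g ≠ 1 := fun e => hb.1 (by rw [← hga, e, Perm.one_apply])
    obtain ⟨Δ, hΔ, hfull⟩ := full_of_commuting G (k := k - 2) (by omega) (by omega) hT hno hg hg2 hg1
      (by rw [(hpar Q g hQ hg2 hQg hlt).2 hev]; omega)
    exact hnotop Δ (by omega) hfull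

end Cfsg.Agent.Block.Homog
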