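import Cfsg.Agent.Lib.Block.HomogeneousAlternating
import Cfsg.Agent.Lib.Block.PrimeDegree
import Cfsg.Agent.S0736
import Cfsg.Agent.S0744

/-!
# Homogeneous groups are highly transitive, first form
-/

set_option autoImplicit false

namespace Cfsg.Agent.Block.Homog

open Equiv Equiv.Perm

variable {α : Type*} [Fintype α] [DecidableEq α]

theorem induced_top_of_trans {G : Subgroup (Perm α)} {m : ℕ} (hT : MulAction.IsMultiplyPretransitive G α m)
    (hm : m ≤ Fintype.card α) {S : Finset α} (hS : S.card ≤ m) : induced G S = ⊤ := by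
  rw [eq_top_iff]
  intro σ _
  obtain ⟨g, hg, hgS⟩ := ext_map hT hm S hS (Equiv.Perm.ofSubtype σ)
  exact mem_induced.2 ⟨g, hg, fun x => by rw [hgS x x.2, Equiv.Perm.ofSubtype_apply_coe]⟩

theorem swap_lift {G : Subgroup (Perm α)} {m : ℕ} (hT : MulAction.IsMultiplyPretransitive G α m)
    (hm : m ≤ Fintype.card α)
    (hno : ∀ i ∈ G, i ^ 2 = 1 → ∀ s : Finset α, s.card = m → (∀ x ∈ s, i x = x) → i = 1)
    {Q : Finset α} (hQ : Q.card + 2 = m) {a b : α} (ha : a ∉ Q) (hb : b ∉ Q) (hab : a ≠ b) :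
    ∃ t ∈ G, t ^ 2 = 1 ∧ t a = b ∧ t b = a ∧ Q ⊆ fixSet t ∧ (fixSet t).card < m := by
  set S := insert a (insert b Q) with hSdef
  have hS : S.card = m := by
    rw [hSdef, Finset.card_insert_of_notMem (by simp [hab, ha]), Finset.card_insert_of_notMem hb, ← hQ]
  obtain ⟨g, hg, hgS⟩ := ext_map hT hm S hS.le (Equiv.swap a b)
  have hsw : ∀ y ∈ S, Equiv.swap a b y ∈ S := fun y hy => by
    rw [Equiv.swap_apply_def]; split_ifs <;> simp_all
  have hgg : ∀ y ∈ S, g (g y) = y := fun y hy => by
    rw [hgS y hy, hgS _ (hsw y hy), Equiv.swap_apply_self]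
  obtain ⟨o, -, ht2, hte⟩ := pow_odd hg (fun i hi hi2 h => hno i hi hi2 S hS h) hgg
  have htS : ∀ y ∈ S, (g ^ o) y = Equiv.swap a b y := fun y hy => by rw [hte y (hgg y hy), hgS y hy]
  have hta : (g ^ o) a = b := by rw [htS a (by simp [hSdef]), Equiv.swap_apply_left]
  refine ⟨g ^ o, G.pow_mem hg o, ht2, hta, by rw [htS b (by simp [hSdef]), Equiv.swap_apply_right], ?_, ?_⟩
  · intro x hx
    rw [mem_fixSet, htS x (by simp [hSdef, hx]),
      Equiv.swap_apply_of_ne_of_ne (show x ≠ a from fun e => ha (e ▸ hx)) (show x ≠ b from fun e => hb (e ▸ hx))]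
  · by_contra hcon
    obtain ⟨s, hs, hsc⟩ := Finset.exists_subset_card_eq (s := fixSet (g ^ o)) (n := m) (by omega)
    have := hno _ (G.pow_mem hg o) ht2 s hsc fun x hx => mem_fixSet.1 (hs hx)
    rw [this, Perm.one_apply] at hta
    exact hab hta

theorem sign_of_moved {β : Type*} [Fintype β] [DecidableEq β] {σ : Perm β} (h2 : σ ^ 2 = 1) {m : ℕ}
    (hm : Odd m) (hs : σ.support.card = 2 * m) : sign σ = -1 := by
  have h1 : σ ≠ 1 := fun e => by
    rw [e, Equiv.Perm.support_one, Finset.card_empty] at hs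
    obtain ⟨c, rfl⟩ := hm
    omega
  obtain ⟨n, hn⟩ := cycleType_prime_order (σ := σ) ((orderOf_eq_prime h2 h1).symm ▸ Nat.prime_two)
  rw [orderOf_eq_prime h2 h1] at hn
  have hsum := sum_cycleType σ
  rw [hn, Multiset.sum_replicate, smul_eq_mul, hs] at hsum
  rw [sign_of_cycleType, hn, Multiset.sum_replicate, Multiset.card_replicate, smul_eq_mul,
    show n + 1 = m by omega, pow_add, pow_mul', neg_one_sq, one_pow, one_mul, hm.neg_one_pow]

theorem prime_degree_false {β : Type*} [Fintype β] [DecidableEq β] {p : ℕ} [Fact p.Prime]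
    (hβ : Fintype.card β = p) (H : Subgroup (Perm β)) [MulAction.IsPretransitive H β] (q : ℕ)
    (hH : Nat.card H = p * q) (hd : ∀ d ∈ q.divisors, d % p = 1 → ¬ q / d ∣ p - 1) (hq : q ≠ 0) : False := by
  obtain ⟨P⟩ : Nonempty (Sylow p H) := inferInstance
  set N := Subgroup.normalizer ((P : Subgroup H) : Set H)
  have h1 : Nat.card N ∣ p * (p - 1) := primeDeg_card_normalizer_dvd hβ H P
  have h2 : p ∣ Nat.card N := (primeDeg_card_sylow hβ H P) ▸ Subgroup.card_dvd_of_le Subgroup.le_normalizer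
  obtain ⟨e, he⟩ := h2
  have hp : p.Prime := Fact.out
  have hne : e * Nat.card (Sylow p H) = q := by
    have h := N.index_mul_card
    rw [← show Nat.card (Sylow p H) = N.index from Sylow.card_eq_index_normalizer P, he, hH] at h
    refine Nat.eq_of_mul_eq_mul_left hp.pos ?_
    rw [← h]; ring
  have hmod := card_sylow_modEq_one p H
  unfold Nat.ModEq at hmod
  rw [Nat.one_mod_eq_one.2 hp.ne_one] at hmod
  refine hd _ (Nat.mem_divisors.2 ⟨⟨e, by rw [← hne, mul_comm]⟩, hq⟩) hmod ?_
  rw [he] at h1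
  have hpos : 0 < Nat.card (Sylow p H) := Nat.card_pos
  rw [show q / Nat.card (Sylow p H) = e from Nat.div_eq_of_eq_mul_left hpos hne.symm]
  exact Nat.dvd_of_mul_dvd_mul_left hp.pos h1

theorem prime_degree_stab_false {G : Subgroup (Perm α)} (hT : MulAction.IsMultiplyPretransitive G α 2)
    {p : ℕ} [Fact p.Prime] (hα : Fintype.card α = p + 1) (q : ℕ) (hG : Nat.card G = (p + 1) * (p * q))
    (hd : ∀ d ∈ q.divisors, d % p = 1 → ¬ q / d ∣ p - 1) (hq : q ≠ 0) : False := by
  obtain ⟨w⟩ : Nonempty α := Fintype.card_pos_iff.1 (by omega)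
  set S := (Finset.univ : Finset α).erase w with hSdef
  have hS : S.card = p := by rw [hSdef, Finset.card_erase_of_mem (Finset.mem_univ w), Finset.card_univ]; omega
  have h2n : 2 ≤ Fintype.card α := by have := (Fact.out : p.Prime).two_le; omega
  have hmemS : ∀ x, x ∈ S ↔ x ≠ w := fun x => by simp [hSdef]
  have hh : Hom G p := by
    intro s t hs ht
    obtain ⟨a, hsa⟩ := Finset.card_eq_one.1 (show sᶜ.card = 1 by rw [Finset.card_compl]; omega)
    obtain ⟨b, htb⟩ := Finset.card_eq_one.1 (show tᶜ.card = 1 by rw [Finset.card_compl]; omega)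
    obtain ⟨g, hg, hga⟩ := ext_map hT h2n {a} (by simp) (Equiv.swap a b)
    refine ⟨g, hg, ?_⟩
    have := hga a (Finset.mem_singleton_self a)
    rw [Equiv.swap_apply_left] at this
    rw [← compl_compl s, ← compl_compl t, hsa, htb]
    ext x
    simp only [Finset.mem_map, Finset.mem_compl, Finset.mem_singleton, Equiv.coe_toEmbedding]
    exact ⟨fun ⟨y, hy, e⟩ h => hy (g.injective (by rw [e, h, this])), fun h =>
      ⟨g.symm x, fun e => h (by rw [← this, ← e, g.apply_symm_apply]), g.apply_symm_apply x⟩⟩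
  have hcard := hom_card hh hS
  rw [← card_induced (G := G) (S := S) ?_, hα, Nat.choose_succ_self_right, hG] at hcard
  · have hH : Nat.card (induced G S) = p * q := (Nat.eq_of_mul_eq_mul_left (by omega) hcard).symm
    haveI : MulAction.IsPretransitive (induced G S) S := by
      constructor
      intro x y
      obtain ⟨g, hg, hgS⟩ := ext_map hT h2n {w, (x : α)} Finset.card_le_two (Equiv.swap (x : α) y)
      have hw : g w = w := by
        rw [hgS w (by simp), Equiv.swap_apply_of_ne_of_ne (Ne.symm ((hmemS x).1 x.2)) (Ne.symm ((hmemS y).1 y.2))]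
      have hmem : g ∈ setStab G S := mem_setStab_of_maps hg fun z hz => by
        rw [hmemS] at hz ⊢; exact fun e => hz (g.injective (e.trans hw.symm))
      refine ⟨⟨restrict G S ⟨g, hmem⟩, ⟨_, rfl⟩⟩, Subtype.ext ?_⟩
      show g x = y
      rw [hgS x (by simp), Equiv.swap_apply_left]
    exact prime_degree_false (by rw [Fintype.card_coe, hS]) _ q hH hd hq
  · intro g _ h
    ext x
    by_cases hx : x = w
    · subst hx
      by_contra hne
      exact hne (g.injective (h _ ((hmemS _).2 hne)))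
    · exact h x ((hmemS x).2 hx)

theorem card_trans {G : Subgroup (Perm α)} {m : ℕ} (hT : MulAction.IsMultiplyPretransitive G α m)
    (hm : m ≤ Fintype.card α) {S : Finset α} (hS : S.card = m) :
    Nat.card G = (Fintype.card α).choose m * (m.factorial * Nat.card (restrict G S).ker) := by
  rw [hom_card (hom_of_trans hT hm le_rfl) hS, card_setStab_mul, induced_top_of_trans hT hm hS.le,
    Subgroup.card_top, Nat.card_perm, Nat.card_eq_fintype_card, Fintype.card_coe, hS]

/-- Three fixed points of a regular cycle of prime length. -/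
theorem no_three_fixed {G : Subgroup (Perm α)} (hT : MulAction.IsMultiplyPretransitive G α 4)
    {p r : ℕ} [Fact p.Prime] (hα : Fintype.card α = p + 3) (hp : 5 ≤ p) (hrp : r < p) {S : Finset α}
    (hS : S.card = 3) (hker : Nat.card (restrict G S).ker = p * r)
    (hinj : ∀ g ∈ G, ∀ s : Finset α, s.card = 5 → (∀ x ∈ s, g x = x) → g = 1) : False := by
  have hn4 : 4 ≤ Fintype.card α := by omega
  obtain ⟨a, b, c, hab, hac, hbc, rfl⟩ := Finset.card_eq_three.1 hS
  set S : Finset α := {a, b, c} with hSdef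
  have hmemK : ∀ g : setStab G S, g ∈ (restrict G S).ker ↔ ∀ x ∈ S, (g : Perm α) x = x := fun g => by
    refine ⟨fun h x hx => ?_, fun h => Equiv.ext fun x => ?_⟩
    · exact congrArg (fun z : S => (z : α)) (DFunLike.congr_fun (show restrict G S g = 1 from h) ⟨x, hx⟩)
    · exact Subtype.ext (h x x.2)
  obtain ⟨π, hπ⟩ := exists_prime_orderOf_dvd_card' (G := (restrict G S).ker) p ⟨r, hker⟩
  set e : Perm α := ((π : setStab G S) : Perm α) with hedef
  have heo : orderOf e = p := by rw [hedef, Subgroup.orderOf_coe, Subgroup.orderOf_coe, hπ]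
  have heS : ∀ x ∈ S, e x = x := (hmemK _).1 π.2
  have hsupp : e.support = Sᶜ := by
    refine Finset.eq_of_subset_of_card_le (fun x hx => Finset.mem_compl.2 fun h => mem_support.1 hx (heS x h)) ?_
    rw [Finset.card_compl, hS, hα]
    obtain ⟨n, hn⟩ := cycleType_prime_order (σ := e) (heo.symm ▸ Fact.out)
    rw [← sum_cycleType, hn, Multiset.sum_replicate, smul_eq_mul, heo, Nat.add_sub_cancel]
    exact Nat.le_mul_of_pos_left _ (by omega)
  have hcyc : e.IsCycle := by
    refine Equiv.Perm.isCycle_of_prime_order (heo.symm ▸ Fact.out) ?_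
    rw [hsupp, Finset.card_compl, hS, hα, heo]; omega
  have huniq : ∀ q ∈ G, (∀ x ∈ S, q x = x) → orderOf q = p → q ∈ Subgroup.zpowers e := by
    intro q hq hqS hqo
    by_contra hne
    let q' : setStab G S := ⟨q, mem_setStab_of_maps hq fun x hx => by rwa [hqS x hx]⟩
    let K := (restrict G S).ker
    have hqK : q' ∈ K := (hmemK q').2 hqS
    let f : Subgroup.zpowers π × Subgroup.zpowers (⟨q', hqK⟩ : K) → K := fun z => (z.1 : K) * (z.2 : K)
    have hinjf : Function.Injective f := by
      rintro ⟨u, v⟩ ⟨u', v'⟩ h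
      simp only [f] at h
      have h' : (u' : K)⁻¹ * u = (v' : K) * (v : K)⁻¹ := by
        rw [eq_mul_inv_iff_mul_eq, mul_assoc, h, inv_mul_cancel_left]
      have hmem : (u' : K)⁻¹ * u ∈ Subgroup.zpowers π ⊓ Subgroup.zpowers (⟨q', hqK⟩ : K) :=
        Subgroup.mem_inf.2 ⟨mul_mem (inv_mem u'.2) u.2, h' ▸ mul_mem v'.2 (inv_mem v.2)⟩
      have hbot : Subgroup.zpowers π ⊓ Subgroup.zpowers (⟨q', hqK⟩ : K) = ⊥ := by
        rcases ((Fact.out : p.Prime).eq_one_or_self_of_dvd _
          (hπ ▸ Nat.card_zpowers π ▸ Subgroup.card_dvd_of_le (inf_le_left :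
            Subgroup.zpowers π ⊓ Subgroup.zpowers (⟨q', hqK⟩ : K) ≤ _))) with h1 | h1
        · exact Subgroup.card_eq_one.1 h1
        · exfalso
          have heq := Subgroup.eq_of_le_of_card_ge (inf_le_right :
            Subgroup.zpowers π ⊓ Subgroup.zpowers (⟨q', hqK⟩ : K) ≤ _) (by
            rw [h1, Nat.card_zpowers, ← Subgroup.orderOf_coe, ← Subgroup.orderOf_coe]; exact hqo.le)
          have hq0 := (Subgroup.mem_inf.1 (heq.ge (Subgroup.mem_zpowers _))).1
          obtain ⟨j, hj⟩ := hq0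
          exact hne ⟨j, by
            have := congrArg (fun z : K => ((z : setStab G S) : Perm α)) hj
            simpa [e] using this⟩
      rw [hbot, Subgroup.mem_bot, inv_mul_eq_one] at hmem
      have hu : u = u' := Subtype.ext hmem.symm
      subst hu
      exact Prod.ext rfl (Subtype.ext (mul_left_cancel h))
    have hle := Nat.card_le_card_of_injective f hinjf
    rw [Nat.card_prod, Nat.card_zpowers, Nat.card_zpowers, hπ, ← Subgroup.orderOf_coe, ← Subgroup.orderOf_coe,
      hqo, hker] at hle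
    have := Nat.le_of_mul_le_mul_left hle (Fact.out : p.Prime).pos
    omega
  obtain ⟨o, ho⟩ : ∃ o, o ∉ S := by
    obtain ⟨o, ho⟩ : Sᶜ.Nonempty := Finset.card_pos.1 (by rw [Finset.card_compl, hS]; omega)
    exact ⟨o, Finset.mem_compl.1 ho⟩
  have hoe : e o ≠ o := mem_support.1 (hsupp ▸ Finset.mem_compl.2 ho)
  have hlift : ∀ u v : α, u ∈ S → v ∈ S → ∃ h ∈ G, h o = o ∧ (∀ x ∈ S, h x = Equiv.swap u v x) ∧
      ∃ j : ℤ, h * e * h⁻¹ = e ^ j := by
    intro u v hu hv
    obtain ⟨h, hh, hhS⟩ := ext_map hT hn4 (insert o S)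
      (by rw [Finset.card_insert_of_notMem ho, hS]) (Equiv.swap u v)
    have hhS' : ∀ x ∈ S, h x = Equiv.swap u v x := fun x hx => hhS x (Finset.mem_insert_of_mem hx)
    refine ⟨h, hh, ?_, hhS', ?_⟩
    · rw [hhS o (Finset.mem_insert_self _ _), Equiv.swap_apply_of_ne_of_ne
        (fun e' => ho (by rw [e']; exact hu)) (fun e' => ho (by rw [e']; exact hv))]
    have hfixS : ∀ x ∈ S, (h * e * h⁻¹) x = x := by
      intro x hx
      have hy : Equiv.swap u v x ∈ S := by rw [Equiv.swap_apply_def]; split_ifs <;> assumption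
      have hhy : h (Equiv.swap u v x) = x := by rw [hhS' _ hy, Equiv.swap_apply_self]
      rw [Perm.mul_apply, Perm.mul_apply, show h⁻¹ x = Equiv.swap u v x from Perm.inv_eq_iff_eq.2 hhy.symm,
        heS _ hy, hhy]
    obtain ⟨j, hj⟩ := huniq (h * e * h⁻¹) (G.mul_mem (G.mul_mem hh (π : setStab G S).2.1) (G.inv_mem hh)) hfixS (by
      rw [← heo]; exact orderOf_injective (MulAut.conj h).toMonoidHom (MulAut.conj h).injective e)
    exact ⟨j, hj.symm⟩
  have haS : a ∈ S := by simp [hSdef]
  have hbS : b ∈ S := by simp [hSdef]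
  have hcS : c ∈ S := by simp [hSdef]
  obtain ⟨h₁, hh₁, h₁o, h₁S, j₁, hj₁⟩ := hlift a b haS hbS
  obtain ⟨h₂, hh₂, h₂o, h₂S, j₂, hj₂⟩ := hlift b c hbS hcS
  set u := (h₂ * h₁)⁻¹ * (h₁ * h₂) with hu
  have hue : u * e * u⁻¹ = e := by
    have h12 : (h₁ * h₂) * e * (h₁ * h₂)⁻¹ = (h₂ * h₁) * e * (h₂ * h₁)⁻¹ := by
      calc (h₁ * h₂) * e * (h₁ * h₂)⁻¹ = h₁ * (h₂ * e * h₂⁻¹) * h₁⁻¹ := by group
        _ = (h₁ * e * h₁⁻¹) ^ j₂ := by rw [hj₂, conj_zpow]
        _ = (h₂ * e * h₂⁻¹) ^ j₁ := by rw [hj₁, hj₂, ← zpow_mul, ← zpow_mul, mul_comm]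
        _ = h₂ * (h₁ * e * h₁⁻¹) * h₂⁻¹ := by rw [hj₁, conj_zpow]
        _ = (h₂ * h₁) * e * (h₂ * h₁)⁻¹ := by group
    calc u * e * u⁻¹ = (h₂ * h₁)⁻¹ * ((h₁ * h₂) * e * (h₁ * h₂)⁻¹) * (h₂ * h₁) := by rw [hu]; group
      _ = e := by rw [h12]; group
  have huo : u o = o := by
    rw [hu, Perm.mul_apply, Perm.mul_apply, h₂o, h₁o, Perm.inv_eq_iff_eq, Perm.mul_apply, h₁o, h₂o]
  have hufix : ∀ x ∈ Sᶜ, u x = x := by
    intro x hx
    obtain ⟨i, rfl⟩ := hcyc.exists_pow_eq hoe (mem_support.1 (hsupp ▸ hx))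
    rw [← Perm.mul_apply, ((show Commute u e from mul_inv_eq_iff_eq_mul.1 hue).pow_right i).eq, Perm.mul_apply, huo]
  obtain ⟨s, hs, hsc⟩ := Finset.exists_subset_card_eq (s := Sᶜ) (n := 5) (by
    rw [Finset.card_compl, hS]; omega)
  have hu1 := hinj u (G.mul_mem (G.inv_mem (G.mul_mem hh₂ hh₁)) (G.mul_mem hh₁ hh₂)) s hsc
    fun x hx => hufix x (hs hx)
  rw [hu, inv_mul_eq_one] at hu1
  have ha := DFunLike.congr_fun hu1 a
  rw [Perm.mul_apply, Perm.mul_apply, h₁S a haS, Equiv.swap_apply_left, h₂S b hbS, Equiv.swap_apply_left,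
    h₂S a haS, Equiv.swap_apply_of_ne_of_ne hab hac, h₁S a haS, Equiv.swap_apply_left] at ha
  exact hbc ha.symm

set_option maxHeartbeats 1000000 in
/-- A `k`-homogeneous group with `2 k ≤ n` is `(k - 1)`-transitive. -/
theorem first_form : ∀ (k : ℕ) (G : Subgroup (Perm α)), 2 ≤ k → 2 * k ≤ Fintype.card α → Hom G k →
    MulAction.IsMultiplyPretransitive G α (k - 1) := by
  intro k
  induction k using Nat.strong_induction_on with
  | _ k ih =>
  intro G hk hkn hh
  classical
  set n := Fintype.card α with hn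
  have hh1 : Hom G (k - 1) := hom_of_pretransitive (Cfsg.Agent.S0736.result G hk (pretransitive_of_hom hh)
    (fun q _ hqk => by have := Nat.le_of_dvd (by omega) hqk; omega))
  obtain ⟨S, -, hS⟩ := Finset.exists_subset_card_eq (s := (Finset.univ : Finset α)) (n := k - 1)
    (by rw [Finset.card_univ]; omega)
  obtain ⟨T, -, hT'⟩ := Finset.exists_subset_card_eq (s := (Finset.univ : Finset α)) (n := k)
    (by rw [Finset.card_univ]; omega)
  rcases (show k = 2 ∨ 3 ≤ k by omega) with rfl | hk3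
  · refine trans_of_induced hh1 hS ?_
    haveI : Subsingleton S := by
      rw [← Fintype.card_le_one_iff_subsingleton, Fintype.card_coe, hS]
    exact eq_top_iff.2 fun σ _ => by rw [Subsingleton.elim σ 1]; exact one_mem _
  have hIH := ih (k - 1) (by omega) G (by omega) (by omega) hh1
  rw [show k - 1 - 1 = k - 2 by omega] at hIH
  by_cases hl : ∃ g ∈ G, g ≠ 1 ∧ ∃ s : Finset α, s.card = k - 1 ∧ ∀ x ∈ s, g x = x
  · obtain ⟨g, hg, hg1, s, hs, hgs⟩ := hl
    have hconj : ∀ {m : ℕ}, Hom G m → ∀ s t : Finset α, s.card = m → t.card = m →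
        Nat.card (fixingSubgroup G (s : Set α)) ≤ Nat.card (fixingSubgroup G (t : Set α)) := by
      intro m hm s t hs ht
      obtain ⟨f, hf, hft⟩ := hm s t hs ht
      refine Nat.card_le_card_of_injective (fun h => (⟨⟨f, hf⟩ * (h : G) * ⟨f, hf⟩⁻¹, ?_⟩ :
        fixingSubgroup G (t : Set α))) fun a b e => Subtype.ext (by simpa using congrArg Subtype.val e)
      rw [mem_fixingSubgroup_iff]
      intro x hx
      rw [← hft, Finset.coe_map] at hx
      obtain ⟨y, hy, rfl⟩ := hx
      show f ((h : G).1 (f⁻¹ (f y))) = f y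
      rw [show f⁻¹ (f y) = y from f.symm_apply_apply y]
      exact congrArg f ((mem_fixingSubgroup_iff G).1 h.2 y hy)
    refine Cfsg.Agent.S0744.result G (by omega) (by omega) (Nat.card (fixingSubgroup G (s : Set α)))
      (Nat.card (fixingSubgroup G (T : Set α))) ?_ ?_ ?_
    · rw [Finite.one_lt_card_iff_nontrivial]
      refine ⟨⟨⟨⟨g, hg⟩, (mem_fixingSubgroup_iff G).2 fun x hx => hgs x hx⟩, 1, fun e => hg1 ?_⟩⟩
      exact congrArg (fun z : fixingSubgroup G (s : Set α) => ((z : G) : Perm α)) e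
    · exact fun t ht => le_antisymm (hconj hh1 t s ht hs) (hconj hh1 s t hs ht)
    · exact fun t ht => le_antisymm (hconj hh t T ht hT') (hconj hh T t hT' ht)
  push Not at hl
  have hinj : ∀ g ∈ G, ∀ s : Finset α, s.card = k - 1 → (∀ x ∈ s, g x = x) → g = 1 := by
    intro g hg s hs h
    by_contra h1
    obtain ⟨x, hx, hne⟩ := hl g hg h1 s hs
    exact hne (h x hx)
  refine trans_of_induced hh1 hS ?_
  by_contra htop
  by_cases h2 : ∃ i ∈ G, i ^ 2 = 1 ∧ i ≠ 1 ∧ k - 2 ≤ (fixSet i).card
  · obtain ⟨i, hi, hi2, hi1, hiF⟩ := h2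
    have hic : (fixSet i).card = k - 2 := by
      by_contra hne
      obtain ⟨s, hs, hsc⟩ := Finset.exists_subset_card_eq (s := fixSet i) (n := k - 1) (by omega)
      exact hi1 (hinj i hi s hsc fun x hx => mem_fixSet.1 (hs hx))
    refine htop (full_of_fix G (c := k - 2) (by omega) (by rwa [show k - 2 + 1 = k - 1 by omega]) ?_ S (by omega))
    intro R hR
    obtain ⟨f, hf, hfR⟩ := hom_of_trans hIH (by omega) le_rfl _ R hic hR
    exact ⟨f * i * f⁻¹, G.mul_mem (G.mul_mem hf hi) (G.inv_mem hf),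
      by rw [conj_pow, hi2, mul_one, mul_inv_cancel], by rw [conj_fixSet, hfR]⟩
  push Not at h2
  have hno : ∀ i ∈ G, i ^ 2 = 1 → ∀ s : Finset α, s.card = k - 2 → (∀ x ∈ s, i x = x) → i = 1 := by
    intro i hi hi2 s hs h
    by_contra hne
    have := h2 i hi hi2 hne
    have := Finset.card_le_card (fun x hx => mem_fixSet.2 (h x hx) : s ⊆ fixSet i)
    omega
  -- the orders
  obtain ⟨R, -, hR⟩ := Finset.exists_subset_card_eq (s := (Finset.univ : Finset α)) (n := k - 2)
    (by rw [Finset.card_univ]; omega)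
  set s := Nat.card (setStab G S) with hsdef
  set t := Nat.card (setStab G T) with htdef
  set r := Nat.card (restrict G R).ker with hrdef
  have hGs : Nat.card G = n.choose (k - 1) * s := hom_card hh1 hS
  have hGt : Nat.card G = n.choose k * t := hom_card hh hT'
  have hGr : Nat.card G = n.choose (k - 2) * ((k - 2).factorial * r) := card_trans hIH (by omega) hR
  have hsind : s = Nat.card (induced G S) := (card_induced fun g hg h => hinj g hg S hS h).symm
  have hsdvd : s ∣ (k - 1).factorial := by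
    rw [hsind]
    have := (induced G S).card_subgroup_dvd_card
    rwa [Nat.card_perm, Nat.card_eq_finsetCard, hS] at this
  have hsne : s ≠ (k - 1).factorial := fun e => htop (Subgroup.eq_top_of_card_eq _ (by
    rw [← hsind, e, Nat.card_perm, Nat.card_eq_finsetCard, hS]))
  have hst : s * k = t * (n - (k - 1)) := by
    have h := Nat.choose_succ_right_eq n (k - 1)
    rw [show k - 1 + 1 = k by omega] at h
    refine Nat.eq_of_mul_eq_mul_left (Nat.choose_pos (show k - 1 ≤ n by omega)) ?_
    calc n.choose (k - 1) * (s * k) = Nat.card G * k := by rw [hGs]; ring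
      _ = n.choose k * k * t := by rw [hGt]; ring
      _ = _ := by rw [h]; ring
  have hsr : s * (n - (k - 2)) = (k - 1).factorial * r := by
    have h := Nat.choose_succ_right_eq n (k - 2)
    rw [show k - 2 + 1 = k - 1 by omega] at h
    refine Nat.eq_of_mul_eq_mul_left (Nat.choose_pos (show k - 2 ≤ n by omega)) ?_
    have hf : (k - 1).factorial = (k - 1) * (k - 2).factorial := by
      conv_lhs => rw [show k - 1 = k - 2 + 1 by omega, Nat.factorial_succ, show k - 2 + 1 = k - 1 by omega]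
    calc n.choose (k - 2) * (s * (n - (k - 2))) = n.choose (k - 1) * (k - 1) * s := by rw [h]; ring
      _ = Nat.card G * (k - 1) := by rw [hGs]; ring
      _ = _ := by rw [hGr, hf]; ring
  have hrodd : Odd r := by
    rw [← Nat.not_even_iff_odd, even_iff_two_dvd]
    intro h
    obtain ⟨i, hi⟩ := exists_prime_orderOf_dvd_card' (G := (restrict G R).ker) 2 h
    rw [← Subgroup.orderOf_coe, ← Subgroup.orderOf_coe] at hi
    have h1 := hno _ (i : setStab G R).2.1 (hi ▸ pow_orderOf_eq_one _) R hR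
      (fun x hx => by
        have h2 : restrict G R (i : setStab G R) = 1 := i.2
        exact congrArg (fun z : R => (z : α)) (DFunLike.congr_fun h2 ⟨x, hx⟩))
    rw [h1, orderOf_one] at hi
    norm_num at hi
  have hspos : 0 < s := Nat.card_pos
  rcases (show k = 3 ∨ k = 4 ∨ k = 5 ∨ 6 ≤ k by omega) with rfl | rfl | rfl | hk6
  · -- k = 3
    norm_num at hsdvd hsne hst
    have hs1 : s = 1 := ((Nat.dvd_prime Nat.prime_two).1 hsdvd).resolve_right hsne
    rw [hs1] at hst
    have h4 : 4 ≤ n - 2 := by omega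
    rcases Nat.eq_zero_or_pos t with h | h
    · rw [h] at hst; omega
    · nlinarith
  · -- k = 4
    norm_num [Nat.factorial] at hsdvd hsne hst hsr
    have hkey : ∀ a ∈ Nat.divisors 6, ∀ m ∈ Finset.Icc 8 27, a ≠ 6 → (a * 4) % (m - 3) = 0 →
        (a * (m - 2)) % 12 = 6 → m = 11 ∧ a = 2 := by decide +kernel
    have hnle : n - 3 ≤ 24 := by
      have h1 : n - 3 ∣ s * 4 := ⟨t, by rw [hst]; ring⟩
      have := Nat.le_of_dvd (by omega) h1
      have := Nat.le_of_dvd (by norm_num) hsdvd
      omega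
    obtain ⟨hn11, hs2⟩ := hkey s (Nat.mem_divisors.2 ⟨hsdvd, by norm_num⟩) n (Finset.mem_Icc.2 ⟨by omega, by omega⟩)
      hsne (by rw [hst]; exact Nat.mul_mod_left _ _) (by obtain ⟨c, hc⟩ := hrodd; rw [hsr, hc]; omega)
    haveI : Fact (Nat.Prime 11) := ⟨by norm_num⟩
    haveI : MulAction.IsPretransitive G α := by
      constructor
      intro x y
      obtain ⟨g, hg, h⟩ := ext_map hIH (by omega) {x} (by simp) (Equiv.swap x y)
      refine ⟨⟨g, hg⟩, ?_⟩
      show g x = y
      rw [h x (Finset.mem_singleton_self x), Equiv.swap_apply_left]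
    refine prime_degree_false (p := 11) (hn ▸ hn11) G 30 ?_ (by decide +kernel) (by norm_num)
    rw [hGs, hs2, hn11]; decide +kernel
  · -- k = 5
    norm_num [Nat.factorial] at hsdvd hsne hst hsr
    have hkey : ∀ a ∈ Nat.divisors 24, ∀ m ∈ Finset.Icc 10 124, a ≠ 24 → (a * 5) % (m - 4) = 0 →
        (a * (m - 3)) % 48 = 24 → a = 8 ∧ (m = 12 ∨ m = 24) := by decide +kernel
    have hnle : n - 4 ≤ 120 := by
      have h1 : n - 4 ∣ s * 5 := ⟨t, by rw [hst]; ring⟩
      have := Nat.le_of_dvd (by omega) h1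
      have := Nat.le_of_dvd (by norm_num) hsdvd
      omega
    obtain ⟨hs8, hn'⟩ := hkey s (Nat.mem_divisors.2 ⟨hsdvd, by norm_num⟩) n (Finset.mem_Icc.2 ⟨by omega, by omega⟩)
      hsne (by rw [hst]; exact Nat.mul_mod_left _ _) (by obtain ⟨c, hc⟩ := hrodd; rw [hsr, hc]; omega)
    haveI := hIH
    have h2T : MulAction.IsMultiplyPretransitive G α 2 :=
      MulAction.isMultiplyPretransitive_of_le (n := 3) (by norm_num) (by simp; omega)
    rcases hn' with hn' | hn'
    · haveI : Fact (Nat.Prime 11) := ⟨by norm_num⟩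
      refine prime_degree_stab_false h2T (p := 11) (hn ▸ hn') 30 ?_ (by decide +kernel) (by norm_num)
      rw [hGs, hs8, hn']; decide +kernel
    · haveI : Fact (Nat.Prime 23) := ⟨by norm_num⟩
      refine prime_degree_stab_false h2T (p := 23) (hn ▸ hn') 154 ?_ (by decide +kernel) (by norm_num)
      rw [hGs, hs8, hn']; decide +kernel
  -- k ≥ 6
  obtain ⟨Q, -, hQ⟩ := Finset.exists_subset_card_eq (s := (Finset.univ : Finset α)) (n := k - 4)
    (by rw [Finset.card_univ]; omega)
  have hlift : ∀ Q : Finset α, Q.card = k - 4 → ∀ a b, a ∉ Q → b ∉ Q → a ≠ b →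
      ∃ t ∈ G, t ^ 2 = 1 ∧ t a = b ∧ t b = a ∧ Q ⊆ fixSet t ∧ (fixSet t).card < k - 2 :=
    fun Q hQ a b ha hb hab => swap_lift hIH (by omega) hno (by omega) ha hb hab
  have hpar : ∀ (Q : Finset α) (t : Perm α), Q.card = k - 4 → t ^ 2 = 1 → Q ⊆ fixSet t →
      (fixSet t).card < k - 2 → (Even (n - k) → fixSet t = Q) ∧ (¬ Even (n - k) → (fixSet t).card = k - 3) := by
    intro Q t hQ ht hQt hlt
    have hev : Even (n - (fixSet t).card) := even_moved ht
    have hle := Finset.card_le_card hQt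
    rw [Nat.even_iff] at hev
    refine ⟨fun h => (Finset.eq_of_subset_of_card_le hQt ?_).symm, fun h => ?_⟩
    · rw [Nat.even_iff] at h; omega
    · rw [Nat.even_iff] at h; omega
  by_cases hev : Even (n - k)
  · have hA : alternatingGroup S ≤ induced G S := by
      refine double_of_fix G (c := k - 4) (by omega) (by rwa [show k - 4 + 3 = k - 1 by omega]) ?_ S (by omega)
      intro Q hQ a b ha hb hab
      obtain ⟨t, ht, ht2, hta, -, hQt, hlt⟩ := hlift Q hQ a b ha hb hab
      exact ⟨t, ht, ht2, (hpar Q t hQ ht2 hQt hlt).1 hev, hta⟩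
    rcases (show k = 6 ∨ 7 ≤ k by omega) with rfl | hk7
    · norm_num [Nat.factorial] at hsdvd hsne hst hsr
      haveI : Nontrivial S := Fintype.one_lt_card_iff_nontrivial.1 (by rw [Fintype.card_coe, hS]; norm_num)
      have h60 : 60 ∣ s := by
        rw [hsind]
        refine dvd_trans ?_ (Subgroup.card_dvd_of_le hA)
        have := two_mul_nat_card_alternatingGroup (α := S)
        rw [Nat.card_perm, Nat.card_eq_finsetCard, hS, show Nat.factorial (6 - 1) = 120 from rfl] at this
        exact ⟨1, by omega⟩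
      have hs60 : s = 60 := by
        obtain ⟨c, hc⟩ := h60
        rw [hc] at hsdvd hsne
        have h2 : c ∣ 2 := Nat.dvd_of_mul_dvd_mul_left (by norm_num : 0 < 60) hsdvd
        rcases (Nat.dvd_prime Nat.prime_two).1 h2 with rfl | rfl
        · exact hc
        · exact absurd rfl hsne
      rw [hs60] at hst hsr
      have hkey : ∀ m ∈ Finset.Icc 12 365, 360 % (m - 5) = 0 → (60 * (m - 4)) % 240 = 120 →
          m = 14 ∨ m = 50 := by decide +kernel
      have hnle : n - 5 ≤ 360 := Nat.le_of_dvd (by norm_num) ⟨t, by rw [show 360 = 60 * 6 from rfl, hst]; ring⟩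
      have hn' := hkey n (Finset.mem_Icc.2 ⟨by omega, by omega⟩)
        (by rw [show 360 = 60 * 6 from rfl, hst]; exact Nat.mul_mod_left _ _)
        (by obtain ⟨c, hc⟩ := hrodd; rw [hsr, hc]; omega)
      obtain ⟨S₃, -, hS₃⟩ := Finset.exists_subset_card_eq (s := (Finset.univ : Finset α)) (n := 3)
        (by rw [Finset.card_univ]; omega)
      haveI := hIH
      have h3T : MulAction.IsMultiplyPretransitive G α 3 :=
        MulAction.isMultiplyPretransitive_of_le (n := 4) (by norm_num) (by simp; omega)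
      have hG3 := card_trans h3T (by omega) hS₃
      have hker : Nat.card (restrict G S₃).ker = (n - 3) * r := by
        rw [hGr] at hG3
        rcases hn' with e | e <;> rw [← hn, e] at hG3 <;> rw [e] <;>
          norm_num [Nat.choose_eq_factorial_div_factorial, Nat.factorial] at hG3 ⊢ <;> omega
      rcases hn' with e | e
      · haveI : Fact (Nat.Prime 11) := ⟨by norm_num⟩
        refine no_three_fixed hIH (p := 11) (r := r) (by omega) (by norm_num) (by omega) hS₃
          (by rw [hker, e]) hinj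
      · haveI : Fact (Nat.Prime 47) := ⟨by norm_num⟩
        refine no_three_fixed hIH (p := 47) (r := r) (by omega) (by norm_num) (by omega) hS₃
          (by rw [hker, e]) hinj
    · -- an odd permutation
      obtain ⟨a, ha⟩ : ∃ a, a ∈ Qᶜ := Finset.card_pos.1 (by rw [Finset.card_compl, hQ]; omega)
      obtain ⟨b, hb⟩ : ∃ b, b ∈ Qᶜ.erase a := Finset.card_pos.1 (by
        rw [Finset.card_erase_of_mem ha, Finset.card_compl, hQ]; omega)
      simp only [Finset.mem_erase, Finset.mem_compl] at ha hb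
      obtain ⟨g, hg, hg2, hga, hgb, hQg, hlt⟩ := hlift Q hQ a b ha hb.2 (Ne.symm hb.1)
      have hgF := (hpar Q g hQ hg2 hQg hlt).1 hev
      have hpair : ∀ U : Finset α, U.card + 2 ≤ g.support.card →
          ∃ x, x ∈ g.support ∧ x ∉ U ∧ g x ∈ g.support ∧ g x ≠ x := by
        intro U hU
        obtain ⟨x, hx⟩ : ∃ x, x ∈ g.support \ U := Finset.card_pos.1 (by
          have := Finset.le_card_sdiff U g.support; omega)
        rw [Finset.mem_sdiff] at hx
        exact ⟨x, hx.1, hx.2, apply_mem_support.2 hx.1, mem_support.1 hx.1⟩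
      have hsupp : g.support = Qᶜ := by
        ext x
        rw [mem_support, Finset.mem_compl, ← hgF, mem_fixSet]
      have hsc : 6 ≤ g.support.card := by rw [hsupp, Finset.card_compl, hQ]; omega
      obtain ⟨x₁, h1, -, h1', h1m⟩ := hpair ∅ (by simp; omega)
      obtain ⟨x₂, h2', h2U, h2'', h2m⟩ := hpair {x₁, g x₁} (by
        rw [Finset.card_pair (Ne.symm h1m)]; omega)
      obtain ⟨x₃, h3, h3U, h3', h3m⟩ := hpair {x₁, g x₁, x₂, g x₂} (by
        have : ({x₁, g x₁, x₂, g x₂} : Finset α).card ≤ 4 := Finset.card_le_four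
        omega)
      simp only [Finset.mem_insert, Finset.mem_singleton, not_or] at h2U h3U
      have hgg : ∀ x, g (g x) = x := invol_apply hg2
      have e1 : g x₂ ≠ x₁ := fun e => h2U.2 (by rw [← e, hgg])
      have e2 : g x₂ ≠ g x₁ := fun e => h2U.1 (g.injective e)
      have e3 : g x₃ ≠ x₁ := fun e => h3U.2.1 (by rw [← e, hgg])
      have e4 : g x₃ ≠ g x₁ := fun e => h3U.1 (g.injective e)
      have e5 : g x₃ ≠ x₂ := fun e => h3U.2.2.2 (by rw [← e, hgg])
      have e6 : g x₃ ≠ g x₂ := fun e => h3U.2.2.1 (g.injective e)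
      set M : Finset α := {x₁, g x₁, x₂, g x₂, x₃, g x₃} with hMdef
      have hM : M.card = 6 := by
        rw [hMdef, Finset.card_insert_of_notMem (by simp [h1m.symm, Ne.symm h2U.1, Ne.symm e1, Ne.symm h3U.1, Ne.symm e3]),
          Finset.card_insert_of_notMem (by simp [Ne.symm h2U.2, Ne.symm e2, Ne.symm h3U.2.1, Ne.symm e4]),
          Finset.card_insert_of_notMem (by simp [h2m.symm, Ne.symm h3U.2.2.1, Ne.symm e5]),
          Finset.card_insert_of_notMem (by simp [Ne.symm h3U.2.2.2, Ne.symm e6]),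
          Finset.card_pair h3m.symm]
      obtain ⟨A₀, hA₀, hA₀c⟩ := Finset.exists_subset_card_eq (s := Q) (n := k - 7) (by omega)
      have hdisj : _root_.Disjoint A₀ M := by
        rw [Finset.disjoint_left]
        intro x hx hxM
        have hfix : g x = x := mem_fixSet.1 (hgF ▸ hA₀ hx)
        simp only [hMdef, Finset.mem_insert, Finset.mem_singleton] at hxM
        rcases hxM with rfl | rfl | rfl | rfl | rfl | rfl
        exacts [h1m hfix, mem_support.1 h1' hfix, h2m hfix, mem_support.1 h2'' hfix, h3m hfix,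
          mem_support.1 h3' hfix]
      set S' := A₀ ∪ M with hS'
      have hS'c : S'.card = k - 1 := by rw [hS', Finset.card_union_of_disjoint hdisj, hA₀c, hM]; omega
      have hMg : ∀ x ∈ M, g x ∈ M := by
        intro x hx
        simp only [hMdef, Finset.mem_insert, Finset.mem_singleton] at hx ⊢
        rcases hx with rfl | rfl | rfl | rfl | rfl | rfl <;> simp [hgg]
      have hmaps : ∀ x ∈ S', g x ∈ S' := by
        intro x hx
        rw [hS', Finset.mem_union] at hx ⊢
        rcases hx with h | h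
        · left; rw [mem_fixSet.1 (hgF ▸ hA₀ h)]; exact h
        · right; exact hMg x h
      set σ := restrict G S' ⟨g, mem_setStab_of_maps hg hmaps⟩ with hσdef
      have hσapp : ∀ x : S', ((σ x : S') : α) = g x := fun _ => rfl
      have hσ2 : σ ^ 2 = 1 := by
        rw [hσdef, ← map_pow, ← map_one (restrict G S')]
        exact congrArg _ (Subtype.ext hg2)
      have hσs : σ.support.card = 2 * 3 := by
        rw [← Finset.card_map (Function.Embedding.subtype _), show 2 * 3 = 6 from rfl, ← hM]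
        congr 1
        ext x
        rw [Finset.mem_map]
        constructor
        · rintro ⟨y, hy, rfl⟩
          rcases Finset.mem_union.1 y.2 with h | h
          · exact absurd (Subtype.ext ((hσapp y).trans (mem_fixSet.1 (hgF ▸ hA₀ h)))) (mem_support.1 hy)
          · exact h
        · intro hx
          refine ⟨⟨x, Finset.mem_union_right _ hx⟩, mem_support.2 fun e => ?_, rfl⟩
          have hmem : x ∈ A₀ ∪ M := Finset.mem_union_right _ hx
          have e' : g x = x := congrArg Subtype.val e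
          simp only [hMdef, Finset.mem_insert, Finset.mem_singleton] at hx
          rcases hx with rfl | rfl | rfl | rfl | rfl | rfl
          exacts [h1m e', mem_support.1 h1' e', h2m e', mem_support.1 h2'' e', h3m e', mem_support.1 h3' e']
      have hA' : alternatingGroup S' ≤ induced G S' := by
        refine double_of_fix G (c := k - 4) (by omega) (by rwa [show k - 4 + 3 = k - 1 by omega]) ?_ S' (by omega)
        intro Q hQ a b ha hb hab
        obtain ⟨t, ht, ht2, hta, -, hQt, hlt⟩ := hlift Q hQ a b ha hb hab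
        exact ⟨t, ht, ht2, (hpar Q t hQ ht2 hQt hlt).1 hev, hta⟩
      have hfull : induced G S' = ⊤ :=
        eq_top_of_alternating_of_odd _ hA' ⟨_, rfl⟩ (sign_of_moved hσ2 (by decide) hσs)
      exact htop (induced_top_of_trans (trans_of_induced hh1 hS'c hfull) (by omega) hS.le)
  · -- commuting involutions
    obtain ⟨a, ha⟩ : ∃ a, a ∈ Qᶜ := Finset.card_pos.1 (by rw [Finset.card_compl, hQ]; omega)
    obtain ⟨b, hb⟩ : ∃ b, b ∈ Qᶜ.erase a := Finset.card_pos.1 (by
      rw [Finset.card_erase_of_mem ha, Finset.card_compl, hQ]; omega)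
    simp only [Finset.mem_erase, Finset.mem_compl] at ha hb
    obtain ⟨τ, hτ, hτ2, hτa, -, hQτ, hlt⟩ := hlift Q hQ a b ha hb.2 (Ne.symm hb.1)
    have hτ1 : τ ≠ 1 := fun e => hb.1 (by rw [← hτa, e, Perm.one_apply])
    obtain ⟨Δ, hΔ, hfull⟩ := full_of_commuting G (k := k - 2) (by omega) (by omega) hIH hno hτ hτ2 hτ1
      (by rw [(hpar Q τ hQ hτ2 hQτ hlt).2 hev]; omega)
    exact htop (induced_top_of_trans (trans_of_induced hh1 (S := Δ) (by omega) hfull) (by omega) hS.le)

end Cfsg.Agent.Block.Homog
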