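import Cfsg.Agent.Lib.Block.HomogeneousFirst
import Cfsg.Agent.Lib.Grp.CoprimeAbelian

/-!
# Homogeneous groups are highly transitive, second form
-/

set_option autoImplicit false

namespace Cfsg.Agent.Block.Homog

open Equiv Equiv.Perm

variable {α : Type*} [Fintype α] [DecidableEq α]

theorem alternating_induced_conj {G : Subgroup (Perm α)} {Δ : Finset α}
    (hA : alternatingGroup Δ ≤ induced G Δ) {f : Perm α} (hf : f ∈ G) {T : Finset α}
    (hT : Δ.map f.toEmbedding = T) : alternatingGroup T ≤ induced G T := by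
  subst hT
  intro σ hσ
  let e : Δ ≃ (Δ.map f.toEmbedding : Finset α) := Equiv.ofBijective
    (fun d => ⟨f d, Finset.mem_map_of_mem _ d.2⟩)
    ((Fintype.bijective_iff_injective_and_card _).2 ⟨fun a b h => Subtype.ext (f.injective
      (congrArg (fun z : (Δ.map f.toEmbedding : Finset α) => (z : α)) h)),
      by rw [Fintype.card_coe, Fintype.card_coe, Finset.card_map]⟩)
  have hσ' : e.symm.permCongr σ ∈ induced G Δ := hA (by
    rw [mem_alternatingGroup, Equiv.Perm.sign_permCongr]; exact mem_alternatingGroup.1 hσ)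
  obtain ⟨g, hg, hgd⟩ := mem_induced.1 hσ'
  refine mem_induced.2 ⟨f * g * f⁻¹, G.mul_mem (G.mul_mem hf hg) (G.inv_mem hf), fun y => ?_⟩
  obtain ⟨d, rfl⟩ := e.surjective y
  show f (g (f⁻¹ (f (d : α)))) = _
  rw [show f⁻¹ (f (d : α)) = d from f.symm_apply_apply _, hgd, Equiv.permCongr_apply, Equiv.symm_symm]
  show ((e (e.symm (σ (e d))) : (Δ.map f.toEmbedding : Finset α)) : α) = _
  rw [Equiv.apply_symm_apply]

/-- Three pairs and some fixed points give an odd permutation. -/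
theorem exists_odd_subset {G : Subgroup (Perm α)} {g : Perm α} (hg : g ∈ G) (hg2 : g ^ 2 = 1) {j : ℕ}
    (hj : j ≤ (fixSet g).card) (hsc : 6 ≤ g.support.card) :
    ∃ T : Finset α, T.card = j + 6 ∧ ∃ σ ∈ induced G T, sign σ = -1 := by
  have hgg : ∀ x, g (g x) = x := invol_apply hg2
  have hpair : ∀ U : Finset α, U.card < g.support.card → ∃ x, x ∉ U ∧ g x ≠ x := by
    intro U hU
    obtain ⟨x, hx⟩ : ∃ x, x ∈ g.support \ U := Finset.card_pos.1 (by
      have := Finset.le_card_sdiff U g.support; omega)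
    rw [Finset.mem_sdiff] at hx
    exact ⟨x, hx.2, mem_support.1 hx.1⟩
  obtain ⟨x₁, -, h1m⟩ := hpair ∅ (by rw [Finset.card_empty]; omega)
  obtain ⟨x₂, h2U, h2m⟩ := hpair {x₁, g x₁} (by rw [Finset.card_pair (Ne.symm h1m)]; omega)
  obtain ⟨x₃, h3U, h3m⟩ := hpair {x₁, g x₁, x₂, g x₂} (by
    have : ({x₁, g x₁, x₂, g x₂} : Finset α).card ≤ 4 := Finset.card_le_four
    omega)
  simp only [Finset.mem_insert, Finset.mem_singleton, not_or] at h2U h3U
  have e1 : g x₂ ≠ x₁ := fun e => h2U.2 (by rw [← e, hgg])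
  have e2 : g x₂ ≠ g x₁ := fun e => h2U.1 (g.injective e)
  have e3 : g x₃ ≠ x₁ := fun e => h3U.2.1 (by rw [← e, hgg])
  have e4 : g x₃ ≠ g x₁ := fun e => h3U.1 (g.injective e)
  have e5 : g x₃ ≠ x₂ := fun e => h3U.2.2.2 (by rw [← e, hgg])
  have e6 : g x₃ ≠ g x₂ := fun e => h3U.2.2.1 (g.injective e)
  set M : Finset α := {x₁, g x₁, x₂, g x₂, x₃, g x₃} with hMdef
  have hM : M.card = 6 := by
    rw [hMdef, Finset.card_insert_of_notMem (by simp [h1m.symm, Ne.symm h2U.1, Ne.symm e1, Ne.symm h3U.1, Ne.symm e3]),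
      Finset.card_insert_of_notMem (by simp [Ne.symm h2U.2, Ne.symm e2, Ne.symm h3U.2.1, Ne.symm e4]),
      Finset.card_insert_of_notMem (by simp [h2m.symm, Ne.symm h3U.2.2.1, Ne.symm e5]),
      Finset.card_insert_of_notMem (by simp [Ne.symm h3U.2.2.2, Ne.symm e6]),
      Finset.card_pair h3m.symm]
  have hMmov : ∀ x ∈ M, g x ≠ x ∧ g x ∈ M := by
    intro x hx
    simp only [hMdef, Finset.mem_insert, Finset.mem_singleton] at hx
    rcases hx with rfl | rfl | rfl | rfl | rfl | rfl <;>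
      refine ⟨fun e => ?_, by simp [hMdef, hgg]⟩
    exacts [h1m e, h1m ((hgg x₁).symm.trans e).symm, h2m e, h2m ((hgg x₂).symm.trans e).symm, h3m e,
      h3m ((hgg x₃).symm.trans e).symm]
  obtain ⟨A₀, hA₀, hA₀c⟩ := Finset.exists_subset_card_eq (s := fixSet g) (n := j) hj
  have hdisj : _root_.Disjoint A₀ M := by
    rw [Finset.disjoint_left]
    exact fun x hx hxM => (hMmov x hxM).1 (mem_fixSet.1 (hA₀ hx))
  set T := A₀ ∪ M with hTdef
  have hTc : T.card = j + 6 := by rw [hTdef, Finset.card_union_of_disjoint hdisj, hA₀c, hM]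
  have hmaps : ∀ x ∈ T, g x ∈ T := by
    intro x hx
    rw [hTdef, Finset.mem_union] at hx ⊢
    rcases hx with h | h
    · left; rw [mem_fixSet.1 (hA₀ h)]; exact h
    · right; exact (hMmov x h).2
  set σ := restrict G T ⟨g, mem_setStab_of_maps hg hmaps⟩ with hσdef
  have hσapp : ∀ x : T, ((σ x : T) : α) = g x := fun _ => rfl
  have hσ2 : σ ^ 2 = 1 := by
    rw [hσdef, ← map_pow, ← map_one (restrict G T)]
    exact congrArg _ (Subtype.ext hg2)
  have hσs : σ.support.card = 2 * 3 := by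
    rw [← Finset.card_map (Function.Embedding.subtype _), show 2 * 3 = 6 from rfl, ← hM]
    congr 1
    ext x
    rw [Finset.mem_map]
    constructor
    · rintro ⟨y, hy, rfl⟩
      rcases Finset.mem_union.1 y.2 with h | h
      · exact absurd (Subtype.ext ((hσapp y).trans (mem_fixSet.1 (hA₀ h)))) (mem_support.1 hy)
      · exact h
    · intro hx
      exact ⟨⟨x, Finset.mem_union_right _ hx⟩, mem_support.2 fun e =>
        (hMmov x hx).1 (congrArg (fun z : T => (z : α)) e), rfl⟩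
  exact ⟨T, hTc, σ, ⟨_, rfl⟩, sign_of_moved hσ2 (by decide) hσs⟩

set_option maxHeartbeats 1000000 in
/-- A `k`-homogeneous group with `10 ≤ 2 k ≤ n` is `k`-transitive. -/
theorem second_form (G : Subgroup (Perm α)) {k : ℕ} (hk : 5 ≤ k) (hkn : 2 * k ≤ Fintype.card α)
    (hh : Hom G k) : MulAction.IsMultiplyPretransitive G α k := by
  classical
  have hT := first_form k G (by omega) hkn hh
  obtain ⟨Δ, hΔ, hAΔ⟩ := exists_alternating (Fintype.card α) α rfl G (k - 1) (by omega) (by omega) hT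
  by_contra hnot
  have hnoodd : ∀ T : Finset α, T.card = k → ∀ σ ∈ induced G T, sign σ ≠ -1 := by
    intro T hTc σ hσ hs
    obtain ⟨f, hf, hfT⟩ := hh Δ T (by omega) hTc
    exact hnot (trans_of_induced hh hTc
      (eq_top_of_alternating_of_odd _ (alternating_induced_conj hAΔ hf hfT) hσ hs))
  have hno : ∀ i ∈ G, i ^ 2 = 1 → ∀ s : Finset α, k - 2 ≤ s.card → (∀ x ∈ s, i x = x) → i = 1 := by
    intro i hi hi2 s hs h
    by_contra hne
    obtain ⟨x, hx⟩ : ∃ x, i x ≠ x := by
      by_contra hall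
      push Not at hall
      exact hne (Equiv.ext hall)
    obtain ⟨s', hs', hs'c⟩ := Finset.exists_subset_card_eq hs
    set T := insert x (insert (i x) s') with hTdef
    have hixs : i x ∉ s' := fun e => hx (by
      have := h _ (hs' e)
      rw [invol_apply hi2] at this
      exact this.symm)
    have hxs : x ∉ insert (i x) s' := by
      simp only [Finset.mem_insert, not_or]
      exact ⟨Ne.symm hx, fun e => hx (h x (hs' e))⟩
    have hTc : T.card = k := by
      rw [hTdef, Finset.card_insert_of_notMem hxs, Finset.card_insert_of_notMem hixs, hs'c]; omega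
    refine hnoodd T hTc _ (swap_mem_induced hi (⟨x, by simp [hTdef]⟩ : T) ⟨i x, by simp [hTdef]⟩ rfl
      (invol_apply hi2 x) fun y hy hy1 hy2 => h y (hs' ?_)) (sign_swap fun e => ?_)
    · simp only [hTdef, Finset.mem_insert] at hy
      rcases hy with h' | h' | h'
      exacts [absurd h' hy1, absurd h' hy2, h']
    · exact hx (congrArg (fun z : T => (z : α)) e).symm
  have hlift : ∀ Q : Finset α, Q.card = k - 3 → ∀ a b, a ∉ Q → b ∉ Q → a ≠ b →
      ∃ t ∈ G, t ^ 2 = 1 ∧ t a = b ∧ fixSet t = Q := by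
    intro Q hQ a b ha hb hab
    obtain ⟨t, ht, ht2, hta, -, hQt, -⟩ := swap_lift hT (by omega)
      (fun i hi hi2 s hs h => hno i hi hi2 s (by omega) h) (by omega) ha hb hab
    refine ⟨t, ht, ht2, hta, (Finset.eq_of_subset_of_card_le hQt ?_).symm⟩
    by_contra hcon
    have := hno t ht ht2 (fixSet t) (by omega) fun x hx => mem_fixSet.1 hx
    rw [this, Perm.one_apply] at hta
    exact hab hta
  obtain ⟨Q, -, hQ⟩ := Finset.exists_subset_card_eq (s := (Finset.univ : Finset α)) (n := k - 3)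
    (by rw [Finset.card_univ]; omega)
  obtain ⟨a, ha⟩ : ∃ a, a ∈ Qᶜ := Finset.card_pos.1 (by rw [Finset.card_compl, hQ]; omega)
  obtain ⟨b, hb⟩ : ∃ b, b ∈ Qᶜ.erase a := Finset.card_pos.1 (by
    rw [Finset.card_erase_of_mem ha, Finset.card_compl, hQ]; omega)
  simp only [Finset.mem_erase, Finset.mem_compl] at ha hb
  obtain ⟨g, hg, hg2, -, hgF⟩ := hlift Q hQ a b ha hb.2 (Ne.symm hb.1)
  have hgs : g.support = Qᶜ := by
    ext x
    rw [mem_support, Finset.mem_compl, ← hgF, mem_fixSet]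
  rcases (show k = 5 ∨ 6 ≤ k by omega) with rfl | hk6
  swap
  · obtain ⟨T, hTc, σ, hσ, hs⟩ := exists_odd_subset hg hg2 (j := k - 6) (by rw [hgF, hQ]; omega)
      (by rw [hgs, Finset.card_compl, hQ]; omega)
    exact hnoodd T (by omega) σ hσ hs
  -- degree even, five points
  have hneven : Even (Fintype.card α) := by
    have h := even_moved hg2
    rw [show (Finset.univ.filter fun x => g x = x) = fixSet g from rfl, hgF, hQ] at h
    rw [Nat.even_iff] at h ⊢
    omega
  obtain ⟨S, -, hS⟩ := Finset.exists_subset_card_eq (s := (Finset.univ : Finset α)) (n := 4)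
    (by rw [Finset.card_univ]; omega)
  obtain ⟨p₁, p₂, p₃, p₄, h12, h13, h14, h23, h24, h34, hS4⟩ := Finset.card_eq_four.1 hS
  have hmemS : ∀ x, x ∈ S ↔ x = p₁ ∨ x = p₂ ∨ x = p₃ ∨ x = p₄ := fun x => by simp [hS4]
  let L : Subgroup (Perm α) :=
    { carrier := {g | g ∈ G ∧ ∀ x ∈ S, g x = x}
      one_mem' := ⟨G.one_mem, fun _ _ => rfl⟩
      mul_mem' := fun {a b} ha hb => ⟨G.mul_mem ha.1 hb.1, fun x hx => by
        rw [Perm.mul_apply, hb.2 x hx, ha.2 x hx]⟩
      inv_mem' := fun {a} ha => ⟨G.inv_mem ha.1, fun x hx => by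
        conv_lhs => rw [← ha.2 x hx]
        exact a.symm_apply_apply x⟩ }
  have hLodd : Odd (Nat.card L) := by
    rw [← Nat.not_even_iff_odd, even_iff_two_dvd]
    intro h
    obtain ⟨i, hi⟩ := exists_prime_orderOf_dvd_card' (G := L) 2 h
    rw [← Subgroup.orderOf_coe] at hi
    have h1 := hno _ i.2.1 (hi ▸ pow_orderOf_eq_one _) S (by omega) i.2.2
    rw [h1, orderOf_one] at hi
    norm_num at hi
  have hfix2 : ∀ i ∈ G, i ^ 2 = 1 → i ≠ 1 → ∀ w, i w = w → (fixSet i).card = 2 := by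
    intro i hi hi2 hi1 w hw
    have hlt : (fixSet i).card < 3 := by
      by_contra hcon
      exact hi1 (hno i hi hi2 (fixSet i) (by omega) fun x hx => mem_fixSet.1 hx)
    have hpos : 0 < (fixSet i).card := Finset.card_pos.2 ⟨w, mem_fixSet.2 hw⟩
    have h := even_moved hi2
    rw [show (Finset.univ.filter fun x => i x = x) = fixSet i from rfl] at h
    rw [Nat.even_iff] at h hneven
    omega
  -- involutions inducing double transpositions on `S` and fixing a given point
  have hdouble : ∀ w ∉ S, ∀ q₁ q₂ q₃ q₄ : α, q₁ ∈ S → q₂ ∈ S → q₃ ∈ S → q₄ ∈ S → q₁ ≠ q₂ → q₃ ≠ q₄ →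
      (∀ z ∈ S, (Equiv.swap q₁ q₂ * Equiv.swap q₃ q₄) ((Equiv.swap q₁ q₂ * Equiv.swap q₃ q₄) z) = z) →
      ∃ x ∈ G, x ^ 2 = 1 ∧ x w = w ∧ ∀ z ∈ S, x z = (Equiv.swap q₁ q₂ * Equiv.swap q₃ q₄) z := by
    intro w hw q₁ q₂ q₃ q₄ h1 h2 h3 h4 h12 h34 hττ
    set T := insert w S with hTdef
    have hTc : T.card = 5 := by rw [hTdef, Finset.card_insert_of_notMem hw, hS]
    obtain ⟨f, hf, hfT⟩ := hh Δ T (by omega) hTc
    have hm : ∀ {z}, z ∈ S → z ∈ T := fun hz => Finset.mem_insert_of_mem hz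
    let σ : Perm T := Equiv.swap ⟨q₁, hm h1⟩ ⟨q₂, hm h2⟩ * Equiv.swap ⟨q₃, hm h3⟩ ⟨q₄, hm h4⟩
    have hσ : σ ∈ alternatingGroup T := by
      rw [mem_alternatingGroup, map_mul, sign_swap (fun e => h12 (congrArg (fun z : T => (z : α)) e)),
        sign_swap (fun e => h34 (congrArg (fun z : T => (z : α)) e))]
      rfl
    obtain ⟨x₀, hx₀, hx₀T⟩ := mem_induced.1 (alternating_induced_conj hAΔ hf hfT hσ)
    have hval : ∀ (c d : α) (hc : c ∈ T) (hd : d ∈ T) (z : T),
        ((Equiv.swap (⟨c, hc⟩ : T) ⟨d, hd⟩ z : T) : α) = Equiv.swap c d (z : α) := fun c d hc hd z => by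
      exact (Function.Injective.swap_apply Subtype.val_injective (⟨c, hc⟩ : T) ⟨d, hd⟩ z).symm
    set τ := Equiv.swap q₁ q₂ * Equiv.swap q₃ q₄ with hτ
    have hx₀τ : ∀ z ∈ T, x₀ z = τ z := fun z hz => by
      rw [hx₀T ⟨z, hz⟩, Perm.mul_apply, hval, hval, hτ, Perm.mul_apply]
    have hτw : τ w = w := by
      have hne : ∀ q ∈ S, w ≠ q := fun q hq e => hw (e ▸ hq)
      rw [hτ, Perm.mul_apply, Equiv.swap_apply_of_ne_of_ne (hne _ h3) (hne _ h4),
        Equiv.swap_apply_of_ne_of_ne (hne _ h1) (hne _ h2)]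
    have hτS : ∀ z ∈ S, τ z ∈ S := fun z hz => by
      rw [hτ, Perm.mul_apply, Equiv.swap_apply_def, Equiv.swap_apply_def]; split_ifs <;> assumption
    have hxx : ∀ z ∈ T, x₀ (x₀ z) = z := by
      intro z hz
      rcases Finset.mem_insert.1 hz with rfl | hzS
      · rw [hx₀τ z hz, hτw, hx₀τ z hz, hτw]
      · rw [hx₀τ z hz, hx₀τ _ (hm (hτS z hzS))]
        exact hττ z hzS
    obtain ⟨o, -, h2o, heo⟩ := pow_odd hx₀ (fun i hi hi2 h => hno i hi hi2 T (by omega) h) hxx
    refine ⟨x₀ ^ o, G.pow_mem hx₀ o, h2o, ?_, fun z hz => ?_⟩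
    · rw [heo w (hxx w (Finset.mem_insert_self w S)), hx₀τ w (Finset.mem_insert_self w S), hτw]
    · rw [heo z (hxx z (hm hz)), hx₀τ z (hm hz)]
  have hτall : ∀ (c₁ c₂ c₃ c₄ : α), c₁ ≠ c₃ → c₁ ≠ c₄ → c₂ ≠ c₃ → c₂ ≠ c₄ → ∀ z,
      (Equiv.swap c₁ c₂ * Equiv.swap c₃ c₄) ((Equiv.swap c₁ c₂ * Equiv.swap c₃ c₄) z) = z := by
    intro c₁ c₂ c₃ c₄ n13 n14 n23 n24 z
    have hc : Equiv.swap c₁ c₂ * Equiv.swap c₃ c₄ = Equiv.swap c₃ c₄ * Equiv.swap c₁ c₂ := by
      rw [Equiv.mul_swap_eq_swap_mul, Equiv.swap_apply_of_ne_of_ne (Ne.symm n13) (Ne.symm n23),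
        Equiv.swap_apply_of_ne_of_ne (Ne.symm n14) (Ne.symm n24)]
    have h1 : (Equiv.swap c₁ c₂ * Equiv.swap c₃ c₄) * (Equiv.swap c₁ c₂ * Equiv.swap c₃ c₄) = 1 := by
      calc (Equiv.swap c₁ c₂ * Equiv.swap c₃ c₄) * (Equiv.swap c₁ c₂ * Equiv.swap c₃ c₄)
          = Equiv.swap c₁ c₂ * (Equiv.swap c₃ c₄ * Equiv.swap c₁ c₂) * Equiv.swap c₃ c₄ := by group
        _ = Equiv.swap c₁ c₂ * Equiv.swap c₁ c₂ * (Equiv.swap c₃ c₄ * Equiv.swap c₃ c₄) := by rw [← hc]; group
        _ = 1 := by rw [Equiv.swap_mul_self, Equiv.swap_mul_self, one_mul]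
    rw [← Perm.mul_apply, h1, Perm.one_apply]
  have hexpl : ∀ w ∉ S, ∃ x ∈ G, x ^ 2 = 1 ∧ x w = w ∧
      ∀ z ∈ S, x z = (Equiv.swap p₁ p₂ * Equiv.swap p₃ p₄) z :=
    fun w hw => hdouble w hw p₁ p₂ p₃ p₄ (by simp [hmemS]) (by simp [hmemS]) (by simp [hmemS]) (by simp [hmemS])
      h12 h34 fun z _ => hτall p₁ p₂ p₃ p₄ h13 h14 h23 h24 z
  have hLfix : ∀ w ∉ S, ∀ l ∈ L, l w = w := by
    intro w hw
    obtain ⟨x, hx, hx2, hxw, hxS⟩ := hexpl w hw
    obtain ⟨y, hy, hy2, hyw, hyS⟩ := hdouble w hw p₁ p₃ p₂ p₄ (by simp [hmemS]) (by simp [hmemS])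
      (by simp [hmemS]) (by simp [hmemS]) h13 h24 fun z _ => hτall p₁ p₃ p₂ p₄ h12 h14 (Ne.symm h23) h34 z
    set τx := Equiv.swap p₁ p₂ * Equiv.swap p₃ p₄ with hτx
    set τy := Equiv.swap p₁ p₃ * Equiv.swap p₂ p₄ with hτy
    have hτxS : ∀ z ∈ S, τx z ∈ S := fun z hz => by
      rw [hτx, Perm.mul_apply, Equiv.swap_apply_def, Equiv.swap_apply_def]
      split_ifs <;> first | exact hz | simp [hmemS]
    have hτyS : ∀ z ∈ S, τy z ∈ S := fun z hz => by
      rw [hτy, Perm.mul_apply, Equiv.swap_apply_def, Equiv.swap_apply_def]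
      split_ifs <;> first | exact hz | simp [hmemS]
    have hcomm : ∀ z ∈ S, τx (τy (τx (τy z))) = z := fun z hz => by
      rcases (hmemS z).1 hz with rfl | rfl | rfl | rfl <;>
        simp [hτx, hτy, Equiv.swap_apply_def, h12, h13, h14, h23, h24, h34, h12.symm, h13.symm, h14.symm,
          h23.symm, h24.symm, h34.symm]
    set m := x * y with hm
    have hmS : ∀ z ∈ S, m z = τx (τy z) := fun z hz => by
      rw [hm, Perm.mul_apply, hyS z hz, hxS _ (hτyS z hz)]
    have hmm : ∀ z ∈ insert w S, m (m z) = z := by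
      intro z hz
      rcases Finset.mem_insert.1 hz with rfl | hzS
      · rw [hm, Perm.mul_apply, Perm.mul_apply, hyw, hxw, hyw, hxw]
      · rw [hmS z hzS, hmS _ (hτxS _ (hτyS z hzS)), hcomm z hzS]
    have hmG : m ∈ G := G.mul_mem hx hy
    obtain ⟨o, -, hu2, hue⟩ := pow_odd hmG (fun i hi hi2 h => hno i hi hi2 (insert w S)
      (by rw [Finset.card_insert_of_notMem hw, hS]; norm_num) h) hmm
    set u := m ^ o with hu
    have huw : u w = w := by
      rw [hue w (hmm w (Finset.mem_insert_self w S)), hm, Perm.mul_apply, hyw, hxw]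
    have huS : ∀ z ∈ S, u z = τx (τy z) := fun z hz => by
      rw [hue z (hmm z (Finset.mem_insert_of_mem hz)), hmS z hz]
    have huG : u ∈ G := G.pow_mem hmG o
    have hxinv : x⁻¹ = x := inv_eq_of_mul_eq_one_right (by rw [← sq]; exact hx2)
    have hyinv : y⁻¹ = y := inv_eq_of_mul_eq_one_right (by rw [← sq]; exact hy2)
    have hxu : x * u = u * x := by
      have h1 : x * m * x⁻¹ = m⁻¹ := by
        rw [hm, mul_inv_rev, hxinv, hyinv, ← mul_assoc x x, ← sq, hx2, one_mul]
      have h2 : x * u * x⁻¹ = u := by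
        rw [hu, ← conj_pow, h1, inv_pow]
        exact inv_eq_of_mul_eq_one_right (by rw [← sq]; exact hu2)
      exact mul_inv_eq_iff_eq_mul.1 h2
    have hux2 : (x * u) ^ 2 = 1 := by
      rw [(show Commute x u from hxu).mul_pow, hx2, hu2, one_mul]
    let V : Subgroup (Perm α) :=
      { carrier := {v | v = 1 ∨ v = x ∨ v = u ∨ v = x * u}
        one_mem' := Or.inl rfl
        mul_mem' := by
          have exx : x * x = 1 := by rw [← sq]; exact hx2
          have euu : u * u = 1 := by rw [← sq]; exact hu2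
          have e1 : x * (x * u) = u := by rw [← mul_assoc, exx, one_mul]
          have e2 : u * (x * u) = x := by rw [hxu, ← mul_assoc, euu, one_mul]
          have e3 : x * u * x = u := by rw [hxu, mul_assoc, exx, mul_one]
          have e4 : x * u * u = x := by rw [mul_assoc, euu, mul_one]
          have e5 : x * u * (x * u) = 1 := by rw [← sq]; exact hux2
          rintro a b (rfl | rfl | rfl | rfl) (rfl | rfl | rfl | rfl) <;>
            simp only [Set.mem_setOf_eq, one_mul, mul_one, exx, euu, e1, e2, e3, e4, e5, ← hxu, true_or, or_true,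
              eq_self_iff_true]
        inv_mem' := by
          rintro a (rfl | rfl | rfl | rfl)
          · exact Or.inl inv_one
          · exact Or.inr (Or.inl hxinv)
          · exact Or.inr (Or.inr (Or.inl (inv_eq_of_mul_eq_one_right (by rw [← sq]; exact hu2))))
          · exact Or.inr (Or.inr (Or.inr (inv_eq_of_mul_eq_one_right (by rw [← sq]; exact hux2)))) }
    have hxV : x ∈ V := Or.inr (Or.inl rfl)
    have huV : u ∈ V := Or.inr (Or.inr (Or.inl rfl))
    have hVmem : ∀ v ∈ V, v ∈ G ∧ v ^ 2 = 1 ∧ v w = w := by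
      rintro v (rfl | rfl | rfl | rfl)
      exacts [⟨G.one_mem, one_pow 2, rfl⟩, ⟨hx, hx2, hxw⟩, ⟨huG, hu2, huw⟩,
        ⟨G.mul_mem hx huG, hux2, by rw [Perm.mul_apply, huw, hxw]⟩]
    haveI hVc : IsMulCommutative V := ⟨⟨fun a b => by
      have h1 := (hVmem _ (a * b).2).2.1
      have h2 := (hVmem _ a.2).2.1
      have h3 := (hVmem _ b.2).2.1
      refine Subtype.ext ?_
      rw [Subgroup.coe_mul, sq] at h1
      rw [sq] at h2 h3
      rw [Subgroup.coe_mul, Subgroup.coe_mul]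
      calc (a : Perm α) * b = ((a : Perm α) * b)⁻¹ := (inv_eq_of_mul_eq_one_right h1).symm
        _ = (b : Perm α)⁻¹ * (a : Perm α)⁻¹ := mul_inv_rev _ _
        _ = b * a := by rw [inv_eq_of_mul_eq_one_right h3, inv_eq_of_mul_eq_one_right h2]⟩⟩
    have hp1 : p₁ ∈ S := by simp [hmemS]
    have hxp : x p₁ = p₂ := by
      rw [hxS p₁ hp1, hτx, Perm.mul_apply, Equiv.swap_apply_of_ne_of_ne h13 h14, Equiv.swap_apply_left]
    have hup : u p₁ = p₄ := by
      rw [huS p₁ hp1]
      simp [hτx, hτy, Equiv.swap_apply_def, h12, h13, h14, h23, h24, h34, h12.symm, h13.symm, h14.symm,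
        h23.symm, h24.symm, h34.symm]
    have hVcyc : ¬ IsCyclic V := by
      intro hcyc
      obtain ⟨v, hv⟩ := IsCyclic.exists_ofOrder_eq_natCard (α := V)
      have hle : orderOf v ≤ 2 := Nat.le_of_dvd (by norm_num)
        (orderOf_dvd_of_pow_eq_one (Subtype.ext (hVmem _ v.2).2.1))
      rw [hv] at hle
      have hinj : Function.Injective (fun i : Fin 3 =>
          (![1, ⟨x, hxV⟩, ⟨u, huV⟩] : Fin 3 → V) i) := by
        have e1 : (1 : Perm α) p₁ = p₁ := rfl
        intro i j hij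
        have h := congrArg (fun z : V => (z : Perm α) p₁) hij
        fin_cases i <;> fin_cases j <;> first | rfl | (exfalso; simp [hxp, hup, e1] at h; simp_all)
      have := Nat.card_le_card_of_injective _ hinj
      rw [Nat.card_fin] at this
      omega
    have hVL : V ≤ Subgroup.normalizer (L : Set (Perm α)) := by
      have hVS : ∀ v ∈ V, ∀ z ∈ S, v z ∈ S := by
        rintro v (rfl | rfl | rfl | rfl) z hz
        · exact hz
        · rw [hxS z hz]; exact hτxS z hz
        · rw [huS z hz]; exact hτxS _ (hτyS z hz)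
        · rw [Perm.mul_apply, huS z hz, hxS _ (hτxS _ (hτyS z hz))]; exact hτxS _ (hτxS _ (hτyS z hz))
      intro v hv
      rw [Subgroup.mem_normalizer_iff]
      have key : ∀ v ∈ V, ∀ l ∈ L, v * l * v⁻¹ ∈ L := by
        intro v hv l hl
        refine ⟨G.mul_mem (G.mul_mem (hVmem v hv).1 hl.1) (G.inv_mem (hVmem v hv).1), fun z hz => ?_⟩
        have hz' := hVS _ (V.inv_mem hv) z hz
        rw [Perm.mul_apply, Perm.mul_apply, hl.2 _ hz']
        exact v.apply_symm_apply z
      intro l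
      refine ⟨key v hv l, fun h => ?_⟩
      have := key _ (V.inv_mem hv) _ h
      simpa [mul_assoc] using this
    have hcop : (Nat.card V).Coprime (Nat.card L) := by
      haveI : Fact (Nat.Prime 2) := ⟨Nat.prime_two⟩
      obtain ⟨i, hi⟩ := IsPGroup.iff_card.1 (show IsPGroup 2 V from fun v =>
        ⟨1, Subtype.ext (by rw [pow_one, Subgroup.coe_pow]; exact (hVmem _ v.2).2.1)⟩)
      rw [hi]
      exact (Nat.coprime_two_left.2 hLodd).pow_left i
    have hgen := Cfsg.Agent.Grp.generated_by_centralizers V L hVcyc hVL hcop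
    -- the common fixed points
    have hxne : x ≠ 1 := fun e => h12 (by rw [← hxp, e, Perm.one_apply])
    obtain ⟨w', hw'⟩ : ∃ w', w' ∈ (fixSet x).erase w := Finset.card_pos.1 (by
      rw [Finset.card_erase_of_mem (mem_fixSet.2 hxw), hfix2 x hx hx2 hxne w hxw]; norm_num)
    rw [Finset.mem_erase, mem_fixSet] at hw'
    have hxF : fixSet x = {w, w'} := (Finset.eq_of_subset_of_card_le (by
      simp [Finset.insert_subset_iff, mem_fixSet, hxw, hw'.2]) (by
      rw [hfix2 x hx hx2 hxne w hxw, Finset.card_pair (Ne.symm hw'.1)])).symm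
    have huw' : u w' = w' := by
      have hmem : u w' ∈ fixSet x := by
        rw [mem_fixSet, ← Perm.mul_apply, hxu, Perm.mul_apply, hw'.2]
      rw [hxF, Finset.mem_insert, Finset.mem_singleton] at hmem
      exact hmem.resolve_left fun e => hw'.1 (u.injective (e.trans huw.symm))
    have hVfix : ∀ v ∈ V, v ≠ 1 → fixSet v = {w, w'} := by
      intro v hv hv1
      obtain ⟨h1, h2, h3⟩ := hVmem v hv
      refine (Finset.eq_of_subset_of_card_le ?_ (by rw [hfix2 v h1 h2 hv1 w h3, Finset.card_pair (Ne.symm hw'.1)])).symm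
      simp only [Finset.insert_subset_iff, Finset.singleton_subset_iff, mem_fixSet]
      refine ⟨h3, ?_⟩
      rcases hv with rfl | rfl | rfl | rfl
      · rfl
      · exact hw'.2
      · exact huw'
      · rw [Perm.mul_apply, huw', hw'.2]
    have hle : L ≤ MulAction.stabilizer (Perm α) w := by
      rw [← hgen]
      refine iSup₂_le fun v hv l hl => ?_
      obtain ⟨hlL, hlc⟩ := Subgroup.mem_inf.1 hl
      have hlv : v * l = l * v := (Subgroup.mem_centralizer_iff.1 hlc v rfl)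
      have hmove : ∀ z ∈ ({w, w'} : Finset α), l z ∈ ({w, w'} : Finset α) := by
        intro z hz
        rw [← hVfix v hv.1 hv.2] at hz ⊢
        rw [mem_fixSet] at hz ⊢
        rw [← Perm.mul_apply, hlv, Perm.mul_apply, hz]
      have h1 := hmove w (by simp)
      rw [Finset.mem_insert, Finset.mem_singleton] at h1
      show l w = w
      rcases h1 with h | h
      · exact h
      have h2 := hmove w' (by simp)
      rw [Finset.mem_insert, Finset.mem_singleton] at h2
      have hl2 : (l ^ 2) w = w := by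
        rw [sq, Perm.mul_apply, h]
        exact h2.resolve_right fun e => hw'.1 (l.injective (e.trans h.symm))
      have hd : orderOf (⟨l, hlL⟩ : L) ∣ Nat.card L := orderOf_dvd_natCard _
      obtain ⟨c, hc⟩ := Odd.of_dvd_nat hLodd hd
      rw [← Subgroup.orderOf_coe] at hc
      have hl : l = (l ^ 2) ^ (c + 1) := by
        rw [← pow_mul, show 2 * (c + 1) = 2 * c + 1 + 1 by ring, ← hc, pow_succ, pow_orderOf_eq_one, one_mul]
      rw [hl]
      exact pow_apply_eq_self_of_apply_eq_self hl2 _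
    intro l hl
    exact hle hl
  have hL1 : ∀ l ∈ L, l = 1 := fun l hl => Equiv.ext fun z => by
    by_cases hz : z ∈ S
    · exact hl.2 z hz
    · exact hLfix z hz l hl
  obtain ⟨w, hw⟩ : ∃ w, w ∈ Sᶜ := Finset.card_pos.1 (by rw [Finset.card_compl, hS]; omega)
  obtain ⟨x, hx, hx2, hxw, hxS⟩ := hexpl w (Finset.mem_compl.1 hw)
  have hsub : Sᶜ ⊆ fixSet x := by
    intro z hz
    obtain ⟨y, hy, -, hyz, hyS⟩ := hexpl z (Finset.mem_compl.1 hz)
    have h1 : y⁻¹ * x = 1 := hL1 _ ⟨G.mul_mem (G.inv_mem hy) hx, fun v hv => by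
      rw [Perm.mul_apply, hxS v hv, ← hyS v hv]
      exact y.symm_apply_apply v⟩
    rw [mem_fixSet, ← inv_mul_eq_one.1 h1]
    exact hyz
  have hxne : x ≠ 1 := fun e => h12 (by
    have h := hxS p₁ (by simp [hmemS])
    rw [e, Perm.one_apply, Perm.mul_apply, Equiv.swap_apply_of_ne_of_ne h13 h14, Equiv.swap_apply_left] at h
    exact h)
  have := Finset.card_le_card hsub
  rw [hfix2 x hx hx2 hxne w hxw, Finset.card_compl, hS] at this
  omega

end Cfsg.Agent.Block.Homog
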