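import Cfsg.Agent.Lib.Char.Contrib

/-!
# The partition into blocks does not depend on the maximal ideal above `p`
-/

set_option autoImplicit false

open Cfsg
open scoped ComplexConjugate

namespace Cfsg.Agent.Block

universe u

variable {G : Type u} [Group G] [Finite G] {p : ℕ} [Fact p.Prime]

theorem sameBlock_change {M M' : Ideal AlgInt} (hM : IsPModular p M) (hM' : IsPModular p M')
    {χ ψ : IrrCharacter G} (h : SameBlock M (χ : G → ℂ) (ψ : G → ℂ)) :
    SameBlock M' (χ : G → ℂ) (ψ : G → ℂ) := by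
  cases nonempty_fintype G
  have hB := isPBlock_blockOf (M := M) χ
  obtain ⟨χ₀, hχ₀, h0⟩ := exists_height_zero hM hB
  have key : ∀ η ∈ blockOf M (χ : G → ℂ), SameBlock M' (η : G → ℂ) (χ₀ : G → ℂ) := by
    intro η hη
    by_contra hne
    obtain ⟨z, hz, he⟩ := Cfsg.Agent.Char.Contrib.exists_int_regSum hM hB hχ₀ hη h0
    rw [reg_orth hM' hne, zero_mul] at he
    exact mul_ne_zero (mul_ne_zero (Nat.cast_ne_zero.mpr Nat.card_pos.ne')
      (pow_ne_zero _ (Nat.cast_ne_zero.mpr (pmod_prime hM).ne_zero))) (Int.cast_ne_zero.mpr hz)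
      he.symm
  exact sameBlock_trans hM' (key χ (mem_blockOf_self hM χ))
    (sameBlock_symm (key ψ h))

end Cfsg.Agent.Block
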