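import Mathlib
import Cfsg.Agent.Lib.Block.SchurIndicator
import Cfsg.Agent.Lib.Char.CliffordCorr
import Cfsg.Agent.Lib.Char.Schur

/-!
# The indicator of a character induced from an inertia group
-/

set_option autoImplicit false
set_option linter.style.haveILetI false
set_option linter.unusedSectionVars false

open Cfsg
open scoped ComplexConjugate Kronecker

namespace Cfsg.Agent.Block.FS

open Cfsg.Agent.Char

universe u

variable {G : Type u} [Group G]

theorem trace_kron_mul_swap {n : ℕ} (A B : Matrix (Fin n) (Fin n) ℂ) :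
    ((A ⊗ₖ B) * swapMat n).trace = (A * B).trace := by
  rw [Matrix.trace, Fintype.sum_prod_type, Matrix.trace]
  refine Finset.sum_congr rfl fun i _ => ?_
  rw [Matrix.diag, Matrix.mul_apply]
  refine Finset.sum_congr rfl fun j _ => ?_
  rw [Matrix.diag, mul_swapMat]
  simp [Matrix.kroneckerMap_apply]

theorem swap_kron {n : ℕ} (A B : Matrix (Fin n) (Fin n) ℂ) :
    swapMat n * (A ⊗ₖ B) = (B ⊗ₖ A) * swapMat n := by
  ext ⟨i, j⟩ ⟨k, l⟩
  rw [swapMat_mul, mul_swapMat]
  simp [Matrix.kroneckerMap_apply, mul_comm]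

variable [Fintype G]

/-- A symplectic character annihilates every pair sum. -/
theorem pair_sum_eq_zero (χ : IrrCharacter G) (hν : ind (χ : G → ℂ) = -1) (a b : G) :
    ∑ g : G, ((χ : G → ℂ) (g * a) * (χ : G → ℂ) (g * b) +
      (χ : G → ℂ) (g * b * (g * a))) = 0 := by
  classical
  obtain ⟨n, ρ, hρ⟩ := IsIrr.isCharacter χ.2
  let A : G → Matrix (Fin n) (Fin n) ℂ := fun g => LinearMap.toMatrix' (ρ g)
  have hAm : ∀ x y, A (x * y) = A x * A y := fun x y => by simp [A, LinearMap.toMatrix'_mul]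
  have htr : ∀ g, (A g).trace = (χ : G → ℂ) g := fun g => by
    rw [← hρ, Representation.character, ← Matrix.trace_toLin'_eq, Matrix.toLin'_toMatrix']
  let T := ∑ g : G, (A g ⊗ₖ A g)
  let P := T * (1 + swapMat n)
  have hTs : swapMat n * T = T * swapMat n := by
    rw [Finset.mul_sum, Finset.sum_mul]
    exact Finset.sum_congr rfl fun g _ => swap_kron _ _
  have hTT : T * T = (Nat.card G : ℂ) • T := by
    calc T * T = ∑ g : G, ∑ h : G, A (g * h) ⊗ₖ A (g * h) := by
          rw [Finset.sum_mul]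
          refine Finset.sum_congr rfl fun g _ => ?_
          rw [Finset.mul_sum]
          exact Finset.sum_congr rfl fun h _ => by rw [← Matrix.mul_kronecker_mul, ← hAm]
      _ = ∑ _g : G, T := Finset.sum_congr rfl fun g _ =>
          Fintype.sum_equiv (Equiv.mulLeft g) _ _ fun h => rfl
      _ = _ := by
          rw [Finset.sum_const, Finset.card_univ, ← Nat.card_eq_fintype_card, Nat.cast_smul_eq_nsmul]
  have hss : (1 + swapMat n) * (1 + swapMat n) = (2 : ℂ) • (1 + swapMat n) := by
    rw [mul_add, add_mul, add_mul, swapMat_sq, one_mul, mul_one, one_mul, two_smul]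
    abel
  have hPP : P * P = ((Nat.card G : ℂ) * 2) • P := by
    have hc : (1 + swapMat n) * T = T * (1 + swapMat n) := by
      rw [add_mul, mul_add, hTs, one_mul, mul_one]
    calc P * P = T * ((1 + swapMat n) * T) * (1 + swapMat n) := by simp only [P, mul_assoc]
      _ = (T * T) * ((1 + swapMat n) * (1 + swapMat n)) := by rw [hc]; simp only [mul_assoc]
      _ = _ := by rw [hTT, hss, smul_mul_smul_comm]
  -- the trace
  have hreal : ∀ g, conj ((χ : G → ℂ) g) = (χ : G → ℂ) g := by
    rcases ind_eq χ with ⟨h, -⟩ | ⟨-, h⟩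
    · rw [hν] at h; exact absurd h (neg_ne_zero.mpr one_ne_zero)
    · exact h
  have hn : (Nat.card G : ℂ) ≠ 0 := Nat.cast_ne_zero.mpr Nat.card_pos.ne'
  have htrP : P.trace = 0 := by
    have e : P.trace = ∑ g : G, ((χ : G → ℂ) g * (χ : G → ℂ) g + (χ : G → ℂ) (g * g)) := by
      simp only [P, T, mul_add, mul_one, Finset.sum_mul, Matrix.trace_add, Matrix.trace_sum,
        Finset.sum_add_distrib]
      congr 1
      · exact Finset.sum_congr rfl fun g _ => by rw [Matrix.trace_kronecker, htr]
      · exact Finset.sum_congr rfl fun g _ => by rw [trace_kron_mul_swap, ← hAm, htr]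
    have h1 : ∑ g : G, (χ : G → ℂ) g * (χ : G → ℂ) g = (Nat.card G : ℂ) := by
      have h := classInner_self_irr χ.2
      rw [classInner, inv_mul_eq_iff_eq_mul₀ hn, mul_one] at h
      rw [← h]
      exact Finset.sum_congr rfl fun g _ => by rw [hreal]
    have h2 : ∑ g : G, (χ : G → ℂ) (g * g) = -(Nat.card G : ℂ) := by
      rw [ind, inv_mul_eq_iff_eq_mul₀ hn] at hν
      rw [hν, mul_neg, mul_one]
    rw [e, Finset.sum_add_distrib, h1, h2, add_neg_cancel]
  have hP0 : P = 0 := by
    have h2n : (Nat.card G : ℂ) * 2 ≠ 0 := mul_ne_zero hn two_ne_zero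
    set f := Matrix.toLin' (((Nat.card G : ℂ) * 2)⁻¹ • P) with hf
    have hidem : f * f = f := by
      rw [hf, Module.End.mul_eq_comp, ← Matrix.toLin'_mul, smul_mul_smul_comm, hPP, smul_smul]
      congr 2
      field_simp
    have hproj : LinearMap.IsProj (LinearMap.range f) f :=
      ⟨fun x => LinearMap.mem_range_self f x, fun x hx => by
        obtain ⟨y, rfl⟩ := hx
        exact LinearMap.congr_fun hidem y⟩
    have h3 := hproj.trace
    rw [hf, Matrix.trace_toLin'_eq, Matrix.trace_smul, htrP, smul_zero, eq_comm, Nat.cast_eq_zero,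
      Submodule.finrank_eq_zero, ← hf, LinearMap.range_eq_bot] at h3
    have h4 : ((Nat.card G : ℂ) * 2)⁻¹ • P = 0 := Matrix.toLin'.injective (by rw [← hf, h3, map_zero])
    exact (smul_eq_zero.mp h4).resolve_left (inv_ne_zero h2n)
  have h : (P * (A a ⊗ₖ A b)).trace = 0 := by rw [hP0, zero_mul, Matrix.trace_zero]
  rw [← h]
  simp only [P, T, mul_add, mul_one, add_mul, Finset.sum_mul, Matrix.trace_add, Matrix.trace_sum,
    Finset.sum_add_distrib]
  congr 1
  · exact Finset.sum_congr rfl fun g _ => by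
      rw [← Matrix.mul_kronecker_mul, Matrix.trace_kronecker, ← hAm, ← hAm, htr, htr]
  · exact Finset.sum_congr rfl fun g _ => by
      rw [Matrix.mul_assoc _ (swapMat n), swap_kron, ← Matrix.mul_assoc, ← Matrix.mul_kronecker_mul,
        trace_kron_mul_swap, ← hAm, ← hAm, ← hAm, htr]

variable (N : Subgroup G) [hN : N.Normal] [Fintype N]

/-- The coefficients of the primitive central idempotent of `φ`. -/
noncomputable def coef (φ : N → ℂ) (n : N) : ℂ := φ 1 / (Nat.card N : ℂ) * conj (φ n)

theorem coef_conv {φ : N → ℂ} (hφ : IsIrrCharacter N φ) (g : G) (k : N) :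
    ∑ n : N, coef N φ (conjEquivN N g n) * coef N φ (n⁻¹ * k) =
      (open Classical in if conjN N g φ = φ then coef N φ k else 0) := by
  classical
  have hf : IsIrrCharacter N (fun n => φ (conjEquivN N g n)) :=
    IsIrr.comp_mulEquiv (conjEquivN N g) hφ
  rw [← Fintype.sum_equiv (Equiv.inv N) (fun n : N => coef N φ (conjEquivN N g n⁻¹) *
    coef N φ (n * k)) _ (fun n => by simp)]
  have e : ∀ n : N, coef N φ (conjEquivN N g n⁻¹) * coef N φ (n * k) =
      (φ 1 / (Nat.card N : ℂ)) ^ 2 * (φ (conjEquivN N g n) * conj (φ (n * k))) := fun n => by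
    simp only [coef]
    rw [map_inv, IsIrr.apply_inv hφ, Complex.conj_conj]
    ring
  rw [Finset.sum_congr rfl fun n _ => e n, ← Finset.mul_sum,
    sum_classFun_mul_apply (IsIrr.conj hφ) (IsIrr.classFun hf) k]
  have h1 : (∑ n : N, φ (conjEquivN N g n) * conj (φ n)) =
      if conjN N g φ = φ then (Nat.card N : ℂ) else 0 := by
    have h := classInner_irr_eq_ite hf hφ
    rw [classInner, inv_mul_eq_iff_eq_mul₀ (Nat.cast_ne_zero.mpr Nat.card_pos.ne')] at h
    rw [h, conjN_eq_comp, mul_ite, mul_one, mul_zero]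
  rw [h1]
  obtain ⟨d, -, hd⟩ := IsIrr.one_eq_pos hφ
  have hd0 : (d : ℂ) ≠ 0 := hd ▸ IsIrr.one_ne_zero hφ
  split_ifs
  · simp only [coef, hd, map_natCast]
    field_simp
  · simp

variable {N} {φ : N → ℂ} {I : Subgroup G} [Fintype I] (hNI : N ≤ I)

/-- The sum of `χ` over a coset against the idempotent of `φ`, outside the inertia group. -/
theorem coef_sum_outside (hφ : IsIrrCharacter N φ) {χ : G → ℂ} (hχ : IsClassFunction G χ) {x : G}
    (hx : conjN N x φ ≠ φ) : ∑ n : N, coef N φ n * χ (x * (n : G)) = 0 := by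
  classical
  have h0 : ∀ k : N, ∑ n : N, coef N φ (conjEquivN N (1 : G) n) * coef N φ (n⁻¹ * k) = coef N φ k := by
    intro k
    rw [coef_conv N hφ 1 k, if_pos]
    rw [conjN_eq_comp]
    funext n
    rw [conjEquivN_apply]
    exact congrArg φ (Subtype.ext (by simp))
  have hone : ∀ n : N, conjEquivN N (1 : G) n = n := fun n => by
    rw [conjEquivN_apply]; exact Subtype.ext (by simp)
  simp only [hone] at h0
  calc ∑ k : N, coef N φ k * χ (x * (k : G))
      = ∑ k : N, ∑ m : N, coef N φ m * coef N φ (m⁻¹ * k) * χ (x * (k : G)) :=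
        Finset.sum_congr rfl fun k _ => by rw [← Finset.sum_mul, h0]
    _ = ∑ m : N, ∑ n : N, coef N φ m * coef N φ n * χ (x * ((m * n : N) : G)) := by
        rw [Finset.sum_comm]
        exact Finset.sum_congr rfl fun m _ =>
          Fintype.sum_equiv (Equiv.mulLeft m⁻¹) _ _ fun k => by simp
    _ = ∑ m : N, ∑ n : N, coef N φ (conjEquivN N x n) * coef N φ m *
          χ (x * ((n * m : N) : G)) := by
        refine Finset.sum_congr rfl fun m _ => (Fintype.sum_equiv (conjEquivN N x).toEquiv _ _ fun n => ?_).symm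
        rw [MulEquiv.toEquiv_eq_coe, MulEquiv.coe_toEquiv, conjEquivN_apply]
        simp only [Subgroup.coe_mul]
        rw [← hχ (x * ((m : G) * (x * (n : G) * x⁻¹))) (x * (n : G) * x⁻¹), mul_comm (coef N φ m)]
        congr 2
        group
    _ = ∑ k : N, (∑ m : N, coef N φ (conjEquivN N x m) * coef N φ (m⁻¹ * k)) * χ (x * (k : G)) := by
        rw [Finset.sum_comm]
        simp only [Finset.sum_mul]
        conv_rhs => rw [Finset.sum_comm]
        refine Finset.sum_congr rfl fun m _ => Fintype.sum_equiv (Equiv.mulLeft m) _ _ fun n => ?_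
        simp [mul_comm (coef N φ n)]
    _ = 0 := Finset.sum_eq_zero fun k _ => by rw [coef_conv N hφ x k, if_neg hx, zero_mul]

/-- The indicator `1` is inherited by induction from the inertia group. -/
theorem ind_indFun_eq_one (hφ : IsIrrCharacter N φ) (hI : I = inertia N φ) (ψ : IrrCharacter I)
    (hres : (fun n : N => (ψ : I → ℂ) ⟨(n : G), hNI n.2⟩) = φ) (hν : ind (ψ : I → ℂ) = 1) :
    ind (indFun I (ψ : I → ℂ)) = 1 := by
  classical
  have hne : classInner (fun n : N => (ψ : I → ℂ) ⟨(n : G), hNI n.2⟩) φ ≠ 0 := by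
    rw [hres, classInner_self_irr hφ]; exact one_ne_zero
  obtain ⟨hirr, -⟩ := Corr.indFun_irr N hφ hI hNI ψ.2 hne
  set χ : IrrCharacter G := ⟨indFun I (ψ : I → ℂ), hirr⟩ with hχdef
  have hψreal : ∀ i, conj ((ψ : I → ℂ) i) = (ψ : I → ℂ) i := by
    rcases ind_eq ψ with ⟨h, -⟩ | ⟨-, h⟩
    · rw [hν] at h; exact absurd h one_ne_zero
    · exact h
  have hχreal : ∀ g, conj ((χ : G → ℂ) g) = (χ : G → ℂ) g := by
    intro g
    have hext : ∀ y, conj (extendByZero I (ψ : I → ℂ) y) = extendByZero I (ψ : I → ℂ) y := fun y => by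
      by_cases hy : y ∈ I
      · rw [extendByZero_of_mem _ hy, hψreal]
      · rw [extendByZero_not_mem _ hy, map_zero]
    simp only [hχdef, indFun, map_mul, map_sum, map_inv₀, map_natCast, hext]
  rcases ind_eq χ with ⟨-, h⟩ | ⟨h | h, -⟩
  · exact absurd hχreal h
  · exact h
  exfalso
  -- the inner product with `ψ`
  have hχψ : classInner (fun i : I => (χ : G → ℂ) i) (ψ : I → ℂ) = 1 := by
    rw [← classInner_conj_symm, ← classInner_indFun I _ (IsIrr.classFun hirr),
      classInner_self_irr hirr, map_one]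
  obtain ⟨-, -, hthird⟩ := Corr.core N hφ hI hNI ψ.2 hne hirr (by rw [hχψ]; exact one_ne_zero)
  have hinv : ∀ i : I, conjN N (i : G) φ = φ := fun i =>
    (SetLike.ext_iff.mp hI (i : G)).mp i.2
  -- inside the inertia group
  let f : I → ℂ := fun i => if h : (i : G) ∈ N then coef N φ ⟨(i : G), h⟩ else 0
  have hf : IsClassFunction I f := by
    intro i j
    have hiff : ((j * i * j⁻¹ : I) : G) ∈ N ↔ (i : G) ∈ N := by
      constructor
      · intro h'
        simpa [mul_assoc] using hN.conj_mem _ h' (j : G)⁻¹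
      · exact fun h' => hN.conj_mem _ h' (j : G)
    by_cases hi : (i : G) ∈ N
    · simp only [f, dif_pos (hiff.mpr hi), dif_pos hi, coef]
      congr 2
      exact congrFun (hinv j) ⟨(i : G), hi⟩
    · simp only [f, dif_neg (mt hiff.mp hi), dif_neg hi]
  have hfsum : ∀ F : I → ℂ, ∑ i : I, f i * F i = ∑ n : N, coef N φ n * F ⟨(n : G), hNI n.2⟩ := by
    intro F
    rw [← Finset.sum_filter_add_sum_filter_not Finset.univ (fun i : I => (i : G) ∈ N),
      Finset.sum_eq_zero (s := Finset.univ.filter fun i : I => ¬ (i : G) ∈ N) (fun i hi => by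
        simp only [f, dif_neg (Finset.mem_filter.mp hi).2, zero_mul]), add_zero]
    refine Finset.sum_bij' (fun i hi => (⟨(i : G), (Finset.mem_filter.mp hi).2⟩ : N))
      (fun n _ => ⟨(n : G), hNI n.2⟩) (by simp) (by simp) (fun _ _ => rfl) (fun _ _ => rfl) ?_
    intro i hi
    simp only [f, dif_pos (Finset.mem_filter.mp hi).2]
  have hin : ∀ x : I, ∑ n : N, coef N φ n * (χ : G → ℂ) ((x : G) * (n : G)) = (ψ : I → ℂ) x := by
    intro x
    have e : ∀ n : N, (χ : G → ℂ) ((x : G) * (n : G)) =
        (fun i : I => (χ : G → ℂ) i) (⟨(n : G), hNI n.2⟩ * x) := fun n => by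
      show _ = (χ : G → ℂ) ((n : G) * (x : G))
      rw [← IsIrr.classFun χ.2 ((x : G) * n) (x : G)⁻¹]
      congr 1
      group
    simp only [e]
    rw [← hfsum (fun i => (fun i : I => (χ : G → ℂ) i) (i * x))]
    rw [classFunction_expansion (IsChar.classFun (IsChar.res (IsIrr.isCharacter hirr) I))]
    simp only [sum_irr_apply, Finset.mul_sum]
    rw [Finset.sum_comm, Finset.sum_eq_single ψ]
    · rw [hχψ]
      simp only [one_mul]
      rw [sum_classFun_mul_apply ψ.2 hf, hfsum]
      have h1 : ∑ n : N, coef N φ n * (ψ : I → ℂ) ⟨(n : G), hNI n.2⟩ = φ 1 := by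
        have h2 := classInner_self_irr hφ
        rw [classInner, inv_mul_eq_iff_eq_mul₀ (Nat.cast_ne_zero.mpr Nat.card_pos.ne'), mul_one] at h2
        have hres' : ∀ n : N, (ψ : I → ℂ) ⟨(n : G), hNI n.2⟩ = φ n := congrFun hres
        simp only [hres', coef, mul_assoc, ← Finset.mul_sum]
        rw [Finset.sum_congr rfl fun n _ => mul_comm (conj (φ n)) (φ n), h2,
          div_mul_cancel₀ _ (Nat.cast_ne_zero.mpr Nat.card_pos.ne')]
      have h3 : (ψ : I → ℂ) 1 = φ 1 := by rw [← congrFun hres 1]; rfl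
      rw [h1, h3, div_self (IsIrr.one_ne_zero hφ), one_mul]
    · intro θ _ hθ
      by_cases hθ0 : classInner (fun i : I => (χ : G → ℂ) i) (θ : I → ℂ) = 0
      · refine Finset.sum_eq_zero fun i _ => ?_
        rw [hθ0]; ring
      have h4 : classInner (fun n : N => (θ : I → ℂ) ⟨(n : G), hNI n.2⟩) φ = 0 :=
        by_contra fun h => hθ (Subtype.ext (hthird _ θ.2 hθ0 h))
      rw [classInner, mul_eq_zero, inv_eq_zero, Nat.cast_eq_zero] at h4
      rw [Finset.sum_congr rfl fun i _ => show f i * (_ * (θ : I → ℂ) (i * x)) =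
        classInner (fun i : I => (χ : G → ℂ) i) (θ : I → ℂ) * (f i * (θ : I → ℂ) (i * x)) by ring,
        ← Finset.mul_sum, sum_classFun_mul_apply θ.2 hf, hfsum]
      have h5 : ∑ n : N, coef N φ n * (θ : I → ℂ) ⟨(n : G), hNI n.2⟩ = 0 := by
        simp only [coef, mul_assoc, ← Finset.mul_sum]
        rw [Finset.sum_congr rfl fun n _ => mul_comm _ _, h4.resolve_left Nat.card_pos.ne', mul_zero]
      rw [h5]
      simp
    · simp
  have hout : ∀ x : G, x ∉ I → ∑ n : N, coef N φ n * (χ : G → ℂ) (x * (n : G)) = 0 := fun x hx =>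
    coef_sum_outside hφ (IsIrr.classFun χ.2) (fun hc => hx (by rw [hI, mem_inertia]; exact hc))
  let u : G → ℂ := fun x => ∑ n : N, coef N φ n * (χ : G → ℂ) (x * (n : G))
  have hu : ∀ x, u x = if hx : x ∈ I then (ψ : I → ℂ) ⟨x, hx⟩ else 0 := fun x => by
    split_ifs with hx
    · exact hin ⟨x, hx⟩
    · exact hout x hx
  have hw : ∀ x : G, ∑ a : N, ∑ b : N, coef N φ a * coef N φ b *
      (χ : G → ℂ) (x * (b : G) * (x * (a : G))) =
      if hx : x ∈ I then (ψ : I → ℂ) ⟨x * x, I.mul_mem hx hx⟩ else 0 := by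
    intro x
    calc ∑ a : N, ∑ b : N, coef N φ a * coef N φ b * (χ : G → ℂ) (x * (b : G) * (x * (a : G)))
        = ∑ a : N, ∑ m : N, coef N φ a * coef N φ (conjEquivN N x m) *
            (χ : G → ℂ) (x * x * ((m * a : N) : G)) := Finset.sum_congr rfl fun a _ => by
          refine (Fintype.sum_equiv (conjEquivN N x).toEquiv _ _ fun m => ?_).symm
          rw [MulEquiv.toEquiv_eq_coe, MulEquiv.coe_toEquiv]
          congr 2
          rw [conjEquivN_apply]
          simp only [Subgroup.coe_mul]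
          group
      _ = ∑ k : N, (∑ m : N, coef N φ (conjEquivN N x m) * coef N φ (m⁻¹ * k)) *
            (χ : G → ℂ) (x * x * (k : G)) := by
          rw [Finset.sum_comm]
          simp only [Finset.sum_mul]
          conv_rhs => rw [Finset.sum_comm]
          refine Finset.sum_congr rfl fun m _ => Fintype.sum_equiv (Equiv.mulLeft m) _ _ fun a => ?_
          simp [mul_comm (coef N φ a)]
      _ = _ := by
          split_ifs with hx
          · have hx' : conjN N x φ = φ := hinv ⟨x, hx⟩
            rw [Finset.sum_congr rfl fun k _ => by rw [coef_conv N hφ x k, if_pos hx']]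
            exact hin ⟨x * x, I.mul_mem hx hx⟩
          · refine Finset.sum_eq_zero fun k _ => ?_
            rw [coef_conv N hφ x k, if_neg (fun hc => hx (by rw [hI, mem_inertia]; exact hc)),
              zero_mul]
  have hzero : ∑ x : G, (u x * u x + ∑ a : N, ∑ b : N, coef N φ a * coef N φ b *
      (χ : G → ℂ) (x * (b : G) * (x * (a : G)))) = 0 := by
    have e : ∀ x : G, u x * u x + ∑ a : N, ∑ b : N, coef N φ a * coef N φ b *
        (χ : G → ℂ) (x * (b : G) * (x * (a : G))) = ∑ a : N, ∑ b : N, coef N φ a * coef N φ b *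
          ((χ : G → ℂ) (x * (a : G)) * (χ : G → ℂ) (x * (b : G)) +
            (χ : G → ℂ) (x * (b : G) * (x * (a : G)))) := fun x => by
      simp only [u, Finset.sum_mul, Finset.mul_sum, mul_add, ← Finset.sum_add_distrib]
      exact Finset.sum_congr rfl fun a _ => Finset.sum_congr rfl fun b _ => by ring
    rw [Finset.sum_congr rfl fun x _ => e x, Finset.sum_comm]
    refine Finset.sum_eq_zero fun a _ => ?_
    rw [Finset.sum_comm]
    refine Finset.sum_eq_zero fun b _ => ?_
    rw [← Finset.mul_sum, pair_sum_eq_zero χ h, mul_zero]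
  simp only [hu, hw] at hzero
  rw [← Finset.sum_filter_add_sum_filter_not Finset.univ (fun x : G => x ∈ I),
    Finset.sum_eq_zero (s := Finset.univ.filter fun x : G => ¬ x ∈ I) (fun x hx => by
      simp [(Finset.mem_filter.mp hx).2]), add_zero] at hzero
  have hsum : (∑ i : I, ((ψ : I → ℂ) i * (ψ : I → ℂ) i + (ψ : I → ℂ) (i * i))) = 0 := by
    rw [← hzero]
    refine Finset.sum_bij' (fun i _ => (i : G)) (fun x hx => ⟨x, (Finset.mem_filter.mp hx).2⟩)
      (by simp) (by simp) (fun _ _ => rfl) (fun _ _ => rfl) ?_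
    intro i _
    rw [dif_pos i.2, dif_pos i.2]
    rfl
  have hn : (Nat.card I : ℂ) ≠ 0 := Nat.cast_ne_zero.mpr Nat.card_pos.ne'
  have h1 : ∑ i : I, (ψ : I → ℂ) i * (ψ : I → ℂ) i = (Nat.card I : ℂ) := by
    have h' := classInner_self_irr ψ.2
    rw [classInner, inv_mul_eq_iff_eq_mul₀ hn, mul_one] at h'
    rw [← h']
    exact Finset.sum_congr rfl fun i _ => by rw [hψreal]
  rw [ind, inv_mul_eq_iff_eq_mul₀ hn, mul_one] at hν
  rw [Finset.sum_add_distrib, h1, hν, add_self_eq_zero] at hsum
  exact hn hsum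

end Cfsg.Agent.Block.FS
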