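import Cfsg.Agent.Lib.Block.Height
import Cfsg.Agent.Lib.Block.ClassDefect
import Cfsg.Agent.Lib.Char.Constituent
import Cfsg.Agent.Lib.Char.Kernel

/-!
Induced blocks: restriction of central elements to a subgroup, and the Brauer map.
-/

open scoped ComplexConjugate

namespace Cfsg.Agent.Block

set_option linter.unusedSectionVars false
set_option linter.style.haveILetI false

universe u

variable {G : Type u} [Group G] [Finite G] {p : ℕ} {M : Ideal AlgInt}

/-- A central element all whose coefficients lie in the ideal has all its values there. -/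
theorem ideal_of_coeffFun_ideal (hM : IsPModular p M) {f : IrrCharacter G → ℂ}
    (h : ∀ g, MemLocalIdeal M (coeffFun f g)) (χ : IrrCharacter G) : MemLocalIdeal M (f χ) := by
  cases nonempty_fintype (ConjClasses G)
  rw [eq_sum_centralChar f χ]
  exact ideal_sum hM fun C _ => ideal_mul_right hM (h _) (centralChar_ring hM χ _)

/-- The central element of a subgroup obtained by restricting the coefficient function. -/
noncomputable def resCen (H : Subgroup G) (f : IrrCharacter G → ℂ) (ξ : IrrCharacter H) : ℂ :=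
  (∑ᶠ h : H, coeffFun f (h : G) * (ξ : H → ℂ) h) / (ξ : H → ℂ) 1

theorem resCen_eq_omegaFun (H : Subgroup G) [Fintype H] (f : IrrCharacter G → ℂ)
    (ξ : IrrCharacter H) : resCen H f ξ = omegaFun ξ (fun h : H => coeffFun f (h : G)) := by
  rw [resCen, omegaFun, finsum_eq_sum_of_fintype]

theorem resFun_classFun (H : Subgroup G) (f : IrrCharacter G → ℂ) :
    IsClassFunction H (fun h : H => coeffFun f (h : G)) :=
  fun g h => coeffFun_classFun f (g : G) (h : G)

theorem coeffFun_resCen (H : Subgroup G) (f : IrrCharacter G → ℂ) (h : H) :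
    coeffFun (resCen H f) h = coeffFun f (h : G) := by
  cases nonempty_fintype H
  rw [funext (resCen_eq_omegaFun H f), coeffFun_omegaFun (resFun_classFun H f)]

theorem CenInt.resCen {H : Subgroup G} {f : IrrCharacter G → ℂ}
    (hf : CenInt M f) : CenInt M (resCen H f) := fun h => by
  rw [coeffFun_resCen]; exact hf h

theorem resCen_centralChar (H : Subgroup G) (g : G) (ξ : IrrCharacter H) :
    resCen H (fun χ : IrrCharacter G => centralChar (χ : G → ℂ) g) ξ =
      inducedCentralChar H (ξ : H → ℂ) g := by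
  classical
  cases nonempty_fintype H
  rw [resCen, coeffFun_centralChar, finsum_eq_sum_of_fintype, inducedCentralChar,
    finsum_mem_eq_sum_of_inter_support_eq _
      (t := Finset.univ.filter (fun h : H => IsConj g (h : G))) (by ext; simp),
    Finset.sum_div, Finset.sum_filter]
  refine Finset.sum_congr rfl fun h _ => ?_
  simp only [classInd]
  split_ifs <;> simp

theorem resCen_eq_sum_classes [Fintype (ConjClasses G)] (H : Subgroup G)
    (f : IrrCharacter G → ℂ) (ξ : IrrCharacter H) :
    resCen H f ξ = ∑ C : ConjClasses G, coeffFun f C.out * inducedCentralChar H (ξ : H → ℂ) C.out := by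
  classical
  cases nonempty_fintype H
  rw [resCen, finsum_eq_sum_of_fintype, Finset.sum_div,
    ← Finset.sum_fiberwise Finset.univ (fun h : H => ConjClasses.mk (h : G))]
  refine Finset.sum_congr rfl fun C _ => ?_
  rw [inducedCentralChar, finsum_mem_eq_sum_of_inter_support_eq _
      (t := Finset.univ.filter (fun h : H => IsConj C.out (h : G))) (by ext; simp),
    Finset.mul_sum]
  refine Finset.sum_congr (Finset.filter_congr fun h _ => ?_) fun h hh => ?_
  · have hC : ConjClasses.mk C.out = C := Quotient.out_eq C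
    conv_lhs => rw [← hC, ConjClasses.mk_eq_mk_iff_isConj, isConj_comm]
  · rw [← Cfsg.Agent.Char.IsClass.eq_of_isConj (coeffFun_classFun f) (Finset.mem_filter.1 hh).2]
    ring

/-! ### Induced blocks -/

theorem induced_congr (hM : IsPModular p M) {H : Subgroup G} {b : Set (IrrCharacter H)}
    {B : Set (IrrCharacter G)} (hind : IsInducedBlock M H b B) {f : IrrCharacter G → ℂ}
    (hf : CenInt M f) {ξ : IrrCharacter H} (hξ : ξ ∈ b) {χ : IrrCharacter G} (hχ : χ ∈ B) :
    MemLocalIdeal M (resCen H f ξ - f χ) := by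
  cases nonempty_fintype (ConjClasses G)
  rw [resCen_eq_sum_classes H f ξ, eq_sum_centralChar f χ, ← Finset.sum_sub_distrib]
  refine ideal_sum hM fun C _ => ?_
  rw [← mul_sub]
  exact ideal_mul_left hM (hf _) (hind.2.2 ξ hξ χ hχ _)

theorem induced_blockInd_notMem (hM : IsPModular p M) {H : Subgroup G}
    {b : Set (IrrCharacter H)} {B : Set (IrrCharacter G)} (hind : IsInducedBlock M H b B)
    {ξ : IrrCharacter H} (hξ : ξ ∈ b) :
    ¬ MemLocalIdeal M (resCen H (blockInd B) ξ) := by
  obtain ⟨χ, hχ⟩ := pblock_nonempty hM hind.2.1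
  intro h
  have h2 := induced_congr hM hind (cenInt_blockInd hM hind.2.1) hξ hχ
  rw [blockInd_of_mem hχ] at h2
  exact ideal_one hM ((ideal_congr hM h2).1 h)

/-- Any block whose idempotent is not killed by the restriction is the induced block. -/
theorem induced_eq_of_notMem (hM : IsPModular p M) {H : Subgroup G}
    {b : Set (IrrCharacter H)} {B B' : Set (IrrCharacter G)} (hind : IsInducedBlock M H b B)
    (hB' : IsPBlock M B') {ξ : IrrCharacter H} (hξ : ξ ∈ b)
    (h : ¬ MemLocalIdeal M (resCen H (blockInd B') ξ)) : B = B' := by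
  obtain ⟨χ, hχ⟩ := pblock_nonempty hM hind.2.1
  by_cases hχ' : χ ∈ B'
  · rw [pblock_eq_blockOf hM hind.2.1 hχ, pblock_eq_blockOf hM hB' hχ']
  · refine absurd ?_ h
    have h2 := induced_congr hM hind (cenInt_blockInd hM hB') hξ hχ
    rwa [blockInd_of_notMem hχ', sub_zero] at h2

theorem induced_unique (hM : IsPModular p M) {H : Subgroup G} {b : Set (IrrCharacter H)}
    {B B' : Set (IrrCharacter G)} (h : IsInducedBlock M H b B) (h' : IsInducedBlock M H b B') :
    B = B' := by
  obtain ⟨ξ, hξ⟩ := pblock_nonempty hM h.1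
  exact induced_eq_of_notMem hM h h'.2.1 hξ (induced_blockInd_notMem hM h' hξ)

/-- A functional on central elements which is multiplicative modulo the ideal is given by a
block. -/
theorem exists_block_of_hom (hM : IsPModular p M) (L : (IrrCharacter G → ℂ) → ℂ)
    (hsub : ∀ f f', L (f - f') = L f - L f') (hsmul : ∀ c f, L (fun χ => c * f χ) = c * L f)
    (hring : ∀ f, CenInt M f → MemLocalRing M (L f))
    (hideal : ∀ f, (∀ g, MemLocalIdeal M (coeffFun f g)) → MemLocalIdeal M (L f))
    (hmul : ∀ f f', CenInt M f → CenInt M f' → MemLocalIdeal M (L (f * f') - L f * L f'))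
    (hone : MemLocalIdeal M (L 1 - 1)) :
    ∃ B, IsPBlock M B ∧ ∀ f, CenInt M f → ∀ χ ∈ B, MemLocalIdeal M (L f - f χ) := by
  classical
  obtain ⟨χ₀, hχ₀⟩ : ∃ χ : IrrCharacter G,
      ¬ MemLocalIdeal M (L (blockInd (blockOf M (χ : G → ℂ)))) := by
    by_contra hall
    push Not at hall
    have hfac : ∀ s : Finset (IrrCharacter G), MemLocalIdeal M
        (L (∏ χ ∈ s, (1 - blockInd (blockOf M (χ : G → ℂ)))) - 1) := by
      intro s
      induction s using Finset.induction with
      | empty => simpa using hone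
      | insert a s ha ih =>
        rw [Finset.prod_insert ha]
        have hI : ∀ χ : IrrCharacter G, CenInt M (1 - blockInd (blockOf M (χ : G → ℂ))) :=
          fun χ => (cenInt_one hM).sub hM (cenInt_blockInd hM (isPBlock_blockOf χ))
        have h1 := hmul _ _ (hI a) (CenInt.prod hM (s := s) fun χ _ => hI χ)
        have h2 : MemLocalIdeal M (L (1 - blockInd (blockOf M (a : G → ℂ))) - 1) := by
          rw [hsub, show L 1 - L (blockInd (blockOf M (a : G → ℂ))) - 1 =
            (L 1 - 1) - L (blockInd (blockOf M (a : G → ℂ))) by ring]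
          exact ideal_sub hM hone (hall a)
        have h3 := ideal_add hM h1 (ideal_add hM
          (ideal_mul_left hM (hring _ (hI a)) ih) h2)
        convert h3 using 1
        ring
    have h := hfac Finset.univ
    have h0 : (∏ χ : IrrCharacter G, (1 - blockInd (blockOf M (χ : G → ℂ)))) = 0 := by
      funext ψ
      rw [Finset.prod_apply, Pi.zero_apply]
      refine Finset.prod_eq_zero (Finset.mem_univ ψ) ?_
      rw [Pi.sub_apply, Pi.one_apply, blockInd_of_mem (mem_blockOf_self hM ψ), sub_self]
    rw [h0] at h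
    have hz : MemLocalIdeal M (L 0) := hideal 0 fun g => by
      rw [← sub_self (1 : IrrCharacter G → ℂ), coeffFun_sub, sub_self]
      exact ideal_zero hM
    exact ideal_one hM (by simpa using ideal_sub hM hz h)
  set B := blockOf M (χ₀ : G → ℂ) with hBdef
  have hB : IsPBlock M B := isPBlock_blockOf χ₀
  have heI := cenInt_blockInd hM hB
  refine ⟨B, hB, fun f hf χ hχ => ?_⟩
  set k : IrrCharacter G → ℂ := f * blockInd B - fun ψ => f χ * blockInd B ψ with hk
  have hkI : CenInt M k := (hf.mul hM heI).sub hM (heI.const_mul hM (hf.ring hM χ))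
  have hval : ∀ ψ, MemLocalIdeal M (k ψ) := by
    intro ψ
    by_cases hψ : ψ ∈ B
    · simp only [hk, Pi.sub_apply, Pi.mul_apply, blockInd_of_mem hψ, mul_one]
      exact hf.congr_block hM (pblock_sameBlock hM hB hψ hχ)
    · simp only [hk, Pi.sub_apply, Pi.mul_apply, blockInd_of_notMem hψ, mul_zero, sub_zero]
      exact ideal_zero hM
  obtain ⟨N, hN, hpow⟩ := exists_pow_coeff_ideal hM hkI hval
  have hpowL : ∀ n : ℕ, MemLocalIdeal M (L (k ^ n) - L k ^ n) := by
    intro n
    induction n with
    | zero => simpa using hone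
    | succ n ih =>
      have h1 := ideal_add hM (hmul _ _ (hkI.pow hM n) hkI)
        (ideal_mul_right hM ih (hring _ hkI))
      rw [pow_succ, pow_succ]
      convert h1 using 1
      ring
  have hLk : MemLocalIdeal M (L k) := ideal_of_pow hM (hring _ hkI) N
    (by simpa using ideal_sub hM (hideal _ hpow) (hpowL N))
  rw [hk, hsub, hsmul] at hLk
  have h1 : MemLocalIdeal M ((L f - f χ) * L (blockInd B)) := by
    have h2 := ideal_sub hM hLk (hmul f _ hf heI)
    convert h2 using 1
    ring
  exact (ideal_or_of_mul hM (ring_sub hM (hring _ hf) (hf.ring hM χ)) (hring _ heI) h1).resolve_right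
    hχ₀

/-! ### The Brauer map into a subgroup normalizing `P` -/

/-- The central element of `H` given by the part of the coefficient function centralizing `P`. -/
noncomputable def brCen (P H : Subgroup G) (f : IrrCharacter G → ℂ) (ξ : IrrCharacter H) : ℂ :=
  (∑ᶠ h ∈ {h : H | (h : G) ∈ Subgroup.centralizer (P : Set G)},
    coeffFun f (h : G) * (ξ : H → ℂ) h) / (ξ : H → ℂ) 1

/-- The coefficient function of the image under the Brauer map. -/
noncomputable def brFun (P H : Subgroup G) (f : IrrCharacter G → ℂ) (h : H) : ℂ :=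
  open Classical in if (h : G) ∈ Subgroup.centralizer (P : Set G) then coeffFun f (h : G) else 0

theorem centralizer_conj_mem {P : Subgroup G} {n : G} (hn : n ∈ Subgroup.normalizer (P : Set G))
    {c : G} (hc : c ∈ Subgroup.centralizer (P : Set G)) :
    n * c * n⁻¹ ∈ Subgroup.centralizer (P : Set G) := by
  rw [Subgroup.mem_centralizer_iff] at hc ⊢
  intro u hu
  have h := hc (n⁻¹ * u * n) ((Subgroup.mem_normalizer_iff.1 hn _).2 (by simpa [mul_assoc] using hu))
  have h' := congrArg (fun z => n * z * n⁻¹) h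
  simpa [mul_assoc] using h'

theorem brFun_classFun {P H : Subgroup G} (hHN : H ≤ Subgroup.normalizer (P : Set G))
    (f : IrrCharacter G → ℂ) : IsClassFunction H (brFun P H f) := by
  classical
  intro g h
  simp only [brFun, Subgroup.coe_mul, Subgroup.coe_inv]
  rw [coeffFun_classFun f (g : G) (h : G)]
  refine if_congr ⟨fun hg => ?_, centralizer_conj_mem (hHN h.2)⟩ rfl rfl
  simpa [mul_assoc] using centralizer_conj_mem (inv_mem (hHN h.2)) hg

theorem brCen_eq_omegaFun (P H : Subgroup G) [Fintype H] (f : IrrCharacter G → ℂ)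
    (ξ : IrrCharacter H) : brCen P H f ξ = omegaFun ξ (brFun P H f) := by
  classical
  rw [brCen, omegaFun, finsum_mem_eq_sum_of_inter_support_eq _
    (t := Finset.univ.filter (fun h : H => (h : G) ∈ Subgroup.centralizer (P : Set G)))
    (by ext; simp), Finset.sum_filter]
  congr 1
  refine Finset.sum_congr rfl fun h _ => ?_
  simp only [brFun, ite_mul, zero_mul]

theorem coeffFun_brCen {P H : Subgroup G} (hHN : H ≤ Subgroup.normalizer (P : Set G))
    (f : IrrCharacter G → ℂ) : coeffFun (brCen P H f) = brFun P H f := by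
  cases nonempty_fintype H
  rw [funext (brCen_eq_omegaFun P H f), coeffFun_omegaFun (brFun_classFun hHN f)]

theorem brFun_ring (hM : IsPModular p M) {P H : Subgroup G} {f : IrrCharacter G → ℂ}
    (hf : CenInt M f) (h : H) : MemLocalRing M (brFun P H f h) := by
  simp only [brFun]
  split_ifs
  · exact hf _
  · exact ring_zero hM

theorem CenInt.brCen (hM : IsPModular p M) {P H : Subgroup G}
    (hHN : H ≤ Subgroup.normalizer (P : Set G)) {f : IrrCharacter G → ℂ} (hf : CenInt M f) :
    CenInt M (brCen P H f) := fun h => by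
  rw [coeffFun_brCen hHN]; exact brFun_ring hM hf h

theorem brCen_centralChar (P H : Subgroup G) (g : G) (ξ : IrrCharacter H) :
    brCen P H (fun χ : IrrCharacter G => centralChar (χ : G → ℂ) g) ξ =
      brauerCentralChar P H (ξ : H → ℂ) g := by
  classical
  cases nonempty_fintype H
  rw [brCen, coeffFun_centralChar, brauerCentralChar, finsum_mem_eq_sum_of_inter_support_eq _
      (t := Finset.univ.filter (fun h : H => (h : G) ∈ Subgroup.centralizer (P : Set G)))
      (by ext; simp),
    finsum_mem_eq_sum_of_inter_support_eq _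
      (t := Finset.univ.filter
        (fun h : H => IsConj g (h : G) ∧ (h : G) ∈ Subgroup.centralizer (P : Set G)))
      (by ext; simp),
    Finset.sum_div, Finset.sum_filter, Finset.sum_filter]
  refine Finset.sum_congr rfl fun h _ => ?_
  simp only [classInd]
  by_cases h1 : IsConj g (h : G) <;>
    by_cases h2 : (h : G) ∈ Subgroup.centralizer (P : Set G) <;>
      simp only [h1, h2, and_self, and_true, and_false, if_true, if_false, one_mul, zero_mul,
        zero_div, ite_self]

theorem brCen_sub (P H : Subgroup G) (f f' : IrrCharacter G → ℂ) (ξ : IrrCharacter H) :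
    brCen P H (f - f') ξ = brCen P H f ξ - brCen P H f' ξ := by
  cases nonempty_fintype H
  simp only [brCen_eq_omegaFun, omegaFun, ← sub_div, ← Finset.sum_sub_distrib]
  congr 1
  refine Finset.sum_congr rfl fun h _ => ?_
  simp only [brFun, coeffFun_sub]
  split_ifs <;> ring

theorem brCen_smul (P H : Subgroup G) (c : ℂ) (f : IrrCharacter G → ℂ) (ξ : IrrCharacter H) :
    brCen P H (fun χ => c * f χ) ξ = c * brCen P H f ξ := by
  cases nonempty_fintype H
  simp only [brCen_eq_omegaFun, omegaFun, mul_div_assoc', Finset.mul_sum]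
  congr 1
  refine Finset.sum_congr rfl fun h _ => ?_
  simp only [brFun, coeffFun_smul]
  split_ifs <;> ring

theorem brCen_one {P H : Subgroup G} (hHN : H ≤ Subgroup.normalizer (P : Set G)) :
    brCen P H (1 : IrrCharacter G → ℂ) = 1 := by
  classical
  cases nonempty_fintype H
  funext ξ
  rw [Pi.one_apply, brCen_eq_omegaFun, omegaFun, Finset.sum_eq_single (1 : H)]
  · simp only [brFun, OneMemClass.coe_one, coeffFun_one, Subgroup.one_mem, if_true, one_mul]
    exact div_self (irr_one_ne_zero ξ)
  · intro h _ hh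
    simp [brFun, coeffFun_one, hh]
  · exact fun h => absurd (Finset.mem_univ _) h

theorem brCen_mul_coeff_ideal (hM : IsPModular p M) {P H : Subgroup G} (hP : IsPGroup p P)
    (hCH : Subgroup.centralizer (P : Set G) ≤ H) (hHN : H ≤ Subgroup.normalizer (P : Set G))
    {f f' : IrrCharacter G → ℂ} (hf : CenInt M f) (hf' : CenInt M f') (c : H) :
    MemLocalIdeal M (coeffFun (brCen P H (f * f') - brCen P H f * brCen P H f') c) := by
  classical
  cases nonempty_fintype H
  cases nonempty_fintype G
  rw [coeffFun_sub, coeffFun_mul, coeffFun_brCen hHN, coeffFun_brCen hHN, coeffFun_brCen hHN]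
  simp only [convFun, brFun, ite_mul, zero_mul, mul_ite, mul_zero, Subgroup.coe_mul,
    Subgroup.coe_inv, ← ite_and]
  by_cases hc : (c : G) ∈ Subgroup.centralizer (P : Set G)
  · rw [if_pos hc]
    have h := coeff_mul_congr hM hf hf' hP hc
    rw [finsum_mem_eq_sum_of_inter_support_eq _
      (t := Finset.univ.filter (· ∈ Subgroup.centralizer (P : Set G))) (by ext; simp)] at h
    convert h using 2
    rw [← Finset.sum_filter]
    refine Finset.sum_bij (fun x _ => (x : G)) (fun x hx => ?_) (fun x _ y _ h => Subtype.ext h)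
      (fun y hy => ?_) (fun x _ => rfl)
    · simp only [Finset.mem_filter, Finset.mem_univ, true_and] at hx ⊢
      exact hx.2
    · simp only [Finset.mem_filter, Finset.mem_univ, true_and] at hy
      exact ⟨⟨y, hCH hy⟩, by simp [hy, mul_mem (inv_mem hy) hc], rfl⟩
  · rw [if_neg hc, Finset.sum_eq_zero fun x _ => if_neg fun h => hc (by
      simpa using mul_mem h.2 h.1), sub_zero]
    exact ideal_zero hM

theorem brCen_mul_ideal (hM : IsPModular p M) {P H : Subgroup G} (hP : IsPGroup p P)
    (hCH : Subgroup.centralizer (P : Set G) ≤ H) (hHN : H ≤ Subgroup.normalizer (P : Set G))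
    {f f' : IrrCharacter G → ℂ} (hf : CenInt M f) (hf' : CenInt M f') (ξ : IrrCharacter H) :
    MemLocalIdeal M (brCen P H (f * f') ξ - brCen P H f ξ * brCen P H f' ξ) :=
  ideal_of_coeffFun_ideal hM (brCen_mul_coeff_ideal hM hP hCH hHN hf hf') ξ

theorem resCen_sub_brCen_ideal (hM : IsPModular p M) {P H : Subgroup G} (hP : IsPGroup p P)
    (hPH : P ≤ H) (hHN : H ≤ Subgroup.normalizer (P : Set G)) {f : IrrCharacter G → ℂ}
    (hf : CenInt M f) (ξ : IrrCharacter H) :
    MemLocalIdeal M (resCen H f ξ - brCen P H f ξ) := by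
  classical
  cases nonempty_fintype (ConjClasses H)
  haveI : (P.subgroupOf H).Normal := (Subgroup.normal_subgroupOf_iff_le_normalizer hPH).2 hHN
  have hP' : IsPGroup p (P.subgroupOf H) := hP.of_equiv (Subgroup.subgroupOfEquivOfLe hPH).symm
  rw [show resCen H f ξ - brCen P H f ξ = (resCen H f - brCen P H f) ξ from rfl,
    eq_sum_centralChar (resCen H f - brCen P H f) ξ]
  refine ideal_sum hM fun C _ => ?_
  rw [coeffFun_sub, coeffFun_resCen, coeffFun_brCen hHN]
  simp only [brFun]
  split_ifs with hc
  · rw [sub_self, zero_mul]; exact ideal_zero hM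
  · rw [sub_zero]
    refine ideal_mul_left hM (hf _) (centralChar_ideal_of_normal hM hP' (fun h => hc ?_) ξ)
    rw [Subgroup.mem_centralizer_iff] at h ⊢
    intro u hu
    exact congrArg Subtype.val (h ⟨u, hPH hu⟩ (Subgroup.mem_subgroupOf.2 hu))

theorem induced_iff_brauer (hM : IsPModular p M) {P H : Subgroup G} (hP : IsPGroup p P)
    (hPH : P ≤ H) (hHN : H ≤ Subgroup.normalizer (P : Set G)) {b : Set (IrrCharacter H)}
    (hb : IsPBlock M b) {B : Set (IrrCharacter G)} (hB : IsPBlock M B) :
    IsInducedBlock M H b B ↔ ∀ ξ ∈ b, ∀ χ ∈ B, ∀ g : G, MemLocalIdeal M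
      (brauerCentralChar P H (ξ : H → ℂ) g - centralChar (χ : G → ℂ) g) := by
  have h1 : ∀ (ξ : IrrCharacter H) (g : G), MemLocalIdeal M
      (inducedCentralChar H (ξ : H → ℂ) g - brauerCentralChar P H (ξ : H → ℂ) g) := fun ξ g => by
    rw [← resCen_centralChar, ← brCen_centralChar]
    exact resCen_sub_brCen_ideal hM hP hPH hHN (cenInt_centralChar hM g) ξ
  constructor
  · intro h ξ hξ χ hχ g
    simpa using ideal_add hM (ideal_sub_comm (h1 ξ g)) (h.2.2 ξ hξ χ hχ g)
  · intro h
    exact ⟨hb, hB, fun ξ hξ χ hχ g => by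
      simpa using ideal_add hM (h1 ξ g) (h ξ hξ χ hχ g)⟩

theorem inducedBlockDefined_brauer (hM : IsPModular p M) {P H : Subgroup G} (hP : IsPGroup p P)
    (hPH : P ≤ H) (hCH : Subgroup.centralizer (P : Set G) ≤ H)
    (hHN : H ≤ Subgroup.normalizer (P : Set G)) {b : Set (IrrCharacter H)} (hb : IsPBlock M b) :
    InducedBlockDefined M H b := by
  obtain ⟨ξ₀, hξ₀⟩ := pblock_nonempty hM hb
  obtain ⟨B, hB, hBc⟩ := exists_block_of_hom hM (fun f => brCen P H f ξ₀)
    (fun f f' => brCen_sub P H f f' ξ₀) (fun c f => brCen_smul P H c f ξ₀)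
    (fun f hf => (CenInt.brCen hM hHN hf).ring hM ξ₀)
    (fun f hf => ideal_of_coeffFun_ideal hM (fun h => by
      rw [coeffFun_brCen hHN]
      simp only [brFun]
      split_ifs
      · exact hf _
      · exact ideal_zero hM) ξ₀)
    (fun f f' hf hf' => brCen_mul_ideal hM hP hCH hHN hf hf' ξ₀)
    (by rw [brCen_one hHN, Pi.one_apply, sub_self]; exact ideal_zero hM)
  refine ⟨B, (induced_iff_brauer hM hP hPH hHN hb hB).2 fun ξ hξ χ hχ g => ?_⟩
  rw [← brCen_centralChar]
  have h1 := (CenInt.brCen (P := P) hM hHN (cenInt_centralChar hM g)).congr_block hM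
    (pblock_sameBlock hM hb hξ hξ₀)
  simpa using ideal_add hM h1 (hBc _ (cenInt_centralChar hM g) χ hχ)

/-- The block induces only blocks whose Brauer image at a `p`-subgroup of its defect group
survives. -/
theorem induced_not_brZero (hM : IsPModular p M) {H : Subgroup G} {b : Set (IrrCharacter H)}
    {B : Set (IrrCharacter G)} (hind : IsInducedBlock M H b B) {Q : Subgroup H}
    (hQ : IsPGroup p Q) (hQb : ¬ BrZero M Q (blockInd b)) :
    ¬ BrZero M (Q.map H.subtype) (blockInd B) := by
  intro h
  obtain ⟨ξ, hξ⟩ := pblock_nonempty hM hind.1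
  refine induced_blockInd_notMem hM hind hξ
    (brZero_omega_ideal hM hind.1 hQ hQb (cenInt_blockInd hM hind.2.1).resCen (fun c hc => ?_) hξ)
  rw [coeffFun_resCen]
  refine h _ ?_
  rw [Subgroup.mem_centralizer_iff] at hc ⊢
  rintro _ ⟨u, hu, rfl⟩
  exact congrArg Subtype.val (hc u hu)

theorem exists_defectGroup_ge_map (hM : IsPModular p M) {H : Subgroup G}
    {b : Set (IrrCharacter H)} {B : Set (IrrCharacter G)} (hind : IsInducedBlock M H b B)
    {D : Subgroup H} (hD : IsDefectGroup p M b D) :
    ∃ E : Subgroup G, IsDefectGroup p M B E ∧ D.map H.subtype ≤ E :=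
  exists_defectGroup_ge hM hind.2.1 ((IsDefectGroup.isPGroup hD).map _)
    (induced_not_brZero hM hind (IsDefectGroup.isPGroup hD)
      (defectGroup_not_brZero hM hind.1 hD))

/-- A block is induced from a `P C(P)`-local subgroup exactly when its Brauer image at `P`
survives. -/
theorem exists_inducing_iff (hM : IsPModular p M) {P H : Subgroup G} (hP : IsPGroup p P)
    (hPH : P ≤ H) (hCH : Subgroup.centralizer (P : Set G) ≤ H)
    (hHN : H ≤ Subgroup.normalizer (P : Set G)) {B : Set (IrrCharacter G)} (hB : IsPBlock M B) :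
    (∃ b : Set (IrrCharacter H), IsInducedBlock M H b B) ↔ ¬ BrZero M P (blockInd B) := by
  classical
  have heI := cenInt_blockInd hM hB
  have hres := fun ξ => resCen_sub_brCen_ideal hM hP hPH hHN heI ξ
  constructor
  · rintro ⟨b, hind⟩ h
    obtain ⟨ξ, hξ⟩ := pblock_nonempty hM hind.1
    refine induced_blockInd_notMem hM hind hξ
      ((ideal_congr hM (hres ξ)).2 (ideal_of_coeffFun_ideal hM (fun x => ?_) ξ))
    rw [coeffFun_brCen hHN]
    simp only [brFun]
    split_ifs with hx
    · exact h _ hx
    · exact ideal_zero hM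
  · intro h
    obtain ⟨ξ, hξ⟩ : ∃ ξ : IrrCharacter H, ¬ MemLocalIdeal M (brCen P H (blockInd B) ξ) := by
      by_contra hall
      push Not at hall
      obtain ⟨N, hN, hpow⟩ := exists_pow_coeff_ideal hM (CenInt.brCen hM hHN heI) hall
      have hd : ∀ n, 0 < n → ∀ x, MemLocalIdeal M
          (coeffFun (brCen P H (blockInd B) - brCen P H (blockInd B) ^ n) x) := by
        intro n hn
        induction n, hn using Nat.le_induction with
        | base => intro x; rw [pow_one, coeffFun_sub, sub_self]; exact ideal_zero hM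
        | succ n hn ih =>
          intro x
          cases nonempty_fintype H
          have h1 := brCen_mul_coeff_ideal hM hP hCH hHN heI heI x
          rw [blockInd_mul_self] at h1
          have h2 : MemLocalIdeal M (coeffFun ((brCen P H (blockInd B) -
              brCen P H (blockInd B) ^ n) * brCen P H (blockInd B)) x) := by
            rw [coeffFun_mul]
            exact ideal_sum hM fun y _ => ideal_mul_right hM (ih y) ((CenInt.brCen hM hHN heI) _)
          have h3 := ideal_add hM h1 h2
          rw [← coeffFun_add] at h3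
          convert h3 using 3
          rw [pow_succ]
          ring
      refine h fun c hc => ?_
      have h1 := ideal_add hM (hd N hN ⟨c, hCH hc⟩) (hpow ⟨c, hCH hc⟩)
      rw [coeffFun_sub, sub_add_cancel, coeffFun_brCen hHN] at h1
      simpa [brFun, hc] using h1
    obtain ⟨B', hB'⟩ := inducedBlockDefined_brauer hM hP hPH hCH hHN
      (isPBlock_blockOf (M := M) ξ)
    refine ⟨blockOf M (ξ : H → ℂ), ?_⟩
    rwa [← induced_eq_of_notMem hM hB' hB (mem_blockOf_self hM ξ)
      (fun hh => hξ ((ideal_congr hM (hres ξ)).1 hh))]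

/-! ### Height zero characters -/

theorem res_regPair [Fact p.Prime] (H : Subgroup G) (χ : IrrCharacter G)
    (ξ : IrrCharacter H) {a : IrrCharacter H → ℕ}
    (ha : (fun h : H => (χ : G → ℂ) h) = ∑ φ : IrrCharacter H, (a φ : ℂ) • (φ : H → ℂ)) :
    resCen H (regPair p χ) ξ = ∑ η : IrrCharacter H, (a η : ℂ) * regPair p η ξ := by
  classical
  cases nonempty_fintype H
  rw [resCen, coeffFun_regPair, finsum_eq_sum_of_fintype]
  simp only [regPair, regSum_eq_sum]
  simp only [← mul_div_assoc, ← Finset.sum_div, Finset.mul_sum]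
  rw [Finset.sum_comm, Finset.sum_filter]
  congr 1
  refine Finset.sum_congr rfl fun h _ => ?_
  simp only [regConj, Subgroup.orderOf_coe]
  by_cases hh : p ∣ orderOf h
  · simp [hh]
  · simp only [hh, if_false, not_false_eq_true, if_true]
    rw [irr_apply_inv, show (χ : G → ℂ) h = ∑ φ : IrrCharacter H, (a φ : ℂ) * (φ : H → ℂ) h by
      rw [← Cfsg.Agent.Char.sum_irr_apply, ← ha]]
    rw [map_sum, Finset.sum_mul]
    refine Finset.sum_congr rfl fun φ _ => ?_
    rw [map_mul, map_natCast]
    ring

theorem exists_height_zero_constituent [Fact p.Prime] [Fintype G] (hM : IsPModular p M)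
    (H : Subgroup G) [Fintype H] {b : Set (IrrCharacter H)} {B : Set (IrrCharacter G)}
    (hind : IsInducedBlock M H b B) {χ : IrrCharacter G} (hχ : χ ∈ B)
    (h0 : blockHeight p B (χ : G → ℂ) = 0) :
    ∃ ξ ∈ b, blockHeight p b (ξ : H → ℂ) = 0 ∧
      ∃ n : ℕ, classInner (fun h : H => (χ : G → ℂ) h) (ξ : H → ℂ) = (n : ℂ) ∧ ¬ p ∣ n := by
  obtain ⟨a, ha1, ha2⟩ := Cfsg.Agent.Char.IsChar.exists_decomp_inner
    (Cfsg.Agent.Char.IsChar.res (irr_isChar χ) H)
  by_contra hno
  obtain ⟨ξ₀, hξ₀⟩ := pblock_nonempty hM hind.1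
  refine regPair_unit hM hind.2.1 hχ hχ h0 ((ideal_congr hM
    (induced_congr hM hind (cenInt_regPair hM χ) hξ₀ hχ)).1 ?_)
  rw [res_regPair H χ ξ₀ ha2]
  refine ideal_sum hM fun η _ => ?_
  by_cases hη : η ∈ b
  · by_cases hz : blockHeight p b (η : H → ℂ) = 0
    · refine ideal_mul_right hM ((ideal_natCast_iff hM (a η)).2 ?_)
        ((cenInt_regPair hM η).ring hM ξ₀)
      by_contra hp
      exact hno ⟨η, hη, hz, a η, ha1 η, hp⟩
    · exact ideal_mul_left hM (ring_natCast hM _) (regPair_ideal hM hind.1 hη hξ₀ hz)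
  · rw [regPair_outside hM fun h => hη (pblock_mem_of_sameBlock hM hind.1 hξ₀ (sameBlock_symm h)),
      mul_zero]
    exact ideal_zero hM

/-- A block inducing a character whose restriction is irreducible of height zero. -/
theorem induced_blockOf_res_iff [Fact p.Prime] (hM : IsPModular p M) (H : Subgroup G)
    (χ : IrrCharacter G) (hres : IsIrrCharacter H (fun h : H => (χ : G → ℂ) h))
    (hχ0 : blockHeight p (blockOf M (χ : G → ℂ)) (χ : G → ℂ) = 0)
    (hψ0 : blockHeight p (blockOf M (fun h : H => (χ : G → ℂ) h)) (fun h : H => (χ : G → ℂ) h) = 0)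
    {e : Set (IrrCharacter H)} (he : InducedBlockDefined M H e) :
    IsInducedBlock M H e (blockOf M (χ : G → ℂ)) ↔
      e = blockOf M (fun h : H => (χ : G → ℂ) h) := by
  classical
  cases nonempty_fintype G
  cases nonempty_fintype H
  set ψ : IrrCharacter H := ⟨fun h : H => (χ : G → ℂ) h, hres⟩ with hψ
  constructor
  · intro hind
    obtain ⟨ξ, hξ, -, n, hn, hpn⟩ :=
      exists_height_zero_constituent hM H hind (mem_blockOf_self hM χ) hχ0
    have hne : classInner (fun h : H => (χ : G → ℂ) h) (ξ : H → ℂ) ≠ 0 := by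
      rw [hn]; exact Nat.cast_ne_zero.2 (fun h => hpn (h ▸ dvd_zero p))
    have heq : ψ = ξ := Subtype.ext (Cfsg.Agent.Char.eq_of_constituent_irr hres ξ.2 hne)
    rw [pblock_eq_blockOf hM hind.1 hξ, ← heq]
  · rintro rfl
    obtain ⟨B', hB'⟩ := he
    have hψmem : ψ ∈ blockOf M (fun h : H => (χ : G → ℂ) h) := mem_blockOf_self hM ψ
    suffices h : χ ∈ B' by rwa [← pblock_eq_blockOf hM hB'.2.1 h]
    by_contra hχ'
    obtain ⟨χ', hχ''⟩ := pblock_nonempty hM hB'.2.1
    have hdec : (fun h : H => (χ : G → ℂ) h) =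
        ∑ φ : IrrCharacter H, ((if φ = ψ then 1 else 0 : ℕ) : ℂ) • (φ : H → ℂ) := by
      simp [hψ]
    have h2 := induced_congr hM hB' (cenInt_regPair hM χ) hψmem hχ''
    rw [regPair_outside hM (fun h => hχ' (pblock_mem_of_sameBlock hM hB'.2.1 hχ''
      (sameBlock_symm h))), sub_zero, res_regPair H χ ψ hdec] at h2
    simp only [Nat.cast_ite, Nat.cast_one, Nat.cast_zero, ite_mul, one_mul, zero_mul,
      Finset.sum_ite_eq', Finset.mem_univ, if_true] at h2
    exact regPair_unit hM (isPBlock_blockOf ψ) hψmem hψmem hψ0 h2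

end Cfsg.Agent.Block
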