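import Mathlib
import Cfsg.Agent.Lib.Grp.Cores
import Cfsg.Agent.Lib.Grp.Frattini
import Cfsg.Agent.Lib.Invol.Basic
import Cfsg.Agent.S0238

/-!
A group with a four subgroup whose three involutions have centralizers of bounded order
has order bounded in terms of that bound and its `2`-part.
-/

namespace Cfsg.Agent.Block

set_option linter.unusedSectionVars false

universe u

variable {X : Type u} [Group X] [Finite X]

theorem card_le_fiber_mul {α β : Type*} [Finite α] [Finite β] (f : α → β) (n : ℕ)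
    (h : ∀ b, Nat.card {a // f a = b} ≤ n) : Nat.card α ≤ Nat.card β * n := by
  classical
  cases nonempty_fintype β
  calc Nat.card α = Nat.card (Σ b, {a // f a = b}) := (Nat.card_congr (Equiv.sigmaFiberEquiv f)).symm
    _ = ∑ b, Nat.card {a // f a = b} := Nat.card_sigma
    _ ≤ ∑ _b : β, n := Finset.sum_le_sum fun b _ => h b
    _ = Nat.card β * n := by simp [Nat.card_eq_fintype_card]

/-- A centralizer does not grow in a quotient. -/
theorem card_centralizer_quotient_le (N : Subgroup X) [N.Normal] (v : X) :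
    Nat.card (Subgroup.centralizer ({(v : X ⧸ N)} : Set (X ⧸ N))) ≤
      Nat.card (Subgroup.centralizer ({v} : Set X)) := by
  set C := Subgroup.centralizer ({(v : X ⧸ N)} : Set (X ⧸ N)) with hC
  set S := C.comap (QuotientGroup.mk' N) with hS
  have hidx : S.index = C.index :=
    Subgroup.index_comap_of_surjective C (QuotientGroup.mk'_surjective N)
  have hcard : Nat.card S = Nat.card C * Nat.card N := by
    have h1 := S.card_mul_index
    rw [Subgroup.card_eq_card_quotient_mul_card_subgroup N, ← C.card_mul_index, hidx] at h1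
    exact Nat.eq_of_mul_eq_mul_right (Nat.pos_of_ne_zero C.index_ne_zero_of_finite) (by linarith)
  have hmem : ∀ x : S, (x : X)⁻¹ * (v * x * v⁻¹) ∈ N := fun x => by
    have hx : (x : X ⧸ N) * (v : X ⧸ N) = (v : X ⧸ N) * (x : X ⧸ N) :=
      Subgroup.mem_centralizer_singleton_iff.1 x.2
    rw [← QuotientGroup.eq_one_iff]
    simp only [QuotientGroup.mk_mul, QuotientGroup.mk_inv]
    rw [← hx]
    group
  let f : S → N := fun x => ⟨_, hmem x⟩
  have h := card_le_fiber_mul f (Nat.card (Subgroup.centralizer ({v} : Set X))) fun b => by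
    rcases isEmpty_or_nonempty {x // f x = b} with h | h
    · simp
    · obtain ⟨x₀, hx₀⟩ := h
      refine Nat.card_le_card_of_injective (fun x => (⟨(x.1 : X) * (x₀ : X)⁻¹, ?_⟩ :
        Subgroup.centralizer ({v} : Set X))) ?_
      · have hx : (x.1 : X)⁻¹ * (v * x.1 * v⁻¹) = (x₀ : X)⁻¹ * (v * x₀ * v⁻¹) :=
          congrArg Subtype.val (x.2.trans hx₀.symm)
        rw [Subgroup.mem_centralizer_singleton_iff]
        calc (x.1 : X) * (x₀ : X)⁻¹ * v
            = (x.1 : X) * ((x₀ : X)⁻¹ * (v * x₀ * v⁻¹)) * v * (x₀ : X)⁻¹ := by group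
          _ = (x.1 : X) * ((x.1 : X)⁻¹ * (v * x.1 * v⁻¹)) * v * (x₀ : X)⁻¹ := by rw [hx]
          _ = v * ((x.1 : X) * (x₀ : X)⁻¹) := by group
      · intro a b hab
        exact Subtype.ext (Subtype.ext (mul_right_cancel (congrArg Subtype.val hab)))
  rw [hcard, mul_comm] at h
  exact Nat.le_of_mul_le_mul_left h Nat.card_pos

/-- Brauer–Fowler: a nontrivial element with centralizer of small index. -/
theorem exists_small_index_centralizer {v : X} (hv : orderOf v = 2) {c : ℕ}
    (hc : Nat.card (Subgroup.centralizer ({v} : Set X)) ≤ c) :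
    ∃ x : X, x ≠ 1 ∧ (Subgroup.centralizer ({x} : Set X)).index ≤ 2 * c ^ 2 := by
  classical
  cases nonempty_fintype X
  set C := Subgroup.centralizer ({v} : Set X) with hCdef
  have hc0 : 0 < c := lt_of_lt_of_le Nat.card_pos hc
  have hv1 := Invol.ne_one_of_orderOf_two hv
  by_cases hcent : v ∈ Subgroup.center X
  · refine ⟨v, hv1, ?_⟩
    rw [← hCdef, show C = ⊤ from eq_top_iff.2 fun g _ =>
      Subgroup.mem_centralizer_singleton_iff.2 (Subgroup.mem_center_iff.1 hcent g),
      Subgroup.index_top]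
    have := Nat.one_le_pow 2 c hc0
    omega
  set n := Nat.card C with hn
  set S : Finset X := Finset.univ.filter (fun x : X => orderOf x = 2) with hS
  set m := S.card with hm
  have hgnm : Nat.card X ≤ n * m := by
    rw [Subgroup.card_eq_card_quotient_mul_card_subgroup C, mul_comm, hm, ← Fintype.card_coe,
      ← Nat.card_eq_fintype_card]
    refine Nat.mul_le_mul_left _ ?_
    refine Nat.card_le_card_of_injective (fun q : X ⧸ C => (⟨Quotient.liftOn' q (fun g => g * v * g⁻¹)
      (fun a b hab => ?_), ?_⟩ : S)) ?_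
    · have h : a⁻¹ * b ∈ C := QuotientGroup.leftRel_apply.mp hab
      rw [hCdef, Subgroup.mem_centralizer_singleton_iff] at h
      calc a * v * a⁻¹ = a * (v * (a⁻¹ * b)) * b⁻¹ := by group
        _ = a * (a⁻¹ * b * v) * b⁻¹ := by rw [h]
        _ = b * v * b⁻¹ := by group
    · induction q using QuotientGroup.induction_on with | _ g => ?_
      exact Finset.mem_filter.mpr ⟨Finset.mem_univ _, (Invol.orderOf_conj_eq g v).trans hv⟩
    · intro q r hqr
      induction q using QuotientGroup.induction_on with | _ a => ?_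
      induction r using QuotientGroup.induction_on with | _ b => ?_
      have h : a * v * a⁻¹ = b * v * b⁻¹ := congrArg Subtype.val hqr
      rw [QuotientGroup.eq, hCdef, Subgroup.mem_centralizer_singleton_iff]
      calc a⁻¹ * b * v = a⁻¹ * (b * v * b⁻¹) * b := by group
        _ = a⁻¹ * (a * v * a⁻¹) * b := by rw [h]
        _ = v * (a⁻¹ * b) := by group
  have hm2 : 2 ≤ m := by
    obtain ⟨g, hg⟩ : ∃ g : X, g * v * g⁻¹ ≠ v := by
      by_contra h
      push Not at h
      exact hcent (Subgroup.mem_center_iff.mpr fun g => mul_inv_eq_iff_eq_mul.mp (h g))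
    exact Finset.one_lt_card.mpr ⟨_, Finset.mem_filter.mpr ⟨Finset.mem_univ _, (Invol.orderOf_conj_eq g v).trans hv⟩,
      v, Finset.mem_filter.mpr ⟨Finset.mem_univ _, hv⟩, hg⟩
  obtain ⟨x, hx, hmax⟩ := Finset.exists_max_image (Finset.univ.erase (1 : X))
    (fun y => Nat.card (Subgroup.centralizer ({y} : Set X)))
    ⟨v, Finset.mem_erase.mpr ⟨hv1, Finset.mem_univ _⟩⟩
  refine ⟨x, (Finset.mem_erase.mp hx).1, ?_⟩
  set D := Subgroup.centralizer ({x} : Set X) with hD
  have hsum : m * m ≤ m + (Nat.card X - 1) * Nat.card D := by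
    have h1 : (S ×ˢ S).card = ∑ y : X, ((S ×ˢ S).filter fun q => q.1 * q.2 = y).card :=
      Finset.card_eq_sum_card_fiberwise (fun q _ => Finset.mem_univ _)
    rw [Finset.card_product, ← Finset.add_sum_erase _ _ (Finset.mem_univ (1 : X))] at h1
    rw [h1]
    refine Nat.add_le_add ?_ ?_
    · refine Finset.card_le_card_of_injOn Prod.fst
        (fun q hq => (Finset.mem_product.mp (Finset.mem_filter.mp hq).1).1) ?_
      intro a ha b hb hab
      have e1 := (Finset.mem_filter.mp ha).2
      have e2 := (Finset.mem_filter.mp hb).2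
      refine Prod.ext hab (mul_left_cancel (a := a.1) ?_)
      rw [e1]
      conv_rhs => rw [hab]
      exact e2.symm
    · refine (Finset.sum_le_card_nsmul _ _ (Nat.card D) fun y hy => ?_).trans (le_of_eq ?_)
      · have := (S0238.result y).1
        refine le_trans (le_of_eq ?_) (this.trans (hmax y hy))
        rw [Nat.card_eq_fintype_card, Fintype.card_subtype]
        congr 1
        ext q
        simp [hS, and_assoc]
      · rw [smul_eq_mul, Finset.card_erase_of_mem (Finset.mem_univ _), Finset.card_univ,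
          ← Nat.card_eq_fintype_card]
  have hDg := D.card_mul_index
  have hD0 : 0 < Nat.card D := Nat.card_pos
  have hg0 : 0 < Nat.card X := Nat.card_pos
  have h2 : m * m ≤ 2 * (Nat.card X * Nat.card D) := by
    have : (Nat.card X - 1) * Nat.card D ≤ Nat.card X * Nat.card D :=
      Nat.mul_le_mul_right _ (Nat.sub_le _ _)
    nlinarith
  have h3 : Nat.card X * Nat.card X ≤ n * n * (2 * (Nat.card X * Nat.card D)) :=
    le_trans (Nat.mul_le_mul hgnm hgnm) (le_trans (le_of_eq (by ring)) (Nat.mul_le_mul_left _ h2))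
  have h4 : Nat.card X ≤ 2 * n ^ 2 * Nat.card D :=
    Nat.le_of_mul_le_mul_left (le_trans h3 (le_of_eq (by ring))) hg0
  have h5 : D.index ≤ 2 * n ^ 2 := by
    rw [← hDg, mul_comm] at h4
    exact Nat.le_of_mul_le_mul_right h4 hD0
  exact h5.trans (Nat.mul_le_mul_left _ (Nat.pow_le_pow_left hc 2))

theorem normal_eq_bot_of_odd (hO : Cfsg.pPrimeCore 2 X = ⊥) {A : Subgroup X} (hA : A.Normal)
    (hodd : ¬ 2 ∣ Nat.card A) : A = ⊥ :=
  le_bot_iff.1 (hO ▸ Grp.le_pPrimeCore hA (Nat.coprime_comm.1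
    (Nat.prime_two.coprime_iff_not_dvd.2 hodd)))

/-- A normal abelian subgroup is a `2`-group when there is no odd normal subgroup. -/
theorem isPGroup_two_of_abelian_normal (hO : Cfsg.pPrimeCore 2 X = ⊥) (A : Subgroup X) [hA : A.Normal]
    (hcomm : ∀ a ∈ A, ∀ b ∈ A, a * b = b * a) : IsPGroup 2 A := by
  classical
  haveI : Fact (Nat.Prime 2) := ⟨Nat.prime_two⟩
  let A' : Subgroup X :=
    { carrier := {x | x ∈ A ∧ ¬ 2 ∣ orderOf x}
      one_mem' := ⟨A.one_mem, by simp⟩
      mul_mem' := fun {a b} ha hb => ⟨A.mul_mem ha.1 hb.1, fun h => by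
        have hd := Commute.orderOf_mul_dvd_lcm (show Commute a b from hcomm a ha.1 b hb.1)
        have := dvd_trans h (dvd_trans hd (Nat.lcm_dvd_mul _ _))
        rcases (Nat.Prime.dvd_mul Nat.prime_two).1 this with h' | h'
        · exact ha.2 h'
        · exact hb.2 h'⟩
      inv_mem' := fun {a} ha => ⟨A.inv_mem ha.1, by rw [orderOf_inv]; exact ha.2⟩ }
  have hA' : A'.Normal := ⟨fun x hx g => ⟨hA.conj_mem x hx.1 g, by
    rw [Invol.orderOf_conj_eq]; exact hx.2⟩⟩
  have hbot : A' = ⊥ := normal_eq_bot_of_odd hO hA' fun h => by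
    obtain ⟨x, hx⟩ := exists_prime_orderOf_dvd_card' 2 h
    exact x.2.2 (by rw [Subgroup.orderOf_coe, hx])
  intro a
  obtain ⟨k, m, hm, hkm⟩ := Nat.exists_eq_pow_mul_and_not_dvd (orderOf_pos (a : X)).ne' 2 (by norm_num)
  refine ⟨k, Subtype.ext ?_⟩
  have hmem : ((a : X) ^ 2 ^ k) ∈ A' := ⟨A.pow_mem a.2 _, by
    rw [orderOf_pow, hkm, Nat.gcd_mul_right_left, Nat.mul_div_cancel_left _ (pow_pos two_pos _)]
    exact hm⟩
  rw [hbot, Subgroup.mem_bot] at hmem
  simpa using hmem

/-- Without odd normal subgroups there is a bounded normal subgroup of even order. -/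
theorem exists_bounded_normal (hO : Cfsg.pPrimeCore 2 X = ⊥) {v : X} (hv : orderOf v = 2) {a c : ℕ}
    (ha : (Nat.card X).factorization 2 ≤ a)
    (hc : Nat.card (Subgroup.centralizer ({v} : Set X)) ≤ c) :
    ∃ L : Subgroup X, L.Normal ∧ 2 ∣ Nat.card L ∧
      Nat.card L ≤ 2 ^ a * Nat.factorial (2 * c ^ 2) := by
  classical
  obtain ⟨x, hx1, hidx⟩ := exists_small_index_centralizer hv hc
  set D := Subgroup.centralizer ({x} : Set X)
  set K := D.normalCore
  have hKidx : K.index ≤ Nat.factorial (2 * c ^ 2) := by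
    rw [show K = (MulAction.toPermHom X (X ⧸ D)).ker from Subgroup.normalCore_eq_ker D,
      Subgroup.index_ker]
    refine le_trans (Subgroup.card_le_card_group _) ?_
    rw [Nat.card_perm, ← Subgroup.index_eq_card]
    exact Nat.factorial_le hidx
  set L := Subgroup.centralizer (K : Set X) with hL
  have hLn : L.Normal := inferInstance
  have hxL : x ∈ L := fun k hk =>
    Subgroup.mem_centralizer_singleton_iff.1 (D.normalCore_le hk)
  refine ⟨L, hLn, ?_, ?_⟩
  · by_contra h
    have := normal_eq_bot_of_odd hO hLn h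
    rw [this, Subgroup.mem_bot] at hxL
    exact hx1 hxL
  · have hAn : (K ⊓ L).Normal := inferInstance
    have hA : IsPGroup 2 ↥(K ⊓ L) := isPGroup_two_of_abelian_normal hO (K ⊓ L) fun p hp q hq =>
      Subgroup.mem_centralizer_iff.1 hq.2 p hp.1
    obtain ⟨k, hk⟩ := IsPGroup.iff_card.1 hA
    have hka : k ≤ a := le_trans
      ((Nat.prime_two.pow_dvd_iff_le_factorization Nat.card_pos.ne').1
        (hk ▸ Subgroup.card_subgroup_dvd_card _)) ha
    rw [← Grp.card_mul_relIndex (inf_le_right : K ⊓ L ≤ L), Subgroup.inf_relIndex_right, hk]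
    refine Nat.mul_le_mul (Nat.pow_le_pow_right two_pos hka) (le_trans ?_ hKidx)
    exact Nat.le_of_dvd (Nat.pos_of_ne_zero K.index_ne_zero_of_finite)
      (Subgroup.relIndex_dvd_index_of_normal K L)

theorem exists_conj_of_inverts {u b : X} (h : u * b * u⁻¹ = b⁻¹) (hb : ¬ 2 ∣ orderOf b) :
    ∃ s ∈ Subgroup.zpowers b, s⁻¹ * u * s = u * b := by
  obtain ⟨m, hm⟩ : ∃ m, orderOf b = 2 * m + 1 := ⟨orderOf b / 2, by omega⟩
  refine ⟨b ^ (m + 1), Subgroup.pow_mem _ (Subgroup.mem_zpowers b) _, ?_⟩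
  have h1 : u * b ^ (m + 1) * u⁻¹ = (b ^ (m + 1))⁻¹ := by rw [← conj_pow, h, inv_pow]
  calc (b ^ (m + 1))⁻¹ * u * b ^ (m + 1) = u * b ^ (m + 1) * u⁻¹ * u * b ^ (m + 1) := by rw [h1]
    _ = u * (b ^ (m + 1) * b ^ (m + 1)) := by group
    _ = u * b := by
      rw [← pow_add, show m + 1 + (m + 1) = orderOf b + 1 by omega, pow_succ, pow_orderOf_eq_one,
        one_mul]

/-- An odd normal subgroup under a four group is bounded by the centralizers. -/
theorem card_odd_normal_le {v w : X} (hv : orderOf v = 2) (hw : orderOf w = 2) (hvw : v * w = w * v)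
    (hne : v ≠ w) {c : ℕ} (hcv : Nat.card (Subgroup.centralizer ({v} : Set X)) ≤ c)
    (hcw : Nat.card (Subgroup.centralizer ({w} : Set X)) ≤ c)
    (hcu : Nat.card (Subgroup.centralizer ({v * w} : Set X)) ≤ c)
    (N : Subgroup X) [N.Normal] (hN : ¬ 2 ∣ Nat.card N) : Nat.card N ≤ c * c * c := by
  classical
  have hu2 : orderOf (v * w) = 2 := by
    rw [Invol.orderOf_two_iff]
    have hvv := Invol.mul_self_of_orderOf_two hv
    have hww := Invol.mul_self_of_orderOf_two hw
    refine ⟨?_, fun h => hne ?_⟩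
    · calc v * w * (v * w) = v * (w * v) * w := by group
        _ = v * (v * w) * w := by rw [hvw]
        _ = (v * v) * (w * w) := by group
        _ = 1 := by rw [hvv, hww, one_mul]
    · calc v = v * (w * w) := by rw [hww, mul_one]
        _ = v * w * w := (mul_assoc _ _ _).symm
        _ = w := by rw [h, one_mul]
  set u := v * w with hu
  clear_value u
  have hodd : ∀ y ∈ N, ¬ 2 ∣ orderOf y := fun y hy h =>
    hN (dvd_trans h (Subgroup.orderOf_dvd_natCard N hy))
  have huN : u ∉ N := fun h => hodd u h (by rw [hu2])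
  have hwinv : w⁻¹ = w := Invol.inv_of_orderOf_two hw
  have key : ∀ x ∈ N, ∃ z s : X, z * w = w * z ∧ s⁻¹ * u * s = z ∧
      (x * v * x⁻¹) * z = z * (x * v * x⁻¹) := by
    intro x hx
    set v' := x * v * x⁻¹ with hv'
    have hv'2 : orderOf v' = 2 := (Invol.orderOf_conj_eq x v).trans hv
    have hq : ((v' * w : X) : X ⧸ N) = (u : X ⧸ N) := by
      simp only [hv', hu, QuotientGroup.mk_mul, QuotientGroup.mk_inv,
        (QuotientGroup.eq_one_iff x).2 hx, one_mul, mul_one, inv_one]
    have hu2q : orderOf (u : X ⧸ N) = 2 := orderOf_eq_prime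
      (by rw [← QuotientGroup.mk_pow, ← hu2, pow_orderOf_eq_one, QuotientGroup.mk_one])
      (fun h => huN ((QuotientGroup.eq_one_iff u).1 h))
    have h2 : 2 ∣ orderOf (v' * w) := by
      rw [← hu2q, ← hq]
      exact orderOf_map_dvd (QuotientGroup.mk' N) _
    obtain ⟨k, hk⟩ := h2
    have hk0 : k ≠ 0 := fun h => (orderOf_pos (v' * w)).ne' (by rw [hk, h, mul_zero])
    set z := (v' * w) ^ k with hz
    have hz2 : orderOf z = 2 := by
      rw [hz, orderOf_pow, hk, Nat.gcd_mul_left_left, Nat.mul_div_cancel _ (Nat.pos_of_ne_zero hk0)]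
    have hzinv : z⁻¹ = z := Invol.inv_of_orderOf_two hz2
    have hinvw : w * (v' * w) * w⁻¹ = (v' * w)⁻¹ := by
      rw [mul_inv_rev, Invol.inv_of_orderOf_two hv'2, hwinv, mul_assoc, mul_assoc,
        Invol.mul_self_of_orderOf_two hw, mul_one]
    have hzw : z * w = w * z := by
      have : w * z * w⁻¹ = z := by rw [hz, ← conj_pow, hinvw, inv_pow, ← hz, hzinv]
      exact (mul_inv_eq_iff_eq_mul.1 this).symm
    have hzv : v' * z = z * v' := by
      have hc' : (v' * w) * z = z * (v' * w) := (Commute.self_pow _ k).eq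
      have : v' * z * w = z * v' * w := by
        calc v' * z * w = v' * (z * w) := mul_assoc _ _ _
          _ = v' * (w * z) := by rw [hzw]
          _ = v' * w * z := (mul_assoc _ _ _).symm
          _ = z * (v' * w) := hc'
          _ = z * v' * w := (mul_assoc _ _ _).symm
      exact mul_right_cancel this
    have hzq : (z : X ⧸ N) = (u : X ⧸ N) := by
      rw [hz, QuotientGroup.mk_pow, hq]
      rcases Nat.even_or_odd k with hk' | hk'
      · exfalso
        obtain ⟨j, hj⟩ := hk'
        have : (z : X ⧸ N) = 1 := by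
          rw [hz, QuotientGroup.mk_pow, hq, hj, ← two_mul, pow_mul, ← hu2q, pow_orderOf_eq_one,
            one_pow]
        exact hodd z ((QuotientGroup.eq_one_iff z).1 this) (by rw [hz2])
      · obtain ⟨j, rfl⟩ := hk'
        rw [pow_succ, pow_mul, ← hu2q, pow_orderOf_eq_one, one_pow, one_mul]
    have hb : u⁻¹ * z ∈ N := QuotientGroup.eq.1 hzq.symm
    obtain ⟨s, -, hs⟩ := exists_conj_of_inverts (u := u) (b := u⁻¹ * z)
      (by rw [mul_inv_rev, inv_inv, hzinv, mul_assoc, mul_assoc, ← mul_assoc u u⁻¹, mul_inv_cancel, one_mul,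
        Invol.inv_of_orderOf_two hu2]) (hodd _ hb)
    exact ⟨z, s, hzw, by rw [hs, mul_inv_cancel_left], hzv⟩
  choose z s hzw hs hzv using key
  have hsC : ∀ x (hx : x ∈ N), s x hx * (x * v * x⁻¹) * (s x hx)⁻¹ ∈
      Subgroup.centralizer ({u} : Set X) := fun x hx => by
    rw [Subgroup.mem_centralizer_singleton_iff]
    have h := hzv x hx
    rw [← hs x hx] at h
    calc s x hx * (x * v * x⁻¹) * (s x hx)⁻¹ * u
        = s x hx * ((x * v * x⁻¹) * ((s x hx)⁻¹ * u * s x hx)) * (s x hx)⁻¹ := by group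
      _ = s x hx * (((s x hx)⁻¹ * u * s x hx) * (x * v * x⁻¹)) * (s x hx)⁻¹ := by rw [h]
      _ = u * (s x hx * (x * v * x⁻¹) * (s x hx)⁻¹) := by group
  -- `s` may be chosen as a function of `z`
  let t : X → X := fun y => if h : ∃ a : X, a⁻¹ * u * a = y then h.choose else 1
  have ht : ∀ x (hx : x ∈ N), (t (z x hx))⁻¹ * u * t (z x hx) = z x hx := fun x hx => by
    simp only [t, dif_pos (show ∃ a : X, a⁻¹ * u * a = z x hx from ⟨_, hs x hx⟩)]
    exact Exists.choose_spec (show ∃ a : X, a⁻¹ * u * a = z x hx from ⟨_, hs x hx⟩)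
  have htC : ∀ x (hx : x ∈ N), t (z x hx) * (x * v * x⁻¹) * (t (z x hx))⁻¹ ∈
      Subgroup.centralizer ({u} : Set X) := fun x hx => by
    rw [Subgroup.mem_centralizer_singleton_iff]
    have h := hzv x hx
    rw [← ht x hx] at h
    generalize t (z x hx) = a at h ⊢
    calc a * (x * v * x⁻¹) * a⁻¹ * u
        = a * ((x * v * x⁻¹) * (a⁻¹ * u * a)) * a⁻¹ := by group
      _ = a * ((a⁻¹ * u * a) * (x * v * x⁻¹)) * a⁻¹ := by rw [h]
      _ = u * (a * (x * v * x⁻¹) * a⁻¹) := by group
  let f : N → Subgroup.centralizer ({w} : Set X) × Subgroup.centralizer ({u} : Set X) := fun x =>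
    (⟨z x.1 x.2, Subgroup.mem_centralizer_singleton_iff.2 (hzw x.1 x.2)⟩, ⟨_, htC x.1 x.2⟩)
  have h := card_le_fiber_mul f c fun b => by
    rcases isEmpty_or_nonempty {x // f x = b} with h | h
    · simp
    · obtain ⟨x₀, hx₀⟩ := h
      refine le_trans (Nat.card_le_card_of_injective (fun x => (⟨(x₀ : X)⁻¹ * (x.1 : X), ?_⟩ :
        Subgroup.centralizer ({v} : Set X))) ?_) hcv
      · have hfx := x.2.trans hx₀.symm
        have h1 : z x.1.1 x.1.2 = z x₀.1 x₀.2 := congrArg (fun q => ((q.1 : _) : X)) hfx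
        have h2 : t (z x.1.1 x.1.2) * ((x.1 : X) * v * (x.1 : X)⁻¹) * (t (z x.1.1 x.1.2))⁻¹ =
            t (z x₀.1 x₀.2) * ((x₀ : X) * v * (x₀ : X)⁻¹) * (t (z x₀.1 x₀.2))⁻¹ :=
          congrArg (fun q => ((q.2 : _) : X)) hfx
        rw [h1] at h2
        have h3 := mul_left_cancel (mul_right_cancel h2)
        rw [Subgroup.mem_centralizer_singleton_iff]
        calc (x₀ : X)⁻¹ * x.1 * v = (x₀ : X)⁻¹ * ((x.1 : X) * v * (x.1 : X)⁻¹) * x.1 := by group
          _ = (x₀ : X)⁻¹ * ((x₀ : X) * v * (x₀ : X)⁻¹) * x.1 := by rw [h3]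
          _ = v * ((x₀ : X)⁻¹ * x.1) := by group
      · intro a b hab
        exact Subtype.ext (Subtype.ext (mul_left_cancel (congrArg Subtype.val hab)))
  rw [Nat.card_prod] at h
  exact le_trans h (Nat.mul_le_mul_right _ (Nat.mul_le_mul hcw hcu))

/-- The number of elements is bounded by a normal subgroup and the kernel of the conjugation
action on it. -/
theorem card_le_pow_normal (L : Subgroup X) [L.Normal] :
    Nat.card X ≤ (Nat.card L) ^ (Nat.card L) * Nat.card (Subgroup.centralizer (L : Set X)) := by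
  classical
  cases nonempty_fintype L
  have hcard : Nat.card (L → L) = (Nat.card L) ^ (Nat.card L) := by simp
  rw [← hcard]
  refine card_le_fiber_mul (fun x : X => fun l : L =>
    (⟨x * l * x⁻¹, Subgroup.Normal.conj_mem inferInstance _ l.2 x⟩ : L)) _ fun b => ?_
  rcases isEmpty_or_nonempty {x : X // (fun l : L =>
      (⟨x * l * x⁻¹, Subgroup.Normal.conj_mem inferInstance _ l.2 x⟩ : L)) = b} with h | h
  · simp
  · obtain ⟨x₀, hx₀⟩ := h
    refine Nat.card_le_card_of_injective (fun x => (⟨x₀⁻¹ * x.1, ?_⟩ :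
      Subgroup.centralizer (L : Set X))) ?_
    · intro l hl
      have h1 : x.1 * l * x.1⁻¹ = x₀ * l * x₀⁻¹ :=
        congrArg (fun q : L → L => ((q ⟨l, hl⟩ : L) : X)) (x.2.trans hx₀.symm)
      calc l * (x₀⁻¹ * x.1) = x₀⁻¹ * (x₀ * l * x₀⁻¹) * x.1 := by group
        _ = x₀⁻¹ * (x.1 * l * x.1⁻¹) * x.1 := by rw [h1]
        _ = x₀⁻¹ * x.1 * l := by group
    · intro a b hab
      exact Subtype.ext (mul_left_cancel (congrArg Subtype.val hab))

/-- A four group with centralizers of bounded order, in a group of bounded `2`-part. -/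
theorem exists_bound_of_four_group (a c : ℕ) : ∃ F : ℕ, ∀ (X : Type u) [Group X] [Finite X] (v w : X),
    orderOf v = 2 → orderOf w = 2 → v * w = w * v → v ≠ w →
    Nat.card (Subgroup.centralizer ({v} : Set X)) ≤ c →
    Nat.card (Subgroup.centralizer ({w} : Set X)) ≤ c →
    Nat.card (Subgroup.centralizer ({v * w} : Set X)) ≤ c →
    (Nat.card X).factorization 2 ≤ a → Nat.card X ≤ F := by
  induction a with
  | zero =>
    refine ⟨0, fun X _ _ v w hv _ _ _ _ _ _ ha => absurd ha ?_⟩
    have h2 : 2 ∣ Nat.card X := hv ▸ orderOf_dvd_natCard v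
    have := Nat.prime_two.factorization_pos_of_dvd Nat.card_pos.ne' h2
    omega
  | succ a ih =>
    obtain ⟨F, hF⟩ := ih
    set l := 2 ^ (a + 1) * Nat.factorial (2 * c ^ 2)
    refine ⟨(max (l ^ l * c) (l * F)) * (c * c * c), fun X _ _ v w hv hw hvw hne hcv hcw hcu ha => ?_⟩
    haveI : Fact (Nat.Prime 2) := ⟨Nat.prime_two⟩
    haveI hOn : (Cfsg.pPrimeCore 2 X).Normal := Grp.pPrimeCore_isNormal
    set O := Cfsg.pPrimeCore 2 X with hOdef
    have hOodd : ¬ 2 ∣ Nat.card O := Grp.pPrimeCore_not_dvd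
    rw [Subgroup.card_eq_card_quotient_mul_card_subgroup O]
    refine Nat.mul_le_mul ?_ (card_odd_normal_le hv hw hvw hne hcv hcw hcu O hOodd)
    have hmkN : ∀ (Y : Type u) [Group Y] [Finite Y] (N : Subgroup Y) [N.Normal] (y : Y),
        orderOf y = 2 → y ∉ N → orderOf (y : Y ⧸ N) = 2 := fun Y _ _ N _ y hy hyN => orderOf_eq_prime
      (by rw [← QuotientGroup.mk_pow, ← hy, pow_orderOf_eq_one, QuotientGroup.mk_one])
      (fun h => hyN ((QuotientGroup.eq_one_iff y).1 h))
    have hnotO : ∀ y : X, orderOf y = 2 → y ∉ O := fun y hy h =>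
      hOodd (hy ▸ Subgroup.orderOf_dvd_natCard O h)
    have hu2 : orderOf (v * w) = 2 := by
      have hww := Invol.mul_self_of_orderOf_two hw
      refine orderOf_eq_prime ?_ fun h => hne ?_
      · rw [pow_two, mul_assoc, ← mul_assoc w v w, ← hvw, mul_assoc v w w, hww, mul_one,
          Invol.mul_self_of_orderOf_two hv]
      · calc v = v * (w * w) := by rw [hww, mul_one]
          _ = v * w * w := (mul_assoc _ _ _).symm
          _ = w := by rw [h, one_mul]
    set vb : X ⧸ O := (v : X ⧸ O) with hvb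
    set wb : X ⧸ O := (w : X ⧸ O) with hwb
    have hvb2 : orderOf vb = 2 := hmkN X O v hv (hnotO v hv)
    have hwb2 : orderOf wb = 2 := hmkN X O w hw (hnotO w hw)
    have hub2 : orderOf (vb * wb) = 2 := hmkN X O (v * w) hu2 (hnotO _ hu2)
    have hcvb : Nat.card (Subgroup.centralizer ({vb} : Set (X ⧸ O))) ≤ c :=
      (card_centralizer_quotient_le O v).trans hcv
    have hcwb : Nat.card (Subgroup.centralizer ({wb} : Set (X ⧸ O))) ≤ c :=
      (card_centralizer_quotient_le O w).trans hcw
    have hcub : Nat.card (Subgroup.centralizer ({vb * wb} : Set (X ⧸ O))) ≤ c :=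
      (card_centralizer_quotient_le O (v * w)).trans hcu
    have hab : (Nat.card (X ⧸ O)).factorization 2 ≤ a + 1 :=
      le_trans ((Nat.factorization_le_iff_dvd Nat.card_pos.ne' Nat.card_pos.ne').2
        (Subgroup.card_quotient_dvd_card O) 2) ha
    have hcomb : vb * wb = wb * vb := congrArg (QuotientGroup.mk' O) hvw
    obtain ⟨L, hLn, hL2, hLc⟩ := exists_bounded_normal (X := X ⧸ O)
      Grp.pPrimeCore_quotient_eq_bot hvb2 hab hcvb
    by_cases hmeet : vb ∈ L ∨ wb ∈ L ∨ vb * wb ∈ L
    · refine le_trans (le_trans (card_le_pow_normal L) ?_) (le_max_left _ _)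
      refine Nat.mul_le_mul (le_trans (Nat.pow_le_pow_left hLc _)
        (Nat.pow_le_pow_right (Nat.mul_pos (pow_pos two_pos _) (Nat.factorial_pos _)) hLc)) ?_
      have hsub : ∀ y ∈ L, Subgroup.centralizer (L : Set (X ⧸ O)) ≤
          Subgroup.centralizer ({y} : Set (X ⧸ O)) :=
        fun y hy => Subgroup.centralizer_le (Set.singleton_subset_iff.2 hy)
      rcases hmeet with h | h | h
      · exact (Subgroup.card_le_of_le (hsub _ h)).trans hcvb
      · exact (Subgroup.card_le_of_le (hsub _ h)).trans hcwb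
      · exact (Subgroup.card_le_of_le (hsub _ h)).trans hcub
    · push Not at hmeet
      refine le_trans ?_ (le_max_right _ _)
      rw [Subgroup.card_eq_card_quotient_mul_card_subgroup L, mul_comm]
      refine Nat.mul_le_mul hLc ?_
      have hne' : (vb : (X ⧸ O) ⧸ L) ≠ (wb : (X ⧸ O) ⧸ L) := fun h => hmeet.2.2 (by
        rw [QuotientGroup.eq, Invol.inv_of_orderOf_two hvb2] at h
        exact h)
      refine hF _ (vb : (X ⧸ O) ⧸ L) (wb : (X ⧸ O) ⧸ L) (hmkN _ L vb hvb2 hmeet.1)
        (hmkN _ L wb hwb2 hmeet.2.1) (congrArg (QuotientGroup.mk' L) hcomb) hne'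
        ((card_centralizer_quotient_le L vb).trans hcvb)
        ((card_centralizer_quotient_le L wb).trans hcwb)
        ((card_centralizer_quotient_le L (vb * wb)).trans hcub) ?_
      have hc := Subgroup.card_eq_card_quotient_mul_card_subgroup L
      have h1 : 1 ≤ (Nat.card L).factorization 2 :=
        Nat.prime_two.factorization_pos_of_dvd Nat.card_pos.ne' hL2
      have h2 := congrArg (fun n => n.factorization 2) hc
      simp only [Nat.factorization_mul Nat.card_pos.ne' Nat.card_pos.ne', Finsupp.add_apply] at h2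
      omega

end Cfsg.Agent.Block
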