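import Mathlib

/-!
Transitive commuting subgroups and regular normal subgroups.
-/

set_option autoImplicit false

namespace Cfsg.Agent.Block

universe u v

variable {G : Type u} [Group G] {α : Type v} [MulAction G α]

/-- An element centralizing a transitive subgroup is determined by the image of one point. -/
theorem eq_one_of_commute_transitive [FaithfulSMul G α] {M : Subgroup G} (hM : MulAction.IsPretransitive M α)
    {g : G} (hg : ∀ m ∈ M, g * m = m * g) {a : α} (ha : g • a = a) : g = 1 := by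
  apply eq_of_smul_eq_smul (α := α)
  intro x
  obtain ⟨⟨m, hm⟩, rfl⟩ := hM.exists_smul_eq a x
  show g • m • a = (1 : G) • m • a
  rw [one_smul, ← mul_smul, hg m hm, mul_smul, ha]

/-- Two commuting transitive subgroups are regular and each is the centralizer of the other. -/
theorem regular_of_commute [FaithfulSMul G α] {M N : Subgroup G} (hM : MulAction.IsPretransitive M α)
    (hN : MulAction.IsPretransitive N α) (hc : ∀ m ∈ M, ∀ n ∈ N, m * n = n * m) :
    (∀ a : α, MulAction.stabilizer M a = ⊥) ∧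
      ∀ (_ : Nonempty α) (g : G), (∀ m ∈ M, g * m = m * g) → g ∈ N := by
  refine ⟨fun a => ?_, fun hne g hg => ?_⟩
  · rw [eq_bot_iff]
    intro m hm
    rw [Subgroup.mem_bot]
    exact Subtype.ext (eq_one_of_commute_transitive hN (fun n hn => hc m m.2 n hn) hm)
  · obtain ⟨a⟩ := hne
    obtain ⟨⟨n, hn⟩, hna⟩ := hN.exists_smul_eq a (g • a)
    have hna' : n • a = g • a := hna
    have h : n⁻¹ * g = 1 := eq_one_of_commute_transitive hM (a := a) (fun m hm => by
      rw [mul_assoc, hg m hm, ← mul_assoc, ← mul_assoc]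
      congr 1
      have := hc m hm n⁻¹ (inv_mem hn)
      exact this.symm) (by rw [mul_smul, ← hna', inv_smul_smul])
    rw [inv_mul_eq_one] at h
    exact h ▸ hn

/-- Distinct minimal normal subgroups commute elementwise. -/
theorem minimal_normal_disjoint {M N : Subgroup G} [M.Normal] [N.Normal]
    (hM : ∀ L : Subgroup G, L.Normal → L ≤ M → L = ⊥ ∨ L = M)
    (hN : ∀ L : Subgroup G, L.Normal → L ≤ N → L = ⊥ ∨ L = N) (hne : M ≠ N) :
    M ⊓ N = ⊥ ∧ ∀ m ∈ M, ∀ n ∈ N, m * n = n * m := by
  have hinf : M ⊓ N = ⊥ := by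
    rcases hM _ (Subgroup.normal_inf_normal M N) inf_le_left with h | h
    · exact h
    rcases hN _ (Subgroup.normal_inf_normal M N) inf_le_right with h' | h'
    · exact h'
    exact absurd (h.symm.trans h') hne
  exact ⟨hinf, fun m hm n hn =>
    Subgroup.commute_of_normal_of_disjoint M N inferInstance inferInstance (disjoint_iff.2 hinf) m n hm hn⟩

/-- An abelian minimal normal subgroup of finite order has prime exponent. -/
theorem minimal_normal_abelian_exponent {M : Subgroup G} [M.Normal] [Finite M] (hM : M ≠ ⊥)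
    (hmin : ∀ L : Subgroup G, L.Normal → L ≤ M → L = ⊥ ∨ L = M) (hab : IsMulCommutative M) :
    ∃ p : ℕ, p.Prime ∧ ∀ m ∈ M, m ^ p = 1 := by
  haveI : Nontrivial M := M.nontrivial_iff_ne_bot.2 hM
  obtain ⟨p, hp, hd⟩ := Nat.exists_prime_and_dvd (Finite.one_lt_card (α := M)).ne'
  haveI : Fact p.Prime := ⟨hp⟩
  have hcm : ∀ x ∈ M, ∀ y ∈ M, x * y = y * x := fun x hx y hy =>
    congrArg Subtype.val (hab.is_comm.comm (⟨x, hx⟩ : M) ⟨y, hy⟩)
  let L : Subgroup G :=
    { carrier := {x | x ∈ M ∧ x ^ p = 1}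
      one_mem' := ⟨one_mem _, one_pow _⟩
      mul_mem' := fun {x y} hx hy => ⟨mul_mem hx.1 hy.1, by
        rw [(show Commute x y from hcm x hx.1 y hy.1).mul_pow, hx.2, hy.2, mul_one]⟩
      inv_mem' := fun {x} hx => ⟨inv_mem hx.1, by rw [inv_pow, hx.2, inv_one]⟩ }
  have hL : L.Normal := ⟨fun x hx g => ⟨Subgroup.Normal.conj_mem inferInstance x hx.1 g,
    by rw [conj_pow, hx.2, mul_one, mul_inv_cancel]⟩⟩
  refine ⟨p, hp, fun m hm => ?_⟩
  rcases hmin L hL (fun x hx => hx.1) with h | h
  · exfalso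
    obtain ⟨⟨x, hx⟩, ho⟩ := exists_prime_orderOf_dvd_card' (G := M) p hd
    rw [Subgroup.orderOf_mk] at ho
    have hxL : x ∈ L := ⟨hx, ho ▸ pow_orderOf_eq_one x⟩
    rw [h, Subgroup.mem_bot] at hxL
    rw [hxL, orderOf_one] at ho
    exact hp.one_lt.ne ho
  · have : m ∈ L := h.ge hm
    exact this.2

/-- A finite group all of whose non-identity elements have the same order has prime exponent. -/
theorem exponent_prime_of_same_order [Finite G] [Nontrivial G]
    (h : ∀ x y : G, x ≠ 1 → y ≠ 1 → orderOf x = orderOf y) :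
    ∃ p : ℕ, p.Prime ∧ ∀ x : G, x ^ p = 1 := by
  obtain ⟨p, hp, hd⟩ := Nat.exists_prime_and_dvd (Finite.one_lt_card (α := G)).ne'
  haveI : Fact p.Prime := ⟨hp⟩
  obtain ⟨y, hy⟩ := exists_prime_orderOf_dvd_card' (G := G) p hd
  refine ⟨p, hp, fun x => ?_⟩
  by_cases hx : x = 1
  · rw [hx, one_pow]
  · rw [← hy, ← h x y hx (fun e => by rw [e, orderOf_one] at hy; exact hp.one_lt.ne hy), pow_orderOf_eq_one]

/-- A non-trivial normal subgroup of a faithful primitive group is transitive. -/
theorem transitive_of_normal [FaithfulSMul G α] [MulAction.IsPreprimitive G α] {N : Subgroup G} [N.Normal]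
    (hN : N ≠ ⊥) : MulAction.IsPretransitive N α := by
  refine MulAction.IsQuasiPreprimitive.isPretransitive_of_normal (fun h => hN ?_)
  rw [eq_bot_iff]
  intro n hn
  rw [Subgroup.mem_bot]
  refine eq_of_smul_eq_smul (α := α) fun x => ?_
  rw [one_smul]
  exact (MulAction.mem_fixedPoints.1 (Set.eq_univ_iff_forall.1 h x)) (⟨n, hn⟩ : N)

/-- Elements of a subgroup with trivial stabilisers are determined by the image of one point. -/
theorem regular_inj {M : Subgroup G} (hreg : ∀ a : α, MulAction.stabilizer M a = ⊥) {a : α} {m m' : M}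
    (h : m • a = m' • a) : m = m' := by
  have h1 : m'⁻¹ * m ∈ MulAction.stabilizer M a := by
    rw [MulAction.mem_stabilizer_iff, mul_smul, h, inv_smul_smul]
  rw [hreg a, Subgroup.mem_bot, inv_mul_eq_one] at h1
  exact h1.symm

/-- A finite group all of whose non-identity elements have the same order has a non-trivial centre. -/
theorem center_ne_bot_of_same_order [Finite G] [Nontrivial G]
    (h : ∀ x y : G, x ≠ 1 → y ≠ 1 → orderOf x = orderOf y) : Subgroup.center G ≠ ⊥ := by
  obtain ⟨p, hp, hx⟩ := exponent_prime_of_same_order h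
  haveI : Fact p.Prime := ⟨hp⟩
  have hP : IsPGroup p G := fun x => ⟨1, by rw [pow_one]; exact hx x⟩
  haveI := hP.center_nontrivial
  exact (Subgroup.nontrivial_iff_ne_bot _).1 inferInstance

/-- A minimal normal subgroup with non-trivial centre is abelian. -/
theorem abelian_of_center_ne_bot {M : Subgroup G} [M.Normal]
    (hmin : ∀ L : Subgroup G, L.Normal → L ≤ M → L = ⊥ ∨ L = M) (hc : Subgroup.center M ≠ ⊥) :
    IsMulCommutative M := by
  haveI : ((Subgroup.center M).map M.subtype).Normal :=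
    ⟨fun x hx g => by
      obtain ⟨z, hz, rfl⟩ := Subgroup.mem_map.1 hx
      refine Subgroup.mem_map.2 ⟨⟨g * (z : G) * g⁻¹, Subgroup.Normal.conj_mem inferInstance _ z.2 g⟩, ?_, rfl⟩
      rw [Subgroup.mem_center_iff]
      intro y
      apply Subtype.ext
      have h1 := congrArg Subtype.val (Subgroup.mem_center_iff.1 hz
        ⟨g⁻¹ * (y : G) * g, by simpa using Subgroup.Normal.conj_mem inferInstance _ y.2 g⁻¹⟩)
      simp only [Subgroup.coe_mul] at h1 ⊢
      calc (y : G) * (g * z * g⁻¹) = g * (g⁻¹ * y * g * z) * g⁻¹ := by group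
        _ = g * ((z : G) * (g⁻¹ * y * g)) * g⁻¹ := by rw [h1]
        _ = g * z * g⁻¹ * y := by group⟩
  rcases hmin ((Subgroup.center M).map M.subtype) inferInstance (Subgroup.map_subtype_le _) with h | h
  · exact absurd ((Subgroup.map_eq_bot_iff_of_injective _ (Subgroup.subtype_injective M)).1 h) hc
  · refine ⟨⟨fun x y => ?_⟩⟩
    obtain ⟨z, hz, hzy⟩ := Subgroup.mem_map.1 (h.ge y.2)
    have : z = y := Subtype.ext hzy
    subst this
    exact Subgroup.mem_center_iff.1 hz x

end Cfsg.Agent.Block
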