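import Mathlib
import Cfsg.Agent.Lib.Block.RegularNormal
import Cfsg.Agent.Lib.Block.SharpTwoPoints
import Cfsg.Agent.S0695
import Cfsg.Agent.S0696

/-!
Normal subgroups of multiply transitive and multiply primitive groups (Jordan, Wielandt).
-/

set_option autoImplicit false

namespace Cfsg.Agent.Block

universe u v

open MulAction

/-- A point stabiliser of a faithful action is faithful on the remaining points. -/
theorem faithful_ofStabilizer {G : Type u} [Group G] {α : Type v} [MulAction G α] [FaithfulSMul G α] (a : α) :
    FaithfulSMul (stabilizer G a) (SubMulAction.ofStabilizer G a) := by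
  refine ⟨fun {x y} h => Subtype.ext (eq_of_smul_eq_smul (α := α) fun z => ?_)⟩
  by_cases hz : z = a
  · rw [hz, show (x : G) • a = a from x.2, show (y : G) • a = a from y.2]
  · exact congrArg Subtype.val (h ⟨z, hz⟩)

/-- A normal subgroup whose point stabiliser is `n`-transitive on the other points is `n + 1`-transitive. -/
theorem normal_succ_transitive {G : Type u} [Group G] {α : Type v} [MulAction G α] (N : Subgroup G) (a : α)
    (htr : IsPretransitive N α) {n : ℕ}
    (h : IsMultiplyPretransitive (N.subgroupOf (stabilizer G a)) (SubMulAction.ofStabilizer G a) n) :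
    IsMultiplyPretransitive N α (n + 1) := by
  haveI := htr
  rw [SubMulAction.ofStabilizer.isMultiplyPretransitive (a := a)]
  refine ⟨fun x y => ?_⟩
  obtain ⟨m, hm⟩ := h.exists_smul_eq
    ⟨fun i => ⟨(x i : α), (x i).2⟩, fun i j e => x.injective (Subtype.ext (congrArg (fun z : SubMulAction.ofStabilizer G a => (z : α)) e))⟩
    ⟨fun i => ⟨(y i : α), (y i).2⟩, fun i j e => y.injective (Subtype.ext (congrArg (fun z : SubMulAction.ofStabilizer G a => (z : α)) e))⟩
  refine ⟨⟨⟨((m : stabilizer G a) : G), m.2⟩, (m : stabilizer G a).2⟩, ?_⟩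
  ext i
  exact congrArg (fun z : SubMulAction.ofStabilizer G a => (z : α)) (DFunLike.congr_fun hm i)

/-- A normal subgroup whose point stabiliser is regular on the other points yields a regular normal
subgroup of the whole group. -/
theorem regular_normal_of_regular_stab {G : Type u} [Group G] [Finite G] {α : Type v} [Finite α]
    [MulAction G α] [FaithfulSMul G α] (N : Subgroup G) [N.Normal] (a : α)
    (htr : IsPretransitive N α) (h2 : 2 ≤ Nat.card α)
    (hMt : IsPretransitive (N.subgroupOf (stabilizer G a)) (SubMulAction.ofStabilizer G a))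
    (hMr : ∀ b : SubMulAction.ofStabilizer G a, stabilizer (N.subgroupOf (stabilizer G a)) b = ⊥) :
    ∃ K : Subgroup G, K.Normal ∧ IsPretransitive K α ∧ ∀ b : α, stabilizer K b = ⊥ := by
  have hN2 : IsMultiplyPretransitive N α 2 :=
    normal_succ_transitive N a htr (is_one_pretransitive_iff.2 hMt)
  have hsharp : SharpPoints.Sharp N α := by
    refine ⟨fun g hg => Subtype.ext (eq_of_smul_eq_smul (α := α) fun z => ?_), fun p q r s hpq hrs =>
      (is_two_pretransitive_iff.1 hN2) hpq hrs, fun g p q hpq hp hq => ?_⟩
    · rw [Subgroup.coe_one, one_smul]; exact hg z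
    · obtain ⟨n, hn⟩ := htr.exists_smul_eq p a
      have hga : (n * g * n⁻¹) • a = a := by
        rw [mul_smul, mul_smul, ← hn, inv_smul_smul, hp]
      have hqa : n • q ≠ a := fun h => hpq (MulAction.injective n (hn.trans h.symm))
      have hgq : (n * g * n⁻¹) • (n • q) = n • q := by
        rw [mul_smul, mul_smul, inv_smul_smul, hq]
      let m : N.subgroupOf (stabilizer G a) :=
        ⟨⟨((n * g * n⁻¹ : N) : G), hga⟩, (n * g * n⁻¹).2⟩
      have h1 : m ∈ stabilizer (N.subgroupOf (stabilizer G a)) (⟨n • q, hqa⟩ : SubMulAction.ofStabilizer G a) :=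
        Subtype.ext hgq
      rw [hMr, Subgroup.mem_bot] at h1
      have h2 : ((n * g * n⁻¹ : N) : G) = 1 := congrArg (fun z : N.subgroupOf (stabilizer G a) => ((z : stabilizer G a) : G)) h1
      have h3 : n * g * n⁻¹ = 1 := Subtype.ext h2
      exact conj_eq_one_iff.1 h3
  obtain ⟨p, j, K, -, -, -, hKc, hKiff, -, -, -, hKt, -⟩ := hsharp.exists_translations h2
  refine ⟨K.map N.subtype, ⟨fun z hz g => ?_⟩, ⟨fun x y => ?_⟩, fun b => ?_⟩
  · obtain ⟨x, hx, rfl⟩ := Subgroup.mem_map.1 hz
    refine Subgroup.mem_map.2 ⟨⟨g * (x : G) * g⁻¹, Subgroup.Normal.conj_mem inferInstance _ x.2 g⟩, ?_, rfl⟩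
    rw [hKiff] at hx ⊢
    rcases hx with rfl | hx
    · left; apply Subtype.ext; simp
    · right
      intro c hc
      apply hx (g⁻¹ • c)
      have h1 : (g * (x : G) * g⁻¹) • c = c := hc
      rw [mul_smul, mul_smul] at h1
      show (x : G) • g⁻¹ • c = g⁻¹ • c
      exact (eq_inv_smul_iff.2 h1 : _)
  · obtain ⟨k, hk, hxy⟩ := hKt x y
    exact ⟨⟨(k : G), Subgroup.mem_map.2 ⟨k, hk, rfl⟩⟩, hxy⟩
  · rw [eq_bot_iff]
    rintro ⟨_, hz⟩ hb
    rw [Subgroup.mem_bot]
    obtain ⟨x, hx, rfl⟩ := Subgroup.mem_map.1 hz
    apply Subtype.ext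
    rcases (hKiff x).1 hx with rfl | h
    · rfl
    · exact absurd hb (h b)

/-- Jordan's theorem on normal subgroups of multiply transitive groups. -/
theorem jordan_normal : ∀ (j : ℕ) (G : Type u) (α : Type v) [Group G] [Finite G] [Finite α] [MulAction G α]
    [FaithfulSMul G α], IsMultiplyPretransitive G α (j + 2) → j + 2 < Nat.card α →
    ∀ (N : Subgroup G), N.Normal → N ≠ ⊥ →
      IsMultiplyPretransitive N α (j + 1) ∨
        (j = 1 ∧ IsMulCommutative N ∧ (∀ n ∈ N, n ^ 2 = 1) ∧ ∀ b : α, stabilizer N b = ⊥) := by
  intro j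
  induction j with
  | zero =>
    intro G α _ _ _ _ _ hG hcard N hN hN1
    haveI := hN
    haveI : IsPreprimitive G α := isPreprimitive_of_is_two_pretransitive hG
    exact Or.inl (is_one_pretransitive_iff.2 (transitive_of_normal hN1))
  | succ j ih =>
    intro G α _ _ _ _ _ hG hcard N hN hN1
    haveI := hN
    haveI := hG
    haveI : Fintype α := Fintype.ofFinite α
    have h2 : IsMultiplyPretransitive G α 2 :=
      isMultiplyPretransitive_of_le (n := j + 1 + 2) (by omega) (by omega)
    haveI : IsPreprimitive G α := isPreprimitive_of_is_two_pretransitive h2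
    have htr : IsPretransitive N α := transitive_of_normal hN1
    have h3 : IsMultiplyPretransitive G α 3 :=
      isMultiplyPretransitive_of_le (n := j + 1 + 2) (by omega) (by omega)
    have hc3 : (3 : ℕ) < Fintype.card α := by rw [← Nat.card_eq_fintype_card]; omega
    by_cases hreg : ∀ b : α, stabilizer N b = ⊥
    · have hp2 : IsMultiplyPreprimitive G α 2 :=
        isMultiplyPreprimitive_of_isMultiplyPretransitive_succ G α
          (by rw [ENat.card_eq_coe_fintype_card]; exact_mod_cast (by omega : Nat.succ 2 ≤ Fintype.card α))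
      rcases Cfsg.Agent.S0695.result (by omega) hp2 N htr hreg with h | ⟨hc, hsq, -⟩
      · omega
      rcases Nat.eq_zero_or_pos j with hj | hj
      · exact Or.inr ⟨by omega, hc, hsq, hreg⟩
      · exfalso
        have hc4 : (4 : ℕ) < Fintype.card α := by rw [← Nat.card_eq_fintype_card]; omega
        haveI : IsMultiplyPretransitive G α (Nat.succ 3) :=
          isMultiplyPretransitive_of_le (n := j + 1 + 2) (by omega) (by omega)
        have hp3 : IsMultiplyPreprimitive G α 3 :=
          isMultiplyPreprimitive_of_isMultiplyPretransitive_succ G α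
            (by rw [ENat.card_eq_coe_fintype_card]; exact_mod_cast (by omega : Nat.succ 3 ≤ Fintype.card α))
        rcases Cfsg.Agent.S0696.result (by omega) hp3 N htr hreg with h | h <;> omega
    · push Not at hreg
      obtain ⟨a, ha⟩ := hreg
      haveI : IsPretransitive G α := inferInstance
      have hGa : IsMultiplyPretransitive (stabilizer G a) (SubMulAction.ofStabilizer G a) (j + 2) :=
        SubMulAction.ofStabilizer.isMultiplyPretransitive.1 hG
      haveI := faithful_ofStabilizer (G := G) a
      have hMb : N.subgroupOf (stabilizer G a) ≠ ⊥ := by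
        intro h
        apply ha
        rw [eq_bot_iff]
        intro n hn
        rw [Subgroup.mem_bot]
        have h1 : (⟨(n : G), hn⟩ : stabilizer G a) ∈ N.subgroupOf (stabilizer G a) := n.2
        rw [h, Subgroup.mem_bot] at h1
        exact Subtype.ext (congrArg (fun z : stabilizer G a => (z : G)) h1)
      have hcard' : j + 2 < Nat.card (SubMulAction.ofStabilizer G a) := by
        have := SubMulAction.nat_card_ofStabilizer_add_one_eq (G := G) (α := α) a
        omega
      rcases ih (stabilizer G a) (SubMulAction.ofStabilizer G a) hGa hcard'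
          (N.subgroupOf (stabilizer G a)) (hN.subgroupOf _) hMb with h | ⟨hj, hMc, -, hMr⟩
      · exact Or.inl (normal_succ_transitive N a htr h)
      · exfalso
        subst hj
        have hMt : IsPretransitive (N.subgroupOf (stabilizer G a)) (SubMulAction.ofStabilizer G a) := by
          haveI : IsPreprimitive (stabilizer G a) (SubMulAction.ofStabilizer G a) := by
            refine isPreprimitive_of_is_two_pretransitive ?_
            haveI := hGa
            exact isMultiplyPretransitive_of_le (n := 3) (by omega) (by omega)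
          exact transitive_of_normal hMb
        obtain ⟨K, hK, hKt, hKr⟩ := regular_normal_of_regular_stab N a htr (by omega) hMt hMr
        haveI := hK
        haveI : IsMultiplyPretransitive G α (Nat.succ 3) := hG
        have hp3 : IsMultiplyPreprimitive G α 3 :=
          isMultiplyPreprimitive_of_isMultiplyPretransitive_succ G α
            (by rw [ENat.card_eq_coe_fintype_card, ← Nat.card_eq_fintype_card]; exact_mod_cast (by omega : Nat.succ 3 ≤ Nat.card α))
        rcases Cfsg.Agent.S0696.result (by omega) hp3 K hKt hKr with h | h <;>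
          rw [← Nat.card_eq_fintype_card] at h <;> omega

/-- Wielandt: non-regular normal subgroups of multiply primitive groups other than the symmetric group. -/
theorem primitive_normal : ∀ (j : ℕ) (G : Type u) (α : Type v) [Group G] [Finite G] [Finite α] [MulAction G α]
    [FaithfulSMul G α], IsMultiplyPreprimitive G α (j + 1) → j + 1 ≤ Nat.card α →
    Nat.card G ≠ (Nat.card α).factorial →
    ∀ (N : Subgroup G), N.Normal → N ≠ ⊥ → (∃ b : α, stabilizer N b ≠ ⊥) →
      IsMultiplyPretransitive N α (j + 1) := by
  intro j
  induction j with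
  | zero =>
    intro G α _ _ _ _ _ hG hcard hne N hN hN1 _
    haveI := hN
    haveI : IsPreprimitive G α := (is_one_preprimitive_iff G α).1 hG
    exact is_one_pretransitive_iff.2 (transitive_of_normal hN1)
  | succ j ih =>
    intro G α _ _ _ _ _ hG hcard hne N hN hN1 ⟨a, ha⟩
    haveI := hN
    haveI : Fintype α := Fintype.ofFinite α
    haveI := hG
    have hcE : ((j + 1 + 1 : ℕ) : ℕ∞) ≤ ENat.card α := by
      rw [ENat.card_eq_coe_fintype_card, ← Nat.card_eq_fintype_card]; exact_mod_cast hcard
    haveI : IsPreprimitive G α :=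
      (is_one_preprimitive_iff G α).1 (isMultiplyPreprimitive_of_le G α hG (by omega : 1 ≤ j + 1 + 1) hcE)
    have htr : IsPretransitive N α := transitive_of_normal hN1
    haveI := faithful_ofStabilizer (G := G) a
    have hGa : IsMultiplyPreprimitive (stabilizer G a) (SubMulAction.ofStabilizer G a) (j + 1) :=
      isMultiplyPreprimitive_ofStabilizer G α
    have hcard' : j + 1 ≤ Nat.card (SubMulAction.ofStabilizer G a) := by
      have := SubMulAction.nat_card_ofStabilizer_add_one_eq (G := G) (α := α) a
      omega
    have hMb : N.subgroupOf (stabilizer G a) ≠ ⊥ := by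
      intro h
      apply ha
      rw [eq_bot_iff]
      intro n hn
      rw [Subgroup.mem_bot]
      have h1 : (⟨(n : G), hn⟩ : stabilizer G a) ∈ N.subgroupOf (stabilizer G a) := n.2
      rw [h, Subgroup.mem_bot] at h1
      exact Subtype.ext (congrArg (fun z : stabilizer G a => (z : G)) h1)
    haveI : (N.subgroupOf (stabilizer G a)).Normal := hN.subgroupOf _
    haveI hGa1 : IsPreprimitive (stabilizer G a) (SubMulAction.ofStabilizer G a) := by
      refine (is_one_preprimitive_iff _ _).1 (isMultiplyPreprimitive_of_le _ _ hGa (by omega : 1 ≤ j + 1) ?_)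
      haveI := Fintype.ofFinite (SubMulAction.ofStabilizer G a)
      rw [ENat.card_eq_coe_fintype_card, ← Nat.card_eq_fintype_card]
      exact_mod_cast hcard'
    have hMt : IsPretransitive (N.subgroupOf (stabilizer G a)) (SubMulAction.ofStabilizer G a) :=
      transitive_of_normal hMb
    by_cases hMreg : ∀ b : SubMulAction.ofStabilizer G a, stabilizer (N.subgroupOf (stabilizer G a)) b = ⊥
    · rcases Nat.eq_zero_or_pos j with hj | hj
      · subst hj
        exact normal_succ_transitive N a htr (is_one_pretransitive_iff.2 hMt)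
      exfalso
      obtain ⟨K, hK, hKt, hKr⟩ := regular_normal_of_regular_stab N a htr (by omega) hMt hMreg
      haveI := hK
      have hp3 : IsMultiplyPreprimitive G α 3 :=
        isMultiplyPreprimitive_of_le G α hG (by omega : 3 ≤ j + 1 + 1) hcE
      have hsmall := Cfsg.Agent.S0696.result (by rw [← Nat.card_eq_fintype_card]; omega) hp3 K hKt hKr
      haveI := hp3.isMultiplyPretransitive
      apply hne
      refine le_antisymm ?_ ?_
      · rw [← Nat.card_perm]
        exact Nat.card_le_card_of_injective (toPermHom G α) MulAction.toPerm_injective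
      · obtain ⟨x⟩ : Nonempty (Fin 3 ↪ α) :=
          ⟨(Fin.castLEEmb (by omega : 3 ≤ Fintype.card α)).trans (Fintype.equivFin α).symm.toEmbedding⟩
        have h1 : Nat.card (Fin 3 ↪ α) ≤ Nat.card G :=
          Nat.card_le_card_of_surjective (fun g => g • x) (fun y => exists_smul_eq G x y)
        rw [Nat.card_eq_fintype_card, Fintype.card_embedding_eq, Fintype.card_fin] at h1
        rw [Nat.card_eq_fintype_card (α := α)]
        rcases hsmall with h | h <;> rw [h] at h1 ⊢ <;> exact h1
    · push Not at hMreg
      refine normal_succ_transitive N a htr (ih (stabilizer G a) (SubMulAction.ofStabilizer G a) hGa hcard' ?_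
        (N.subgroupOf (stabilizer G a)) inferInstance hMb hMreg)
      intro h
      apply hne
      have h1 := Subgroup.card_mul_index (stabilizer G a)
      have h2 := SubMulAction.nat_card_ofStabilizer_add_one_eq (G := G) (α := α) a
      haveI : IsPretransitive G α := inferInstance
      rw [index_stabilizer_of_transitive, h, ← h2] at h1
      rw [← h1, ← h2, Nat.factorial_succ, mul_comm]

end Cfsg.Agent.Block
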