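import Mathlib
import Cfsg.Prelude.Def_EvenTechniques
import Cfsg.Agent.Lib.Grp.BalanceReduction
import Cfsg.Agent.Lib.Grp.Signalizer

/-!
`k`-balance and `(k + 1/2)`-balance with respect to a fixed elementary abelian subgroup, reduced to the
automorphism groups of the components, and generation of the balanced closures by hyperplanes.
-/

set_option autoImplicit false
set_option maxHeartbeats 1000000

namespace Cfsg.Agent.Block.KBalance

open Subgroup
open scoped commutatorElement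
open Cfsg.Agent.Grp

universe u

section Component

variable {X : Type u} [Group X] [Finite X] {p : ℕ} [hp : Fact p.Prime]

/-- The action of `N(L) ∩ C(E)` on a component `L`: images of `E` and of the cores. -/
theorem component_image (hO : Cfsg.pPrimeCore p X = ⊥) {L : Subgroup X} (hL : Cfsg.IsComponent L)
    {E : Subgroup X} (hE : Cfsg.IsElementaryAbelian p E) (hEN : E ≤ normalizer (L : Set X))
    (hnc : ∀ e ∈ E, e ≠ 1 → ¬ ∀ b ∈ L, e * b = b * e) :
    ∃ (H : Subgroup (MulAut ↥L)) (f : ↥(L ⊔ (normalizer (L : Set X) ⊓ centralizer (E : Set X))) →* ↥H)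
      (Eq : Subgroup ↥H),
      (MulAut.conj : ↥L →* MulAut ↥L).range ≤ H ∧
      (∀ u : ↥(L ⊔ (normalizer (L : Set X) ⊓ centralizer (E : Set X))), f u = 1 ↔ ∀ b ∈ L, (u : X) * b = b * (u : X)) ∧
      Cfsg.IsElementaryAbelian p Eq ∧ Nat.card Eq = Nat.card E ∧
      (∀ u : ↥(L ⊔ (normalizer (L : Set X) ⊓ centralizer (E : Set X))), (u : X) ∈ E → f u ∈ Eq) ∧ (∀ q ∈ Eq, ∃ u : ↥(L ⊔ (normalizer (L : Set X) ⊓ centralizer (E : Set X))), (u : X) ∈ E ∧ f u = q) ∧
      ∀ u : ↥(L ⊔ (normalizer (L : Set X) ⊓ centralizer (E : Set X))), (u : X) ∈ normalizer (L : Set X) ⊓ centralizer (E : Set X) →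
        (∀ e ∈ E, e ≠ 1 → (u : X) ∈ Cfsg.centralizerPPrimeCore p e) → f u ∈ Cfsg.signalizerDelta p Eq := by
  set R := normalizer (L : Set X) ⊓ centralizer (E : Set X) with hR
  have hER : E ≤ R := le_inf hEN fun a ha => Subgroup.mem_centralizer_iff.mpr fun b hb =>
    elemAb_comm hE b hb a ha
  have hHN : L ⊔ R ≤ normalizer (L : Set X) := sup_le Subgroup.le_normalizer inf_le_left
  let f0 : ↥(L ⊔ R) →* MulAut ↥L := L.normalizerMonoidHom.comp (Subgroup.inclusion hHN)
  have hf0 : ∀ (u : ↥(L ⊔ R)) (w : ↥L), ((f0 u w : ↥L) : X) = (u : X) * w * (u : X)⁻¹ := fun u w => rfl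
  have hker : ∀ u, f0.rangeRestrict u = 1 ↔ ∀ b ∈ L, (u : X) * b = b * (u : X) := by
    intro u
    constructor
    · intro h b hb
      have h2 : f0 u = 1 := congrArg Subtype.val h
      have h1 := hf0 u ⟨b, hb⟩
      rw [h2, MulAut.one_apply] at h1
      exact mul_inv_eq_iff_eq_mul.mp h1.symm
    · intro h
      refine Subtype.ext (MulEquiv.ext fun w => Subtype.ext ?_)
      show ((f0 u w : ↥L) : X) = w
      rw [hf0, h w w.2, mul_inv_cancel_right]
  have hinj : Set.InjOn f0.rangeRestrict ((E.subgroupOf (L ⊔ R) : Subgroup ↥(L ⊔ R)) : Set ↥(L ⊔ R)) := by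
    intro a ha b hb e
    by_contra hne
    refine hnc _ (E.mul_mem (mem_subgroupOf.mp ha) (E.inv_mem (mem_subgroupOf.mp hb)))
      (fun h => hne (Subtype.ext (mul_inv_eq_one.mp h))) ?_
    exact (hker (a * b⁻¹)).mp (by rw [map_mul, map_inv, e, mul_inv_cancel])
  refine ⟨f0.range, f0.rangeRestrict, (E.subgroupOf (L ⊔ R)).map f0.rangeRestrict, ?_, hker,
    ⟨⟨⟨?_⟩⟩, ?_⟩, ?_, fun u hu => ⟨u, hu, rfl⟩, ?_, ?_⟩
  · rintro _ ⟨l, rfl⟩
    refine ⟨⟨(l : X), Subgroup.mem_sup_left l.2⟩, MulEquiv.ext fun w => Subtype.ext ?_⟩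
    rw [hf0, MulAut.conj_apply]
    simp
  · rintro ⟨_, a, ha, rfl⟩ ⟨_, b, hb, rfl⟩
    refine Subtype.ext ?_
    show f0.rangeRestrict a * f0.rangeRestrict b = f0.rangeRestrict b * f0.rangeRestrict a
    rw [← map_mul, ← map_mul]
    exact congrArg _ (Subtype.ext (elemAb_comm hE _ (mem_subgroupOf.mp ha) _ (mem_subgroupOf.mp hb)))
  · rintro _ ⟨a, ha, rfl⟩
    rw [← map_pow, show a ^ p = 1 from Subtype.ext (hE.2 _ (mem_subgroupOf.mp ha)), map_one]
  · rw [← Nat.card_congr (Subgroup.subgroupOfEquivOfLe (hER.trans le_sup_right : E ≤ L ⊔ R)).toEquiv]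
    refine (Nat.card_congr (Equiv.ofBijective
      (fun a : ↥(E.subgroupOf (L ⊔ R)) =>
        (⟨f0.rangeRestrict a, a, a.2, rfl⟩ : ↥((E.subgroupOf (L ⊔ R)).map f0.rangeRestrict))) ⟨?_, ?_⟩)).symm
    · intro a b e
      exact Subtype.ext (hinj a.2 b.2 (congrArg Subtype.val e))
    · rintro ⟨_, a, ha, rfl⟩
      exact ⟨⟨a, ha⟩, rfl⟩
  · rintro _ ⟨u, hu, rfl⟩
    exact ⟨u, hu, rfl⟩
  · intro u huR huO
    refine Subgroup.mem_iInf.mpr ?_
    rintro ⟨_, ⟨e, he, rfl⟩, he1⟩
    have heE := mem_subgroupOf.mp he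
    have he1' : (e : X) ≠ 1 := fun h => he1 (by rw [show e = 1 from Subtype.ext h, map_one])
    exact (CoreData.ofElement hO (e : X) (hE.2 _ heE)).map_mem_core hL
      (R := R) (fun r hr => Subgroup.mem_centralizer_singleton_iff.mpr
        (Subgroup.mem_centralizer_iff.mp hr.2 _ heE).symm)
      inf_le_left (hER heE) f0.rangeRestrict f0.rangeRestrict_surjective hker (huO _ heE he1') huR

/-- Locally `k`-balanced components. -/
theorem eq_bot_of_locally {k : ℕ} (hk : k ≠ 0) (hO : Cfsg.pPrimeCore p X = ⊥)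
    (hloc : ∀ L : Subgroup X, Cfsg.IsComponent L → Cfsg.IsLocallyKBalanced p k ↥L)
    {E Y : Subgroup X} (hE : Cfsg.IsElementaryAbelian p E) (hcard : Nat.card E = p ^ k)
    (hY : ∀ e ∈ E, e ≠ 1 → Y ≤ Cfsg.centralizerPPrimeCore p e) : Y = ⊥ := by
  have hE1 : E ≠ ⊥ := ne_bot_of_card hk hcard.ge
  refine eq_bot_of_component_condition hO E Y hE1 hE.2 (elemAb_comm hE) hY ?_
  intro L hL hEN hYN hnc hYE y hy
  obtain ⟨H, f, Eq, hinn, hker, hEq, hEqc, -, -, hΔ⟩ := component_image hO hL hE hEN hnc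
  have hyR : y ∈ normalizer (L : Set X) ⊓ centralizer (E : Set X) :=
    ⟨hYN hy, Subgroup.mem_centralizer_iff.mpr fun a ha => (hYE y hy a ha).symm⟩
  have h1 := hΔ ⟨y, Subgroup.mem_sup_right hyR⟩ hyR fun e he he1 => hY e he he1 hy
  rw [hloc L hL H hinn Eq hEq (hEqc.trans hcard), Subgroup.mem_bot] at h1
  exact (hker _).mp h1

/-- Weakly locally `k`-balanced components normalized by `Ab`. -/
theorem commute_of_weakly {k : ℕ} (hk : k ≠ 0) (hO : Cfsg.pPrimeCore p X = ⊥)
    (hloc : ∀ L : Subgroup X, Cfsg.IsComponent L → Cfsg.IsWeaklyLocallyKBalanced p k ↥L)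
    {Ab E Y : Subgroup X} (hAb : Cfsg.IsElementaryAbelian p Ab) (hEA : E ≤ Ab) (hcard : Nat.card E = p ^ k)
    (hinv : ∀ L : Subgroup X, Cfsg.IsComponent L → Ab ≤ normalizer (L : Set X))
    (hYA : ∀ a ∈ Ab, ∀ y ∈ Y, a * y * a⁻¹ ∈ Y)
    (hY : ∀ e ∈ E, e ≠ 1 → Y ≤ Cfsg.centralizerPPrimeCore p e) : ∀ y ∈ Y, ∀ a ∈ Ab, y * a = a * y := by
  have hE := elemAb_mono hAb hEA
  obtain ⟨⟨e0, he0⟩, he01⟩ := E.ne_bot_iff_exists_ne_one.mp (ne_bot_of_card hk hcard.ge)
  have he01' : e0 ≠ 1 := fun h => he01 (Subtype.ext h)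
  let d0 := CoreData.ofElement hO e0 (hE.2 _ he0)
  intro y hy a ha
  set z := a * y * a⁻¹ * y⁻¹ with hz
  have hzY : z ∈ Y := Y.mul_mem (hYA a ha y hy) (Y.inv_mem hy)
  have hzO := hY e0 he0 he01' hzY
  suffices hz1 : z = 1 by
    have h2 := mul_inv_eq_one.mp (hz ▸ hz1 : a * y * a⁻¹ * y⁻¹ = 1)
    exact (mul_inv_eq_iff_eq_mul.mp h2).symm
  have hcomp : ∀ L : Subgroup X, Cfsg.IsComponent L → ∀ b ∈ L, z * b = b * z := by
    intro L hL
    by_cases hex : ∃ e ∈ E, e ≠ 1 ∧ ∀ b ∈ L, e * b = b * e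
    · obtain ⟨e, he, he1, hfix⟩ := hex
      exact (CoreData.ofElement hO e (hE.2 _ he)).centralizes_of_fixed hL hfix z (hY e he he1 hzY)
    · have hnc : ∀ e ∈ E, e ≠ 1 → ¬ ∀ b ∈ L, e * b = b * e := fun e he he1 hc => hex ⟨e, he, he1, hc⟩
      have hEN : E ≤ normalizer (L : Set X) := hEA.trans (hinv L hL)
      obtain ⟨H, f, Eq, hinn, hker, hEq, hEqc, -, hEqs, hΔ⟩ := component_image hO hL hE hEN hnc
      have hyR : y ∈ normalizer (L : Set X) ⊓ centralizer (E : Set X) :=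
        ⟨d0.le_normalizer_component hL (hY e0 he0 he01' hy), Subgroup.mem_centralizer_iff.mpr fun e he => by
          by_cases he1 : e = 1
          · simp [he1]
          · exact (centralizerPPrimeCore_commute (hY e he he1 hy)).symm⟩
      have haR : a ∈ normalizer (L : Set X) ⊓ centralizer (E : Set X) :=
        ⟨hinv L hL ha, Subgroup.mem_centralizer_iff.mpr fun e he => elemAb_comm hAb e (hEA he) a ha⟩
      set u : ↥(L ⊔ (normalizer (L : Set X) ⊓ centralizer (E : Set X))) := ⟨y, Subgroup.mem_sup_right hyR⟩ with hu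
      set v : ↥(L ⊔ (normalizer (L : Set X) ⊓ centralizer (E : Set X))) := ⟨a, Subgroup.mem_sup_right haR⟩ with hv
      have h1 : f u ∈ Cfsg.signalizerDelta p Eq := hΔ u hyR fun e he he1 => hY e he he1 hy
      have h2 : f (v * u * v⁻¹ * u⁻¹) = 1 := by
        by_cases hv1 : f v = 1
        · simp [map_mul, map_inv, hv1]
        · have hord : orderOf (f v) = p := orderOf_eq_prime (by
            rw [← map_pow, show v ^ p = 1 from Subtype.ext (hAb.2 a ha), map_one]) hv1
          have hcent : f v ∈ centralizer (Eq : Set ↥H) := by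
            rw [Subgroup.mem_centralizer_iff]
            intro q hq
            obtain ⟨w, hw, rfl⟩ := hEqs q hq
            rw [← map_mul, ← map_mul]
            exact congrArg f (Subtype.ext (elemAb_comm hAb _ (hEA hw) _ ha))
          have h3 := Subgroup.mem_centralizer_singleton_iff.mp
            (hloc L hL H hinn Eq hEq (hEqc.trans hcard) (f v) hord hcent h1)
          rw [map_mul, map_mul, map_mul, map_inv, map_inv, mul_inv_eq_one, mul_inv_eq_iff_eq_mul, h3]
      exact (hker _).mp h2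
  have hc : z ∈ centralizer (Cfsg.generalizedFittingSubgroup X : Set X) := by
    have hle : Cfsg.generalizedFittingSubgroup X ≤ centralizer {z} := by
      refine sup_le (sSup_le fun L hL => fun b hb => ?_) fun b hb => ?_
      · rw [Subgroup.mem_centralizer_singleton_iff]; exact (hcomp L hL b hb).symm
      · rw [Subgroup.mem_centralizer_singleton_iff]; exact (d0.centralizes_fitting z hzO b hb).symm
    exact Subgroup.mem_centralizer_iff.mpr fun w hw => Subgroup.mem_centralizer_singleton_iff.mp (hle hw)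
  have hzF := centralizer_gfitting_le_fitting hc
  rw [fitting_eq_pCore (p := p) hO] at hzF
  obtain ⟨j, hj⟩ := pCore_isPGroup (p := p) ⟨z, hzF⟩
  exact pow_eq_one_coprime (p := p) (k := j) (by simpa using congrArg Subtype.val hj) (d0.coprime_of_mem hzO)

end Component

section Wrt

variable {G : Type u} [Group G] [Finite G] {p : ℕ} [hp : Fact p.Prime]

theorem delta_anti {B D : Subgroup G} (h : D ≤ B) :
    Cfsg.signalizerDelta p B ≤ Cfsg.signalizerDelta p D :=
  le_iInf fun a => iInf_le_of_le ⟨(a : G), h a.2.1, a.2.2⟩ le_rfl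

theorem exists_card_eq {A B : Subgroup G} (hA : Cfsg.IsElementaryAbelian p A) (hB : B ≤ A) {k : ℕ}
    (hc : p ^ k ≤ Nat.card B) : ∃ B0 ≤ B, Nat.card B0 = p ^ k := by
  obtain ⟨n, hn⟩ := IsPGroup.iff_card.mp (elemAb_isPGroup (elemAb_mono hA hB))
  obtain ⟨D, hD⟩ := Sylow.exists_subgroup_card_pow_prime p (G := ↥B) (n := k)
    (hn ▸ pow_dvd_pow p ((Nat.pow_le_pow_iff_right hp.out.one_lt).mp (hn ▸ hc)))
  exact ⟨D.map B.subtype, Subgroup.map_subtype_le _, by rw [Subgroup.card_map_of_injective B.subtype_injective, hD]⟩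

theorem delta_invariant {A B : Subgroup G} (hA : Cfsg.IsElementaryAbelian p A) (hB : B ≤ A) :
    A ≤ normalizer (Cfsg.signalizerDelta p B : Set G) := by
  rw [← invariant_iff]
  intro b hb x hx
  rw [Cfsg.signalizerDelta, Subgroup.mem_iInf] at hx ⊢
  intro a
  exact centralizerPPrimeCore_conj (elemAb_comm hA b hb a (hB a.2.1)) (hx a)

theorem delta_le_core {B : Subgroup G} {b : G} (hb : b ∈ B) (hb1 : b ≠ 1) :
    Cfsg.signalizerDelta p B ≤ Cfsg.centralizerPPrimeCore p b := iInf_le_of_le ⟨b, hb, hb1⟩ le_rfl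

/-- The image of `Δ(B) ∩ C(a)` in `C(a)/O_{p'}(C(a))` lies in the cores of the centralizers of the
images of the non-identity elements of `B`. -/
theorem image_le_core {B : Subgroup G} (hB : Cfsg.IsElementaryAbelian p B) {a : G} {b : ↥(centralizer ({a} : Set G))}
    (hb : (b : G) ∈ B) (hb1 : (b : G) ≠ 1) :
    ∀ [(Cfsg.pPrimeCore p ↥(centralizer ({a} : Set G))).Normal],
    ((Cfsg.signalizerDelta p B ⊓ centralizer ({a} : Set G)).subgroupOf (centralizer ({a} : Set G))).map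
        (QuotientGroup.mk' (Cfsg.pPrimeCore p ↥(centralizer ({a} : Set G)))) ≤
      Cfsg.centralizerPPrimeCore p (QuotientGroup.mk' (Cfsg.pPrimeCore p ↥(centralizer ({a} : Set G))) b) := by
  intro _
  set π := QuotientGroup.mk' (Cfsg.pPrimeCore p ↥(centralizer ({a} : Set G))) with hπ
  rintro _ ⟨y, hy, rfl⟩
  have hya : (y : G) ∈ Cfsg.centralizerPPrimeCore p (b : G) :=
    delta_le_core hb hb1 (Subgroup.mem_inf.mp (mem_subgroupOf.mp hy)).1
  have hbp : IsPGroup p ↥(zpowers b) := by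
    intro g
    obtain ⟨i, hi⟩ := Subgroup.mem_zpowers_iff.mp g.2
    refine ⟨1, Subtype.ext ?_⟩
    simp only [pow_one, SubmonoidClass.coe_pow, OneMemClass.coe_one, ← hi]
    rw [← zpow_natCast, ← zpow_mul, mul_comm, zpow_mul, zpow_natCast,
      show b ^ p = 1 from Subtype.ext (hB.2 _ hb), one_zpow]
  have hCb : (centralizer ({b} : Set ↥(centralizer ({a} : Set G)))).map π = centralizer ({π b} : Set _) := by
    rw [centralizer_singleton_eq_zpowers b, centralizer_singleton_eq_zpowers (π b), ← MonoidHom.map_zpowers]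
    exact map_centralizer_pGroup hbp
  refine le_centralizerPPrimeCore (N := ((Cfsg.centralizerPPrimeCore p (b : G)).subgroupOf (centralizer ({a} : Set G))).map π)
    ?_ ?_ ?_ ⟨y, mem_subgroupOf.mpr hya, rfl⟩
  · rintro _ ⟨w, hw, rfl⟩
    rw [← map_mul, ← map_mul]
    exact congrArg π (Subtype.ext (centralizerPPrimeCore_commute (mem_subgroupOf.mp hw)))
  · rintro c hc _ ⟨w, hw, rfl⟩
    have hc' : c ∈ centralizer ({π b} : Set _) := Subgroup.mem_centralizer_singleton_iff.mpr hc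
    rw [← hCb] at hc'
    obtain ⟨c', hc'', rfl⟩ := hc'
    refine ⟨c' * w * c'⁻¹, mem_subgroupOf.mpr ?_, by simp⟩
    exact centralizerPPrimeCore_conj (congrArg Subtype.val (Subgroup.mem_centralizer_singleton_iff.mp hc''))
      (mem_subgroupOf.mp hw)
  · have hle : ((Cfsg.centralizerPPrimeCore p (b : G)).subgroupOf (centralizer ({a} : Set G))).map (centralizer ({a} : Set G)).subtype ≤
        Cfsg.centralizerPPrimeCore p (b : G) := by
      rintro _ ⟨w, hw, rfl⟩; exact hw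
    refine (centralizerPPrimeCore_coprime (p := p) (b : G)).coprime_dvd_left ?_
    refine (Subgroup.card_map_dvd (f := π) _).trans ?_
    rw [← Subgroup.card_map_of_injective (centralizer ({a} : Set G)).subtype_injective]
    exact Subgroup.card_dvd_of_le hle

/-- The image of an elementary abelian subgroup in the quotient by the core. -/
theorem image_elemAb {A : Subgroup G} (hA : Cfsg.IsElementaryAbelian p A) {a : G} :
    ∀ [(Cfsg.pPrimeCore p ↥(centralizer ({a} : Set G))).Normal],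
    Cfsg.IsElementaryAbelian p ((A.subgroupOf (centralizer ({a} : Set G))).map
      (QuotientGroup.mk' (Cfsg.pPrimeCore p ↥(centralizer ({a} : Set G))))) ∧
    (A ≤ centralizer ({a} : Set G) → Nat.card ((A.subgroupOf (centralizer ({a} : Set G))).map
      (QuotientGroup.mk' (Cfsg.pPrimeCore p ↥(centralizer ({a} : Set G))))) = Nat.card A) := by
  intro _
  set C := centralizer ({a} : Set G) with hC
  set π := QuotientGroup.mk' (Cfsg.pPrimeCore p ↥C) with hπ
  refine ⟨⟨⟨⟨?_⟩⟩, ?_⟩, fun hle => ?_⟩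
  · rintro ⟨_, x, hx, rfl⟩ ⟨_, y, hy, rfl⟩
    refine Subtype.ext ?_
    show π x * π y = π y * π x
    rw [← map_mul, ← map_mul]
    exact congrArg π (Subtype.ext (elemAb_comm hA _ (mem_subgroupOf.mp hx) _ (mem_subgroupOf.mp hy)))
  · rintro _ ⟨x, hx, rfl⟩
    rw [← map_pow, show x ^ p = 1 from Subtype.ext (hA.2 _ (mem_subgroupOf.mp hx)), map_one]
  · have hinj : ∀ x : ↥C, (x : G) ∈ A → π x = 1 → x = 1 := fun x hx he =>
      pow_eq_one_coprime (p := p) (k := 1) (by rw [pow_one]; exact Subtype.ext (hA.2 _ hx))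
        (pPrimeCore_coprime.coprime_dvd_left
          (Subgroup.orderOf_dvd_natCard _ ((QuotientGroup.eq_one_iff x).mp he)))
    rw [← Nat.card_congr (Subgroup.subgroupOfEquivOfLe hle).toEquiv]
    refine (Nat.card_congr (Equiv.ofBijective
      (fun x : ↥(A.subgroupOf C) => (⟨π x, x, x.2, rfl⟩ : ↥((A.subgroupOf C).map π)))
      ⟨fun x y e => ?_, ?_⟩)).symm
    · have h1 := hinj ((x : ↥C) * (y : ↥C)⁻¹) (A.mul_mem x.2 (A.inv_mem y.2)) (by
        rw [map_mul, map_inv, mul_inv_eq_one]; exact congrArg Subtype.val e)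
      exact Subtype.ext (mul_inv_eq_one.mp h1)
    · rintro ⟨_, x, hx, rfl⟩
      exact ⟨⟨x, hx⟩, rfl⟩

/-- `k`-balance with respect to `A` from local balance of components. -/
theorem kBalancedWrt_of_components {k : ℕ} (hk : k ≠ 0) {A : Subgroup G} (hA : Cfsg.IsElementaryAbelian p A)
    (hloc : ∀ a : G, a ∈ A → a ≠ 1 →
      ∀ K : Subgroup (↥(centralizer ({a} : Set G)) ⧸ Cfsg.pPrimeCore p ↥(centralizer ({a} : Set G))),
        Cfsg.IsComponent K → Cfsg.IsLocallyKBalanced p k ↥K) :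
    Cfsg.IsKBalancedWrt p k A := by
  intro B hB _ hBc a ha ha1 g hg
  obtain ⟨B0, hB0, hB0c⟩ := exists_card_eq hA hB hBc
  have hB0A := hB0.trans hB
  obtain ⟨hgΔ, hga⟩ := Subgroup.mem_inf.mp hg
  haveI : (Cfsg.pPrimeCore p ↥(centralizer ({a} : Set G))).Normal := pPrimeCore_isNormal
  have hAC : A ≤ centralizer ({a} : Set G) := fun b hb =>
    Subgroup.mem_centralizer_singleton_iff.mpr (elemAb_comm hA b hb a ha)
  have himg := image_elemAb (a := a) (elemAb_mono hA hB0A)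
  have hbot := eq_bot_of_locally hk pPrimeCore_quotient_bot (hloc a ha ha1) himg.1
    ((himg.2 (hB0A.trans hAC)).trans hB0c)
    (Y := ((Cfsg.signalizerDelta p B0 ⊓ centralizer ({a} : Set G)).subgroupOf (centralizer ({a} : Set G))).map
        (QuotientGroup.mk' (Cfsg.pPrimeCore p ↥(centralizer ({a} : Set G))))) (by
      rintro _ ⟨b, hb, rfl⟩ hb1
      exact image_le_core (elemAb_mono hA hB0A) (mem_subgroupOf.mp hb) (fun h => hb1 (by
        rw [show b = 1 from Subtype.ext h, map_one])))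
  have hmem : QuotientGroup.mk' (Cfsg.pPrimeCore p ↥(centralizer ({a} : Set G))) ⟨g, hga⟩ ∈ (⊥ : Subgroup _) :=
    hbot ▸ ⟨_, mem_subgroupOf.mpr ⟨delta_anti hB0 hgΔ, hga⟩, rfl⟩
  exact ⟨⟨g, hga⟩, (QuotientGroup.eq_one_iff _).mp (Subgroup.mem_bot.mp hmem), rfl⟩

/-- Weak `k`-balance with respect to `A` from weak local balance of `A`-invariant components. -/
theorem weaklyKBalancedWrt_of_components {k : ℕ} (hk : k ≠ 0) {A : Subgroup G} (hA : Cfsg.IsElementaryAbelian p A)
    (hloc : ∀ a : G, a ∈ A → a ≠ 1 →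
      ∀ K : Subgroup (↥(centralizer ({a} : Set G)) ⧸ Cfsg.pPrimeCore p ↥(centralizer ({a} : Set G))),
        Cfsg.IsComponent K → Cfsg.IsWeaklyLocallyKBalanced p k ↥K)
    (hinv : ∀ a : G, a ∈ A → a ≠ 1 →
      ∀ K : Subgroup (↥(centralizer ({a} : Set G)) ⧸ Cfsg.pPrimeCore p ↥(centralizer ({a} : Set G))),
        Cfsg.IsComponent K → ∀ b : ↥(centralizer ({a} : Set G)), (b : G) ∈ A →
          ∀ x ∈ K, (QuotientGroup.mk b) * x * (QuotientGroup.mk b)⁻¹ ∈ K) :
    Cfsg.IsWeaklyKBalancedWrt p k A := by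
  intro B hB _ hBc a ha ha1
  obtain ⟨B0, hB0, hB0c⟩ := exists_card_eq hA hB hBc
  have hB0A := hB0.trans hB
  haveI : (Cfsg.pPrimeCore p ↥(centralizer ({a} : Set G))).Normal := pPrimeCore_isNormal
  have hAC : A ≤ centralizer ({a} : Set G) := fun b hb =>
    Subgroup.mem_centralizer_singleton_iff.mpr (elemAb_comm hA b hb a ha)
  set C := centralizer ({a} : Set G) with hC
  set π := QuotientGroup.mk' (Cfsg.pPrimeCore p ↥C) with hπ
  have himg := image_elemAb (a := a) (elemAb_mono hA hB0A)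
  have hΔA : A ≤ normalizer ((Cfsg.signalizerDelta p B0 ⊓ C : Subgroup G) : Set G) :=
    le_normalizer_inf' (delta_invariant hA hB0A)
      (fun b hb => Subgroup.le_normalizer (hAC hb))
  have hcomm := commute_of_weakly hk (pPrimeCore_quotient_bot (p := p)) (hloc a ha ha1)
    (Ab := (A.subgroupOf C).map π) (E := (B0.subgroupOf C).map π)
    (Y := ((Cfsg.signalizerDelta p B0 ⊓ C).subgroupOf C).map π)
    (image_elemAb (a := a) hA).1 (Subgroup.map_mono (fun x hx => hB0A hx))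
    ((himg.2 (hB0A.trans hAC)).trans hB0c) ?inv ?act ?core
  case inv =>
    rintro L hL
    rw [← invariant_iff]
    rintro _ ⟨b, hb, rfl⟩ x hx
    exact hinv a ha ha1 L hL b (mem_subgroupOf.mp hb) x hx
  case act =>
    rintro _ ⟨b, hb, rfl⟩ _ ⟨y, hy, rfl⟩
    exact ⟨b * y * b⁻¹, mem_subgroupOf.mpr (invariant_iff.mpr hΔA b (mem_subgroupOf.mp hb) y (mem_subgroupOf.mp hy)),
      by simp⟩
  case core =>
    rintro _ ⟨b, hb, rfl⟩ hb1
    exact image_le_core (elemAb_mono hA hB0A) (mem_subgroupOf.mp hb) (fun h => hb1 (by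
      rw [show b = 1 from Subtype.ext h, map_one]))
  rw [Subgroup.commutator_le]
  intro g hg c hc
  have hg' : g ∈ Cfsg.signalizerDelta p B0 ⊓ C := ⟨delta_anti hB0 hg.1, hg.2⟩
  have h := hcomm (π ⟨g, hg.2⟩) ⟨_, mem_subgroupOf.mpr hg', rfl⟩ (π ⟨c, hAC hc⟩) ⟨_, mem_subgroupOf.mpr hc, rfl⟩
  refine ⟨⁅(⟨g, hg.2⟩ : ↥C), ⟨c, hAC hc⟩⁆, (QuotientGroup.eq_one_iff _).mp ?_, rfl⟩
  show π _ = 1
  rw [map_commutatorElement, commutatorElement_eq_one_iff_mul_comm]
  exact h

/-- Under balance the subgroups `Δ(B)` generate the same subgroup for every `E` of rank at least `k + 1`. -/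
theorem delta_le_of_balanced {k : ℕ} (hk : k ≠ 0) {A E B : Subgroup G} (hA : Cfsg.IsElementaryAbelian p A)
    (hbal : Cfsg.IsKBalancedWrt p k A) (hE : E ≤ A) (hEc : p ^ (k + 1) ≤ Nat.card E)
    (hB : B ≤ A) (hBc : p ^ k ≤ Nat.card B) {T : Subgroup G}
    (h : ∀ D : Subgroup G, D ≤ E → p ^ k ≤ Nat.card D →
      Cfsg.signalizerDelta p B ⊓ centralizer (D : Set G) ≤ Cfsg.signalizerDelta p D → 
      Cfsg.signalizerDelta p B ⊓ centralizer (D : Set G) ≤ T) :
    Cfsg.signalizerDelta p B ≤ T := by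
  obtain ⟨⟨b, hb⟩, hb1⟩ := B.ne_bot_iff_exists_ne_one.mp (ne_bot_of_card hk hBc)
  have hb1' : b ≠ 1 := fun h => hb1 (Subtype.ext h)
  have hX : ¬ p ∣ Nat.card ↥(Cfsg.signalizerDelta p B) := fun hd =>
    hp.out.coprime_iff_not_dvd.mp (centralizerPPrimeCore_coprime (p := p) b).symm
      (hd.trans (Subgroup.card_dvd_of_le (delta_le_core hb hb1')))
  refine le_of_hyperplanes (elemAb_mono hA hE) (ne_bot_of_card (Nat.succ_ne_zero k) hEc) _ hX
    (hE.trans (delta_invariant hA hB)) fun D hDE hDi => ?_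
  have hDc : p ^ k ≤ Nat.card D := by
    have h1 := card_mul_relIndex hDE
    rw [hDi] at h1
    rw [← h1, pow_succ] at hEc
    exact Nat.le_of_mul_le_mul_right hEc hp.out.pos
  refine h D hDE hDc (le_iInf fun e => ?_)
  refine le_trans (inf_le_inf_left _ (Subgroup.centralizer_le (Set.singleton_subset_iff.mpr e.2.1))) ?_
  exact hbal B hB (elemAb_mono hA hB) hBc e (hE (hDE e.2.1)) e.2.2

/-- The closure of the `k`-balanced functor. -/
theorem closure_eq {k : ℕ} (hk : k ≠ 0) {A E : Subgroup G} (hA : Cfsg.IsElementaryAbelian p A)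
    (hbal : Cfsg.IsKBalancedWrt p k A) (hE : E ≤ A) (hEc : p ^ (k + 1) ≤ Nat.card E) :
    Cfsg.signalizerClosure A (Cfsg.kBalancedTheta p k A) =
      ⨆ B : {B : Subgroup G // B ≤ E ∧ Cfsg.IsElementaryAbelian p B ∧ p ^ k ≤ Nat.card ↥B},
        Cfsg.signalizerDelta p (B : Subgroup G) := by
  refine le_antisymm (iSup_le fun a => iSup_le fun B => inf_le_left.trans ?_) (iSup_le fun B => ?_)
  · refine delta_le_of_balanced hk hA hbal hE hEc B.2.1 B.2.2.2 fun D hD hDc hle => ?_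
    exact hle.trans (le_iSup_of_le ⟨D, hD, elemAb_mono hA (hD.trans hE), hDc⟩ le_rfl)
  · refine delta_le_of_balanced hk hA hbal hE hEc (B.2.1.trans hE) B.2.2.2 fun D hD hDc _ => ?_
    obtain ⟨⟨a, ha⟩, ha1⟩ := D.ne_bot_iff_exists_ne_one.mp (ne_bot_of_card hk hDc)
    refine le_iSup_of_le ⟨a, hE (hD ha), fun h => ha1 (Subtype.ext h)⟩ ?_
    exact le_iSup_of_le ⟨B, B.2.1.trans hE, B.2.2.1, B.2.2.2⟩
      (inf_le_inf_left _ (Subgroup.centralizer_le (Set.singleton_subset_iff.mpr ha)))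

end Wrt

end Cfsg.Agent.Block.KBalance
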