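import Cfsg.Agent.Lib.Block.Height
import Cfsg.Agent.Lib.Block.SuzukiIdentity
import Cfsg.Agent.Lib.Char.ModP
import Cfsg.Agent.Lib.Char.Contrib

/-!
Külshammer's description of the principal block idempotent: up to the number of `p`-regular
elements, its coefficient at a `p`-regular element `g` counts the factorisations of `g` as a
`p`-element times a `p`-regular element.

The indicator of the `p`-elements is congruent, up to a unit, to the permutation character on
the cosets of a Sylow subgroup; this turns the count into a character sum that only involves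
the principal block.
-/

open scoped ComplexConjugate

namespace Cfsg.Agent.Block

set_option linter.unusedSectionVars false

universe u

variable {G : Type u} [Group G] [Finite G] {p : ℕ} {M : Ideal AlgInt}

theorem sum_classFun_mul_shift [Fintype G] {f : G → ℂ} (hf : IsClassFunction G f)
    (χ : IrrCharacter G) (g : G) :
    ∑ x : G, f x * (χ : G → ℂ) (x * g) = omegaFun χ f * (χ : G → ℂ) g := by
  have hG : (Nat.card G : ℂ) ≠ 0 := Nat.cast_ne_zero.mpr Nat.card_pos.ne'
  apply mul_left_cancel₀ hG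
  calc (Nat.card G : ℂ) * ∑ x : G, f x * (χ : G → ℂ) (x * g)
      = ∑ t : G, ∑ x : G, f x * (χ : G → ℂ) (g * (t * x * t⁻¹)) := by
        rw [← Finset.card_univ.trans (Nat.card_eq_fintype_card (α := G)).symm, ← nsmul_eq_mul,
          ← Finset.sum_const]
        refine Finset.sum_congr rfl fun t _ => ?_
        refine (Fintype.sum_equiv (MulAut.conj t).toEquiv _ _ fun x => ?_).symm
        simp only [MulEquiv.toEquiv_eq_coe, MulEquiv.coe_toEquiv, MulAut.conj_apply, hf x t]
        rw [← irr_classFun χ (g * (t * x * t⁻¹)) g⁻¹]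
        congr 2
        group
    _ = _ := by
        rw [Finset.sum_comm, omegaFun, Finset.sum_div, Finset.sum_mul, Finset.mul_sum]
        refine Finset.sum_congr rfl fun x _ => ?_
        rw [← Finset.mul_sum, sum_mul_conj]
        ring

theorem omegaFun_regular_outside [Fintype G] (hM : IsPModular p M) {χ : IrrCharacter G}
    (h : χ ∉ principalBlock M G) :
    omegaFun χ (fun x => if p ∣ orderOf x then 0 else 1) = 0 := by
  classical
  have h0 : regSum p (χ : G → ℂ) ((trivialIrr G : IrrCharacter G) : G → ℂ) = 0 := by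
    refine reg_orth hM fun hs => h ?_
    rw [principalBlock_eq]
    exact mem_blockOf.2 (sameBlock_symm hs)
  rw [regSum_eq_sum, Finset.sum_filter] at h0
  rw [omegaFun, div_eq_zero_iff]
  left
  refine Eq.trans (Finset.sum_congr rfl fun x _ => ?_) h0
  rw [show ((trivialIrr G : IrrCharacter G) : G → ℂ) x = 1 from rfl, map_one, mul_one]
  by_cases hx : p ∣ orderOf x <;> simp [hx]

theorem omegaFun_regular_congr [Fintype G] (hM : IsPModular p M) {χ : IrrCharacter G}
    (h : χ ∈ principalBlock M G) :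
    MemLocalIdeal M (omegaFun χ (fun x => if p ∣ orderOf x then 0 else 1) -
      (Nat.card {y : G // ¬ p ∣ orderOf y} : ℂ)) := by
  classical
  cases nonempty_fintype (ConjClasses G)
  set f : G → ℂ := fun x => if p ∣ orderOf x then 0 else 1 with hf
  have hfc : IsClassFunction G f := fun x t => by
    simp only [hf]
    rw [show t * x * t⁻¹ = MulAut.conj t x from rfl, MulEquiv.orderOf_eq]
  have hR : (Nat.card {y : G // ¬ p ∣ orderOf y} : ℂ) = omegaFun (trivialIrr G) f := by
    rw [omegaFun, show ((trivialIrr G : IrrCharacter G) : G → ℂ) = fun _ => 1 from rfl]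
    simp only [mul_one, div_one, hf]
    rw [Nat.card_eq_fintype_card, Fintype.card_subtype, ← Finset.sum_boole]
    exact Finset.sum_congr rfl fun x _ => by by_cases hx : p ∣ orderOf x <;> simp [hx]
  rw [hR, omegaFun_eq_sum_classes χ hfc, omegaFun_eq_sum_classes (trivialIrr G) hfc,
    ← Finset.sum_sub_distrib]
  refine ideal_sum hM fun C _ => ?_
  rw [← mul_sub]
  refine ideal_mul_left hM ?_ (pblock_sameBlock hM (isPBlock_principalBlock (M := M) (G := G)) h
    (trivial_mem_principalBlock hM) C.out)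
  simp only [hf]
  split_ifs <;> [exact ring_zero hM; exact ring_one hM]

/-- The block part of a class function vanishing at the nontrivial regular elements. -/
theorem blockPart_of_singular [Fintype G] (hM : IsPModular p M) {B : Set (IrrCharacter G)}
    (hB : IsPBlock M B) [DecidablePred (· ∈ B)] {θ : G → ℂ}
    (hθ : ∀ y : G, ¬ p ∣ orderOf y → y ≠ 1 → θ y = 0) {g : G} (hg : ¬ p ∣ orderOf g) :
    ∑ χ ∈ Finset.univ.filter (· ∈ B), classInner θ (χ : G → ℂ) * (χ : G → ℂ) g⁻¹ =
      θ 1 * blockCoeff B g := by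
  classical
  calc ∑ χ ∈ Finset.univ.filter (· ∈ B), classInner θ (χ : G → ℂ) * (χ : G → ℂ) g⁻¹
      = (Nat.card G : ℂ)⁻¹ * ∑ y : G, θ y * ∑ χ ∈ Finset.univ.filter (· ∈ B),
          (χ : G → ℂ) g⁻¹ * conj ((χ : G → ℂ) y) := by
        simp only [classInner, mul_assoc, ← Finset.mul_sum]
        congr 1
        simp only [Finset.mul_sum, Finset.sum_mul]
        rw [Finset.sum_comm]
        exact Finset.sum_congr rfl fun y _ => Finset.sum_congr rfl fun χ _ => by ring
    _ = _ := by
        rw [Finset.sum_eq_single (1 : G) (fun y _ hy => ?_)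
          (fun h => absurd (Finset.mem_univ _) h), blockCoeff, finsum_mem_block]
        · rw [mul_left_comm]
          congr 2
          refine Finset.sum_congr rfl fun χ _ => ?_
          rw [charDeg_spec' χ, map_natCast, irr_apply_inv]
          ring
        · by_cases hp : p ∣ orderOf y
          · rw [← finsum_mem_block, weak_orth hM hB (by rwa [orderOf_inv]) hp, mul_zero]
          · rw [hθ y hp hy, zero_mul]

theorem kulshammer_count [Fact p.Prime] (hM : IsPModular p M) {g : G} (hg : ¬ p ∣ orderOf g) :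
    MemLocalIdeal M ((Nat.card {xy : G × G // (∃ k : ℕ, orderOf xy.1 = p ^ k) ∧
        ¬ p ∣ orderOf xy.2 ∧ xy.1 * xy.2 = g} : ℂ) -
      (Nat.card {y : G // ¬ p ∣ orderOf y} : ℂ) * blockCoeff (principalBlock M G) g) := by
  classical
  cases nonempty_fintype G
  set R : ℂ := (Nat.card {y : G // ¬ p ∣ orderOf y} : ℂ)
  let P : Sylow p G := default
  cases nonempty_fintype (P : Subgroup G)
  set n : ℕ := (P : Subgroup G).index with hn
  have hpn : ¬ p ∣ n := P.not_dvd_index
  set θ : G → ℂ := indFun (P : Subgroup G) (fun _ => (1 : ℂ)) with hθdef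
  have hθchar : IsCharacter G θ := Cfsg.Agent.Char.isCharacter_indFun _
    (Cfsg.Agent.Char.IsChar.one (G := (P : Subgroup G)))
  have hθ1 : θ 1 = (n : ℂ) := by rw [hθdef, Cfsg.Agent.Char.indFun_one_eq, mul_one]
  have hsupp : ∀ y : G, (¬ ∃ k : ℕ, orderOf y = p ^ k) → θ y = 0 := by
    intro y hy
    refine Cfsg.Agent.Char.indFun_eq_zero_of_not_conj _ _ fun t ht => absurd ?_ hy
    obtain ⟨k, hk⟩ := pPow_of_mem P.isPGroup' ht
    refine ⟨k, ?_⟩
    rw [show t⁻¹ * y * t = MulAut.conj t⁻¹ y by simp, MulEquiv.orderOf_eq] at hk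
    exact hk
  have hreg : ∀ y : G, ¬ p ∣ orderOf y → y ≠ 1 → θ y = 0 := by
    intro y hy hy1
    refine hsupp y fun ⟨k, hk⟩ => ?_
    rcases k with _ | k
    · exact hy1 (orderOf_eq_one_iff.1 (by rwa [pow_zero] at hk))
    · exact hy (hk ▸ dvd_pow_self p k.succ_ne_zero)
  -- the indicator of the p-elements
  set U : G → ℂ := fun y => if ∃ k : ℕ, orderOf y = p ^ k then 1 else 0 with hU
  have hUθ : ∀ y : G, MemLocalIdeal M ((n : ℂ) * U y - θ y) := by
    intro y
    simp only [hU]
    split_ifs with h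
    · have := (ideal_coe_iff hM _).2
        (Cfsg.Agent.Char.IsChar.sub_degree_mem hθchar hM h)
      rw [mul_one, ← hθ1]
      exact ideal_sub_comm (by simpa using this)
    · rw [mul_zero, hsupp y h, sub_zero]; exact ideal_zero hM
  set f : G → ℂ := fun x => if p ∣ orderOf x then 0 else 1 with hf
  have hfc : IsClassFunction G f := fun x t => by
    simp only [hf]
    rw [show t * x * t⁻¹ = MulAut.conj t x from rfl, MulEquiv.orderOf_eq]
  have hN : (Nat.card {xy : G × G // (∃ k : ℕ, orderOf xy.1 = p ^ k) ∧ ¬ p ∣ orderOf xy.2 ∧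
      xy.1 * xy.2 = g} : ℂ) = ∑ x : G, f x * U (x * g⁻¹) := by
    have e : {xy : G × G // (∃ k : ℕ, orderOf xy.1 = p ^ k) ∧ ¬ p ∣ orderOf xy.2 ∧
        xy.1 * xy.2 = g} ≃ {x : G // ¬ p ∣ orderOf x ∧ ∃ k : ℕ, orderOf (x * g⁻¹) = p ^ k} :=
      { toFun := fun w => ⟨w.1.2, w.2.2.1, by
          obtain ⟨k, hk⟩ := w.2.1
          refine ⟨k, ?_⟩
          rw [show w.1.2 * g⁻¹ = (w.1.1)⁻¹ by
            rw [inv_eq_of_mul_eq_one_right (b := w.1.2⁻¹ * w.1.1⁻¹) (a := g)
              (by nth_rw 1 [← w.2.2.2]; group), mul_inv_cancel_left], orderOf_inv, hk]⟩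
        invFun := fun x => ⟨(g * x.1⁻¹, x.1), by
          obtain ⟨k, hk⟩ := x.2.2
          exact ⟨⟨k, by rw [← hk, ← orderOf_inv, mul_inv_rev, inv_inv]⟩, x.2.1,
            inv_mul_cancel_right _ _⟩⟩
        left_inv := fun w => by
          apply Subtype.ext
          exact Prod.ext (mul_inv_eq_iff_eq_mul.2 w.2.2.2.symm) rfl
        right_inv := fun x => rfl }
    rw [Nat.card_congr e, Nat.card_eq_fintype_card, Fintype.card_subtype, ← Finset.sum_boole]
    refine Finset.sum_congr rfl fun x _ => ?_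
    simp only [hf, hU]
    by_cases h1 : p ∣ orderOf x <;> by_cases h2 : ∃ k : ℕ, orderOf (x * g⁻¹) = p ^ k <;>
      simp [h1, h2]
  set N : ℂ := (Nat.card {xy : G × G // (∃ k : ℕ, orderOf xy.1 = p ^ k) ∧ ¬ p ∣ orderOf xy.2 ∧
      xy.1 * xy.2 = g} : ℂ)
  have hring : ∀ χ : IrrCharacter G, MemLocalRing M (classInner θ (χ : G → ℂ)) := by
    intro χ
    obtain ⟨m, hm⟩ := Cfsg.Agent.Char.IsChar.classInner_nat hθchar (irr_isChar χ)
    rw [hm]
    exact ring_natCast hM m
  -- first congruence
  have h1 : MemLocalIdeal M ((n : ℂ) * N - ∑ x : G, f x * θ (x * g⁻¹)) := by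
    rw [hN, Finset.mul_sum, ← Finset.sum_sub_distrib]
    refine ideal_sum hM fun x _ => ?_
    rw [mul_left_comm, ← mul_sub]
    refine ideal_mul_left hM ?_ (hUθ _)
    simp only [hf]
    split_ifs <;> [exact ring_zero hM; exact ring_one hM]
  -- expansion of the permutation character
  have h2 : ∑ x : G, f x * θ (x * g⁻¹) = ∑ χ ∈ Finset.univ.filter (· ∈ principalBlock M G),
      omegaFun χ f * (classInner θ (χ : G → ℂ) * (χ : G → ℂ) g⁻¹) := by
    have hexp : ∀ y, θ y = ∑ χ : IrrCharacter G, classInner θ (χ : G → ℂ) * (χ : G → ℂ) y :=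
      fun y => by
      have := congrFun (Cfsg.Agent.Char.classFunction_expansion
        (show IsClassFunction G θ from Cfsg.Agent.Char.indFun_classFun _ _)) y
      rwa [Cfsg.Agent.Char.sum_irr_apply] at this
    simp only [hexp, Finset.mul_sum]
    rw [Finset.sum_comm, Finset.sum_filter]
    refine Finset.sum_congr rfl fun χ _ => ?_
    rw [Finset.sum_congr rfl fun x _ => mul_left_comm (f x) _ _, ← Finset.mul_sum,
      sum_classFun_mul_shift hfc]
    split_ifs with h
    · ring
    · rw [omegaFun_regular_outside hM h, zero_mul, mul_zero]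
  have h3 : MemLocalIdeal M (∑ x : G, f x * θ (x * g⁻¹) -
      R * ((n : ℂ) * blockCoeff (principalBlock M G) g)) := by
    rw [h2, ← hθ1, ← blockPart_of_singular hM (isPBlock_principalBlock (M := M) (G := G)) hreg hg,
      Finset.mul_sum, ← Finset.sum_sub_distrib]
    refine ideal_sum hM fun χ hχ => ?_
    rw [← sub_mul]
    exact ideal_mul_right hM (omegaFun_regular_congr hM (Finset.mem_filter.1 hχ).2)
      (ring_mul hM (hring χ) (irr_ring hM χ _))
  have h4 := ideal_mul_left hM (ring_inv_natCast hM hpn) (ideal_add hM h1 h3)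
  have hn0 : (n : ℂ) ≠ 0 := Nat.cast_ne_zero.2 Subgroup.index_ne_zero_of_finite
  convert h4 using 1
  field_simp
  ring

theorem kulshammer [Fact p.Prime] (hM : IsPModular p M) {g : G} (hg : ¬ p ∣ orderOf g) :
    MemLocalIdeal M (blockCoeff (principalBlock M G) g -
      (Nat.card {xy : G × G // (∃ k : ℕ, orderOf xy.1 = p ^ k) ∧ ¬ p ∣ orderOf xy.2 ∧
        xy.1 * xy.2 = g} : ℂ) / (Nat.card {y : G // ¬ p ∣ orderOf y} : ℂ)) := by
  classical
  set R : ℕ := Nat.card {y : G // ¬ p ∣ orderOf y} with hR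
  have hring : ∀ y, MemLocalRing M (blockCoeff (principalBlock M G) y) := fun y =>
    blockCoeff_ring hM (isPBlock_principalBlock (M := M) (G := G)) y
  have h1 : ¬ p ∣ orderOf (1 : G) := by
    rw [orderOf_one]; exact (Fact.out : p.Prime).not_dvd_one
  have hpR : ¬ p ∣ R := by
    intro hd
    have h := kulshammer_count hM h1
    have hcard : Nat.card {xy : G × G // (∃ k : ℕ, orderOf xy.1 = p ^ k) ∧ ¬ p ∣ orderOf xy.2 ∧
        xy.1 * xy.2 = (1 : G)} = 1 := by
      refine Nat.card_eq_one_iff_unique.2 ⟨⟨fun a b => ?_⟩,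
        ⟨⟨(1, 1), ⟨0, by simp⟩, h1, mul_one 1⟩⟩⟩
      have key : ∀ w : {xy : G × G // (∃ k : ℕ, orderOf xy.1 = p ^ k) ∧ ¬ p ∣ orderOf xy.2 ∧
          xy.1 * xy.2 = (1 : G)}, w.1 = (1, 1) := by
        rintro ⟨⟨x, y⟩, ⟨k, hk⟩, hy, hxy⟩
        have hyx : y = x⁻¹ := eq_inv_of_mul_eq_one_right hxy
        subst hyx
        dsimp only at hk hy
        rw [orderOf_inv, hk] at hy
        have hk0 : k = 0 := by
          by_contra hk0
          exact hy (dvd_pow_self p hk0)
        rw [hk0, pow_zero, orderOf_eq_one_iff] at hk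
        simp [hk]
      exact Subtype.ext ((key a).trans (key b).symm)
    rw [hcard, Nat.cast_one] at h
    refine ideal_one hM ?_
    have := ideal_add hM h (ideal_mul_right hM ((ideal_natCast_iff hM R).2 hd) (hring 1))
    simpa [hR] using this
  have hR0 : (R : ℂ) ≠ 0 := Nat.cast_ne_zero.2 fun h => hpR (h ▸ dvd_zero p)
  have h := ideal_mul_left hM (ring_inv_natCast hM hpR)
    (ideal_sub_comm (kulshammer_count hM hg))
  convert h using 1
  rw [← hR]
  field_simp

end Cfsg.Agent.Block
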