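import Mathlib
import Cfsg.Prelude.Def_Blocks

/-!
The local ring of the algebraic integers at a modular maximal ideal, and a uniform exponent
which moves its elements close to 0 or 1.
-/

namespace Cfsg.Agent.Block

variable {p : ℕ} {M : Ideal AlgInt}

theorem pmod_prime (hM : IsPModular p M) : p.Prime := hM.1

theorem pmod_isPrime (hM : IsPModular p M) : M.IsPrime := hM.2.1.isPrime

theorem pmod_one_notMem (hM : IsPModular p M) : (1 : AlgInt) ∉ M :=
  fun h => hM.2.1.ne_top ((Ideal.eq_top_iff_one M).2 h)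

theorem pmod_coe_ne_zero {b : AlgInt} (hb : b ∉ M) : (b : ℂ) ≠ 0 :=
  fun h => hb (by rw [show b = 0 from Subtype.ext h]; exact M.zero_mem)

theorem pmod_mul_notMem (hM : IsPModular p M) {a b : AlgInt} (ha : a ∉ M) (hb : b ∉ M) :
    a * b ∉ M :=
  fun h => ((pmod_isPrime hM).mem_or_mem h).elim ha hb

/-- An algebraic integer, as an element of `AlgInt`. -/
def toAlgInt {z : ℂ} (h : IsIntegral ℤ z) : AlgInt := ⟨z, h⟩

theorem ring_of_integral (hM : IsPModular p M) {z : ℂ} (h : IsIntegral ℤ z) : MemLocalRing M z :=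
  ⟨toAlgInt h, 1, pmod_one_notMem hM, by simp [toAlgInt]⟩

theorem ring_coe (hM : IsPModular p M) (a : AlgInt) : MemLocalRing M (a : ℂ) :=
  ring_of_integral hM a.2

theorem ring_natCast (hM : IsPModular p M) (n : ℕ) : MemLocalRing M (n : ℂ) :=
  by simpa using ring_coe hM (n : AlgInt)

theorem ring_intCast (hM : IsPModular p M) (n : ℤ) : MemLocalRing M (n : ℂ) :=
  by simpa using ring_coe hM (n : AlgInt)

theorem ring_zero (hM : IsPModular p M) : MemLocalRing M 0 := by simpa using ring_natCast hM 0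

theorem ring_one (hM : IsPModular p M) : MemLocalRing M 1 := by simpa using ring_natCast hM 1

theorem ring_add (hM : IsPModular p M) {x y : ℂ} (hx : MemLocalRing M x) (hy : MemLocalRing M y) :
    MemLocalRing M (x + y) := by
  obtain ⟨a, b, hb, rfl⟩ := hx
  obtain ⟨c, d, hd, rfl⟩ := hy
  have := pmod_coe_ne_zero hb
  have := pmod_coe_ne_zero hd
  refine ⟨a * d + b * c, b * d, pmod_mul_notMem hM hb hd, ?_⟩
  push_cast
  field_simp

theorem ring_neg {x : ℂ} (hx : MemLocalRing M x) : MemLocalRing M (-x) := by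
  obtain ⟨a, b, hb, rfl⟩ := hx
  exact ⟨-a, b, hb, by push_cast; ring⟩

theorem ring_mul (hM : IsPModular p M) {x y : ℂ} (hx : MemLocalRing M x) (hy : MemLocalRing M y) :
    MemLocalRing M (x * y) := by
  obtain ⟨a, b, hb, rfl⟩ := hx
  obtain ⟨c, d, hd, rfl⟩ := hy
  exact ⟨a * c, b * d, pmod_mul_notMem hM hb hd, by push_cast; ring⟩

/-- The local ring at `M`, as a subring of the complex numbers. -/
def localRing (hM : IsPModular p M) : Subring ℂ where
  carrier := {z | MemLocalRing M z}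
  mul_mem' := ring_mul hM
  one_mem' := ring_one hM
  add_mem' := ring_add hM
  zero_mem' := ring_zero hM
  neg_mem' := ring_neg

theorem mem_localRing (hM : IsPModular p M) {z : ℂ} : z ∈ localRing hM ↔ MemLocalRing M z :=
  Iff.rfl

theorem ring_sub (hM : IsPModular p M) {x y : ℂ} (hx : MemLocalRing M x) (hy : MemLocalRing M y) :
    MemLocalRing M (x - y) := (localRing hM).sub_mem hx hy

theorem ring_pow (hM : IsPModular p M) {x : ℂ} (hx : MemLocalRing M x) (n : ℕ) :
    MemLocalRing M (x ^ n) := (localRing hM).pow_mem hx n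

theorem ring_sum (hM : IsPModular p M) {ι : Type*} {s : Finset ι} {f : ι → ℂ}
    (h : ∀ i ∈ s, MemLocalRing M (f i)) : MemLocalRing M (∑ i ∈ s, f i) :=
  (localRing hM).sum_mem h

theorem ring_prod (hM : IsPModular p M) {ι : Type*} {s : Finset ι} {f : ι → ℂ}
    (h : ∀ i ∈ s, MemLocalRing M (f i)) : MemLocalRing M (∏ i ∈ s, f i) :=
  (localRing hM).prod_mem h

theorem ideal_zero (hM : IsPModular p M) : MemLocalIdeal M 0 :=
  ⟨0, 1, M.zero_mem, pmod_one_notMem hM, by simp⟩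

theorem ring_of_ideal {x : ℂ} (hx : MemLocalIdeal M x) : MemLocalRing M x := by
  obtain ⟨a, b, -, hb, h⟩ := hx
  exact ⟨a, b, hb, h⟩

theorem ideal_add (hM : IsPModular p M) {x y : ℂ} (hx : MemLocalIdeal M x)
    (hy : MemLocalIdeal M y) : MemLocalIdeal M (x + y) := by
  obtain ⟨a, b, ha, hb, rfl⟩ := hx
  obtain ⟨c, d, hc, hd, rfl⟩ := hy
  have := pmod_coe_ne_zero hb
  have := pmod_coe_ne_zero hd
  refine ⟨a * d + b * c, b * d, M.add_mem (M.mul_mem_right _ ha) (M.mul_mem_left _ hc),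
    pmod_mul_notMem hM hb hd, ?_⟩
  push_cast
  field_simp

theorem ideal_mul_left (hM : IsPModular p M) {x y : ℂ} (hx : MemLocalRing M x)
    (hy : MemLocalIdeal M y) : MemLocalIdeal M (x * y) := by
  obtain ⟨a, b, hb, rfl⟩ := hx
  obtain ⟨c, d, hc, hd, rfl⟩ := hy
  exact ⟨a * c, b * d, M.mul_mem_left _ hc, pmod_mul_notMem hM hb hd, by push_cast; ring⟩

theorem ideal_mul_right (hM : IsPModular p M) {x y : ℂ} (hx : MemLocalIdeal M x)
    (hy : MemLocalRing M y) : MemLocalIdeal M (x * y) := by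
  rw [mul_comm]; exact ideal_mul_left hM hy hx

/-- The maximal ideal of the local ring at `M`. -/
def localIdeal (hM : IsPModular p M) : Ideal (localRing hM) where
  carrier := {z | MemLocalIdeal M (z : ℂ)}
  add_mem' := ideal_add hM
  zero_mem' := ideal_zero hM
  smul_mem' := fun c _ hx => ideal_mul_left hM c.2 hx

theorem mem_localIdeal (hM : IsPModular p M) {z : localRing hM} :
    z ∈ localIdeal hM ↔ MemLocalIdeal M (z : ℂ) := Iff.rfl

theorem ideal_neg {x : ℂ} (hx : MemLocalIdeal M x) : MemLocalIdeal M (-x) := by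
  obtain ⟨a, b, ha, hb, rfl⟩ := hx
  exact ⟨-a, b, M.neg_mem ha, hb, by push_cast; ring⟩

theorem ideal_sub (hM : IsPModular p M) {x y : ℂ} (hx : MemLocalIdeal M x)
    (hy : MemLocalIdeal M y) : MemLocalIdeal M (x - y) := by
  rw [sub_eq_add_neg]; exact ideal_add hM hx (ideal_neg hy)

theorem ideal_sub_comm {x y : ℂ} (h : MemLocalIdeal M (x - y)) : MemLocalIdeal M (y - x) := by
  have := ideal_neg h
  rwa [neg_sub] at this

theorem ideal_sum (hM : IsPModular p M) {ι : Type*} {s : Finset ι} {f : ι → ℂ}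
    (h : ∀ i ∈ s, MemLocalIdeal M (f i)) : MemLocalIdeal M (∑ i ∈ s, f i) :=
  Finset.sum_induction f (MemLocalIdeal M) (fun _ _ => ideal_add hM) (ideal_zero hM) h

theorem ideal_coe_iff (hM : IsPModular p M) (a : AlgInt) : MemLocalIdeal M (a : ℂ) ↔ a ∈ M := by
  constructor
  · rintro ⟨c, d, hc, hd, h⟩
    rw [div_eq_iff (pmod_coe_ne_zero hd)] at h
    have : c = a * d := Subtype.ext h
    rw [this] at hc
    exact ((pmod_isPrime hM).mem_or_mem hc).resolve_right hd
  · intro ha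
    exact ⟨a, 1, ha, pmod_one_notMem hM, by simp⟩

theorem ideal_one (hM : IsPModular p M) : ¬ MemLocalIdeal M 1 := fun h =>
  pmod_one_notMem hM ((ideal_coe_iff hM 1).1 (by simpa using h))

/-- Primality of the local ideal. -/
theorem ideal_or_of_mul (hM : IsPModular p M) {x y : ℂ} (hx : MemLocalRing M x)
    (hy : MemLocalRing M y) (h : MemLocalIdeal M (x * y)) :
    MemLocalIdeal M x ∨ MemLocalIdeal M y := by
  obtain ⟨a, b, hb, rfl⟩ := hx
  obtain ⟨c, d, hd, rfl⟩ := hy
  obtain ⟨e, f, he, hf, h⟩ := h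
  have := pmod_coe_ne_zero hb
  have := pmod_coe_ne_zero hd
  have := pmod_coe_ne_zero hf
  have key : a * c * f = e * (b * d) := by
    apply Subtype.ext
    push_cast
    field_simp at h
    linear_combination -h
  have : a * c * f ∈ M := key ▸ M.mul_mem_right _ he
  have hac : a * c ∈ M := ((pmod_isPrime hM).mem_or_mem this).resolve_right hf
  rcases (pmod_isPrime hM).mem_or_mem hac with ha | hc
  · exact Or.inl ⟨a, b, ha, hb, rfl⟩
  · exact Or.inr ⟨c, d, hc, hd, rfl⟩

theorem ideal_notMem_mul (hM : IsPModular p M) {x y : ℂ} (hx : MemLocalRing M x)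
    (hy : MemLocalRing M y) (hx' : ¬ MemLocalIdeal M x) (hy' : ¬ MemLocalIdeal M y) :
    ¬ MemLocalIdeal M (x * y) := fun h => (ideal_or_of_mul hM hx hy h).elim hx' hy'

theorem ideal_notMem_prod (hM : IsPModular p M) {ι : Type*} {s : Finset ι} {f : ι → ℂ}
    (h : ∀ i ∈ s, MemLocalRing M (f i) ∧ ¬ MemLocalIdeal M (f i)) :
    ¬ MemLocalIdeal M (∏ i ∈ s, f i) :=
  (Finset.prod_induction f (fun z => MemLocalRing M z ∧ ¬ MemLocalIdeal M z)
    (fun _ _ hx hy => ⟨ring_mul hM hx.1 hy.1, ideal_notMem_mul hM hx.1 hy.1 hx.2 hy.2⟩)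
    ⟨ring_one hM, ideal_one hM⟩ h).2

theorem ideal_of_pow (hM : IsPModular p M) {x : ℂ} (hx : MemLocalRing M x) :
    ∀ n : ℕ, MemLocalIdeal M (x ^ n) → MemLocalIdeal M x
  | 0, h => absurd (by simpa using h) (ideal_one hM)
  | n + 1, h => by
    rw [pow_succ] at h
    exact (ideal_or_of_mul hM (ring_pow hM hx n) hx h).elim (ideal_of_pow hM hx n) id

theorem ideal_congr (hM : IsPModular p M) {x y : ℂ} (h : MemLocalIdeal M (x - y)) :
    MemLocalIdeal M x ↔ MemLocalIdeal M y := by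
  constructor <;> intro hh
  · simpa using ideal_sub hM hh h
  · simpa using ideal_add hM h hh

theorem ideal_p (hM : IsPModular p M) : MemLocalIdeal M (p : ℂ) := by
  have := (ideal_coe_iff hM (p : AlgInt)).2 hM.2.2
  simpa using this

theorem ideal_intCast_iff (hM : IsPModular p M) (n : ℤ) :
    MemLocalIdeal M (n : ℂ) ↔ (p : ℤ) ∣ n := by
  constructor
  · intro h
    by_contra hn
    obtain ⟨u, v, huv⟩ :=
      (Nat.prime_iff_prime_int.1 (pmod_prime hM)).coprime_iff_not_dvd.2 hn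
    apply ideal_one hM
    have : (1 : ℂ) = (u : ℂ) * p + (v : ℂ) * n := by exact_mod_cast huv.symm
    rw [this]
    exact ideal_add hM (ideal_mul_left hM (ring_intCast hM u) (ideal_p hM))
      (ideal_mul_left hM (ring_intCast hM v) h)
  · rintro ⟨m, rfl⟩
    push_cast
    exact ideal_mul_right hM (ideal_p hM) (ring_intCast hM m)

theorem ideal_natCast_iff (hM : IsPModular p M) (n : ℕ) :
    MemLocalIdeal M (n : ℂ) ↔ p ∣ n := by
  rw [← Int.natCast_dvd_natCast, ← ideal_intCast_iff hM]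
  simp

theorem ring_inv (hM : IsPModular p M) {x : ℂ} (hx : MemLocalRing M x)
    (hx' : ¬ MemLocalIdeal M x) : MemLocalRing M x⁻¹ := by
  obtain ⟨a, b, hb, rfl⟩ := hx
  exact ⟨b, a, fun ha => hx' ⟨a, b, ha, hb, rfl⟩, by rw [inv_div]⟩

theorem ideal_inv (hM : IsPModular p M) {x : ℂ} (hx : MemLocalRing M x)
    (hx' : ¬ MemLocalIdeal M x) : ¬ MemLocalIdeal M x⁻¹ := fun h => by
  have h0 : x ≠ 0 := fun h0 => hx' (h0 ▸ ideal_zero hM)
  exact ideal_one hM (inv_mul_cancel₀ h0 ▸ ideal_mul_right hM h hx)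

theorem ring_inv_natCast (hM : IsPModular p M) {n : ℕ} (hn : ¬ p ∣ n) :
    MemLocalRing M (n : ℂ)⁻¹ :=
  ring_inv hM (ring_natCast hM n) (fun h => hn ((ideal_natCast_iff hM n).1 h))

/-- Dividing by a number whose p-part is at most `p ^ k`. -/
theorem ring_pow_mul_div (hM : IsPModular p M) {n k : ℕ} (hn : n ≠ 0)
    (hk : n.factorization p ≤ k) {r : ℂ} (hr : MemLocalRing M r) :
    MemLocalRing M ((p : ℂ) ^ k * r / n) := by
  have hp := pmod_prime hM
  have hsplit : (n : ℂ) = (p : ℂ) ^ n.factorization p * ((n / p ^ n.factorization p : ℕ) : ℂ) := by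
    exact_mod_cast (Nat.ordProj_mul_ordCompl_eq_self n p).symm
  have hne : (p : ℂ) ≠ 0 := Nat.cast_ne_zero.2 hp.ne_zero
  have : (p : ℂ) ^ k * r / n = ((p ^ (k - n.factorization p) : ℕ) : ℂ) * r *
      ((n / p ^ n.factorization p : ℕ) : ℂ)⁻¹ := by
    rw [hsplit, show (p : ℂ) ^ k = (p : ℂ) ^ n.factorization p * (p : ℂ) ^ (k - n.factorization p) by
      rw [← pow_add, Nat.add_sub_cancel' hk]]
    push_cast
    field_simp
  rw [this]
  exact ring_mul hM (ring_mul hM (ring_natCast hM _) hr)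
    (ring_inv_natCast hM (Nat.not_dvd_ordCompl hp hn))

theorem ideal_pow_mul_div (hM : IsPModular p M) {n k : ℕ} (hn : n ≠ 0)
    (hk : n.factorization p < k) {r : ℂ} (hr : MemLocalRing M r) :
    MemLocalIdeal M ((p : ℂ) ^ k * r / n) := by
  obtain ⟨j, rfl⟩ : ∃ j, k = j + 1 := ⟨k - 1, by omega⟩
  rw [show (p : ℂ) ^ (j + 1) * r / n = (p : ℂ) * ((p : ℂ) ^ j * r / n) by ring]
  exact ideal_mul_right hM (ideal_p hM) (ring_pow_mul_div hM hn (by omega) hr)

/-- Elements of a finitely generated ring of algebraic integers become congruent to 0 or 1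
modulo `p ^ k` after raising them to one suitable power. -/
theorem exists_exponent (hM : IsPModular p M) (S : Set ℂ) (hS : S.Finite)
    (hint : ∀ z ∈ S, IsIntegral ℤ z) (k : ℕ) :
    ∃ N : ℕ, 0 < N ∧ ∀ x ∈ Algebra.adjoin ℤ S,
      (MemLocalIdeal M x → ∃ r, MemLocalRing M r ∧ x ^ N = (p : ℂ) ^ k * r) ∧
      (¬ MemLocalIdeal M x → ∃ r, MemLocalRing M r ∧ x ^ N = 1 + (p : ℂ) ^ k * r) := by
  have hp := pmod_prime hM
  set R := Algebra.adjoin ℤ S
  have hfg : (Subalgebra.toSubmodule R).FG := fg_adjoin_of_finite hS hint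
  have hmodfin : Module.Finite ℤ R := Module.Finite.iff_fg.2 hfg
  have hRint : ∀ z ∈ R, IsIntegral ℤ z := fun z hz =>
    IsIntegral.of_mem_of_fg R hfg z hz
  let J : Ideal R := Ideal.span {((p ^ k : ℕ) : R)}
  have htors : AddMonoid.IsTorsion (R ⧸ J) := by
    intro x
    rw [isOfFinAddOrder_iff_nsmul_eq_zero]
    refine ⟨p ^ k, pow_pos hp.pos k, ?_⟩
    have h0 : ((p ^ k : ℕ) : R ⧸ J) = 0 := by
      rw [← map_natCast (Ideal.Quotient.mk J), Ideal.Quotient.eq_zero_iff_mem]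
      exact Ideal.subset_span rfl
    rw [nsmul_eq_mul, h0, zero_mul]
  have hfin : Finite (R ⧸ J) := by
    have : Module.Finite ℤ (R ⧸ J) :=
      Module.Finite.of_surjective (Ideal.Quotient.mkₐ ℤ J).toLinearMap
        Ideal.Quotient.mk_surjective
    have : AddGroup.FG (R ⧸ J) := Module.Finite.iff_addGroup_fg.1 this
    exact AddCommGroup.finite_of_fg_isAddTorsion (G := R ⧸ J) htors
  have := Fintype.ofFinite (R ⧸ J)
  set c := Fintype.card (R ⧸ J)
  refine ⟨c * c.factorial, Nat.mul_pos Fintype.card_pos (Nat.factorial_pos c), fun x hx => ?_⟩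
  obtain ⟨i, j, hij, hji, heq⟩ : ∃ i j : ℕ, i < j ∧ j ≤ c ∧
      (Ideal.Quotient.mk J ⟨x, hx⟩) ^ i = (Ideal.Quotient.mk J ⟨x, hx⟩) ^ j := by
    obtain ⟨a, b, hab, h⟩ := Fintype.exists_ne_map_eq_of_card_lt
      (fun n : Fin (c + 1) => (Ideal.Quotient.mk J ⟨x, hx⟩) ^ (n : ℕ))
      (by rw [Fintype.card_fin]; exact Nat.lt_succ_self c)
    rcases lt_or_gt_of_ne (fun h : (a : ℕ) = b => hab (Fin.ext h)) with h' | h'
    · exact ⟨a, b, h', Nat.lt_succ_iff.1 b.2, h⟩
    · exact ⟨b, a, h', Nat.lt_succ_iff.1 a.2, h.symm⟩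
  rw [← map_pow, ← map_pow, Ideal.Quotient.mk_eq_mk_iff_sub_mem, Ideal.mem_span_singleton'] at heq
  obtain ⟨w, hw⟩ := heq
  have hw' : (w : ℂ) * (p : ℂ) ^ k = x ^ i - x ^ j := by
    have := congrArg (fun t : R => (t : ℂ)) hw
    simpa using this
  have hwint : MemLocalRing M (w : ℂ) := ring_of_integral hM (hRint _ w.2)
  have hxr : MemLocalRing M x := ring_of_integral hM (hRint _ hx)
  obtain ⟨d, rfl⟩ : ∃ d, j = i + d := ⟨j - i, by omega⟩
  have hd : 0 < d := by omega
  constructor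
  · intro hxM
    have hu : ¬ MemLocalIdeal M (1 - x ^ d) := fun h => by
      apply ideal_one hM
      have : MemLocalIdeal M (x ^ d) := by
        rw [show x ^ d = x * x ^ (d - 1) by rw [← pow_succ']; congr 1; omega]
        exact ideal_mul_right hM hxM (ring_pow hM hxr _)
      simpa using ideal_add hM h this
    have hur : MemLocalRing M (1 - x ^ d) := ring_sub hM (ring_one hM) (ring_pow hM hxr d)
    have hu0 : (1 - x ^ d) ≠ 0 := fun h => hu (h ▸ ideal_zero hM)
    refine ⟨x ^ (c * c.factorial - i) * (w : ℂ) * (1 - x ^ d)⁻¹,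
      ring_mul hM (ring_mul hM (ring_pow hM hxr _) hwint) (ring_inv hM hur hu), ?_⟩
    have hi : i ≤ c * c.factorial :=
      le_trans (by omega) (Nat.le_mul_of_pos_right c (Nat.factorial_pos c))
    have hxi' : x ^ i = (w : ℂ) * (p : ℂ) ^ k * (1 - x ^ d)⁻¹ := by
      rw [eq_mul_inv_iff_mul_eq₀ hu0, hw', pow_add]; ring
    conv_lhs => rw [← Nat.sub_add_cancel hi, pow_add, hxi']
    ring
  · intro hxM
    have hxi : MemLocalRing M (x ^ i)⁻¹ :=
      ring_inv hM (ring_pow hM hxr i) (fun h => hxM (ideal_of_pow hM hxr i h))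
    have hx0 : x ^ i ≠ 0 := pow_ne_zero _ (fun h => hxM (h ▸ ideal_zero hM))
    have hxd : x ^ d = 1 + (p : ℂ) ^ k * (-((w : ℂ) * (x ^ i)⁻¹)) := by
      rw [pow_add] at hw'
      have : (p : ℂ) ^ k * -((w : ℂ) * (x ^ i)⁻¹) = -((x ^ i - x ^ i * x ^ d) * (x ^ i)⁻¹) := by
        rw [← hw']; ring
      rw [this]
      field_simp
      ring
    obtain ⟨e, he⟩ : d ∣ c * c.factorial :=
      Dvd.dvd.mul_left (Nat.dvd_factorial hd (by omega)) c
    set r0 : ℂ := -((w : ℂ) * (x ^ i)⁻¹)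
    have hr0 : MemLocalRing M r0 := ring_neg (ring_mul hM hwint hxi)
    rw [he, pow_mul, hxd]
    clear he
    induction e with
    | zero => exact ⟨0, ring_zero hM, by simp⟩
    | succ n ih =>
      obtain ⟨r, hr, hrr⟩ := ih
      refine ⟨r + r0 + (p : ℂ) ^ k * (r * r0), ?_, ?_⟩
      · exact ring_add hM (ring_add hM hr hr0)
          (ring_mul hM (ring_pow hM (ring_natCast hM p) k) (ring_mul hM hr hr0))
      · rw [pow_succ, hrr]; ring

end Cfsg.Agent.Block
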