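import Cfsg.Agent.Lib.Block.NormBound
import Cfsg.Agent.Lib.Block.Elementary
import Cfsg.Agent.Lib.Block.Separated
import Cfsg.Agent.Lib.Block.HeightLocal
import Cfsg.Agent.Lib.Block.Principal

/-!
A criterion for a single `p`-block: constrained centralizers of elements of order `p` and no
character of defect zero; and the norm bound for characters of defect zero.
-/

set_option autoImplicit false

namespace Cfsg.Agent.Block.SingleBlock

open Cfsg Cfsg.Agent.Char Cfsg.Agent.Block

universe u

variable {G : Type u} [Group G] [Finite G] {p : ℕ} [hp : Fact p.Prime] {M : Ideal AlgInt}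

theorem vanish_of_constrained (hM : IsPModular p M) {χ : IrrCharacter G}
    (hχ : χ ∉ principalBlock M G) {z : G} (hz : ∃ k : ℕ, orderOf z = p ^ k)
    (Q : Subgroup (Subgroup.centralizer ({z} : Set G))) [Q.Normal] (hQ : IsPGroup p Q)
    (hC : Subgroup.centralizer (Q : Set (Subgroup.centralizer ({z} : Set G))) ≤ Q) :
    (χ : G → ℂ) z = 0 := by
  classical
  cases nonempty_fintype G
  cases nonempty_fintype (Subgroup.centralizer ({z} : Set G))
  have h := value_eq_sum_inducing hM hz (isPBlock_blockOf (M := M) χ)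
    (y := (1 : Subgroup.centralizer ({z} : Set G)))
    (by simpa using hp.out.not_dvd_one) χ
  rw [if_pos (mem_blockOf_self hM χ), OneMemClass.coe_one, mul_one] at h
  rw [← h, Finset.filter_false_of_mem, Finset.sum_empty]
  intro ξ _ hind
  refine hχ ?_
  have hb : blockOf M (ξ : Subgroup.centralizer ({z} : Set G) → ℂ) =
      principalBlock M (Subgroup.centralizer ({z} : Set G)) :=
    blockOf_eq hM (single_block_of_centralizer hM Q hQ hC ξ (trivialIrr _))
  have hprin := (principal_third_main hM ⟨_, hind⟩).2 hb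
  rw [← induced_unique hM hind hprin]
  exact mem_blockOf_self hM χ

/-- A single block. -/
theorem sameBlock (hM : IsPModular p M)
    (hcen : ∀ z : G, orderOf z = p → ∃ z' : G, IsConj z z' ∧
      ∃ Q : Subgroup (Subgroup.centralizer ({z'} : Set G)), Q.Normal ∧ IsPGroup p Q ∧
        Subgroup.centralizer (Q : Set (Subgroup.centralizer ({z'} : Set G))) ≤ Q)
    (hno : ∀ χ : IrrCharacter G,
      (charDegree (χ : G → ℂ)).factorization p ≠ (Nat.card G).factorization p)
    (χ ψ : IrrCharacter G) : SameBlock M (χ : G → ℂ) (ψ : G → ℂ) := by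
  have hall : ∀ φ : IrrCharacter G, φ ∈ principalBlock M G := fun φ => by
    by_contra hφ
    refine hno φ (degree_full_of_vanish φ fun z hz => ?_)
    obtain ⟨z', hconj, Q, hQn, hQ, hC⟩ := hcen z hz
    obtain ⟨c, rfl⟩ := isConj_iff.1 hconj
    rw [← IsIrr.classFun φ.2 z c]
    exact vanish_of_constrained hM hφ
      ⟨1, by rw [pow_one, ← MulAut.conj_apply, MulEquiv.orderOf_eq, hz]⟩ Q hQ hC
  have h1 : blockOf M (χ : G → ℂ) = principalBlock M G :=
    (blockOf_eq hM (hall χ)).symm
  have h2 := hall ψ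
  rw [← h1] at h2
  exact h2

/-- Candidates for the degree of a character with full power of `p`. -/
theorem full_degree (χ : IrrCharacter G)
    (hfull : (charDegree (χ : G → ℂ)).factorization p = (Nat.card G).factorization p) {k n : ℕ}
    (hG : Nat.card G = p ^ k * n) :
    ∃ m, charDegree (χ : G → ℂ) = p ^ k * m ∧ m ∣ n ∧ (p ^ k * m) ^ 2 ≤ Nat.card G := by
  cases nonempty_fintype G
  obtain ⟨m, hm⟩ : p ^ k ∣ charDegree (χ : G → ℂ) := by
    rw [hp.out.pow_dvd_iff_le_factorization (charDeg_pos χ).ne', hfull,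
      ← hp.out.pow_dvd_iff_le_factorization Nat.card_pos.ne', hG]
    exact dvd_mul_right _ _
  refine ⟨m, hm, ?_, ?_⟩
  · refine Nat.dvd_of_mul_dvd_mul_left (pow_pos hp.out.pos k) ?_
    rw [← hm, ← hG]
    exact charDeg_dvd χ
  · rw [← hm]
    have h := Char.sum_degree_sq (G := G)
    have h' : ∑ φ : IrrCharacter G, charDegree (φ : G → ℂ) ^ 2 = Nat.card G := by
      refine Nat.cast_injective (R := ℂ) ?_
      rw [← h, Nat.cast_sum]
      refine Fintype.sum_equiv (Equiv.refl _) _ _ fun φ => ?_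
      rw [Nat.cast_pow, ← charDeg_spec' φ]; rfl
    rw [← h']
    exact Finset.single_le_sum (f := fun φ : IrrCharacter G => charDegree (φ : G → ℂ) ^ 2)
      (fun φ _ => Nat.zero_le _) (Finset.mem_univ χ)

theorem orderOf_mul_even {x e : G} (hc : Commute x e) {k : ℕ} (he : orderOf e = p ^ k) (hk : k ≠ 0)
    (hx : ¬ p ∣ orderOf x) : p ∣ orderOf (x * e) := by
  rw [hc.orderOf_mul_eq_mul_orderOf_of_coprime
    (by rw [he]; exact ((hp.out.coprime_iff_not_dvd).2 hx).symm.pow_right k), he]
  exact (dvd_pow_self p hk).mul_left _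

/-- The bound for characters of defect zero: the values are divisible by the order of a `p`-group
centralising the element. -/
theorem norm_lower_div [Fintype G] (hM : IsPModular p M) (χ : IrrCharacter G)
    (hfull : (charDegree (χ : G → ℂ)).factorization p = (Nat.card G).factorization p)
    {x : G} {r : ℕ} [hr : Fact r.Prime] (hx : orderOf x = r) (hrp : r ≠ p) (E : Subgroup G)
    (hE : IsPGroup p E) (hc : ∀ e ∈ E, Commute x e) [Fintype (Subgroup.zpowers x)] :
    ∃ d' : ℕ, charDegree (χ : G → ℂ) = Nat.card E * d' ∧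
      ((Nat.card E ^ 2 * (d' % r * (r - d' % r)) : ℕ) : ℝ) + (charDegree (χ : G → ℂ) : ℝ) ^ 2 ≤
        ∑ y : Subgroup.zpowers x, ‖(χ : G → ℂ) y‖ ^ 2 := by
  classical
  haveI := Fintype.ofFinite E
  have hcomm : ∀ (y : Subgroup.zpowers x) (e : E), Commute (y : G) (e : G) := fun y e => by
    obtain ⟨k, hk⟩ := Subgroup.mem_zpowers_iff.1 y.2
    rw [← hk]
    exact (hc e e.2).zpow_left k
  let f : Subgroup.zpowers x × E →* G :=
    MonoidHom.noncommCoprod (Subgroup.zpowers x).subtype E.subtype hcomm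
  let N : Subgroup (Subgroup.zpowers x × E) := (MonoidHom.fst (Subgroup.zpowers x) E).ker
  have hchar := IsChar.avgN N (IsChar.comp f (IsIrr.isCharacter χ.2))
  have hθ : IsCharacter (Subgroup.zpowers x) (fun y => Char.avgN N (fun z => (χ : G → ℂ) (f z)) (y, 1)) :=
    IsChar.comp (MonoidHom.inl (Subgroup.zpowers x) E) hchar
  let eqv : N ≃ E :=
    { toFun := fun n => (n : Subgroup.zpowers x × E).2
      invFun := fun e => ⟨(1, e), rfl⟩
      left_inv := fun n => by
        obtain ⟨⟨a, b⟩, hn⟩ := n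
        have ha : a = 1 := hn
        subst ha
        rfl
      right_inv := fun e => rfl }
  have hodd : ∀ y : Subgroup.zpowers x, ¬ p ∣ orderOf (y : G) := fun y h => by
    have h1 : orderOf (y : G) ∣ r := by
      have := orderOf_dvd_natCard y
      rwa [Nat.card_zpowers, hx, ← Subgroup.orderOf_coe] at this
    exact hrp ((Nat.prime_dvd_prime_iff_eq hp.out hr.out).1 (h.trans h1)).symm
  have hval : ∀ y : Subgroup.zpowers x,
      Char.avgN N (fun z => (χ : G → ℂ) (f z)) (y, 1) = (χ : G → ℂ) y / (Nat.card E : ℂ) := by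
    intro y
    simp only [Char.avgN]
    rw [Nat.card_congr eqv, Finset.sum_eq_single (1 : N)]
    · rw [OneMemClass.coe_one, one_mul,
        show f (y, (1 : E)) = (y : G) by
          show (y : G) * ((1 : E) : G) = _
          rw [OneMemClass.coe_one, mul_one], div_eq_inv_mul]
    · intro n _ hn
      have hn1 : (n : Subgroup.zpowers x × E).1 = 1 := n.2
      have hn2 : (n : Subgroup.zpowers x × E).2 ≠ 1 := fun h => hn (Subtype.ext (Prod.ext hn1 h))
      have hfv : f ((n : Subgroup.zpowers x × E) * (y, 1)) =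
          (y : G) * ((n : Subgroup.zpowers x × E).2 : G) := by
        show (((n : Subgroup.zpowers x × E).1 * y : Subgroup.zpowers x) : G) *
          (((n : Subgroup.zpowers x × E).2 * 1 : E) : G) = _
        rw [hn1, one_mul, mul_one]
      rw [hfv]
      obtain ⟨k, hk⟩ := hE.exists_orderOf_eq_pow (n : Subgroup.zpowers x × E).2
      rw [← Subgroup.orderOf_coe] at hk
      refine defectZero_vanish hM χ hfull (orderOf_mul_even (hcomm y _) hk ?_ (hodd y))
      rintro rfl
      rw [pow_zero, orderOf_eq_one_iff] at hk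
      exact hn2 (Subtype.ext hk)
    · exact fun h => absurd (Finset.mem_univ _) h
  simp only [hval] at hθ
  obtain ⟨d', hd'⟩ : ∃ d' : ℕ, (χ : G → ℂ) ((1 : Subgroup.zpowers x) : G) / (Nat.card E : ℂ) = d' := by
    obtain ⟨n, ρ, hρ⟩ := hθ
    refine ⟨n, ?_⟩
    have h1 := congrFun hρ 1
    rw [Representation.char_one, Module.finrank_fin_fun] at h1
    exact h1.symm
  have hE0 : (Nat.card E : ℂ) ≠ 0 := Nat.cast_ne_zero.2 Nat.card_pos.ne'
  refine ⟨d', ?_, ?_⟩
  · rw [OneMemClass.coe_one, charDeg_spec', div_eq_iff hE0] at hd'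
    rw [mul_comm]
    exact_mod_cast hd'
  · have hdeg : (charDegree (χ : G → ℂ) : ℝ) = (Nat.card E : ℝ) * (d' : ℝ) := by
      rw [OneMemClass.coe_one, charDeg_spec', div_eq_iff hE0] at hd'
      have h' : (charDegree (χ : G → ℂ) : ℕ) = d' * Nat.card E := by exact_mod_cast hd'
      rw [h']; push_cast; ring
    have h := NormBound.sum_sq_lower (p := r) (by rw [Nat.card_zpowers, hx]) hθ hd'
    have hE1 : (0 : ℝ) < (Nat.card E : ℝ) := Nat.cast_pos.2 Nat.card_pos
    simp only [norm_div, Complex.norm_natCast, div_pow, ← Finset.sum_div] at h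
    rw [le_div_iff₀ (by positivity)] at h
    rw [hdeg]
    push_cast at h ⊢
    linarith

theorem norm_lower_shift [Fintype G] (χ : IrrCharacter G) {x : G} {r i : ℕ} [hr : Fact r.Prime]
    (hx : orderOf x = r) (hd : charDegree (χ : G → ℂ) % r = r - 1) (hi : i % r ≠ 1)
    (hi' : i.Coprime r) (hconj : IsConj x (x ^ i)) {t : ℝ} (ht0 : 0 ≤ t) (ht : 2 * t ≤ 1)
    [Fintype (Subgroup.zpowers x)] :
    (r - 1 : ℝ) * (1 + t) ^ 2 + ((charDegree (χ : G → ℂ) : ℝ) - t) ^ 2 ≤
      ∑ y : Subgroup.zpowers x, ‖(χ : G → ℂ) y - (t : ℂ)‖ ^ 2 := by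
  refine NormBound.sum_shift_lower (p := r) (θ := fun y : Subgroup.zpowers x => (χ : G → ℂ) y)
    (by rw [Nat.card_zpowers, hx]) (IsChar.comp (Subgroup.zpowers x).subtype (IsIrr.isCharacter χ.2))
    (by simp [charDeg_spec']) hd hi (fun y => ?_) hi' ht0 ht
  obtain ⟨c, hc⟩ := isConj_iff.1 hconj
  obtain ⟨k, hk⟩ := Subgroup.mem_zpowers_iff.1 y.2
  show (χ : G → ℂ) ((y ^ i : Subgroup.zpowers x) : G) = (χ : G → ℂ) y
  rw [SubmonoidClass.coe_pow, ← hk, ← zpow_natCast, ← zpow_mul, mul_comm, zpow_mul, zpow_natCast, ← hc,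
    conj_zpow]
  exact IsIrr.classFun χ.2 _ _

end Cfsg.Agent.Block.SingleBlock
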