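import Mathlib

/-!
Finite subgroups of `GL(2, q)` given by generators, computed with natural-number quadruples, and the
criterion for regularity on the non-zero vectors.
-/

set_option autoImplicit false

namespace Cfsg.Agent.Block

open Matrix

/-- Quadruples representing `2 × 2` matrices. -/
abbrev Quad : Type := ℕ × ℕ × ℕ × ℕ

/-- Product of quadruples modulo `q`. -/
def quadMul (q : ℕ) (x y : Quad) : Quad :=
  ((x.1 * y.1 + x.2.1 * y.2.2.1) % q, (x.1 * y.2.1 + x.2.1 * y.2.2.2) % q,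
   (x.2.2.1 * y.1 + x.2.2.2 * y.2.2.1) % q, (x.2.2.1 * y.2.1 + x.2.2.2 * y.2.2.2) % q)

/-- The matrix of a quadruple. -/
def quadMat (q : ℕ) (x : Quad) : Matrix (Fin 2) (Fin 2) (ZMod q) :=
  !![(x.1 : ZMod q), (x.2.1 : ZMod q); (x.2.2.1 : ZMod q), (x.2.2.2 : ZMod q)]

/-- Being reduced modulo `q`. -/
def quadRed (q : ℕ) (x : Quad) : Bool :=
  x.1 < q && x.2.1 < q && x.2.2.1 < q && x.2.2.2 < q

/-- The value of a word in the generators. -/
def quadEval (q : ℕ) (gens : List Quad) : List ℕ → Quad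
  | [] => (1, 0, 0, 1)
  | i :: w => quadMul q (quadEval q gens w) (gens.getD i (1, 0, 0, 1))

theorem quadMat_mul (q : ℕ) (x y : Quad) : quadMat q (quadMul q x y) = quadMat q x * quadMat q y := by
  ext i j
  fin_cases i <;> fin_cases j <;>
    simp [quadMat, quadMul, Matrix.mul_apply, Fin.sum_univ_two, ZMod.natCast_mod]

theorem quadMat_one (q : ℕ) : quadMat q (1, 0, 0, 1) = 1 := by
  ext i j
  fin_cases i <;> fin_cases j <;> simp [quadMat]

theorem quadMat_inj {q : ℕ} {x y : Quad} (hx : quadRed q x = true) (hy : quadRed q y = true)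
    (h : quadMat q x = quadMat q y) : x = y := by
  obtain ⟨a, b, c, d⟩ := x
  obtain ⟨a', b', c', d'⟩ := y
  simp only [quadRed, Bool.and_eq_true, decide_eq_true_eq] at hx hy
  have h1 := congrFun (congrFun h 0) 0
  have h2 := congrFun (congrFun h 0) 1
  have h3 := congrFun (congrFun h 1) 0
  have h4 := congrFun (congrFun h 1) 1
  simp [quadMat, ZMod.natCast_eq_natCast_iff'] at h1 h2 h3 h4
  rw [Nat.mod_eq_of_lt hx.1.1.1, Nat.mod_eq_of_lt hy.1.1.1] at h1
  rw [Nat.mod_eq_of_lt hx.1.1.2, Nat.mod_eq_of_lt hy.1.1.2] at h2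
  rw [Nat.mod_eq_of_lt hx.1.2, Nat.mod_eq_of_lt hy.1.2] at h3
  rw [Nat.mod_eq_of_lt hx.2, Nat.mod_eq_of_lt hy.2] at h4
  subst h1 h2 h3 h4
  rfl

/-- A subgroup of `GL(2, q)` given by generators, with a certified list of its elements. -/
theorem quad_closure {q : ℕ} [NeZero q] (gens : List Quad) (S : Set (GeneralLinearGroup (Fin 2) (ZMod q)))
    (hS : ∀ g ∈ S, ∃ x ∈ gens, (g : Matrix (Fin 2) (Fin 2) (ZMod q)) = quadMat q x)
    (hgens : ∀ i < gens.length, ∃ g ∈ S, (g : Matrix (Fin 2) (Fin 2) (ZMod q)) = quadMat q (gens.getD i (1, 0, 0, 1)))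
    (L : List Quad) (words : List (List ℕ)) (hL : words.map (quadEval q gens) = L)
    (hwords : words.all (fun w => w.all (fun i => decide (i < gens.length))) = true)
    (h1 : L.contains (1, 0, 0, 1) = true) (hclosed : L.all (fun x => gens.all (fun y => L.contains (quadMul q x y))) = true)
    (hred : L.all (quadRed q) = true) (hnd : L.Nodup) :
    Nat.card (Subgroup.closure S) = L.length ∧
      ∀ g ∈ Subgroup.closure S, ∃ x ∈ L, (g : Matrix (Fin 2) (Fin 2) (ZMod q)) = quadMat q x := by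
  classical
  have hsub : ∀ g ∈ Subgroup.closure S, ∃ x ∈ L, (g : Matrix (Fin 2) (Fin 2) (ZMod q)) = quadMat q x := by
    intro g hg
    rw [← Subgroup.mem_toSubmonoid, Subgroup.closure_toSubmonoid_of_finite] at hg
    induction hg using Submonoid.closure_induction_right with
    | one => exact ⟨(1, 0, 0, 1), by simpa using h1, by rw [quadMat_one]; rfl⟩
    | mul_right a _ b hb ih =>
      obtain ⟨x, hx, hax⟩ := ih
      obtain ⟨y, hy, hby⟩ := hS b hb
      refine ⟨quadMul q x y, ?_, by rw [quadMat_mul, ← hax, ← hby]; rfl⟩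
      simp only [List.all_eq_true, List.contains_iff_mem] at hclosed
      exact hclosed x hx y hy
  have hmem : ∀ x ∈ L, ∃ g ∈ Subgroup.closure S, (g : Matrix (Fin 2) (Fin 2) (ZMod q)) = quadMat q x := by
    intro x hx
    rw [← hL, List.mem_map] at hx
    obtain ⟨w, hw, rfl⟩ := hx
    simp only [List.all_eq_true, decide_eq_true_eq] at hwords
    have hw' := hwords w hw
    clear hw
    induction w with
    | nil => exact ⟨1, one_mem _, by rw [quadEval, quadMat_one]; rfl⟩
    | cons i w ih =>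
      obtain ⟨g, hg, hgx⟩ := ih (fun j hj => hw' j (List.mem_cons_of_mem _ hj))
      obtain ⟨b, hb, hby⟩ := hgens i (hw' i List.mem_cons_self)
      exact ⟨g * b, mul_mem hg (Subgroup.subset_closure hb), by rw [quadEval, quadMat_mul, ← hgx, ← hby]; rfl⟩
  simp only [List.all_eq_true] at hred
  refine ⟨?_, hsub⟩
  choose f hf hfm using hsub
  choose g hg hgm using hmem
  rw [← List.toFinset_card_of_nodup hnd, ← Fintype.card_coe, ← Nat.card_eq_fintype_card]
  refine Nat.card_congr ⟨fun a => ⟨f a a.2, List.mem_toFinset.2 (hf a a.2)⟩,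
    fun x => ⟨g x (List.mem_toFinset.1 x.2), hg x (List.mem_toFinset.1 x.2)⟩, fun a => ?_, fun x => ?_⟩
  · apply Subtype.ext
    apply Units.ext
    rw [hgm, ← hfm]
  · apply Subtype.ext
    refine quadMat_inj (hred _ ?_) (hred _ (List.mem_toFinset.1 x.2)) ?_
    · exact hf _ _
    · rw [← hfm, hgm]

/-- A subgroup without fixed points of order at least `q ^ 2 - 1` is regular on non-zero vectors. -/
theorem regular_of_fpf {q : ℕ} [Fact q.Prime] (H : Subgroup (GeneralLinearGroup (Fin 2) (ZMod q)))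
    (hf : ∀ h ∈ H, ∀ v : Fin 2 → ZMod q, v ≠ 0 → Matrix.mulVec (h : Matrix (Fin 2) (Fin 2) (ZMod q)) v = v → h = 1)
    (hc : q ^ 2 - 1 ≤ Nat.card H) :
    Nat.card H = q ^ 2 - 1 ∧ ∀ v w : Fin 2 → ZMod q, v ≠ 0 → w ≠ 0 →
      ∃! h : H, Matrix.mulVec ((h : GeneralLinearGroup (Fin 2) (ZMod q)) : Matrix (Fin 2) (Fin 2) (ZMod q)) v = w := by
  classical
  have hne : ∀ (h : H) (v : Fin 2 → ZMod q), v ≠ 0 →
      Matrix.mulVec ((h : GeneralLinearGroup (Fin 2) (ZMod q)) : Matrix (Fin 2) (Fin 2) (ZMod q)) v ≠ 0 := by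
    intro h v hv e
    apply hv
    have := congrArg (Matrix.mulVec (((h⁻¹ : H) : GeneralLinearGroup (Fin 2) (ZMod q)) : Matrix (Fin 2) (Fin 2) (ZMod q))) e
    rw [Matrix.mulVec_mulVec, ← Units.val_mul, ← Subgroup.coe_mul, inv_mul_cancel, Subgroup.coe_one,
      Units.val_one, Matrix.one_mulVec, Matrix.mulVec_zero] at this
    exact this
  have hinj : ∀ (v : Fin 2 → ZMod q), v ≠ 0 → ∀ h k : H,
      Matrix.mulVec ((h : GeneralLinearGroup (Fin 2) (ZMod q)) : Matrix (Fin 2) (Fin 2) (ZMod q)) v =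
        Matrix.mulVec ((k : GeneralLinearGroup (Fin 2) (ZMod q)) : Matrix (Fin 2) (Fin 2) (ZMod q)) v → h = k := by
    intro v hv h k e
    have h1 := congrArg (Matrix.mulVec (((k⁻¹ : H) : GeneralLinearGroup (Fin 2) (ZMod q)) : Matrix (Fin 2) (Fin 2) (ZMod q))) e
    simp only [Matrix.mulVec_mulVec, ← Units.val_mul, ← Subgroup.coe_mul, inv_mul_cancel, Subgroup.coe_one,
      Units.val_one, Matrix.one_mulVec] at h1
    have := hf _ (k⁻¹ * h).2 v hv h1
    exact (inv_mul_eq_one.1 (Subtype.ext this)).symm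
  let F : ∀ v : {v : Fin 2 → ZMod q // v ≠ 0}, H → {v : Fin 2 → ZMod q // v ≠ 0} := fun v h =>
    ⟨Matrix.mulVec ((h : GeneralLinearGroup (Fin 2) (ZMod q)) : Matrix (Fin 2) (Fin 2) (ZMod q)) v, hne h v v.2⟩
  have hFi : ∀ v, Function.Injective (F v) := fun v h k e => hinj v v.2 h k (congrArg Subtype.val e)
  have hV : Nat.card {v : Fin 2 → ZMod q // v ≠ 0} = q ^ 2 - 1 := by
    rw [Nat.card_eq_fintype_card, Fintype.card_subtype_compl, Fintype.card_subtype_eq, Fintype.card_fun,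
      ZMod.card, Fintype.card_fin]
  have h0 : ((fun i => if i = 0 then 1 else 0) : Fin 2 → ZMod q) ≠ 0 := fun e => by
    simpa using congrFun e 0
  have hcard : Nat.card H = q ^ 2 - 1 :=
    le_antisymm (hV ▸ Nat.card_le_card_of_injective _ (hFi ⟨_, h0⟩)) hc
  refine ⟨hcard, fun v w hv hw => ?_⟩
  obtain ⟨h, hh⟩ := ((Nat.bijective_iff_injective_and_card (F ⟨v, hv⟩)).2
    ⟨hFi _, by rw [hcard, hV]⟩).2 ⟨w, hw⟩
  have hh' := congrArg Subtype.val hh
  exact ⟨h, hh', fun k hk => hinj v hv k h (hk.trans hh'.symm)⟩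

/-- No fixed non-zero vector when `det (M - 1) ≠ 0`. -/
theorem quad_fpf {q : ℕ} [Fact q.Prime] {x : Quad}
    (hx : ((x.1 * x.2.2.2 + 1) % q == (x.2.1 * x.2.2.1 + x.1 + x.2.2.2) % q) = false) (v : Fin 2 → ZMod q)
    (h : Matrix.mulVec (quadMat q x) v = v) : v = 0 := by
  have hdet : (quadMat q x - 1).det ≠ 0 := by
    intro e
    have hb : (x.1 * x.2.2.2 + 1) % q ≠ (x.2.1 * x.2.2.1 + x.1 + x.2.2.2) % q := by simpa using hx
    apply hb
    rw [← ZMod.natCast_eq_natCast_iff']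
    rw [Matrix.det_fin_two] at e
    simp [quadMat] at e
    push_cast
    linear_combination e
  refine Matrix.eq_zero_of_mulVec_eq_zero hdet ?_
  rw [Matrix.sub_mulVec, h, Matrix.one_mulVec, sub_self]

end Cfsg.Agent.Block
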