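import Cfsg.Agent.Lib.Recog.MinimalNormal

/-!
# A minimal normal subgroup is a direct power of a simple group in `Type`
-/

set_option autoImplicit false
set_option linter.style.haveILetI false

namespace Cfsg.Agent.Block.MinimalPower

variable {H : Type*} [Group H] [Finite H]

theorem elementary (N : Subgroup H) [hNn : N.Normal] (hN : N ≠ ⊥)
    (hmin : ∀ M : Subgroup H, M.Normal → M ≤ N → M = ⊥ ∨ M = N) (hab : IsMulCommutative N) :
    ∃ p : ℕ, p.Prime ∧ ∀ x ∈ N, x ^ p = 1 := by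
  have h1 : 1 < Nat.card N := (Subgroup.one_lt_card_iff_ne_bot N).mpr hN
  obtain ⟨p, hp, hpd⟩ := Nat.exists_prime_and_dvd (n := Nat.card N) (by omega)
  haveI := Fact.mk hp
  have hc : ∀ a ∈ N, ∀ b ∈ N, a * b = b * a := fun a ha b hb =>
    congrArg Subtype.val (hab.is_comm.comm (⟨a, ha⟩ : N) ⟨b, hb⟩)
  let K : Subgroup H :=
    { carrier := {x | x ∈ N ∧ x ^ p = 1}
      mul_mem' := fun {a b} ha hb => ⟨N.mul_mem ha.1 hb.1, by
        rw [(show Commute a b from hc a ha.1 b hb.1).mul_pow, ha.2, hb.2, one_mul]⟩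
      one_mem' := ⟨N.one_mem, one_pow p⟩
      inv_mem' := fun {a} ha => ⟨N.inv_mem ha.1, by rw [inv_pow, ha.2, inv_one]⟩ }
  have hK : K.Normal := ⟨fun x hx g => ⟨hNn.conj_mem x hx.1 g, by
    rw [conj_pow, hx.2, mul_one, mul_inv_cancel]⟩⟩
  obtain ⟨a, ha⟩ := exists_prime_orderOf_dvd_card' p hpd
  have hane : K ≠ ⊥ := fun e => by
    have : (a : H) ∈ K := ⟨a.2, by rw [← Subgroup.coe_pow, ← ha, pow_orderOf_eq_one]; rfl⟩
    rw [e, Subgroup.mem_bot] at this
    have : a = 1 := Subtype.ext this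
    rw [this, orderOf_one] at ha
    exact hp.one_lt.ne ha
  rcases hmin K hK (fun x hx => hx.1) with h | h
  · exact absurd h hane
  · exact ⟨p, hp, fun x hx => (h.symm ▸ hx : x ∈ K).2⟩

theorem exists_addEquiv_pi' {V : Type*} [AddCommGroup V] [Finite V] [Nontrivial V] {p : ℕ}
    [Fact p.Prime] [Module (ZMod p) V] :
    ∃ m : ℕ, 0 < m ∧ Nonempty (V ≃+ (Fin m → ZMod p)) :=
  ⟨Module.finrank (ZMod p) V, Module.finrank_pos (R := ZMod p) (M := V),
    ⟨(Module.finBasis (ZMod p) V).equivFun.toAddEquiv⟩⟩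

theorem exists_addEquiv_pi {V : Type*} [AddCommGroup V] [Finite V] [Nontrivial V] {p : ℕ}
    [Fact p.Prime] (h : ∀ x : V, p • x = 0) :
    ∃ m : ℕ, 0 < m ∧ Nonempty (V ≃+ (Fin m → ZMod p)) := by
  letI : Module (ZMod p) V := AddCommGroup.zmodModule h
  exact exists_addEquiv_pi'

theorem exists_simple_power (N : Subgroup H) [N.Normal] (hN : N ≠ ⊥)
    (hmin : ∀ M : Subgroup H, M.Normal → M ≤ N → M = ⊥ ∨ M = N) :
    ∃ (T : Type) (_ : Group T) (m : ℕ), IsSimpleGroup T ∧ 0 < m ∧ Nonempty (N ≃* (Fin m → T)) := by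
  by_cases hab : IsMulCommutative N
  · obtain ⟨p, hp, hexp⟩ := elementary N hN hmin hab
    haveI := Fact.mk hp
    letI : CommGroup N := { (inferInstance : Group N) with mul_comm := fun a b => hab.is_comm.comm a b }
    have hsm : ∀ x : Additive N, p • x = 0 := fun x =>
      Additive.toMul.injective (Subtype.ext (hexp (x.toMul : H) x.toMul.2))
    haveI : Nontrivial N := (Subgroup.nontrivial_iff_ne_bot N).mpr hN
    haveI : Finite (Additive N) := Finite.of_equiv N Additive.ofMul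
    obtain ⟨m, hm, ⟨e⟩⟩ := exists_addEquiv_pi (p := p) hsm
    haveI : IsSimpleGroup (Multiplicative (ZMod p)) := isSimpleGroup_of_prime_card (p := p) (by
      rw [Nat.card_congr Multiplicative.toAdd, Nat.card_zmod])
    exact ⟨Multiplicative (ZMod p), inferInstance, m, inferInstance, hm,
      ⟨(AddEquiv.toMultiplicativeRight e).trans (MulEquiv.funMultiplicative _ _)⟩⟩
  · obtain ⟨T, k, hk, hs, -, ⟨e⟩⟩ := Cfsg.Agent.MinNormal.exists_power N hN hmin hab
    haveI := hs
    let f' : Shrink.{0} T ≃* T := Shrink.mulEquiv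
    haveI : Nontrivial (Shrink.{0} T) := f'.toEquiv.nontrivial
    exact ⟨Shrink.{0} T, inferInstance, k,
      IsSimpleGroup.isSimpleGroup_of_surjective f'.symm.toMonoidHom f'.symm.surjective, by omega,
      ⟨e.symm.trans (MulEquiv.piCongrRight fun _ => f'.symm)⟩⟩

end Cfsg.Agent.Block.MinimalPower
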