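import Cfsg.Agent.Lib.Block.CoveringBasic
import Cfsg.Agent.Lib.Block.NilpotentBlock
import Cfsg.Agent.Lib.Char.ExtendMain

/-!
Blocks with a normal defect group: heights are zero exactly when the defect group is abelian.
-/

open scoped ComplexConjugate

namespace Cfsg.Agent.Block

set_option linter.unusedSectionVars false
set_option linter.style.haveILetI false

universe u

variable {G : Type u} [Group G] [Finite G] {p : ℕ} {M : Ideal AlgInt}

/-- The inertia group of a constituent in `L ⊇ P C(P)` has index prime to `p` over `L`. -/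
theorem inertia_index_factorization [Fact p.Prime] [Fintype G] (hM : IsPModular p M)
    {B : Set (IrrCharacter G)} (hB : IsPBlock M B) {P : Subgroup G} [P.Normal]
    (hP : IsDefectGroup p M B P) (L : Subgroup G) [hL : L.Normal] [Fintype L] (hPL : P ≤ L)
    (hCL : Subgroup.centralizer (P : Set G) ≤ L)
    {χ : IrrCharacter G} (hχ : χ ∈ B) {θ : IrrCharacter L}
    (hθ : classInner (fun n : L => (χ : G → ℂ) n) (θ : L → ℂ) ≠ 0) :
    L.index.factorization p ≤ (Cfsg.Agent.Char.inertia L (θ : L → ℂ)).index.factorization p := by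
  classical
  have hp : p.Prime := Fact.out
  set I := Cfsg.Agent.Char.inertia L (θ : L → ℂ) with hI
  have hLI : L ≤ I := Cfsg.Agent.Char.le_inertia L (irr_classFun θ)
  suffices h : ¬ p ∣ L.relIndex I by
    rw [← Subgroup.relIndex_mul_index hLI, Nat.factorization_mul
      (fun h0 => h (by rw [h0]; exact dvd_zero p)) Subgroup.index_ne_zero_of_finite, Finsupp.add_apply,
      Nat.factorization_eq_zero_of_not_dvd h, zero_add]
  intro hdvd
  haveI : (L.subgroupOf I).Normal := Subgroup.Normal.subgroupOf inferInstance _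
  obtain ⟨q, hq⟩ := exists_prime_orderOf_dvd_card' (G := I ⧸ L.subgroupOf I) p
    (by rw [← Subgroup.index_eq_card]; exact hdvd)
  obtain ⟨s, rfl⟩ := QuotientGroup.mk'_surjective (L.subgroupOf I) q
  have hsp : (s : G) ^ p ∈ L := by
    have h := pow_orderOf_eq_one (QuotientGroup.mk' (L.subgroupOf I) s)
    rw [hq, ← map_pow] at h
    exact ((QuotientGroup.eq_one_iff _).1 h : s ^ p ∈ L.subgroupOf I)
  have hsL : (s : G) ∉ L := fun h => hp.one_lt.ne' (by
    rw [← hq, orderOf_eq_one_iff]
    exact (QuotientGroup.eq_one_iff _).2 h)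
  -- a defect class
  obtain ⟨g, hg, Q, hQ⟩ := hP
  have hω : ¬ MemLocalIdeal M (centralChar (χ : G → ℂ) g) := hg.2.2 χ hχ
  cases nonempty_fintype (ConjClasses L)
  have hcls : IsClassFunction L (fun m : L => classInd g (m : G)) := fun m k => by
    show classInd g ((k * m * k⁻¹ : L) : G) = classInd g (m : G)
    exact classInd_classFun g (m : G) (k : G)
  set F : ConjClasses L → ℂ := fun C => classInd g (C.out : G) * centralChar (θ : L → ℂ) C.out
  have hFr : ∀ C, MemLocalRing M (F C) := fun C => by
    refine ring_mul hM ?_ (centralChar_ring hM θ _)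
    simp only [classInd]
    split_ifs
    · exact ring_one hM
    · exact ring_zero hM
  have hgC : g ∈ Subgroup.centralizer (P : Set G) := hQ ▸ mem_centralizer_csyl Q
  have hFsum : ¬ MemLocalIdeal M (∑ C, F C) := by
    rwa [centralChar_eq_induced L hθ (hCL hgC), inducedCentralChar_eq_omegaFun,
      omegaFun_eq_sum_classes _ hcls] at hω
  -- the action of `s` on the classes of `L`
  set e := Cfsg.Agent.Char.conjEquivN L (s : G) with he
  let π : Equiv.Perm (ConjClasses L) := Equiv.ofBijective (ConjClasses.map e.toMonoidHom)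
    (Finite.surjective_iff_bijective.1 (ConjClasses.map_surjective e.surjective))
  have hπval : ∀ C : ConjClasses L, π C = ConjClasses.mk (e C.out) := fun C => by
    conv_lhs => rw [← (Quotient.out_eq C : ConjClasses.mk C.out = C)]
    rfl
  have hπF : ∀ C, F (π C) = F C := fun C => by
    have hc : IsConj (π C).out (e C.out) :=
      ConjClasses.mk_eq_mk_iff_isConj.1 ((Quotient.out_eq (π C)).trans (hπval C))
    have hcl : IsClassFunction L (fun m : L => centralChar (θ : L → ℂ) m) := fun m k =>
      (centralChar_conj θ (isConj_iff.2 ⟨k, rfl⟩)).symm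
    simp only [F]
    rw [Cfsg.Agent.Char.IsClass.eq_of_isConj hcls hc, Cfsg.Agent.Char.IsClass.eq_of_isConj hcl hc,
      ← centralChar_conjPerm]
    congr 1
    · show classInd g ((e C.out : L) : G) = _
      rw [he, Cfsg.Agent.Char.conjEquivN_apply]
      exact classInd_classFun g (C.out : G) (s : G)
    · rw [show conjPerm L (s : G) θ = θ from Subtype.ext ((Cfsg.Agent.Char.mem_inertia L).1 s.2)]
  have hπp : π ^ p = 1 := by
    have hiter : ∀ k : ℕ, ∀ m : L, (π ^ k) (ConjClasses.mk m) =
        ConjClasses.mk (Cfsg.Agent.Char.conjEquivN L ((s : G) ^ k) m) := by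
      intro k
      induction k with
      | zero =>
        intro m
        rw [pow_zero, Equiv.Perm.one_apply]
        exact congrArg _ (Subtype.ext (by simp [Cfsg.Agent.Char.conjEquivN_apply]))
      | succ k ih =>
        intro m
        rw [pow_succ, Equiv.Perm.mul_apply]
        show (π ^ k) (ConjClasses.map e.toMonoidHom (ConjClasses.mk m)) = _
        rw [show ConjClasses.map e.toMonoidHom (ConjClasses.mk m) = ConjClasses.mk (e m) from rfl, ih]
        refine congrArg _ (Subtype.ext ?_)
        rw [he, Cfsg.Agent.Char.conjEquivN_apply, Cfsg.Agent.Char.conjEquivN_apply,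
          Cfsg.Agent.Char.conjEquivN_apply]
        simp only [pow_succ]
        group
    refine Equiv.ext fun C => ?_
    obtain ⟨m, rfl⟩ := ConjClasses.exists_rep C
    rw [hiter, Equiv.Perm.one_apply]
    exact ConjClasses.mk_eq_mk_iff_isConj.2 ((isConj_iff.2 ⟨⟨_, hsp⟩, by
      rw [Cfsg.Agent.Char.conjEquivN_apply]; rfl⟩).symm)
  obtain ⟨j, -, hj⟩ := (Nat.dvd_prime_pow hp).1
    (show orderOf π ∣ p ^ 1 by rw [pow_one]; exact orderOf_dvd_of_pow_eq_one hπp)
  have hZp : IsPGroup p (Subgroup.zpowers π) := IsPGroup.of_card (p := p) (n := j) (by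
    rw [Nat.card_zpowers, hj])
  have hinv : ∀ (u : Subgroup.zpowers π) (C : ConjClasses L), F (u • C) = F C := by
    intro u C
    obtain ⟨k, hk⟩ := (isOfFinOrder_of_finite π).mem_powers_iff_mem_zpowers.2 u.2
    show F ((u : Equiv.Perm (ConjClasses L)) C) = F C
    rw [← hk]
    clear hk
    induction k generalizing C with
    | zero => rfl
    | succ k ih =>
      show F ((π ^ (k + 1)) C) = F C
      rw [pow_succ, Equiv.Perm.mul_apply]
      exact (ih (π C)).trans (hπF C)
  have hd := ideal_sum_sub_fixed hM hZp hFr hinv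
  obtain ⟨C, hCfix, hCu⟩ : ∃ C ∈ MulAction.fixedPoints (Subgroup.zpowers π) (ConjClasses L),
      ¬ MemLocalIdeal M (F C) := by
    by_contra hno
    push Not at hno
    apply hFsum
    refine (ideal_congr hM hd).2 ?_
    rw [finsum_mem_eq_sum_of_inter_support_eq _ (t := Finset.univ.filter
      (· ∈ MulAction.fixedPoints (Subgroup.zpowers π) (ConjClasses L))) (by ext; simp)]
    exact ideal_sum hM fun C hC => hno C (Finset.mem_filter.1 hC).2
  have hconj : IsConj g (C.out : G) := by
    by_contra hc
    apply hCu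
    simp only [F, classInd, if_neg hc, zero_mul]
    exact ideal_zero hM
  have hfix := hCfix ⟨π, Subgroup.mem_zpowers π⟩
  have hfix' : ConjClasses.mk (e C.out) = ConjClasses.mk C.out := by
    rw [← hπval]
    exact hfix.trans (Quotient.out_eq C).symm
  obtain ⟨l, hl⟩ := isConj_iff.1 (ConjClasses.mk_eq_mk_iff_isConj.1 hfix')
  have hl' := congrArg Subtype.val hl
  rw [he, Cfsg.Agent.Char.conjEquivN_apply] at hl'
  simp only [Subgroup.coe_mul, Subgroup.coe_inv] at hl'
  set c : G := (C.out : G) with hc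
  set s' : G := (l : G) * (s : G) with hs'
  have hs'c : s' ∈ Subgroup.centralizer ({c} : Set G) := by
    rw [Subgroup.mem_centralizer_singleton_iff, hs']
    calc (l : G) * s * c = (l : G) * ((s : G) * c * (s : G)⁻¹) * (l : G)⁻¹ * ((l : G) * s) := by group
      _ = c * ((l : G) * s) := by rw [hl']
  have hs'L : s' ∉ L := fun h => hsL (by
    have := L.mul_mem (L.inv_mem l.2) h
    rwa [hs', inv_mul_cancel_left] at this)
  have hs'p : s' ^ p ∈ L := by
    rw [← QuotientGroup.eq_one_iff, QuotientGroup.mk_pow, hs', QuotientGroup.mk_mul,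
      (QuotientGroup.eq_one_iff (l : G)).2 l.2, one_mul, ← QuotientGroup.mk_pow,
      QuotientGroup.eq_one_iff]
    exact hsp
  obtain ⟨u, v, huv, -, ⟨k, hk⟩, hv, hu', -⟩ := exists_pPart_zpowers (p := p) s'
  have hvL : v ∈ L := by
    rw [← QuotientGroup.eq_one_iff, ← orderOf_eq_one_iff]
    refine Nat.eq_one_of_dvd_coprimes (a := orderOf v) (b := p)
      (Nat.coprime_comm.1 (hp.coprime_iff_not_dvd.2 hv))
      (orderOf_map_dvd (QuotientGroup.mk' L) v) (orderOf_dvd_of_pow_eq_one ?_)
    have hvz : v ∈ Subgroup.zpowers s' := by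
      rw [show v = u⁻¹ * s' by rw [← huv, inv_mul_cancel_left]]
      exact Subgroup.mul_mem _ (Subgroup.inv_mem _ hu') (Subgroup.mem_zpowers s')
    obtain ⟨n, rfl⟩ := Subgroup.mem_zpowers_iff.1 hvz
    rw [← zpow_natCast, ← QuotientGroup.mk_zpow, ← zpow_mul, mul_comm, zpow_mul, zpow_natCast,
      QuotientGroup.eq_one_iff]
    exact L.zpow_mem hs'p n
  have huP : u ∈ P := by
    obtain ⟨x, hx⟩ := isConj_iff.1 hconj
    have hPc : P ≤ Subgroup.centralizer ({c} : Set G) := fun w hw => by
      have h1 := Subgroup.mem_centralizer_iff.1 hgC (x⁻¹ * w * x)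
        (by simpa using Subgroup.Normal.conj_mem inferInstance w hw x⁻¹)
      rw [Subgroup.mem_centralizer_singleton_iff, ← hx]
      calc w * (x * g * x⁻¹) = x * ((x⁻¹ * w * x) * g) * x⁻¹ := by group
        _ = x * (g * (x⁻¹ * w * x)) * x⁻¹ := by rw [h1]
        _ = x * g * x⁻¹ * w := by group
    have hup : IsPGroup p (Subgroup.zpowers u) :=
      IsPGroup.of_card (n := k) (by rw [Nat.card_zpowers, hk])
    have huc : Subgroup.zpowers u ≤ Subgroup.centralizer ({c} : Set G) :=
      Subgroup.zpowers_le.2 ((Subgroup.zpowers_le.2 hs'c) hu')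
    have hPp : IsPGroup p P := hQ ▸ isPGroup_csyl Q
    obtain ⟨S, hS⟩ := exists_csyl_ge (hup.to_sup_of_normal_right hPp) (sup_le huc hPc)
    have heq : P = csyl S := by
      refine Subgroup.eq_of_le_of_card_ge (le_trans le_sup_right hS) ?_
      have h1 : Nat.card P = p ^ (Nat.card (Subgroup.centralizer ({g} : Set G))).factorization p := by
        rw [hQ, card_csyl]
      rw [card_csyl, h1, ← hx, card_centralizer_conj]
    rw [heq]
    exact hS (Subgroup.mem_sup_left (Subgroup.mem_zpowers u))
  exact hs'L (huv ▸ L.mul_mem (hPL huP) hvL)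

/-- A group is abelian exactly when all its irreducible characters are linear. -/
theorem comm_iff_linear (H : Type u) [Group H] [Finite H] :
    (∀ a c : H, a * c = c * a) ↔ ∀ φ : IrrCharacter H, charDegree (φ : H → ℂ) = 1 := by
  classical
  cases nonempty_fintype H
  have hsum : ∑ φ : IrrCharacter H, charDegree (φ : H → ℂ) ^ 2 = Nat.card H := by
    have h := Cfsg.Agent.Char.sum_degree_sq (G := H)
    simp only [charDeg_spec'] at h
    exact_mod_cast h
  have hcard : Fintype.card (IrrCharacter H) = Nat.card (ConjClasses H) := by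
    rw [← Nat.card_eq_fintype_card, Cfsg.Agent.Char.card_irrCharacter]
  constructor
  · intro hc φ
    have hinj : Function.Bijective (ConjClasses.mk : H → ConjClasses H) := by
      refine ⟨fun a c h => ?_, ConjClasses.mk_surjective⟩
      obtain ⟨t, ht⟩ := isConj_iff.1 (ConjClasses.mk_eq_mk_iff_isConj.1 h)
      rw [← ht, hc t a, mul_inv_cancel_right]
    have hk : Nat.card (ConjClasses H) = Nat.card H :=
      (Nat.card_congr (Equiv.ofBijective _ hinj)).symm
    by_contra hne
    have h1 : ∀ ψ ∈ (Finset.univ : Finset (IrrCharacter H)), 1 ≤ charDegree (ψ : H → ℂ) ^ 2 :=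
      fun ψ _ => Nat.one_le_pow _ _ (charDeg_pos ψ)
    have h2 : 1 < charDegree (φ : H → ℂ) ^ 2 :=
      Nat.one_lt_pow two_ne_zero (lt_of_le_of_ne (charDeg_pos φ) (Ne.symm hne))
    have h3 := Finset.sum_lt_sum h1 ⟨φ, Finset.mem_univ _, h2⟩
    rw [Finset.sum_const, smul_eq_mul, mul_one, Finset.card_univ, hcard, hk, hsum] at h3
    omega
  · intro h a c
    have hk : Nat.card (ConjClasses H) = Nat.card H := by
      rw [← hsum, ← hcard, Finset.sum_congr rfl fun φ _ => by rw [h φ, one_pow],
        Finset.sum_const, smul_eq_mul, mul_one, Finset.card_univ]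
    have hb := (Nat.bijective_iff_surjective_and_card (ConjClasses.mk : H → ConjClasses H)).2
      ⟨ConjClasses.mk_surjective, hk.symm⟩
    have h1 : a * c * a⁻¹ = c := hb.1 (ConjClasses.mk_eq_mk_iff_isConj.2
      (isConj_iff.2 ⟨a, rfl⟩).symm)
    rwa [mul_inv_eq_iff_eq_mul] at h1

/-- Covered blocks of `P C(P)`. -/
theorem covered_block [Fact p.Prime] [Fintype G] (hM : IsPModular p M)
    {B : Set (IrrCharacter G)} (hB : IsPBlock M B) {P : Subgroup G} [P.Normal]
    (hP : IsDefectGroup p M B P) [Fintype ↥(P ⊔ Subgroup.centralizer (P : Set G))]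
    {χ : IrrCharacter G} (hχ : χ ∈ B) {θ : IrrCharacter ↥(P ⊔ Subgroup.centralizer (P : Set G))}
    (hθ : classInner (fun n : ↥(P ⊔ Subgroup.centralizer (P : Set G)) => (χ : G → ℂ) n)
      (θ : ↥(P ⊔ Subgroup.centralizer (P : Set G)) → ℂ) ≠ 0) :
    IsDefectGroup p M (blockOf M (θ : ↥(P ⊔ Subgroup.centralizer (P : Set G)) → ℂ))
        (P.subgroupOf (P ⊔ Subgroup.centralizer (P : Set G))) ∧
      IsInducedBlock M (P ⊔ Subgroup.centralizer (P : Set G))
        (blockOf M (θ : ↥(P ⊔ Subgroup.centralizer (P : Set G)) → ℂ)) B := by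
  have hPp : IsPGroup p P := IsDefectGroup.isPGroup hP
  have hb : IsPBlock M (blockOf M (θ : ↥(P ⊔ Subgroup.centralizer (P : Set G)) → ℂ)) :=
    isPBlock_blockOf θ
  have hind := (normal_pC_induces hM P hPp hb).2 B hB ⟨χ, hχ, θ, mem_blockOf_self hM θ, hθ⟩
  obtain ⟨D, hD⟩ := exists_isDefectGroup hM hb
  obtain ⟨E, hE, hDE⟩ := exists_defectGroup_ge_map hM hind hD
  haveI : (P.subgroupOf (P ⊔ Subgroup.centralizer (P : Set G))).Normal :=
    Subgroup.Normal.subgroupOf inferInstance _
  have hle := normal_le_defectGroup hM hb hD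
    (hPp.of_equiv (Subgroup.subgroupOfEquivOfLe
      (le_sup_left : P ≤ P ⊔ Subgroup.centralizer (P : Set G))).symm)
  have heq : P.subgroupOf (P ⊔ Subgroup.centralizer (P : Set G)) = D := by
    refine Subgroup.eq_of_le_of_card_ge hle ?_
    rw [Nat.card_congr (Subgroup.subgroupOfEquivOfLe le_sup_left).toEquiv,
      defectGroup_card_eq hM hB hP hE,
      ← Subgroup.card_map_of_injective (K := D) (Subgroup.subtype_injective _)]
    exact Subgroup.card_le_of_le hDE
  exact ⟨heq ▸ hD, hind⟩

/-- A normal defect group is abelian exactly when all heights are zero. -/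
theorem normal_defect_comm_iff [Fact p.Prime] (hM : IsPModular p M) {B : Set (IrrCharacter G)}
    (hB : IsPBlock M B) {P : Subgroup G} [P.Normal] (hP : IsDefectGroup p M B P) :
    (∀ a ∈ P, ∀ c ∈ P, a * c = c * a) ↔
      ∀ χ ∈ B, blockHeight p B (χ : G → ℂ) = 0 := by
  classical
  cases nonempty_fintype G
  cases nonempty_fintype P
  have hp : p.Prime := Fact.out
  have hPp : IsPGroup p P := IsDefectGroup.isPGroup hP
  have hcardP := card_defectGroup hM hB hP
  have hGf : (Nat.card G).factorization p = blockDefect p B + P.index.factorization p := by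
    rw [← P.card_mul_index, Nat.factorization_mul Nat.card_pos.ne' Subgroup.index_ne_zero_of_finite,
      Finsupp.add_apply, hcardP, Nat.Prime.factorization_pow hp, Finsupp.single_eq_same]
  constructor
  · intro hc χ hχ
    rw [blockHeight_zero_iff hM hB hχ]
    refine le_antisymm ?_ (le_defect_add hM hB hχ)
    obtain ⟨φ, hφ⟩ := exists_constituent_res P χ
    obtain ⟨e, he, hed⟩ := Cfsg.Agent.Char.Ext.ratio_dvd_index' χ.2 φ.2 hφ
    have h1 : charDegree (φ : P → ℂ) = 1 :=
      (comm_iff_linear P).1 (fun a c => Subtype.ext (hc a a.2 c c.2)) φ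
    rw [charDeg_spec' χ, charDeg_spec' φ, h1, Nat.cast_one, mul_one] at he
    have he' : charDegree (χ : G → ℂ) = e := Nat.cast_injective he
    rw [hGf, he']
    exact Nat.add_le_add_left ((Nat.factorization_le_iff_dvd (he' ▸ (charDeg_pos χ).ne')
      Subgroup.index_ne_zero_of_finite).2 hed p) _
  · intro hh
    suffices h : ∀ φ : IrrCharacter P, charDegree (φ : P → ℂ) = 1 from
      fun a ha c hc => congrArg Subtype.val ((comm_iff_linear P).2 h ⟨a, ha⟩ ⟨c, hc⟩)
    intro φ
    by_contra hφ1
    have hφp : 0 < (charDegree (φ : P → ℂ)).factorization p := by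
      obtain ⟨n, hn⟩ := IsPGroup.iff_card.1 hPp
      have hd := charDeg_dvd φ
      rw [hn] at hd
      obtain ⟨i, -, hi⟩ := (Nat.dvd_prime_pow hp).1 hd
      rw [hi, Nat.Prime.factorization_pow hp, Finsupp.single_eq_same]
      refine Nat.pos_of_ne_zero fun h0 => hφ1 ?_
      rw [hi, h0, pow_zero]
    set L := P ⊔ Subgroup.centralizer (P : Set G) with hLdef
    haveI : (Subgroup.centralizer (P : Set G)).Normal := Subgroup.normal_centralizer
    haveI : L.Normal := Subgroup.sup_normal _ _
    cases nonempty_fintype L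
    obtain ⟨χ₀, hχ₀⟩ := pblock_nonempty hM hB
    obtain ⟨θ₀, hθ₀⟩ := exists_constituent_res L χ₀
    obtain ⟨hbD, hbB⟩ := covered_block hM hB hP hχ₀ hθ₀
    have hbb : IsPBlock M (blockOf M (θ₀ : L → ℂ)) := isPBlock_blockOf θ₀
    have hPL : P ≤ L := le_sup_left
    have htop : P.subgroupOf L ⊔ Subgroup.centralizer (P.subgroupOf L : Set L) = ⊤ := by
      rw [eq_top_iff]
      intro x _
      obtain ⟨u, hu, c, hc, huc⟩ := Subgroup.mem_sup_of_normal_left.1 x.2
      have hx : x = (⟨u, hPL hu⟩ : L) * ⟨c, le_sup_right (a := P) hc⟩ := Subtype.ext huc.symm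
      rw [hx]
      exact Subgroup.mul_mem _ (Subgroup.mem_sup_left hu) (Subgroup.mem_sup_right
        (Subgroup.mem_centralizer_iff.2 fun w hw =>
          Subtype.ext (Subgroup.mem_centralizer_iff.1 hc _ hw)))
    haveI : (P.subgroupOf L).Normal := Subgroup.Normal.subgroupOf inferInstance _
    let eP := (Subgroup.subgroupOfEquivOfLe hPL)
    let φ' : IrrCharacter (P.subgroupOf L) :=
      ⟨fun x => (φ : P → ℂ) (eP x), Cfsg.Agent.Char.IsIrr.comp_mulEquiv eP φ.2⟩
    have hφ' : charDegree (φ' : P.subgroupOf L → ℂ) = charDegree (φ : P → ℂ) := by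
      have h : ((charDegree (φ' : P.subgroupOf L → ℂ) : ℕ) : ℂ) =
          ((charDegree (φ : P → ℂ) : ℕ) : ℂ) := by
        rw [← charDeg_spec' φ', ← charDeg_spec' φ]
        show (φ : P → ℂ) (eP 1) = _
        rw [map_one]
      exact_mod_cast h
    obtain ⟨-, hdeg, -, hfull⟩ := sup_centralizer_block_full hM htop hbb hbD
    obtain ⟨η, hη, θ, hθ, hθker, -, hη1⟩ := hfull φ'
    have hηdeg : (charDegree (η : L → ℂ)).factorization p =
        (P.subgroupOf L).index.factorization p + (charDegree (φ : P → ℂ)).factorization p := by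
      rw [charDeg_spec' η, charDeg_spec' θ, charDeg_spec' φ', hφ', ← Nat.cast_mul] at hη1
      rw [Nat.cast_injective hη1, Nat.factorization_mul (charDeg_pos θ).ne' (charDeg_pos φ).ne',
        Finsupp.add_apply, hdeg θ hθ hθker]
    obtain ⟨χ, hχ⟩ := exists_over L η
    have hχB : χ ∈ B := by
      have h := (normal_pC_induces hM P hPp hbb).2 (blockOf M (χ : G → ℂ)) (isPBlock_blockOf χ)
        ⟨χ, mem_blockOf_self hM χ, η, hη, hχ⟩
      rw [← induced_unique hM h hbB]
      exact mem_blockOf_self hM χ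
    have hI := inertia_index_factorization hM hB hP L hPL le_sup_right hχB hχ
    have hcl := Cfsg.Agent.Char.clifford_one L χ.2 η.2 hχ
    obtain ⟨e, he⟩ := Cfsg.Agent.Char.IsChar.classInner_nat
      (Cfsg.Agent.Char.IsChar.res (irr_isChar χ) L) (irr_isChar η)
    rw [he, charDeg_spec' χ, charDeg_spec' η, ← Nat.cast_mul, ← Nat.cast_mul] at hcl
    have hχdeg := Nat.cast_injective hcl
    have he0 : e ≠ 0 := fun h => (charDeg_pos χ).ne' (by rw [hχdeg, h, zero_mul, zero_mul])
    have h0 := (blockHeight_zero_iff hM hB hχB).1 (hh χ hχB)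
    rw [hGf, hχdeg, Nat.factorization_mul (mul_ne_zero he0 Subgroup.index_ne_zero_of_finite)
      (charDeg_pos η).ne', Nat.factorization_mul he0 Subgroup.index_ne_zero_of_finite,
      Finsupp.add_apply, Finsupp.add_apply, hηdeg] at h0
    have hidx : P.index.factorization p =
        (P.subgroupOf L).index.factorization p + L.index.factorization p := by
      rw [← Subgroup.relIndex_mul_index hPL]
      show ((P.subgroupOf L).index * L.index).factorization p = _
      rw [Nat.factorization_mul Subgroup.index_ne_zero_of_finite Subgroup.index_ne_zero_of_finite,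
        Finsupp.add_apply]
    omega

end Cfsg.Agent.Block
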