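import Cfsg.Prelude.Def_Transfer
import Cfsg.Agent.Lib.Char.Complete
import Cfsg.Agent.Lib.Char.Constituent
import Cfsg.Agent.Lib.Block.FirstMain

/-!
# Irreducible characters that are nonzero on exactly two classes
-/

set_option autoImplicit false
set_option linter.style.haveILetI false
set_option linter.unusedSectionVars false

open Cfsg
open scoped ComplexConjugate

namespace Cfsg.Agent.Block.TwoClass

universe u

variable {G : Type u} [Group G] [Finite G]

open Cfsg.Agent.Char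

theorem exists_class (χ : IrrCharacter G)
    (hχ : Nat.card {C : ConjClasses G // ∃ g ∈ C.carrier, (χ : G → ℂ) g ≠ 0} = 2) :
    ∃ g₀ : G, g₀ ≠ 1 ∧ (χ : G → ℂ) g₀ ≠ 0 ∧
      ∀ g : G, (χ : G → ℂ) g ≠ 0 → g = 1 ∨ IsConj g g₀ := by
  let one' : {C : ConjClasses G // ∃ g ∈ C.carrier, (χ : G → ℂ) g ≠ 0} :=
    ⟨ConjClasses.mk 1, 1, ConjClasses.mem_carrier_mk, IsIrr.one_ne_zero χ.2⟩
  obtain ⟨⟨C, g₀, hg₀, hne⟩, hC, huniq⟩ := (Nat.card_eq_two_iff' one').mp hχ
  have hmk : ConjClasses.mk g₀ = C := ConjClasses.mem_carrier_iff_mk_eq.mp hg₀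
  refine ⟨g₀, fun h => hC (Subtype.ext ?_), hne, fun g hg => ?_⟩
  · show C = ConjClasses.mk 1
    rw [← hmk, h]
  · by_cases h1 : g = 1
    · exact Or.inl h1
    refine Or.inr (ConjClasses.mk_eq_mk_iff_isConj.mp ?_)
    let D : {C : ConjClasses G // ∃ g ∈ C.carrier, (χ : G → ℂ) g ≠ 0} :=
      ⟨ConjClasses.mk g, g, ConjClasses.mem_carrier_mk, hg⟩
    have hD : D ≠ one' := fun h => h1 <| by
      have := ConjClasses.mk_eq_mk_iff_isConj.mp (congrArg Subtype.val h)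
      exact isConj_one_right.mp this.symm |> id
    have := congrArg Subtype.val (huniq D hD)
    rw [hmk]
    exact this

theorem sum_mul [Fintype G] (χ : IrrCharacter G) {g₀ : G} (h1 : g₀ ≠ 1)
    (h : ∀ g : G, (χ : G → ℂ) g ≠ 0 → g = 1 ∨ IsConj g g₀) {f : G → ℂ}
    (hf : IsClassFunction G f) :
    ∑ g : G, (χ : G → ℂ) g * f g = (χ : G → ℂ) 1 * f 1 +
      (Nat.card {g : G // IsConj g g₀} : ℂ) * ((χ : G → ℂ) g₀ * f g₀) := by
  classical
  have hterm : ∀ g : G, (χ : G → ℂ) g * f g = (if g = 1 then (χ : G → ℂ) 1 * f 1 else 0) +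
      (if IsConj g g₀ then (χ : G → ℂ) g₀ * f g₀ else 0) := by
    intro g
    by_cases hg : g = 1
    · subst hg
      have : ¬ IsConj (1 : G) g₀ := fun hh => h1 (isConj_one_right.mp hh)
      rw [if_pos rfl, if_neg this, add_zero]
    by_cases hc : IsConj g g₀
    · rw [if_neg hg, if_pos hc, IsClass.eq_of_isConj (IsIrr.classFun χ.2) hc,
        IsClass.eq_of_isConj hf hc, zero_add]
    · rw [if_neg hg, if_neg hc, add_zero]
      by_contra hne
      rcases h g (left_ne_zero_of_mul hne) with hh | hh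
      · exact hg hh
      · exact hc hh
  rw [Finset.sum_congr rfl fun g _ => hterm g, Finset.sum_add_distrib, Finset.sum_ite_eq',
    if_pos (Finset.mem_univ _), ← Finset.sum_filter, Finset.sum_const, nsmul_eq_mul,
    Nat.card_eq_fintype_card, Fintype.card_subtype]

theorem ne_one (hG : 2 < Nat.card G) (χ : IrrCharacter G) {g₀ : G}
    (h : ∀ g : G, (χ : G → ℂ) g ≠ 0 → g = 1 ∨ IsConj g g₀) :
    (χ : G → ℂ) ≠ fun _ => 1 := by
  classical
  intro hone
  cases nonempty_fintype G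
  have hall : ∀ g : G, g = 1 ∨ IsConj g g₀ := fun g => h g (by rw [hone]; exact one_ne_zero)
  by_cases hg0 : g₀ = 1
  · have : ∀ g : G, g = 1 := fun g => (hall g).elim id fun hc => by
      subst hg0; exact isConj_one_left.mp hc
    haveI : Subsingleton G := ⟨fun a b => (this a).trans (this b).symm⟩
    rw [Nat.card_eq_one_iff_unique.mpr ⟨inferInstance, inferInstance⟩] at hG
    omega
  have h1 := MulAction.index_stabilizer (ConjAct G) g₀
  rw [ConjAct.stabilizer_eq_centralizer] at h1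
  have h2 : MulAction.orbit (ConjAct G) g₀ = {(1 : G)}ᶜ := by
    ext x
    rw [ConjAct.mem_orbit_conjAct, Set.mem_compl_iff, Set.mem_singleton_iff]
    refine ⟨fun hc hx => hg0 ?_, fun hx => (hall x).resolve_left hx⟩
    subst hx
    exact isConj_one_right.mp hc
  rw [h2, Set.ncard_compl, Set.ncard_singleton] at h1
  have h3 := Subgroup.index_dvd_card (Subgroup.centralizer ({g₀} : Set G))
  erw [h1] at h3
  have h4 : Nat.card G - 1 ∣ 1 := by
    have := Nat.dvd_sub h3 (dvd_refl (Nat.card G - 1))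
    rwa [Nat.sub_sub_self (by omega)] at this
  have := Nat.le_of_dvd one_pos h4
  omega

theorem rel (hG : 2 < Nat.card G) (χ : IrrCharacter G) {g₀ : G} (h1 : g₀ ≠ 1)
    (h : ∀ g : G, (χ : G → ℂ) g ≠ 0 → g = 1 ∨ IsConj g g₀) :
    (Nat.card {g : G // IsConj g g₀} : ℂ) * (χ : G → ℂ) g₀ = - (χ : G → ℂ) 1 := by
  classical
  cases nonempty_fintype G
  have h0 := classInner_irr_ne χ.2 isIrr_one (ne_one hG χ h)
  rw [classInner] at h0
  simp only [map_one, mul_one, mul_eq_zero, inv_eq_zero, Nat.cast_eq_zero] at h0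
  have h2 := sum_mul χ h1 h (f := fun _ => 1) (fun _ _ => rfl)
  simp only [mul_one] at h2
  rw [h0.resolve_left Nat.card_pos.ne'] at h2
  linear_combination -h2

theorem faithful (hG : 2 < Nat.card G) (χ : IrrCharacter G) {g₀ : G} (h1 : g₀ ≠ 1)
    (h : ∀ g : G, (χ : G → ℂ) g ≠ 0 → g = 1 ∨ IsConj g g₀) :
    ∀ g : G, (χ : G → ℂ) g = (χ : G → ℂ) 1 → g = 1 := by
  intro g hg
  have hd := IsIrr.one_ne_zero χ.2
  refine (h g (by rw [hg]; exact hd)).resolve_right fun hc => ?_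
  have hr := rel hG χ h1 h
  rw [← IsClass.eq_of_isConj (IsIrr.classFun χ.2) hc, hg] at hr
  have : ((Nat.card {g : G // IsConj g g₀} : ℂ) + 1) * (χ : G → ℂ) 1 = 0 := by
    linear_combination hr
  rcases mul_eq_zero.mp this with h' | h'
  · norm_cast at h'
  · exact hd h'

theorem others_ker (hG : 2 < Nat.card G) (χ : IrrCharacter G) {g₀ : G} (h1 : g₀ ≠ 1)
    (h : ∀ g : G, (χ : G → ℂ) g ≠ 0 → g = 1 ∨ IsConj g g₀) {ψ : IrrCharacter G} (hne : ψ ≠ χ) :
    (ψ : G → ℂ) g₀ = (ψ : G → ℂ) 1 := by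
  cases nonempty_fintype G
  have hd := IsIrr.one_ne_zero χ.2
  have h0 := classInner_irr_ne χ.2 ψ.2 (fun e => hne (Subtype.ext e.symm))
  rw [classInner] at h0
  simp only [mul_eq_zero, inv_eq_zero, Nat.cast_eq_zero] at h0
  have h2 := sum_mul χ h1 h (f := fun g => conj ((ψ : G → ℂ) g))
    (fun a b => by simp only [IsIrr.classFun ψ.2 a b])
  rw [h0.resolve_left Nat.card_pos.ne', ← mul_assoc, rel hG χ h1 h] at h2
  have h3 : (χ : G → ℂ) 1 * (conj ((ψ : G → ℂ) 1) - conj ((ψ : G → ℂ) g₀)) = 0 := by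
    linear_combination -h2
  have := sub_eq_zero.mp ((mul_eq_zero.mp h3).resolve_left hd)
  exact ((starRingEnd ℂ).injective this).symm

theorem main (hG : 2 < Nat.card G) (χ : IrrCharacter G)
    (hχ : Nat.card {C : ConjClasses G // ∃ g ∈ C.carrier, (χ : G → ℂ) g ≠ 0} = 2) :
    (∀ g : G, (χ : G → ℂ) g = (χ : G → ℂ) 1 → g = 1) ∧
      (∀ ψ : IrrCharacter G, (∀ g : G, (ψ : G → ℂ) g = (ψ : G → ℂ) 1 → g = 1) → ψ = χ) := by
  obtain ⟨g₀, h1, -, h⟩ := exists_class χ hχ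
  exact ⟨faithful hG χ h1 h, fun ψ hψ => by_contra fun hne =>
    h1 (hψ g₀ (others_ker hG χ h1 h hne))⟩

theorem minimal_normal (hG : 2 < Nat.card G) (χ : IrrCharacter G)
    (hχ : Nat.card {C : ConjClasses G // ∃ g ∈ C.carrier, (χ : G → ℂ) g ≠ 0} = 2) :
    ∃ N : Subgroup G, N.Normal ∧ N ≠ ⊥ ∧ (∀ K : Subgroup G, K.Normal → K ≠ ⊥ → N ≤ K) ∧
      (∃ p : ℕ, p.Prime ∧ Cfsg.IsElementaryAbelian p N) ∧
      (∀ g : G, (χ : G → ℂ) g ≠ 0 ↔ g ∈ N) ∧
      (∀ x ∈ N, ∀ y ∈ N, x ≠ 1 → y ≠ 1 → ∃ g : G, g * x * g⁻¹ = y) := by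
  classical
  cases nonempty_fintype G
  obtain ⟨g₀, h1, h0, h⟩ := exists_class χ hχ
  have hd := IsIrr.one_ne_zero χ.2
  let N : Subgroup G :=
    ⨅ ψ : {ψ : IrrCharacter G // ψ ≠ χ}, charKer (IsIrr.isCharacter ψ.1.2)
  have hN : ∀ g, g ∈ N ↔ ∀ ψ : IrrCharacter G, ψ ≠ χ → (ψ : G → ℂ) g = (ψ : G → ℂ) 1 := by
    intro g
    simp only [N, Subgroup.mem_iInf, mem_charKer, Subtype.forall]
  have hconj : ∀ g t : G, g ∈ N → t * g * t⁻¹ ∈ N := fun g t hg => (hN _).mpr fun ψ hψ => by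
    rw [IsIrr.classFun ψ.2]; exact (hN g).mp hg ψ hψ
  have hsupp : ∀ g : G, (χ : G → ℂ) g ≠ 0 ↔ g ∈ N := by
    intro g
    refine ⟨fun hg => (hN g).mpr fun ψ hψ => ?_, fun hg hz => ?_⟩
    · rcases h g hg with rfl | hc
      · rfl
      · rw [IsClass.eq_of_isConj (IsIrr.classFun ψ.2) hc]
        exact others_ker hG χ h1 h hψ
    · have hg1 : g ≠ 1 := fun e => hd (e ▸ hz)
      have hr := regular_expansion g
      rw [if_neg hg1, ← Finset.add_sum_erase _ _ (Finset.mem_univ χ), hz, mul_zero, zero_add]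
        at hr
      have hr' : ∑ ψ ∈ Finset.univ.erase χ,
          ((((ψ : G → ℂ) 1).re) ^ 2 : ℝ) = 0 := by
        have e : ∀ ψ ∈ Finset.univ.erase χ, (ψ : G → ℂ) 1 * (ψ : G → ℂ) g =
            (((((ψ : G → ℂ) 1).re) ^ 2 : ℝ) : ℂ) := by
          intro ψ hψ
          rw [(hN g).mp hg ψ (Finset.ne_of_mem_erase hψ)]
          obtain ⟨n, -, hn⟩ := IsIrr.one_eq_pos ψ.2
          simp [hn, sq]
        rw [Finset.sum_congr rfl e, ← Complex.ofReal_sum] at hr
        exact_mod_cast hr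
      have hmem : (⟨fun _ => 1, isIrr_one⟩ : IrrCharacter G) ∈ Finset.univ.erase χ :=
        Finset.mem_erase.mpr ⟨fun e => ne_one hG χ h (congrArg Subtype.val e).symm,
          Finset.mem_univ _⟩
      have := (Finset.sum_eq_zero_iff_of_nonneg (fun ψ _ => sq_nonneg _)).mp hr' _ hmem
      simp at this
  have hg0N : g₀ ∈ N := (hsupp g₀).mp h0
  have hconjN : ∀ x ∈ N, ∀ y ∈ N, x ≠ 1 → y ≠ 1 → ∃ g : G, g * x * g⁻¹ = y := by
    intro x hx y hy hx1 hy1
    have hcx := (h x ((hsupp x).mpr hx)).resolve_left hx1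
    have hcy := (h y ((hsupp y).mpr hy)).resolve_left hy1
    exact isConj_iff.mp (hcx.trans hcy.symm)
  have hNbot : N ≠ ⊥ := fun e => h1 (Subgroup.mem_bot.mp (e ▸ hg0N))
  refine ⟨N, ⟨fun g hg t => hconj g t hg⟩, hNbot, ?_, ?_, hsupp, hconjN⟩
  · intro K hK hKb
    haveI := hK
    obtain ⟨k, hk, hk1, hkN⟩ : ∃ k ∈ K, k ≠ 1 ∧ k ∈ N := by
      by_contra hno
      push Not at hno
      obtain ⟨k, hk, hk1⟩ := (Subgroup.ne_bot_iff_exists_ne_one (H := K)).mp hKb |>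
        fun ⟨a, ha⟩ => (⟨a.1, a.2, fun e => ha (Subtype.ext e)⟩ : ∃ k ∈ K, k ≠ 1)
      have hnker : ¬ ∀ u ∈ K, (χ : G → ℂ) u = (χ : G → ℂ) 1 := fun hh =>
        hk1 (faithful hG χ h1 h k (hh k hk))
      have hs := Cfsg.Agent.Block.sum_normal_mul_eq_zero K χ hnker 1
      rw [Fintype.sum_eq_single (1 : K)] at hs
      · exact hd (by simpa using hs)
      · intro u hu
        by_contra hne
        exact hno u u.2 (fun e => hu (Subtype.ext e)) ((hsupp u).mp (by simpa using hne))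
    intro x hx
    by_cases hx1 : x = 1
    · exact hx1 ▸ K.one_mem
    obtain ⟨g, rfl⟩ := hconjN k hkN x hx hk1 hx1
    exact hK.conj_mem k hk g
  · have hNc : 1 < Nat.card N := (Subgroup.one_lt_card_iff_ne_bot N).mpr hNbot
    obtain ⟨p, hp, hpd⟩ := Nat.exists_prime_and_dvd (n := Nat.card N) (by omega)
    haveI := Fact.mk hp
    obtain ⟨a, ha⟩ := exists_prime_orderOf_dvd_card' p hpd
    have ha1 : (a : G) ≠ 1 := fun e => by
      have : a = 1 := Subtype.ext e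
      rw [this, orderOf_one] at ha
      exact hp.one_lt.ne ha
    have hexp : ∀ x ∈ N, x ^ p = 1 := by
      intro x hx
      by_cases hx1 : x = 1
      · rw [hx1, one_pow]
      obtain ⟨g, rfl⟩ := hconjN a a.2 x hx ha1 hx1
      rw [conj_pow, ← Subgroup.coe_pow, ← ha, pow_orderOf_eq_one, Subgroup.coe_one, mul_one,
        mul_inv_cancel]
    have hpg : IsPGroup p N := fun x => ⟨1, Subtype.ext (by simpa using hexp x x.2)⟩
    haveI : Nontrivial N := (Subgroup.nontrivial_iff_ne_bot N).mpr hNbot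
    haveI := hpg.center_nontrivial
    obtain ⟨⟨z, hz⟩, hz1⟩ := exists_ne (1 : Subgroup.center N)
    have hz1' : (z : G) ≠ 1 := fun e => hz1 (Subtype.ext (Subtype.ext e))
    have hcomm : ∀ x ∈ N, ∀ y ∈ N, x * y = y * x := by
      intro x hx y hy
      by_cases hx1 : x = 1
      · simp [hx1]
      obtain ⟨g, rfl⟩ := hconjN z z.2 x hx hz1' hx1
      have hy' : g⁻¹ * y * g ∈ N := by simpa using hconj y g⁻¹ hy
      have e : (g⁻¹ * y * g) * z = z * (g⁻¹ * y * g) :=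
        congrArg Subtype.val (Subgroup.mem_center_iff.mp hz ⟨_, hy'⟩)
      calc g * z * g⁻¹ * y = g * ((z : G) * (g⁻¹ * y * g)) * g⁻¹ := by group
        _ = g * ((g⁻¹ * y * g) * z) * g⁻¹ := by rw [e]
        _ = y * (g * z * g⁻¹) := by group
    exact ⟨p, hp, ⟨⟨fun a b => Subtype.ext (hcomm a a.2 b b.2)⟩⟩, hexp⟩

end Cfsg.Agent.Block.TwoClass
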