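import Mathlib
import Cfsg.Agent.Lib.Block.TwoClass
import Cfsg.Agent.Lib.Char.Perm
import Cfsg.Agent.Lib.Char.Quotient

/-!
# Local structure of a group with a character that is nonzero on exactly two classes
-/

set_option autoImplicit false
set_option linter.unusedSectionVars false

open Cfsg
open scoped ComplexConjugate

namespace Cfsg.Agent.Block.TwoClassLocal

open Cfsg.Agent.Char Cfsg.Agent.Block.TwoClass

universe u

variable {G : Type u} [Group G] [Finite G]

/-- The basic data at a nonidentity element of `N`. -/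
theorem data (χ : IrrCharacter G)
    (hχ : Nat.card {C : ConjClasses G // ∃ g ∈ C.carrier, (χ : G → ℂ) g ≠ 0} = 2)
    (N : Subgroup G) (hN : ∀ g : G, g ∈ N ↔ (χ : G → ℂ) g ≠ 0) {x : G} (hx : x ∈ N) (hx1 : x ≠ 1) :
    (∀ g : G, (χ : G → ℂ) g ≠ 0 → g = 1 ∨ IsConj g x) ∧
      (∀ g : G, IsConj g x ↔ (g ∈ N ∧ g ≠ 1)) := by
  obtain ⟨g₀, h1, h0, h⟩ := exists_class χ hχ
  have hx0 : IsConj x g₀ := (h x ((hN x).mp hx)).resolve_left hx1
  have hh : ∀ g : G, (χ : G → ℂ) g ≠ 0 → g = 1 ∨ IsConj g x :=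
    fun g hg => (h g hg).imp id fun hc => hc.trans hx0.symm
  refine ⟨hh, fun g => ⟨fun hc => ⟨?_, fun e => hx1 (isConj_one_right.mp (e ▸ hc))⟩,
    fun hg => (hh g ((hN g).mp hg.1)).resolve_left hg.2⟩⟩
  rw [hN, IsClass.eq_of_isConj (IsIrr.classFun χ.2) hc]
  exact (hN x).mp hx

theorem card_class (χ : IrrCharacter G)
    (hχ : Nat.card {C : ConjClasses G // ∃ g ∈ C.carrier, (χ : G → ℂ) g ≠ 0} = 2)
    (N : Subgroup G) (hN : ∀ g : G, g ∈ N ↔ (χ : G → ℂ) g ≠ 0) {x : G} (hx : x ∈ N) (hx1 : x ≠ 1) :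
    Nat.card {g : G // IsConj g x} + 1 = Nat.card N ∧
      Nat.card (Subgroup.centralizer ({x} : Set G)) * Nat.card {g : G // IsConj g x} = Nat.card G := by
  classical
  haveI := Fintype.ofFinite G
  obtain ⟨-, hiff⟩ := data χ hχ N hN hx hx1
  have e : {g : G // IsConj g x} ≃ {n : N // n ≠ 1} :=
    { toFun := fun g => ⟨⟨g.1, ((hiff g.1).mp g.2).1⟩,
        fun e => ((hiff g.1).mp g.2).2 (congrArg Subtype.val e)⟩
      invFun := fun n => ⟨(n.1 : G), (hiff _).mpr ⟨n.1.2, fun e => n.2 (Subtype.ext e)⟩⟩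
      left_inv := fun g => rfl
      right_inv := fun n => rfl }
  constructor
  · rw [Nat.card_congr e, Nat.card_eq_fintype_card, Nat.card_eq_fintype_card,
      Fintype.card_subtype_compl, Fintype.card_subtype_eq]
    have : 0 < Fintype.card N := Fintype.card_pos
    omega
  · have e2 : Nat.card {g : G // IsConj g x} = Nat.card {g : G // IsConj x g} :=
      Nat.card_congr (Equiv.subtypeEquivRight fun g => isConj_comm)
    rw [e2, card_conjClass, mul_comm, Subgroup.index_mul_card]

/-- The degree equation. -/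
theorem degree_sq (hG : 2 < Nat.card G) (χ : IrrCharacter G)
    (hχ : Nat.card {C : ConjClasses G // ∃ g ∈ C.carrier, (χ : G → ℂ) g ≠ 0} = 2)
    (N : Subgroup G) (hN : ∀ g : G, g ∈ N ↔ (χ : G → ℂ) g ≠ 0) {x : G} (hx : x ∈ N) (hx1 : x ≠ 1)
    {d : ℕ} (hd : (χ : G → ℂ) 1 = d) :
    d ^ 2 * Nat.card N = Nat.card {g : G // IsConj g x} * Nat.card G := by
  classical
  haveI := Fintype.ofFinite G
  obtain ⟨hh, -⟩ := data χ hχ N hN hx hx1
  have hr := rel hG χ hx1 hh
  have h1 := classInner_self_irr χ.2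
  rw [classInner, inv_mul_eq_iff_eq_mul₀ (Nat.cast_ne_zero.mpr Nat.card_pos.ne'), mul_one] at h1
  have h2 := sum_mul χ hx1 hh (f := fun g => conj ((χ : G → ℂ) g))
    (fun a b => by simp only [IsIrr.classFun χ.2 a b])
  rw [h1] at h2
  obtain ⟨hk, -⟩ := card_class χ hχ N hN hx hx1
  set k := Nat.card {g : G // IsConj g x} with hkdef
  rw [hd] at hr h2
  have hr' := congrArg conj hr
  simp only [map_mul, map_natCast, map_neg] at hr'
  have h3 : ((d : ℂ) ^ 2 * Nat.card N) = (k : ℂ) * Nat.card G := by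
    rw [← hk]
    push_cast
    simp only [map_natCast] at h2
    linear_combination (-(k : ℂ)) * h2 - ((k : ℂ) * conj ((χ : G → ℂ) x)) * hr + (d : ℂ) * hr'
  exact_mod_cast h3

/-- The centraliser of a nonidentity element of `N` is a Sylow subgroup. -/
theorem exists_sylow_centralizer (hG : 2 < Nat.card G) (χ : IrrCharacter G)
    (hχ : Nat.card {C : ConjClasses G // ∃ g ∈ C.carrier, (χ : G → ℂ) g ≠ 0} = 2)
    {p : ℕ} [hp : Fact p.Prime] (N : Subgroup G) (hN : ∀ g : G, g ∈ N ↔ (χ : G → ℂ) g ≠ 0)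
    (hNp : IsPGroup p N) {x : G} (hx : x ∈ N) (hx1 : x ≠ 1) :
    ∃ P : Sylow p G, Subgroup.centralizer ({x} : Set G) = P := by
  classical
  haveI := Fintype.ofFinite G
  obtain ⟨d, hd0, hd⟩ := IsIrr.one_eq_pos χ.2
  have hdeg := degree_sq hG χ hχ N hN hx hx1 hd
  obtain ⟨hk, hck⟩ := card_class χ hχ N hN hx hx1
  set k := Nat.card {g : G // IsConj g x}
  set c := Nat.card (Subgroup.centralizer ({x} : Set G))
  have hc0 : c ≠ 0 := Nat.card_pos.ne'
  obtain ⟨a, ha⟩ := IsPGroup.iff_card.mp hNp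
  have ha0 : a ≠ 0 := fun e => by
    subst e
    rw [pow_zero, Subgroup.card_eq_one] at ha
    exact hx1 (Subgroup.mem_bot.mp (ha ▸ hx))
  have hq : ∀ q : ℕ, q.Prime → q ≠ p → ¬ q ∣ c := by
    intro q hq hqp hqc
    haveI := Fact.mk hq
    obtain ⟨Q⟩ : Nonempty (Sylow q G) := inferInstance
    have hQN : ∀ g ∈ (Q : Subgroup G), g ∈ N → g = 1 := by
      intro g hgQ hgN
      obtain ⟨i, hi⟩ := IsPGroup.iff_orderOf.mp Q.isPGroup' ⟨g, hgQ⟩
      obtain ⟨j, hj⟩ := IsPGroup.iff_orderOf.mp hNp ⟨g, hgN⟩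
      rw [← Subgroup.orderOf_coe] at hi hj
      have h1 : (q ^ i).Coprime (p ^ j) := Nat.Coprime.pow i j ((Nat.coprime_primes hq hp.out).mpr hqp)
      rw [← hi, ← hj] at h1
      exact orderOf_eq_one_iff.mp ((Nat.coprime_self _).mp h1)
    have hQd : Nat.card (Q : Subgroup G) ∣ d := by
      obtain ⟨m, hm⟩ := IsChar.classInner_nat (IsChar.res (IsIrr.isCharacter χ.2) (Q : Subgroup G))
        IsChar.one
      rw [classInner, Fintype.sum_eq_single (1 : (Q : Subgroup G))] at hm
      · simp only [Subgroup.coe_one, map_one, mul_one, hd] at hm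
        rw [inv_mul_eq_iff_eq_mul₀ (Nat.cast_ne_zero.mpr Nat.card_pos.ne')] at hm
        exact ⟨m, by exact_mod_cast hm⟩
      · intro g hg
        rw [map_one, mul_one]
        by_contra hne
        exact hg (Subtype.ext (hQN g g.2 ((hN g).mpr hne)))
    rw [Sylow.card_eq_multiplicity] at hQd
    have hk0 : k ≠ 0 := fun e => by
      rw [e, mul_zero] at hck
      exact Nat.card_pos.ne' hck.symm
    have h1 : (q ^ (Nat.card G).factorization q) ^ 2 ∣ k * Nat.card G :=
      hdeg ▸ (pow_dvd_pow_of_dvd hQd 2).mul_right _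
    rw [← pow_mul, hq.pow_dvd_iff_le_factorization (mul_ne_zero hk0 Nat.card_pos.ne'),
      Nat.factorization_mul hk0 Nat.card_pos.ne', Finsupp.add_apply] at h1
    have h2 : (Nat.card G).factorization q = c.factorization q + k.factorization q := by
      rw [← hck, Nat.factorization_mul hc0 hk0, Finsupp.add_apply]
    have h3 := hq.factorization_pos_of_dvd hc0 hqc
    omega
  have hpk : ¬ p ∣ k := fun h => by
    have h1 : p ∣ k + 1 := by rw [hk, ha]; exact dvd_pow_self p ha0
    exact hp.out.not_dvd_one ((Nat.dvd_add_right h).mp h1)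
  have hpg : IsPGroup p (Subgroup.centralizer ({x} : Set G)) := by
    refine IsPGroup.of_card (n := c.factorization p) ?_
    show c = _
    exact Nat.eq_prime_pow_of_unique_prime_dvd hc0 (fun {q} hq' hqc => by_contra fun hne => hq q hq' hne hqc)
      |> fun h => by
        have e : c.primeFactorsList.length = c.factorization p := by
          conv_rhs => rw [h]
          rw [Nat.factorization_pow_self hp.out]
        rw [← e]; exact h
  refine ⟨hpg.toSylow ?_, rfl⟩
  have h4 : (Subgroup.centralizer ({x} : Set G)).index * c = Nat.card G := Subgroup.index_mul_card _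
  have h5 : (Subgroup.centralizer ({x} : Set G)).index = k :=
    Nat.eq_of_mul_eq_mul_right (Nat.pos_of_ne_zero hc0) (by rw [h4, ← hck, mul_comm])
  rwa [h5]

/-- The inertia group of a nonprincipal irreducible character of `N`. -/
theorem exists_sylow_inertia (hG : 2 < Nat.card G) (χ : IrrCharacter G)
    (hχ : Nat.card {C : ConjClasses G // ∃ g ∈ C.carrier, (χ : G → ℂ) g ≠ 0} = 2)
    {p : ℕ} [hp : Fact p.Prime] (N : Subgroup G) [hNn : N.Normal]
    (hN : ∀ g : G, g ∈ N ↔ (χ : G → ℂ) g ≠ 0) (hNp : IsPGroup p N) (hN1 : N ≠ ⊥)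
    (μ : IrrCharacter N) (hμ : (μ : N → ℂ) ≠ fun _ => (1 : ℂ)) :
    ∃ P : Sylow p G, ∀ g : G, g ∈ (P : Subgroup G) ↔
      ∀ n n' : N, (n' : G) = g * n * g⁻¹ → (μ : N → ℂ) n' = (μ : N → ℂ) n := by
  classical
  haveI := Fintype.ofFinite G
  haveI := Fintype.ofFinite N
  obtain ⟨x, hx, hx1⟩ := (Subgroup.ne_bot_iff_exists_ne_one (H := N)).mp hN1 |>
    fun ⟨a, ha⟩ => (⟨a.1, a.2, fun e => ha (Subtype.ext e)⟩ : ∃ k ∈ N, k ≠ 1)
  obtain ⟨hk, hck⟩ := card_class χ hχ N hN hx hx1
  obtain ⟨C, hC⟩ := exists_sylow_centralizer hG χ hχ N hN hNp hx hx1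
  obtain ⟨hh, hiff⟩ := data χ hχ N hN hx hx1
  -- `N` is abelian and `μ` is linear
  have hcomm : ∀ a b : N, a * b = b * a := by
    obtain ⟨N', -, -, -, ⟨q, hq, hel⟩, hsupp, -⟩ := minimal_normal hG χ hχ
    obtain rfl : N' = N := Subgroup.ext fun g => by rw [← hsupp, hN]
    exact fun a b => hel.1.is_comm.comm a b
  have hμ1 : (μ : N → ℂ) 1 = 1 := by
    have h1 : Nat.card (IrrCharacter N) = Nat.card N := by
      rw [card_irrCharacter]
      refine (Nat.card_eq_of_bijective ConjClasses.mk ⟨fun a b h => ?_, ConjClasses.mk_surjective⟩).symm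
      obtain ⟨c, hc⟩ := isConj_iff.mp (ConjClasses.mk_eq_mk_iff_isConj.mp h)
      rw [← hc, hcomm c a, mul_inv_cancel_right]
    choose d hd0 hd using fun ψ : IrrCharacter N => IsIrr.one_eq_pos ψ.2
    have h2 := sum_degree_sq (G := N)
    have h3 : (∑ ψ : IrrCharacter N, d ψ ^ 2) = ∑ _ψ : IrrCharacter N, 1 := by
      rw [Finset.sum_const, Finset.card_univ, smul_eq_mul, mul_one, ← Nat.card_eq_fintype_card, h1]
      simp only [hd] at h2
      exact_mod_cast h2
    have h4 := (Finset.sum_eq_sum_iff_of_le (fun ψ _ => Nat.one_le_pow _ _ (hd0 ψ))).mp h3.symm μ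
      (Finset.mem_univ _)
    rw [hd μ, show d μ = 1 from by simpa using h4.symm]
    norm_num
  -- the inertia group
  let T : Subgroup G :=
    { carrier := {g | conjN N g (μ : N → ℂ) = (μ : N → ℂ)}
      one_mem' := by
        funext n
        rw [conjN_eq_comp]
        simp [conjEquivN_apply]
      mul_mem' := fun {a b} ha hb => by
        simp only [Set.mem_setOf_eq, conjN_eq_comp] at ha hb ⊢
        funext n
        have h1 := congrFun hb n
        have h2 := congrFun ha (conjEquivN N b n)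
        simp only [conjEquivN_apply] at h1 h2 ⊢
        rw [← h1, ← h2]
        exact congrArg (μ : N → ℂ) (Subtype.ext (by simp [mul_assoc]))
      inv_mem' := fun {a} ha => by
        simp only [Set.mem_setOf_eq, conjN_eq_comp] at ha ⊢
        funext n
        have h1 := congrFun ha (conjEquivN N a⁻¹ n)
        simp only [conjEquivN_apply] at h1 ⊢
        rw [← h1]
        exact congrArg (μ : N → ℂ) (Subtype.ext (by simp [mul_assoc])) }
  have hT : ∀ g : G, g ∈ T ↔
      ∀ n n' : N, (n' : G) = g * n * g⁻¹ → (μ : N → ℂ) n' = (μ : N → ℂ) n := by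
    intro g
    show conjN N g (μ : N → ℂ) = (μ : N → ℂ) ↔ _
    rw [conjN_eq_comp, funext_iff]
    constructor
    · intro h n n' e
      rw [← h n, conjEquivN_apply]
      exact congrArg (μ : N → ℂ) (Subtype.ext e)
    · intro h n
      exact h n _ (by rw [conjEquivN_apply])
  -- counting the stabiliser
  have hk0 : (Nat.card {g : G // IsConj g x}) ≠ 0 := fun e => by
    rw [e, mul_zero] at hck
    exact Nat.card_pos.ne' hck.symm
  set c := Nat.card (Subgroup.centralizer ({x} : Set G))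
  have hsum : ∑ g : G, classInner (conjN N g (μ : N → ℂ)) (μ : N → ℂ) = (c : ℂ) := by
    have hval : ∀ n : N, ∑ g : G, conjN N g (μ : N → ℂ) n =
        if n = 1 then (Nat.card G : ℂ) else -(c : ℂ) := by
      intro n
      by_cases hn : n = 1
      · subst hn
        rw [if_pos rfl, Finset.sum_congr rfl (fun g _ => ?_), Finset.sum_const, Finset.card_univ,
          nsmul_eq_mul, mul_one, Nat.card_eq_fintype_card]
        rw [conjN_eq_comp]
        simp [hμ1]
      rw [if_neg hn]
      have hn1 : (n : G) ≠ 1 := fun e => hn (Subtype.ext e)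
      have hfib : ∀ m : N, m ≠ 1 →
          (Finset.univ.filter fun g : G => conjEquivN N g n = m).card = c := by
        intro m hm
        obtain ⟨a, ha⟩ := isConj_iff.mp (((hiff n).mpr ⟨n.2, hn1⟩).trans
          ((hiff m).mpr ⟨m.2, fun e => hm (Subtype.ext e)⟩).symm)
        obtain ⟨b, hb⟩ := isConj_iff.mp ((hiff n).mpr ⟨n.2, hn1⟩)
        rw [← Fintype.card_subtype, ← Nat.card_eq_fintype_card]
        refine Nat.card_congr
          { toFun := fun g => ⟨b * (a⁻¹ * g.1) * b⁻¹, ?_⟩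
            invFun := fun y => ⟨a * (b⁻¹ * (y : G) * b), ?_⟩
            left_inv := fun g => Subtype.ext (by simp [mul_assoc])
            right_inv := fun y => Subtype.ext (by simp [mul_assoc]) }
        · have h1 : (g.1 : G) * n * g.1⁻¹ = m := by
            have := congrArg Subtype.val g.2
            rwa [conjEquivN_apply] at this
          rw [Subgroup.mem_centralizer_singleton_iff, ← hb]
          calc b * (a⁻¹ * g.1) * b⁻¹ * (b * n * b⁻¹)
              = b * (a⁻¹ * (g.1 * n * g.1⁻¹) * g.1) * b⁻¹ := by group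
            _ = b * (a⁻¹ * (a * n * a⁻¹) * g.1) * b⁻¹ := by rw [h1, ha]
            _ = _ := by group
        · have h1 := Subgroup.mem_centralizer_singleton_iff.mp y.2
          rw [conjEquivN_apply]
          refine Subtype.ext ?_
          show a * (b⁻¹ * (y : G) * b) * n * (a * (b⁻¹ * (y : G) * b))⁻¹ = m
          rw [← ha]
          calc a * (b⁻¹ * (y : G) * b) * n * (a * (b⁻¹ * (y : G) * b))⁻¹
              = a * b⁻¹ * ((y : G) * (b * n * b⁻¹)) * (y : G)⁻¹ * b * a⁻¹ := by group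
            _ = a * b⁻¹ * ((y : G) * x) * (y : G)⁻¹ * b * a⁻¹ := by rw [hb]
            _ = a * b⁻¹ * (x * (y : G)) * (y : G)⁻¹ * b * a⁻¹ := by rw [h1]
            _ = a * b⁻¹ * x * b * a⁻¹ := by group
            _ = a * b⁻¹ * (b * n * b⁻¹) * b * a⁻¹ := by rw [hb]
            _ = _ := by group
      rw [← Finset.sum_fiberwise Finset.univ (fun g : G => conjEquivN N g n)]
      have hz : ∀ m : N, (∑ g ∈ Finset.univ.filter (fun g : G => conjEquivN N g n = m),
          conjN N g (μ : N → ℂ) n) = if m = 1 then 0 else (c : ℂ) * (μ : N → ℂ) m := by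
        intro m
        rw [Finset.sum_congr rfl (g := fun _ => (μ : N → ℂ) m) (fun g hg => by
          rw [conjN_eq_comp]
          exact congrArg (μ : N → ℂ) (Finset.mem_filter.mp hg).2), Finset.sum_const, nsmul_eq_mul]
        split_ifs with hm
        · subst hm
          rw [Finset.filter_eq_empty_iff.mpr fun g _ hg => hn ((conjEquivN N g).injective
            (hg.trans (map_one _).symm)), Finset.card_empty, Nat.cast_zero, zero_mul]
        · rw [hfib m hm]
      rw [Finset.sum_congr rfl fun m _ => hz m]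
      have h0 := classInner_irr_ne μ.2 isIrr_one hμ
      rw [classInner] at h0
      simp only [map_one, mul_one, mul_eq_zero, inv_eq_zero, Nat.cast_eq_zero] at h0
      have h0' := h0.resolve_left Nat.card_pos.ne'
      have : (∑ m : N, if m = 1 then 0 else (c : ℂ) * (μ : N → ℂ) m) =
          (c : ℂ) * ∑ m : N, (μ : N → ℂ) m - (c : ℂ) * (μ : N → ℂ) 1 := by
        rw [Finset.mul_sum, eq_sub_iff_add_eq,
          ← Finset.sum_ite_eq' Finset.univ (1 : N) (fun m => (c : ℂ) * (μ : N → ℂ) m) |>.trans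
            (if_pos (Finset.mem_univ _)), ← Finset.sum_add_distrib]
        exact Finset.sum_congr rfl fun m _ => by split_ifs with hm <;> simp [hm]
      rw [this, h0', hμ1]
      ring
    simp only [classInner]
    rw [← Finset.mul_sum, Finset.sum_comm]
    simp only [← Finset.sum_mul, hval]
    have h0 := classInner_irr_ne μ.2 isIrr_one hμ
    rw [classInner] at h0
    simp only [map_one, mul_one, mul_eq_zero, inv_eq_zero, Nat.cast_eq_zero] at h0
    have h0' : ∑ m : N, conj ((μ : N → ℂ) m) = 0 := by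
      rw [← map_sum, h0.resolve_left Nat.card_pos.ne', map_zero]
    have : (∑ m : N, (if m = 1 then (Nat.card G : ℂ) else -(c : ℂ)) * conj ((μ : N → ℂ) m)) =
        (-(c : ℂ)) * ∑ m : N, conj ((μ : N → ℂ) m) +
          ((Nat.card G : ℂ) + c) * conj ((μ : N → ℂ) 1) := by
      rw [Finset.mul_sum,
        ← Finset.sum_ite_eq' Finset.univ (1 : N)
          (fun m => ((Nat.card G : ℂ) + c) * conj ((μ : N → ℂ) m)) |>.trans
            (if_pos (Finset.mem_univ _)), ← Finset.sum_add_distrib]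
      exact Finset.sum_congr rfl fun m _ => by split_ifs with hm <;> simp [hm]; ring
    rw [this, h0', hμ1, map_one, mul_zero, zero_add, mul_one,
      inv_mul_eq_iff_eq_mul₀ (Nat.cast_ne_zero.mpr Nat.card_pos.ne'), ← hck, ← hk]
    push_cast
    ring
  have hite : ∀ g : G, classInner (conjN N g (μ : N → ℂ)) (μ : N → ℂ) =
      if g ∈ T then 1 else 0 := fun g => by
    rw [classInner_irr_eq_ite (IsIrr.conjN N μ.2 g) μ.2]
    exact if_congr Iff.rfl rfl rfl
  rw [Finset.sum_congr rfl fun g _ => hite g, Finset.sum_boole, Nat.cast_inj,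
    ← Fintype.card_subtype, ← Nat.card_eq_fintype_card] at hsum
  have hTc : Nat.card T = p ^ (Nat.card G).factorization p := by
    rw [← Sylow.card_eq_multiplicity C, ← hC]
    exact hsum
  exact ⟨Sylow.ofCard T hTc, fun g => hT g⟩

/-- Outside `N` centralisers have the same order as in the quotient. -/
theorem card_centralizer_quotient (hG : 2 < Nat.card G) (χ : IrrCharacter G)
    (hχ : Nat.card {C : ConjClasses G // ∃ g ∈ C.carrier, (χ : G → ℂ) g ≠ 0} = 2)
    (N : Subgroup G) [N.Normal] (hN : ∀ g : G, g ∈ N ↔ (χ : G → ℂ) g ≠ 0) (hN1 : N ≠ ⊥)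
    {y : G} (hy : y ∉ N) :
    Nat.card (Subgroup.centralizer ({y} : Set G)) =
      Nat.card (Subgroup.centralizer ({(y : G ⧸ N)} : Set (G ⧸ N))) := by
  classical
  haveI := Fintype.ofFinite G
  haveI := Fintype.ofFinite (G ⧸ N)
  obtain ⟨x, hx, hx1⟩ := (Subgroup.ne_bot_iff_exists_ne_one (H := N)).mp hN1 |>
    fun ⟨a, ha⟩ => (⟨a.1, a.2, fun e => ha (Subtype.ext e)⟩ : ∃ k ∈ N, k ≠ 1)
  obtain ⟨hh, hiff⟩ := data χ hχ N hN hx hx1
  have hker : ∀ ψ : IrrCharacter G, ψ ≠ χ → ∀ n ∈ N, (ψ : G → ℂ) n = (ψ : G → ℂ) 1 := by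
    intro ψ hψ n hn
    by_cases hn1 : n = 1
    · rw [hn1]
    exact others_ker hG χ hn1 (data χ hχ N hN hn hn1).1 hψ
  let F : IrrCharacter (G ⧸ N) → {ψ : IrrCharacter G // ψ ≠ χ} := fun φ =>
    ⟨⟨fun g => (φ : G ⧸ N → ℂ) (g : G ⧸ N),
      IsIrr.comp_surjective (QuotientGroup.mk' N) (QuotientGroup.mk'_surjective N) φ.2⟩, fun e => by
      have h1 := congrFun (congrArg Subtype.val e) x
      simp only at h1
      rw [(QuotientGroup.eq_one_iff x).mpr hx] at h1
      have h2 := congrFun (congrArg Subtype.val e) 1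
      simp only [QuotientGroup.mk_one] at h2
      exact hx1 (faithful hG χ hx1 hh x (h1.symm.trans h2))⟩
  have hF : Function.Bijective F := by
    refine ⟨fun a b h => Subtype.ext (funext fun q => ?_), fun ψ => ?_⟩
    · obtain ⟨g, rfl⟩ := QuotientGroup.mk_surjective q
      exact congrFun (congrArg (fun z : {ψ : IrrCharacter G // ψ ≠ χ} => (z.1 : G → ℂ)) h) g
    · obtain ⟨φ, hφ, hval⟩ := IsIrr.exists_factor_quotient ψ.1.2 N (hker ψ.1 ψ.2)
      exact ⟨⟨φ, hφ⟩, Subtype.ext (Subtype.ext (funext hval))⟩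
  have h1 := sum_irr_mul_conj y y
  rw [if_pos (IsConj.refl y), ← Finset.add_sum_erase _ _ (Finset.mem_univ χ),
    show (χ : G → ℂ) y = 0 from not_not.mp (mt (hN y).mpr hy), zero_mul, zero_add] at h1
  have h2 := sum_irr_mul_conj (y : G ⧸ N) (y : G ⧸ N)
  rw [if_pos (IsConj.refl _)] at h2
  have h3 : (∑ φ : IrrCharacter (G ⧸ N), (φ : G ⧸ N → ℂ) y * conj ((φ : G ⧸ N → ℂ) y)) =
      ∑ ψ ∈ Finset.univ.erase χ, (ψ : G → ℂ) y * conj ((ψ : G → ℂ) y) := by
    rw [← Finset.sum_subtype (p := fun ψ => ψ ≠ χ) (Finset.univ.erase χ) (by simp)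
      (fun ψ => (ψ : G → ℂ) y * conj ((ψ : G → ℂ) y)) |>.symm]
    exact Fintype.sum_bijective F hF _ _ fun φ => rfl
  rw [h3, h1] at h2
  exact_mod_cast h2

end Cfsg.Agent.Block.TwoClassLocal
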