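import Cfsg.Agent.Lib.Char.Average
import Cfsg.Agent.Lib.Block.Central
import Cfsg.Agent.Lib.Char.Complete
import Cfsg.Agent.Lib.Char.Constituent

/-!
Lower bounds for the squared values of a character on a cyclic subgroup of prime order, and the
resulting contradiction with the first orthogonality relation.
-/

set_option autoImplicit false

namespace Cfsg.Agent.Block.NormBound

open Cfsg Cfsg.Agent.Char Cfsg.Agent.Block
open scoped ComplexConjugate

section Cyclic

variable {P : Type*} [Group P] [Fintype P] {p : ℕ} [hp : Fact p.Prime]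

theorem comm (hP : Nat.card P = p) (a b : P) : a * b = b * a := by
  haveI := isCyclic_of_prime_card hP
  exact mul_comm' a b

theorem card_irr (hP : Nat.card P = p) : Fintype.card (IrrCharacter P) = p := by
  classical
  rw [← Nat.card_eq_fintype_card, card_irrCharacter]
  refine ((Nat.card_congr (Equiv.ofBijective ConjClasses.mk ⟨fun a b h => ?_,
    Quotient.mk_surjective⟩)).symm).trans hP
  obtain ⟨c, hc⟩ := isConj_iff.1 (ConjClasses.mk_eq_mk_iff_isConj.1 h)
  rw [← hc, comm hP c a, mul_inv_cancel_right]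

/-- The multiplicities, their sum, the norm, and the sum of the values off the identity. -/
theorem multiplicities (hP : Nat.card P = p) {θ : P → ℂ} (hθ : IsCharacter P θ) {d : ℕ}
    (hd : θ 1 = d) (t : ℝ) :
    ∃ a : IrrCharacter P → ℕ, θ = ∑ φ : IrrCharacter P, (a φ : ℂ) • (φ : P → ℂ) ∧ ∑ φ, a φ = d ∧
      (p : ℝ) * ∑ φ, (a φ : ℝ) ^ 2 - 2 * t * (p * a (trivialIrr P)) + p * t ^ 2 =
        ∑ y : P, ‖θ y - (t : ℂ)‖ ^ 2 := by
  classical
  obtain ⟨a, ha, hdec⟩ := IsChar.exists_decomp_inner hθ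
  have hone : ∀ φ : IrrCharacter P, (φ : P → ℂ) 1 = 1 := fun φ => IsIrr.one_of_comm (comm hP) φ.2
  refine ⟨a, hdec, ?_, ?_⟩
  · have h := congrFun hdec 1
    rw [hd, sum_irr_apply] at h
    simp only [hone, mul_one] at h
    exact_mod_cast h.symm
  · have hpc : (Nat.card P : ℂ) = (p : ℂ) := by rw [hP]
    have hp0 : (p : ℂ) ≠ 0 := Nat.cast_ne_zero.2 hp.out.ne_zero
    have h1 : ∑ y : P, θ y * conj (θ y) = (p : ℂ) * ∑ φ, (a φ : ℂ) ^ 2 := by
      have h : classInner θ θ = ∑ φ, (a φ : ℂ) * classInner (φ : P → ℂ) θ := by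
        conv_lhs => arg 1; rw [hdec]
        rw [classInner_sum_left]
        exact Finset.sum_congr rfl fun φ _ => classInner_smul_left _ _ _
      have h' : classInner θ θ = ∑ φ, (a φ : ℂ) ^ 2 := by
        rw [h]
        refine Finset.sum_congr rfl fun φ _ => ?_
        rw [← classInner_conj_symm, ha, map_natCast, sq]
      rw [← h', classInner, hpc, ← mul_assoc, mul_inv_cancel₀ hp0, one_mul]
    have h2 : ∑ y : P, θ y = (p : ℂ) * a (trivialIrr P) := by
      have h := ha (trivialIrr P)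
      simp only [classInner, trivialIrr, map_one, mul_one] at h
      rw [show (a (trivialIrr P) : ℂ) = (p : ℂ)⁻¹ * ∑ y : P, θ y by rw [← hpc, h]; rfl, ← mul_assoc,
        mul_inv_cancel₀ hp0, one_mul]
    have h3 : ((∑ y : P, ‖θ y - (t : ℂ)‖ ^ 2 : ℝ) : ℂ) =
        (((p : ℝ) * ∑ φ, (a φ : ℝ) ^ 2 - 2 * t * (p * a (trivialIrr P)) + p * t ^ 2 : ℝ) : ℂ) := by
      have hc : ∑ y : P, conj (θ y) = (p : ℂ) * a (trivialIrr P) := by
        rw [← map_sum, h2, map_mul, map_natCast, map_natCast]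
      push_cast
      simp only [← Complex.mul_conj', map_sub, Complex.conj_ofReal, sub_mul, mul_sub,
        Finset.sum_sub_distrib, ← Finset.mul_sum, ← Finset.sum_mul, Finset.sum_const,
        Finset.card_univ, nsmul_eq_mul]
      rw [h1, h2, hc, ← Nat.card_eq_fintype_card, hP]
      ring
    exact_mod_cast h3.symm

theorem sum_sq_lower (hP : Nat.card P = p) {θ : P → ℂ} (hθ : IsCharacter P θ) {d : ℕ}
    (hd : θ 1 = d) :
    ((d % p * (p - d % p) : ℕ) : ℝ) + (d : ℝ) ^ 2 ≤ ∑ y : P, ‖θ y‖ ^ 2 := by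
  classical
  obtain ⟨a, -, hsum, h⟩ := multiplicities hP hθ hd 0
  simp only [mul_zero, zero_mul, sub_zero, add_zero, Complex.ofReal_zero, ne_eq,
    OfNat.ofNat_ne_zero, not_false_eq_true, zero_pow] at h
  rw [← h]
  have hsq : ∀ φ, 0 ≤ ((a φ : ℤ) - (d / p : ℕ)) * ((a φ : ℤ) - (d / p : ℕ) - 1) := fun φ => by
    rcases le_or_gt ((a φ : ℤ) - (d / p : ℕ)) 0 with h | h
    · exact mul_nonneg_of_nonpos_of_nonpos h (by omega)
    · exact mul_nonneg (by omega) (by omega)
  have hmain : ((d % p * (p - d % p) : ℕ) : ℤ) + (d : ℤ) ^ 2 ≤ (p : ℤ) * ∑ φ, (a φ : ℤ) ^ 2 := by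
    have h0 := Finset.sum_nonneg fun φ (_ : φ ∈ Finset.univ) => hsq φ
    have he : ∀ φ, ((a φ : ℤ) - (d / p : ℕ)) * ((a φ : ℤ) - (d / p : ℕ) - 1) =
        (a φ : ℤ) ^ 2 - (2 * (d / p : ℕ) + 1) * (a φ : ℤ) + ((d / p : ℕ) : ℤ) * ((d / p : ℕ) + 1) :=
      fun φ => by ring
    simp only [he, Finset.sum_add_distrib, Finset.sum_sub_distrib, ← Finset.mul_sum,
      Finset.sum_const, Finset.card_univ, card_irr hP, nsmul_eq_mul] at h0
    rw [show ∑ φ, (a φ : ℤ) = (d : ℤ) by exact_mod_cast hsum] at h0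
    have hle := (Nat.mod_lt d hp.out.pos).le
    have hdq : (d : ℤ) = (p : ℤ) * (d / p : ℕ) + (d % p : ℕ) := by
      exact_mod_cast (Nat.div_add_mod d p).symm
    have hp0 : (0 : ℤ) < (p : ℤ) := by exact_mod_cast hp.out.pos
    rw [Nat.cast_mul, Nat.cast_sub hle]
    generalize ((d / p : ℕ) : ℤ) = q at h0 hdq
    generalize ((d % p : ℕ) : ℤ) = r at hdq ⊢
    rw [hdq] at h0 ⊢
    nlinarith
  exact_mod_cast hmain

theorem sum_shift_lower (hP : Nat.card P = p) {θ : P → ℂ} (hθ : IsCharacter P θ) {d i : ℕ}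
    (hd : θ 1 = d) (hr : d % p = p - 1) (hi : i % p ≠ 1) (hinv : ∀ y : P, θ (y ^ i) = θ y)
    (hbij : i.Coprime p) {t : ℝ} (ht0 : 0 ≤ t) (ht : 2 * t ≤ 1) :
    (p - 1 : ℝ) * (1 + t) ^ 2 + ((d : ℝ) - t) ^ 2 ≤ ∑ y : P, ‖θ y - (t : ℂ)‖ ^ 2 := by
  classical
  obtain ⟨a, hdec, hsum, h⟩ := multiplicities hP hθ hd t
  rw [← h]
  set q : ℤ := ((d / p + 1 : ℕ) : ℤ) with hq
  let b : IrrCharacter P → ℤ := fun φ => (a φ : ℤ) - q
  have hdq : (d : ℤ) = (p : ℤ) * q - 1 := by
    have := Nat.div_add_mod d p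
    have := hp.out.pos
    rw [hq]
    push_cast
    have h1 : (d : ℤ) = (p : ℤ) * ((d / p : ℕ) : ℤ) + ((p - 1 : ℕ) : ℤ) := by
      rw [← hr]; exact_mod_cast (Nat.div_add_mod d p).symm
    rw [Nat.cast_sub (by omega)] at h1
    push_cast at h1
    linear_combination h1
  have hbsum : ∑ φ, b φ = -1 := by
    simp only [b, Finset.sum_sub_distrib, Finset.sum_const, Finset.card_univ, card_irr hP,
      nsmul_eq_mul]
    rw [show ∑ φ, (a φ : ℤ) = (d : ℤ) by exact_mod_cast hsum, hdq]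
    ring
  have hb2 : ∑ φ, (a φ : ℤ) ^ 2 = ∑ φ, b φ ^ 2 + 2 * q * (-1) + (p : ℤ) * q ^ 2 := by
    have he : ∀ φ, (a φ : ℤ) ^ 2 = b φ ^ 2 + 2 * q * b φ + q ^ 2 := fun φ => by simp only [b]; ring
    simp only [he, Finset.sum_add_distrib, ← Finset.mul_sum, hbsum, Finset.sum_const,
      Finset.card_univ, card_irr hP, nsmul_eq_mul]
  -- the permutation of the characters induced by the power map
  have hkey : 1 + 2 * t * ((b (trivialIrr P) : ℝ) + 1) ≤ ((∑ φ, b φ ^ 2 : ℤ) : ℝ) := by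
    set e := trivialIrr P
    have hsq : b e ^ 2 ≤ ∑ φ, b φ ^ 2 :=
      Finset.single_le_sum (f := fun φ => b φ ^ 2) (fun φ _ => sq_nonneg _) (Finset.mem_univ e)
    rcases lt_or_ge (b e) 0 with hneg | hpos
    · have h1 : (1 : ℤ) ≤ ∑ φ, b φ ^ 2 := le_trans (by nlinarith) hsq
      have h2 : (b e : ℝ) + 1 ≤ 0 := by exact_mod_cast (show b e + 1 ≤ 0 by omega)
      have h3 : (1 : ℝ) ≤ ((∑ φ, b φ ^ 2 : ℤ) : ℝ) := by exact_mod_cast h1
      nlinarith
    obtain ⟨φ, hφe, hφ⟩ : ∃ φ, φ ≠ e ∧ b φ < 0 := by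
      by_contra hcon
      push Not at hcon
      have : 0 ≤ ∑ φ, b φ := Finset.sum_nonneg fun φ _ => by
        rcases eq_or_ne φ e with rfl | hne
        · exact hpos
        · exact hcon φ hne
      omega
    let ei : P ≃ P := Equiv.ofBijective (fun y => y ^ i)
      (powCoprime (show (Nat.card P).Coprime i by rw [hP]; exact hbij.symm)).bijective
    let f : P →* P := MonoidHom.mk' (fun y => y ^ i) fun x y => (Commute.mul_pow (comm hP x y) i)
    let ψ : IrrCharacter P := ⟨fun y => (φ : P → ℂ) (f y),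
      IsIrr.comp_surjective f ei.surjective φ.2⟩
    have hψb : b ψ = b φ := by
      have e1 : classInner θ (ψ : P → ℂ) = classInner θ (φ : P → ℂ) := by
        simp only [classInner]
        congr 1
        refine Fintype.sum_equiv ei _ _ fun y => ?_
        show θ y * conj ((φ : P → ℂ) (y ^ i)) = θ (y ^ i) * conj ((φ : P → ℂ) (y ^ i))
        rw [hinv]
      have e2 : ∀ χ : IrrCharacter P, classInner θ (χ : P → ℂ) = (a χ : ℂ) := fun χ => by
        rw [hdec, classInner_sum_irr]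
      rw [e2, e2] at e1
      have e3 : a ψ = a φ := by exact_mod_cast e1
      simp only [b, e3]
    have hlin : ∀ χ : IrrCharacter P, ∀ x y : P,
        (χ : P → ℂ) (x * y) = (χ : P → ℂ) x * (χ : P → ℂ) y := by
      intro χ x y
      obtain ⟨n, ρ, -, hχ⟩ := χ.2
      have hn : n = 1 := by
        have h1 := IsIrr.one_of_comm (comm hP) χ.2
        rw [← hχ, Representation.char_one, Module.finrank_fin_fun] at h1
        exact_mod_cast h1
      subst hn
      rw [← hχ]
      simp only [Representation.character, map_mul]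
      rw [LinearMap.trace_mul_comm]
      simp only [LinearMap.trace_eq_matrix_trace ℂ (Pi.basisFun ℂ (Fin 1)),
        LinearMap.toMatrix_mul, Matrix.trace, Matrix.diag, Matrix.mul_apply, Fin.sum_univ_one]
      ring
    have hφpow : ∀ (y : P) (k : ℕ), (φ : P → ℂ) (y ^ k) = (φ : P → ℂ) y ^ k := fun y k => by
      induction k with
      | zero => rw [pow_zero, pow_zero, IsIrr.one_of_comm (comm hP) φ.2]
      | succ k ih => rw [pow_succ, pow_succ, hlin, ih]
    have hψφ : ψ ≠ φ := by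
      intro heq
      refine hφe (Subtype.ext (funext fun y => ?_))
      simp only [e, trivialIrr]
      have h1 : (φ : P → ℂ) y ^ i = (φ : P → ℂ) y := by
        rw [← hφpow]; exact congrFun (congrArg Subtype.val heq) y
      have h2 : (φ : P → ℂ) y ^ p = 1 := by
        rw [← hφpow, ← hP, pow_card_eq_one', IsIrr.one_of_comm (comm hP) φ.2]
      have hne : (φ : P → ℂ) y ≠ 0 := fun h0 => by
        rw [h0, zero_pow hp.out.ne_zero] at h2; exact zero_ne_one h2
      have h4 : orderOf ((φ : P → ℂ) y) ∣ p := orderOf_dvd_of_pow_eq_one h2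
      rcases (Nat.dvd_prime hp.out).1 h4 with h5 | h5
      · exact orderOf_eq_one_iff.1 h5
      · exfalso
        refine hi ?_
        have h6 : (φ : P → ℂ) y ^ i = (φ : P → ℂ) y ^ 1 := by rw [pow_one, h1]
        have hu : orderOf (Units.mk0 _ hne) = p := by rw [← orderOf_units, Units.val_mk0, h5]
        have h6' : (Units.mk0 _ hne) ^ i = (Units.mk0 _ hne) ^ 1 := Units.ext (by simpa using h6)
        have h7 : i % p = 1 % p := hu ▸ pow_eq_pow_iff_modEq.1 h6'
        rw [h7, Nat.one_mod_eq_one.2 hp.out.ne_one]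
    have hψe : ψ ≠ e := by
      intro heq
      refine hφe (Subtype.ext (funext fun y => ?_))
      obtain ⟨x, rfl⟩ := ei.surjective y
      exact (congrFun (congrArg Subtype.val heq) x).trans (by simp [e, trivialIrr])
    have hsub : ({e, φ, ψ} : Finset (IrrCharacter P)) ⊆ Finset.univ := Finset.subset_univ _
    have h3 := Finset.sum_le_sum_of_subset_of_nonneg (f := fun χ => b χ ^ 2) hsub
      fun _ _ _ => sq_nonneg _
    rw [Finset.sum_insert (by simp [hφe.symm, hψe.symm]), Finset.sum_insert (by simp [hψφ.symm]),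
      Finset.sum_singleton, hψb] at h3
    have h4 : (1 : ℤ) ≤ b φ ^ 2 := by nlinarith
    have h5 : ((b e ^ 2 + 2 : ℤ) : ℝ) ≤ ((∑ φ, b φ ^ 2 : ℤ) : ℝ) := by
      exact_mod_cast (show b e ^ 2 + 2 ≤ ∑ φ, b φ ^ 2 by omega)
    push_cast at h5 ⊢
    have h6 : (0 : ℝ) ≤ (b e : ℝ) := by exact_mod_cast hpos
    have h7 : (b e : ℝ) ≤ (b e : ℝ) ^ 2 := by
      exact_mod_cast (show b e ≤ b e ^ 2 by nlinarith)
    nlinarith [mul_le_mul_of_nonneg_right ht (show (0 : ℝ) ≤ (b e : ℝ) + 1 by linarith)]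

  have hA : (∑ φ, (a φ : ℝ) ^ 2) =
      ((∑ φ, b φ ^ 2 : ℤ) : ℝ) + 2 * (q : ℝ) * (-1) + (p : ℝ) * (q : ℝ) ^ 2 := by
    exact_mod_cast hb2
  have hae : (a (trivialIrr P) : ℝ) = (b (trivialIrr P) : ℝ) + (q : ℝ) := by simp [b]
  have hdR : (d : ℝ) = (p : ℝ) * (q : ℝ) - 1 := by exact_mod_cast hdq
  have hp0 : (0 : ℝ) ≤ p := Nat.cast_nonneg p
  rw [hA, hae, hdR]
  nlinarith [mul_le_mul_of_nonneg_left hkey hp0]

end Cyclic

variable {G : Type*} [Group G] [Fintype G]

theorem sum_norm_shift (χ : IrrCharacter G) (hne : χ ≠ trivialIrr G) (t : ℝ) :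
    ∑ g : G, ‖(χ : G → ℂ) g - (t : ℂ)‖ ^ 2 = (Nat.card G : ℝ) * (1 + t ^ 2) := by
  classical
  have hc0 : (Nat.card G : ℂ) ≠ 0 := Nat.cast_ne_zero.2 Nat.card_pos.ne'
  have h1 : ∑ g : G, (χ : G → ℂ) g * conj ((χ : G → ℂ) g) = (Nat.card G : ℂ) := by
    have h := classInner_self_irr χ.2
    rw [classInner] at h
    rw [← mul_one (Nat.card G : ℂ), ← h, ← mul_assoc, mul_inv_cancel₀ hc0, one_mul]
  have h2 : ∑ g : G, (χ : G → ℂ) g = 0 := by
    have h := classInner_irr_ne χ.2 (trivialIrr G).2 (fun e => hne (Subtype.ext e))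
    simp only [classInner, trivialIrr, map_one, mul_one] at h
    exact (mul_eq_zero.1 h).resolve_left (inv_ne_zero hc0)
  have h3 : ((∑ g : G, ‖(χ : G → ℂ) g - (t : ℂ)‖ ^ 2 : ℝ) : ℂ) =
      (((Nat.card G : ℝ) * (1 + t ^ 2) : ℝ) : ℂ) := by
    have hc : ∑ g : G, conj ((χ : G → ℂ) g) = 0 := by rw [← map_sum, h2, map_zero]
    push_cast
    simp only [← Complex.mul_conj', map_sub, Complex.conj_ofReal, sub_mul, mul_sub,
      Finset.sum_sub_distrib, ← Finset.mul_sum, ← Finset.sum_mul, Finset.sum_const,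
      Finset.card_univ, nsmul_eq_mul]
    rw [h1, h2, hc, ← Nat.card_eq_fintype_card]
    ring
  exact_mod_cast h3

theorem mem_normalizer_iff_of_finite' {P : Subgroup G} {g : G} :
    g ∈ Subgroup.normalizer (P : Set G) ↔ ∀ w ∈ (P : Set G), g * w * g⁻¹ ∈ (P : Set G) := by
  rw [Subgroup.mem_normalizer_iff]
  refine ⟨fun h w hw => (h w).1 hw, fun h w => ⟨h w, fun hw => ?_⟩⟩
  let f : ↥(P : Set G) → ↥(P : Set G) := fun w => ⟨g * w * g⁻¹, h w w.2⟩
  have hfi : Function.Injective f := fun a b hab =>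
    Subtype.ext (mul_left_cancel (mul_right_cancel (congrArg Subtype.val hab)))
  obtain ⟨⟨v, hv⟩, hv'⟩ := (Finite.injective_iff_surjective.1 hfi) ⟨_, hw⟩
  have : v = w := mul_left_cancel (mul_right_cancel (congrArg Subtype.val hv'))
  exact this ▸ hv

/-- The conjugates of a subgroup of prime order contribute separately. -/
theorem conjugates_le [DecidableEq G] {x : G} {p B : ℕ} [hp : Fact p.Prime] (hx : orderOf x = p)
    (hN : Nat.card (Subgroup.normalizer (Subgroup.zpowers x : Set G)) ≤ B) {f : G → ℝ}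
    (hf : ∀ g, 0 ≤ f g) (hcl : ∀ g y : G, f (g * y * g⁻¹) = f y)
    [Fintype (Subgroup.zpowers x)] {γ : ℝ} (hγ0 : 0 ≤ γ)
    (hγ : γ + f 1 ≤ ∑ y : Subgroup.zpowers x, f y) :
    (Nat.card G : ℝ) / B * γ ≤ ∑ g ∈ Finset.univ.filter (fun g : G => orderOf g = p), f g := by
  classical
  set N := Subgroup.normalizer ((Subgroup.zpowers x) : Set G)
  haveI := Fintype.ofFinite (G ⧸ N)
  have hB : (0 : ℝ) < B := by
    have : 0 < Nat.card N := Nat.card_pos
    exact_mod_cast (show 0 < B by omega)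
  have hidx : (Nat.card G : ℝ) / B ≤ (Fintype.card (G ⧸ N) : ℝ) := by
    rw [div_le_iff₀ hB, ← N.card_mul_index, Subgroup.index_eq_card, Nat.cast_mul,
      ← Nat.card_eq_fintype_card (α := G ⧸ N), mul_comm (Nat.card (G ⧸ N) : ℝ)]
    exact mul_le_mul_of_nonneg_right (by exact_mod_cast hN) (Nat.cast_nonneg _)
  refine le_trans (mul_le_mul_of_nonneg_right hidx hγ0) ?_
  let m : (G ⧸ N) × {y : (Subgroup.zpowers x) // y ≠ 1} → G := fun z => z.1.out * ((z.2 : (Subgroup.zpowers x)) : G) * z.1.out⁻¹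
  have hPc : Nat.card (Subgroup.zpowers x) = p := by rw [Nat.card_zpowers, hx]
  have hm : Function.Injective m := by
    rintro ⟨c, y, hy⟩ ⟨c', y', hy'⟩ h
    change c.out * (y : G) * c.out⁻¹ = c'.out * (y' : G) * c'.out⁻¹ at h
    have hgen : ∀ z : (Subgroup.zpowers x), z ≠ 1 → Subgroup.zpowers (z : G) = (Subgroup.zpowers x) := fun z hz => by
      refine Subgroup.eq_of_le_of_card_ge (Subgroup.zpowers_le.2 z.2) (le_of_eq ?_)
      rw [hPc, Nat.card_zpowers, Subgroup.orderOf_coe]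
      exact (orderOf_eq_prime (by rw [← hPc, pow_card_eq_one']) hz).symm
    have h1 : (c'.out⁻¹ * c.out) * (y : G) * (c'.out⁻¹ * c.out)⁻¹ = (y' : G) := by
      calc (c'.out⁻¹ * c.out) * (y : G) * (c'.out⁻¹ * c.out)⁻¹
          = c'.out⁻¹ * (c.out * (y : G) * c.out⁻¹) * c'.out := by group
        _ = (y' : G) := by rw [h]; group
    have hmem : c'.out⁻¹ * c.out ∈ N := by
      rw [mem_normalizer_iff_of_finite']
      intro w hw
      rw [← hgen y hy, SetLike.mem_coe, Subgroup.mem_zpowers_iff] at hw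
      obtain ⟨k, rfl⟩ := hw
      rw [SetLike.mem_coe, ← conj_zpow, h1]
      exact Subgroup.zpow_mem _ y'.2 k
    have hcc : c' = c := by
      rw [← c'.out_eq', ← c.out_eq']
      exact QuotientGroup.eq.2 hmem
    subst hcc
    have hyy : y = y' := Subtype.ext (mul_left_cancel (mul_right_cancel h))
    subst hyy
    rfl
  calc (Fintype.card (G ⧸ N) : ℝ) * γ
      ≤ ∑ c : G ⧸ N, ∑ y : {y : (Subgroup.zpowers x) // y ≠ 1}, f (m (c, y)) := by
        rw [← Finset.card_univ, ← nsmul_eq_mul]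
        refine Finset.card_nsmul_le_sum _ _ _ fun c _ => ?_
        simp only [m, hcl]
        have hsplit := Finset.add_sum_erase Finset.univ (fun y : (Subgroup.zpowers x) => f y) (Finset.mem_univ 1)
        rw [Finset.sum_subtype (Finset.univ.erase (1 : (Subgroup.zpowers x))) (p := fun y => y ≠ 1) (by simp)
          (fun y : (Subgroup.zpowers x) => f y)] at hsplit
        simp only [OneMemClass.coe_one] at hsplit
        linarith
    _ = ∑ z, f (m z) := (Fintype.sum_prod_type (f := fun z => f (m z))).symm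
    _ = ∑ g ∈ Finset.univ.image m, f g := by rw [Finset.sum_image fun _ _ _ _ h => hm h]
    _ ≤ _ := by
        refine Finset.sum_le_sum_of_subset_of_nonneg (fun g hg => ?_) fun g _ _ => hf g
        obtain ⟨⟨c, y, hy⟩, -, rfl⟩ := Finset.mem_image.1 hg
        refine Finset.mem_filter.2 ⟨Finset.mem_univ _, ?_⟩
        show orderOf (c.out * (y : G) * c.out⁻¹) = p
        rw [← MulAut.conj_apply, MulEquiv.orderOf_eq, Subgroup.orderOf_coe]
        exact orderOf_eq_prime (by rw [← hPc, pow_card_eq_one']) hy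

/-- The contributions of distinct primes exceed the norm: no such character. -/
theorem contradiction {ι : Type*} [Fintype ι] (χ : IrrCharacter G) (hne : χ ≠ trivialIrr G)
    {d : ℕ} (hd : (χ : G → ℂ) 1 = d) (t : ℝ) (x : ι → G) (p : ι → ℕ) (hinj : Function.Injective p)
    (hprime : ∀ i, (p i).Prime) (hx : ∀ i, orderOf (x i) = p i) (B : ι → ℕ)
    (hN : ∀ i, Nat.card (Subgroup.normalizer (Subgroup.zpowers (x i) : Set G)) ≤ B i)
    (γ : ι → ℝ) (hγ0 : ∀ i, 0 ≤ γ i)
    (hγ : ∀ (i : ι) [Fintype (Subgroup.zpowers (x i))],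
      γ i + ((d : ℝ) - t) ^ 2 ≤ ∑ y : Subgroup.zpowers (x i), ‖(χ : G → ℂ) y - (t : ℂ)‖ ^ 2)
    (hbig : (Nat.card G : ℝ) * (1 + t ^ 2) <
      ((d : ℝ) - t) ^ 2 + ∑ i, (Nat.card G : ℝ) / B i * γ i) : False := by
  classical
  set f : G → ℝ := fun g => ‖(χ : G → ℂ) g - (t : ℂ)‖ ^ 2
  have hf : ∀ g, 0 ≤ f g := fun g => sq_nonneg _
  have hcl : ∀ g y : G, f (g * y * g⁻¹) = f y := fun g y => by
    simp only [f, IsIrr.classFun χ.2 y g]
  have hf1 : f 1 = ((d : ℝ) - t) ^ 2 := by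
    simp only [f, hd, ← Complex.ofReal_natCast, ← Complex.ofReal_sub, Complex.norm_real,
      Real.norm_eq_abs, sq_abs]
  have hpart : ∀ i, (Nat.card G : ℝ) / B i * γ i ≤
      ∑ g ∈ Finset.univ.filter (fun g : G => orderOf g = p i), f g := fun i => by
    haveI := Fact.mk (hprime i)
    haveI := Fintype.ofFinite (Subgroup.zpowers (x i))
    exact conjugates_le (hx i) (hN i) hf hcl (hγ0 i) (by rw [hf1]; exact hγ i)
  have hdisj : Set.PairwiseDisjoint ↑(Finset.univ : Finset ι)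
      fun i => Finset.univ.filter (fun g : G => orderOf g = p i) := by
    intro i _ j _ hij
    simp only [Function.onFun, Finset.disjoint_left, Finset.mem_filter]
    rintro g ⟨-, h1⟩ ⟨-, h2⟩
    exact hij (hinj (h1.symm.trans h2))
  have h1 : (1 : G) ∉ Finset.univ.biUnion fun i : ι =>
      Finset.univ.filter (fun g : G => orderOf g = p i) := by
    simp only [Finset.mem_biUnion, Finset.mem_filter, orderOf_one]
    rintro ⟨i, -, -, h⟩
    exact (hprime i).ne_one h.symm
  have h := Finset.sum_le_sum_of_subset_of_nonneg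
    (Finset.subset_univ (insert (1 : G) (Finset.univ.biUnion fun i : ι =>
      Finset.univ.filter (fun g : G => orderOf g = p i)))) fun g _ _ => hf g
  rw [Finset.sum_insert h1, Finset.sum_biUnion hdisj, hf1] at h
  have h2 := Finset.sum_le_sum fun i (_ : i ∈ (Finset.univ : Finset ι)) => hpart i
  have h3 : ∑ g : G, f g = (Nat.card G : ℝ) * (1 + t ^ 2) := sum_norm_shift χ hne t
  linarith

end Cfsg.Agent.Block.NormBound
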