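import Mathlib
import Cfsg.Agent.Lib.Block.Order168Classes
import Cfsg.Agent.Lib.Fus.SmallSimple
import Cfsg.Agent.Lib.Char.Perm
import Cfsg.Agent.Lib.Char.Galois
import Cfsg.Agent.Lib.Char.Complete

/-!
No simple group of order 1004913
-/

set_option autoImplicit false

namespace Cfsg.Agent.Block.Suzuki1004913

open Cfsg

universe u

variable {G : Type u} [Group G] [Finite G]

def divs : List ℕ :=
  [1, 3, 7, 9, 13, 21, 27, 39, 63, 91, 117, 189, 273, 351, 409, 819, 1227, 2457, 2863, 3681, 5317,
    8589, 11043, 15951, 25767, 37219, 47853, 77301, 111657, 143559, 334971, 1004913]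

def degs : List ℕ := [3, 7, 9, 13, 21, 27, 39, 63, 91, 117, 189, 273, 351, 409]

theorem dvd_cases {n : ℕ} (h : n ∣ 1004913) : n ∈ divs := by
  have h' : n ∣ 27 * 7 * 13 * 409 := by norm_num; exact h
  obtain ⟨x, e, hx, he, rfl⟩ := Nat.dvd_mul.mp h'
  obtain ⟨y, c, hy, hc, rfl⟩ := Nat.dvd_mul.mp hx
  obtain ⟨a, b, ha, hb, rfl⟩ := Nat.dvd_mul.mp hy
  have haD : a ∈ ({1, 3, 9, 27} : Finset ℕ) := by
    have h1 : a ∈ (27 : ℕ).divisors := Nat.mem_divisors.mpr ⟨ha, by norm_num⟩
    have h2 : (27 : ℕ).divisors = {1, 3, 9, 27} := by decide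
    rwa [h2] at h1
  simp only [Finset.mem_insert, Finset.mem_singleton] at haD
  rcases haD with rfl | rfl | rfl | rfl <;>
    rcases (Nat.dvd_prime (by norm_num)).mp hb with rfl | rfl <;>
    rcases (Nat.dvd_prime (by norm_num)).mp hc with rfl | rfl <;>
    rcases (Nat.dvd_prime (by norm_num)).mp he with rfl | rfl <;>
    simp [divs]

theorem no_solution : ∀ a ∈ degs, 136 * a * a < 1004913 → ∀ b ∈ degs, ∀ c ∈ degs, ∀ d ∈ degs,
    136 * a * a + 4 * b * b + 2 * c * c + 2 * d * d + 1 ≠ 1004913 := by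
  decide +kernel

theorem deg_cases {n : ℕ} (h : n ∣ 1004913) (h1 : n ≠ 1) (h2 : 2 * n * n < 1004913) : n ∈ degs := by
  have hall : ∀ n ∈ divs, n ≠ 1 → 2 * n * n < 1004913 → n ∈ degs := by decide +kernel
  exact hall n (dvd_cases h) h1 h2

variable [IsSimpleGroup G]

theorem not_comm (hG : Nat.card G = 1004913) : ¬ IsMulCommutative G := fun hc => by
  letI : CommGroup G := { ‹Group G› with mul_comm := hc.is_comm.comm }
  have h := IsSimpleGroup.prime_card (α := G)
  rw [hG] at h
  exact absurd ((Nat.dvd_prime h).mp (by norm_num : 3 ∣ 1004913)) (by norm_num)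

theorem index_ge (hG : Nat.card G = 1004913) {H : Subgroup G} (hH : H ≠ ⊤) : 409 ≤ H.index := by
  have h := Fus.card_dvd_factorial_index hH
  rw [hG] at h
  exact (Nat.Prime.dvd_factorial (by norm_num)).mp ((by norm_num : 409 ∣ 1004913).trans h)

theorem sylow_facts (hG : Nat.card G = 1004913) (p n : ℕ) [hp : Fact p.Prime]
    (hp' : p = 409 ∧ n = 819 ∨ p = 13 ∧ n = 25767 ∨ p = 7 ∧ n = 47853) :
    (∀ P : Sylow p G, Nat.card (P : Subgroup G) = p) ∧ Nat.card (Sylow p G) = n ∧
      (∀ P : Sylow p G, Nat.card (Subgroup.normalizer ((P : Subgroup G) : Set G)) = 3 * p) ∧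
      ∀ x : G, orderOf x = p → Nat.card (Subgroup.centralizer ({x} : Set G)) = p := by
  classical
  obtain ⟨hcop, hpd, hn⟩ : ¬ p ∣ 1004913 / p ∧ p ∣ 1004913 ∧ n * (3 * p) = 1004913 := by
    rcases hp' with ⟨rfl, rfl⟩ | ⟨rfl, rfl⟩ | ⟨rfl, rfl⟩ <;> norm_num
  have hfac : (1004913 : ℕ).factorization p = 1 := by
    have hN : 1004913 = p * (1004913 / p) := (Nat.mul_div_cancel' hpd).symm
    conv_lhs => rw [hN]
    rw [Nat.factorization_mul hp.out.ne_zero (by intro e; rw [e] at hcop; exact hcop (dvd_zero _)),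
      Finsupp.add_apply, hp.out.factorization_self, Nat.factorization_eq_zero_of_not_dvd hcop]
  have hP : ∀ P : Sylow p G, Nat.card (P : Subgroup G) = p := fun P => by
    rw [P.card_eq_multiplicity, hG, hfac, pow_one]
  obtain ⟨P⟩ : Nonempty (Sylow p G) := inferInstance
  have hpne : p ≠ 1004913 := by rcases hp' with ⟨rfl, -⟩ | ⟨rfl, -⟩ | ⟨rfl, -⟩ <;> norm_num
  have hcount : Nat.card (Sylow p G) = n := by
    have h1 := card_sylow_modEq_one p G
    have h2 : Nat.card (Sylow p G) ∣ 1004913 / p := by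
      have h := P.card_dvd_index
      have h3 := (P : Subgroup G).index_mul_card
      rw [hP P, hG] at h3
      rwa [← h3, Nat.mul_div_cancel _ hp.out.pos]
    have h3 : Subgroup.normalizer ((P : Subgroup G) : Set G) ≠ ⊤ := by
      intro e
      have hnorm : (P : Subgroup G).Normal := Subgroup.normalizer_eq_top_iff.mp e
      rcases IsSimpleGroup.eq_bot_or_eq_top_of_normal _ hnorm with hb | ht
      · have := hP P; rw [hb, Subgroup.card_bot] at this; exact hp.out.one_lt.ne this
      · have := hP P; rw [ht, Subgroup.card_top, hG] at this; exact hpne this.symm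
    have h4 : 409 ≤ Nat.card (Sylow p G) := by
      rw [Sylow.card_eq_index_normalizer P]; exact index_ge hG h3
    have hall : ∀ d ∈ divs, d ∣ 1004913 / p → d % p = 1 → 409 ≤ d → d = n := by
      rcases hp' with ⟨rfl, rfl⟩ | ⟨rfl, rfl⟩ | ⟨rfl, rfl⟩ <;> decide +kernel
    refine hall _ (dvd_cases (h2.trans (Nat.div_dvd_of_dvd hpd))) h2 ?_ h4
    rw [h1]
    exact Nat.one_mod_eq_one.mpr hp.out.ne_one
  have hN : ∀ Q : Sylow p G, Nat.card (Subgroup.normalizer ((Q : Subgroup G) : Set G)) = 3 * p := by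
    intro Q
    have h1 := (Subgroup.normalizer ((Q : Subgroup G) : Set G)).index_mul_card
    have h0 : (Subgroup.normalizer ((Q : Subgroup G) : Set G)).index = n :=
      (Sylow.card_eq_index_normalizer Q).symm.trans hcount
    rw [h0, hG] at h1
    refine Nat.eq_of_mul_eq_mul_left ?_ (h1.trans hn.symm)
    rcases hp' with ⟨-, rfl⟩ | ⟨-, rfl⟩ | ⟨-, rfl⟩ <;> norm_num
  refine ⟨hP, hcount, hN, fun x hx => ?_⟩
  obtain ⟨Q, hQ⟩ := (IsPGroup.of_card (n := 1) (by rw [Nat.card_zpowers, hx, pow_one]) :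
    IsPGroup p (Subgroup.zpowers x)).exists_le_sylow
  have hQe : Subgroup.zpowers x = (Q : Subgroup G) :=
    Subgroup.eq_of_le_of_card_ge hQ (by rw [hP, Nat.card_zpowers, hx])
  set C := Subgroup.centralizer ({x} : Set G) with hC
  have hCQ : C ≤ Subgroup.centralizer ((Q : Subgroup G) : Set G) := by
    intro c hc
    rw [← hQe]
    rintro y hy
    obtain ⟨i, rfl⟩ := Subgroup.mem_zpowers_iff.mp hy
    have hcomm : Commute x c := (Subgroup.mem_centralizer_iff.mp hc x rfl)
    exact hcomm.zpow_left i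
  have hle : C ≤ Subgroup.normalizer ((Q : Subgroup G) : Set G) :=
    hCQ.trans (Subgroup.centralizer_le_normalizer _)
  have hxC : Subgroup.zpowers x ≤ C := by
    rw [Subgroup.zpowers_le, hC, Subgroup.mem_centralizer_iff]
    rintro y rfl; rfl
  obtain ⟨m, hm⟩ := Subgroup.card_dvd_of_le hxC
  rw [Nat.card_zpowers, hx] at hm
  have hd := Subgroup.card_dvd_of_le hle
  rw [hN Q, hm, mul_comm 3 p] at hd
  rcases (Nat.dvd_prime Nat.prime_three).mp (Nat.dvd_of_mul_dvd_mul_left hp.out.pos hd) with rfl | rfl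
  · rw [hm, mul_one]
  exfalso
  have hCe : C = Subgroup.normalizer ((Q : Subgroup G) : Set G) :=
    Subgroup.eq_of_le_of_card_ge hle (by rw [hN Q, hm, mul_comm])
  have hQN : Subgroup.normalizer ((Q : Subgroup G) : Set G) ≤
      Subgroup.centralizer ((Q : Subgroup G) : Set G) := hCe ▸ hCQ
  have hK := (MonoidHom.ker_transferSylow_isComplement' Q hQN).card_mul
  rw [hP Q, hG] at hK
  rcases IsSimpleGroup.eq_bot_or_eq_top_of_normal _
      (MonoidHom.normal_ker (MonoidHom.transferSylow Q hQN)) with hb | ht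
  · rw [hb, Subgroup.card_bot, one_mul] at hK; exact hpne hK
  · rw [ht, Subgroup.card_top, hG] at hK
    have := hp.out.two_le
    omega

theorem orderOf_eq_of_dvd (hG : Nat.card G = 1004913) {p : ℕ} [hp : Fact p.Prime]
    (hC : ∀ x : G, orderOf x = p → Nat.card (Subgroup.centralizer ({x} : Set G)) = p) {g : G}
    (hd : p ∣ orderOf g) : orderOf g = p := by
  have hx : orderOf (g ^ (orderOf g / p)) = p := orderOf_pow_orderOf_div (orderOf_pos g).ne' hd
  have hg : g ∈ Subgroup.centralizer ({g ^ (orderOf g / p)} : Set G) := by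
    rw [Subgroup.mem_centralizer_iff]
    rintro y rfl
    exact ((Commute.refl g).pow_left _).eq
  have h := (Subgroup.centralizer _).orderOf_dvd_natCard hg
  rw [hC _ hx] at h
  exact ((Nat.dvd_prime hp.out).mp h).resolve_left fun e => hp.out.ne_one
    (Nat.eq_one_of_dvd_one (e ▸ hd))

/-- The order of the elements of a class. -/
noncomputable def ordC : ConjClasses G → ℕ :=
  Quotient.lift (orderOf : G → ℕ) fun a b (h : IsConj a b) => by
    obtain ⟨c, rfl⟩ := isConj_iff.mp h
    exact ((MulAut.conj c).orderOf_eq a).symm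

omit [Finite G] [IsSimpleGroup G] in
theorem ordC_mk (g : G) : ordC (ConjClasses.mk g) = orderOf g := rfl

theorem class_count (hG : Nat.card G = 1004913) (P : ConjClasses G → Prop) {s : ℕ}
    (hs : ∀ x : G, P (ConjClasses.mk x) → Nat.card (Subgroup.centralizer ({x} : Set G)) * s = 1004913) :
    Nat.card {g : G // P (ConjClasses.mk g)} = Nat.card {C : ConjClasses G // P C} * s := by
  classical
  haveI := Fintype.ofFinite G
  haveI := Fintype.ofFinite (ConjClasses G)
  rw [Nat.card_eq_fintype_card, Fintype.card_subtype, Nat.card_eq_fintype_card, Fintype.card_subtype,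
    Finset.card_eq_sum_card_fiberwise (f := (ConjClasses.mk : G → ConjClasses G))
      (t := Finset.univ.filter P) (fun g hg => by simpa using hg),
    Finset.sum_const_nat (m := s)]
  intro C hC
  obtain ⟨x, rfl⟩ := C.exists_rep
  have hPx : P (ConjClasses.mk x) := (Finset.mem_filter.mp hC).2
  have e : Nat.card {g : G // IsConj x g} =
      ((Finset.univ.filter fun g => P (ConjClasses.mk g)).filter
        fun g => ConjClasses.mk g = ConjClasses.mk x).card := by
    rw [Nat.card_eq_fintype_card, Fintype.card_subtype]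
    congr 1
    ext g
    simp only [Finset.mem_filter, Finset.mem_univ, true_and]
    exact ⟨fun h => ⟨(ConjClasses.mk_eq_mk_iff_isConj.mpr h) ▸ hPx,
      (ConjClasses.mk_eq_mk_iff_isConj.mpr h).symm⟩,
      fun h => ConjClasses.mk_eq_mk_iff_isConj.mp h.2.symm⟩
  rw [← e]
  have h1 := card_conj_mul_centralizer x
  have h2 := hs x hPx
  rw [hG] at h1
  exact Nat.eq_of_mul_eq_mul_left Nat.card_pos ((mul_comm _ _).trans (h1.trans h2.symm))

/-- The kind of a class. -/
noncomputable def ty (C : ConjClasses G) : Fin 5 :=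
  if ordC C = 1 then 0 else if ordC C = 409 then 1 else if ordC C = 13 then 2
  else if ordC C = 7 then 3 else 4

/-- Number of classes of each kind. -/
def mult : Fin 5 → ℕ := ![1, 136, 4, 2, 2]

omit [Finite G] [IsSimpleGroup G] in
theorem ty_spec (x : G) :
    (ty (ConjClasses.mk x) = 0 ↔ orderOf x = 1) ∧
    (ty (ConjClasses.mk x) = 1 ↔ orderOf x = 409) ∧
    (ty (ConjClasses.mk x) = 2 ↔ orderOf x = 13) ∧
    (ty (ConjClasses.mk x) = 3 ↔ orderOf x = 7) ∧
    (ty (ConjClasses.mk x) = 4 ↔
      orderOf x ≠ 1 ∧ orderOf x ≠ 409 ∧ orderOf x ≠ 13 ∧ orderOf x ≠ 7) := by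
  simp only [ty, ordC_mk]
  by_cases a : orderOf x = 1 <;> by_cases b : orderOf x = 409 <;> by_cases c : orderOf x = 13 <;>
    by_cases d : orderOf x = 7 <;> simp [*] <;> omega

theorem ty_count (hG : Nat.card G = 1004913) (i : Fin 5) :
    Nat.card {C : ConjClasses G // ty C = i} = mult i := by
  classical
  haveI := Fintype.ofFinite G
  haveI h409 : Fact (Nat.Prime 409) := ⟨by norm_num⟩
  haveI h13 : Fact (Nat.Prime 13) := ⟨by norm_num⟩
  haveI h7 : Fact (Nat.Prime 7) := ⟨by norm_num⟩
  have f409 := sylow_facts hG 409 819 (by norm_num)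
  have f13 := sylow_facts hG 13 25767 (by norm_num)
  have f7 := sylow_facts hG 7 47853 (by norm_num)
  have cnt : ∀ p : ℕ, Nat.card {g : G // orderOf g = p} =
      (Finset.univ.filter fun g : G => orderOf g = p).card := fun p => by
    rw [Nat.card_eq_fintype_card, Fintype.card_subtype]
  have e409 : Nat.card {g : G // orderOf g = 409} = 819 * 408 := by
    rw [card_orderOf_prime f409.1, f409.2.1]
  have e13 : Nat.card {g : G // orderOf g = 13} = 25767 * 12 := by
    rw [card_orderOf_prime f13.1, f13.2.1]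
  have e7 : Nat.card {g : G // orderOf g = 7} = 47853 * 6 := by
    rw [card_orderOf_prime f7.1, f7.2.1]
  have e1 : Nat.card {g : G // orderOf g = 1} = 1 := by
    simp only [orderOf_eq_one_iff]
    simp
  have key : ∀ (j : Fin 5) (p s : ℕ), (∀ x : G, ty (ConjClasses.mk x) = j ↔ orderOf x = p) →
      (∀ x : G, orderOf x = p → Nat.card (Subgroup.centralizer ({x} : Set G)) * s = 1004913) →
      Nat.card {g : G // orderOf g = p} = Nat.card {C : ConjClasses G // ty C = j} * s := by
    intro j p s hj hs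
    rw [← class_count hG (fun C => ty C = j) fun x hx => hs x ((hj x).mp hx)]
    exact Nat.card_congr (Equiv.subtypeEquivRight fun x => (hj x).symm)
  match i with
  | 0 =>
    have h := key 0 1 1 (fun x => (ty_spec x).1) fun x hx => by
      rw [orderOf_eq_one_iff.mp hx, mul_one, ← hG]
      exact (Subgroup.card_eq_iff_eq_top _).mpr (Subgroup.centralizer_eq_top_iff_subset.mpr
        (by simp [Subgroup.center, Subgroup.one_mem]))
    rw [e1] at h
    show _ = 1
    omega
  | 1 =>
    have h := key 1 409 2457 (fun x => (ty_spec x).2.1) fun x hx => by rw [f409.2.2.2 x hx]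
    rw [e409] at h
    show _ = 136
    omega
  | 2 =>
    have h := key 2 13 77301 (fun x => (ty_spec x).2.2.1) fun x hx => by rw [f13.2.2.2 x hx]
    rw [e13] at h
    show _ = 4
    omega
  | 3 =>
    have h := key 3 7 143559 (fun x => (ty_spec x).2.2.2.1) fun x hx => by rw [f7.2.2.2 x hx]
    rw [e7] at h
    show _ = 2
    omega
  | 4 =>
    show _ = 2
    set T := Finset.univ.filter fun g : G => ty (ConjClasses.mk g) = 4 with hT
    have hTc : T.card = 74438 := by
      have hpart := Finset.card_eq_sum_card_fiberwise (s := (Finset.univ : Finset G))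
        (f := fun g => ty (ConjClasses.mk g)) (t := Finset.univ) (fun g _ => Finset.mem_univ _)
      rw [Finset.card_univ, ← Nat.card_eq_fintype_card, hG, Fin.sum_univ_five] at hpart
      rw [Finset.filter_congr (fun g _ => (ty_spec g).1), ← cnt 1, e1,
        Finset.filter_congr (fun g _ => (ty_spec g).2.1), ← cnt 409, e409,
        Finset.filter_congr (fun g _ => (ty_spec g).2.2.1), ← cnt 13, e13,
        Finset.filter_congr (fun g _ => (ty_spec g).2.2.2.1), ← cnt 7, e7, ← hT] at hpart
      omega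
    have hsize : ∀ C : ConjClasses G, ty C = 4 →
        (T.filter fun g => ConjClasses.mk g = C).card = 37219 ∨
        (T.filter fun g => ConjClasses.mk g = C).card = 111657 ∨
        (T.filter fun g => ConjClasses.mk g = C).card = 334971 := by
      intro C hC
      obtain ⟨x, rfl⟩ := C.exists_rep
      have e : Nat.card {g : G // IsConj x g} =
          (T.filter fun g => ConjClasses.mk g = ConjClasses.mk x).card := by
        rw [Nat.card_eq_fintype_card, Fintype.card_subtype]
        congr 1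
        ext g
        simp only [hT, Finset.mem_filter, Finset.mem_univ, true_and]
        exact ⟨fun h => ⟨(ConjClasses.mk_eq_mk_iff_isConj.mpr h) ▸ hC,
          (ConjClasses.mk_eq_mk_iff_isConj.mpr h).symm⟩,
          fun h => ConjClasses.mk_eq_mk_iff_isConj.mp h.2.symm⟩
      rw [← e]
      have h1 := card_conj_mul_centralizer x
      rw [hG] at h1
      obtain ⟨hx1, hx409, hx13, hx7⟩ := (ty_spec x).2.2.2.2.mp hC
      have hno : ∀ (p : ℕ) [Fact p.Prime],
          (∀ y : G, orderOf y = p → Nat.card (Subgroup.centralizer ({y} : Set G)) = p) →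
          orderOf x ≠ p → ¬ p ∣ Nat.card (Subgroup.centralizer ({x} : Set G)) := by
        intro p _ hC' hne hd
        obtain ⟨⟨y, hy⟩, hyo⟩ := exists_prime_orderOf_dvd_card' p hd
        rw [Subgroup.orderOf_mk] at hyo
        have hxy : x ∈ Subgroup.centralizer ({y} : Set G) := by
          rw [Subgroup.mem_centralizer_iff]
          rintro z rfl
          exact (Subgroup.mem_centralizer_iff.mp hy x rfl).symm
        have h := (Subgroup.centralizer _).orderOf_dvd_natCard hxy
        rw [hC' y hyo] at h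
        exact (((Nat.dvd_prime (Fact.out : p.Prime)).mp h).resolve_right hne |> hx1)
      have g409 := hno 409 f409.2.2.2 hx409
      have g13 := hno 13 f13.2.2.2 hx13
      have g7 := hno 7 f7.2.2.2 hx7
      have hne1 : Nat.card (Subgroup.centralizer ({x} : Set G)) ≠ 1 := by
        intro e
        have h := (Subgroup.centralizer ({x} : Set G)).orderOf_dvd_natCard
          (x := x) (by rw [Subgroup.mem_centralizer_iff]; rintro z rfl; rfl)
        rw [e] at h
        exact hx1 (Nat.eq_one_of_dvd_one h)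
      have hmem := dvd_cases (Dvd.intro_left _ h1)
      have hall : ∀ c ∈ divs, c ≠ 1 → ¬ 409 ∣ c → ¬ 13 ∣ c → ¬ 7 ∣ c → c = 3 ∨ c = 9 ∨ c = 27 := by
        decide +kernel
      rcases hall _ hmem hne1 g409 g13 g7 with e3 | e3 | e3 <;> rw [e3] at h1 <;> omega
    set S := Finset.univ.filter fun C : ConjClasses G => ty C = 4 with hS
    rw [Nat.card_eq_fintype_card, Fintype.card_subtype, ← hS]
    have hsum := Finset.card_eq_sum_card_fiberwise (s := T)
      (f := (ConjClasses.mk : G → ConjClasses G)) (t := S) (fun g hg => by simpa [hT, hS] using hg)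
    rw [hTc] at hsum
    have hlb : S.card * 37219 ≤ 74438 := by
      rw [hsum]
      refine (Finset.card_nsmul_le_sum S _ 37219 fun C hC => ?_)
      rcases hsize C (Finset.mem_filter.mp hC).2 with e | e | e <;> omega
    have hne : S.card ≠ 0 := by
      intro e; rw [Finset.card_eq_zero.mp e] at hsum; simp at hsum
    have hne1 : S.card ≠ 1 := by
      intro e
      obtain ⟨C, hC⟩ := Finset.card_eq_one.mp e
      rw [hC, Finset.sum_singleton] at hsum
      rcases hsize C (Finset.mem_filter.mp (hC ▸ Finset.mem_singleton_self C : C ∈ S)).2 with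
        e' | e' | e' <;> omega
    omega

/-- Power map on classes. -/
noncomputable def powC (k : ℕ) : ConjClasses G → ConjClasses G :=
  Quotient.map' (fun g : G => g ^ k) fun a b (h : IsConj a b) => h.pow k

/-- Exponent `k` moves exactly the classes of the kinds in `b`. -/
def Spec (k : ℕ) (b : Fin 5 → Bool) : Prop :=
  b 0 = false ∧ (b 1 = true → k ^ 3 % 409 ≠ 1) ∧ (b 1 = false → k % 409 = 1) ∧
  (b 2 = true → k ^ 3 % 13 ≠ 1) ∧ (b 2 = false → k % 13 = 1) ∧
  (b 3 = true → k ^ 3 % 7 ≠ 1) ∧ (b 3 = false → k % 7 = 1) ∧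
  (b 4 = true → k % 27 = 26) ∧ (b 4 = false → k % 27 = 1)

instance (k : ℕ) (b : Fin 5 → Bool) : Decidable (Spec k b) := by unfold Spec; infer_instance

omit [IsSimpleGroup G] in
theorem not_conj_pow {p : ℕ} [hp : Fact p.Prime] {x : G} (hx : orderOf x = p)
    (hN : ∀ g : G, g * x * g⁻¹ ∈ Subgroup.zpowers x → g ^ (3 * p) = 1) {k : ℕ} (hk : k ^ 3 % p ≠ 1) :
    ¬ IsConj x (x ^ k) := by
  intro h
  obtain ⟨g, hg⟩ := isConj_iff.mp h
  have hit : ∀ n : ℕ, g ^ n * x * (g ^ n)⁻¹ = x ^ (k ^ n) := by
    intro n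
    induction n with
    | zero => simp
    | succ n ih =>
      have : g ^ (n + 1) * x * (g ^ (n + 1))⁻¹ = g * (g ^ n * x * (g ^ n)⁻¹) * g⁻¹ := by
        rw [pow_succ']; group
      rw [this, ih, ← conj_pow, hg, ← pow_mul, pow_succ']
  have h1 := hit (3 * p)
  rw [hN g (hg ▸ Subgroup.pow_mem _ (Subgroup.mem_zpowers x) k), one_mul, inv_one, mul_one] at h1
  have h2 : k ^ (3 * p) ≡ 1 [MOD p] := by
    have := pow_eq_pow_iff_modEq.mp (h1.symm.trans (pow_one x).symm)
    rwa [hx] at this
  have h3 : k ^ (3 * p) ≡ k ^ 3 [MOD p] := by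
    rw [← ZMod.natCast_eq_natCast_iff, Nat.cast_pow, Nat.cast_pow, pow_mul, ZMod.pow_card]
  have h4 := h3.symm.trans h2
  rw [Nat.ModEq, Nat.one_mod_eq_one.mpr hp.out.ne_one] at h4
  exact hk h4

theorem moved_iff (hG : Nat.card G = 1004913) {k : ℕ} {b : Fin 5 → Bool} (h : Spec k b)
    (C : ConjClasses G) : powC k C ≠ C ↔ b (ty C) = true := by
  obtain ⟨x, rfl⟩ := C.exists_rep
  haveI h409 : Fact (Nat.Prime 409) := ⟨by norm_num⟩
  haveI h13 : Fact (Nat.Prime 13) := ⟨by norm_num⟩
  haveI h7 : Fact (Nat.Prime 7) := ⟨by norm_num⟩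
  have f409 := sylow_facts hG 409 819 (by norm_num)
  have f13 := sylow_facts hG 13 25767 (by norm_num)
  have f7 := sylow_facts hG 7 47853 (by norm_num)
  obtain ⟨hb0, a1, a1', a2, a2', a3, a3', a4, a4'⟩ := h
  obtain ⟨t0, t1, t2, t3, t4⟩ := ty_spec x
  have hmk : powC k (ConjClasses.mk x) = ConjClasses.mk (x ^ k) := rfl
  show powC k (ConjClasses.mk x) ≠ ConjClasses.mk x ↔ b (ty (ConjClasses.mk x)) = true
  rw [hmk, ne_eq, ConjClasses.mk_eq_mk_iff_isConj]
  have fix_ : ∀ n, orderOf x ∣ n → k % n = 1 → IsConj (x ^ k) x := fun n hd hk => by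
    have : x ^ k = x := by
      rw [← Nat.mod_add_div k n, hk, pow_add, pow_mul, orderOf_dvd_iff_pow_eq_one.mp hd, one_pow,
        mul_one, pow_one]
    rw [this]
  have pcase : ∀ (p : ℕ) [Fact p.Prime], orderOf x = p →
      (∀ P : Sylow p G, Nat.card (P : Subgroup G) = p) →
      (∀ P : Sylow p G, Nat.card (Subgroup.normalizer ((P : Subgroup G) : Set G)) = 3 * p) →
      k ^ 3 % p ≠ 1 → ¬ IsConj (x ^ k) x := by
    intro p hp hxo hP hN hk hc
    obtain ⟨Q, hQ⟩ := (IsPGroup.of_card (n := 1) (by rw [Nat.card_zpowers, hxo, pow_one]) :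
      IsPGroup p (Subgroup.zpowers x)).exists_le_sylow
    have hQe : Subgroup.zpowers x = (Q : Subgroup G) :=
      Subgroup.eq_of_le_of_card_ge hQ (by rw [hP, Nat.card_zpowers, hxo])
    refine not_conj_pow hxo (fun g hg => ?_) hk hc.symm
    have hgN : g ∈ Subgroup.normalizer ((Q : Subgroup G) : Set G) := by
      have hmap : (Subgroup.zpowers x).map (MulAut.conj g).toMonoidHom = Subgroup.zpowers x := by
        refine Subgroup.eq_of_le_of_card_ge ?_ ?_
        · rw [MonoidHom.map_zpowers, Subgroup.zpowers_le]; simpa using hg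
        · rw [Subgroup.card_map_of_injective (MulEquiv.injective _)]
      rw [← hQe, Subgroup.mem_normalizer_iff]
      intro y
      constructor
      · intro hy; rw [← hmap]; exact ⟨y, hy, by simp⟩
      · intro hy
        rw [← hmap] at hy
        obtain ⟨z, hz, hzy⟩ := hy
        have : z = y := by simpa using hzy
        exact this ▸ hz
    rw [← hN Q]
    exact orderOf_dvd_iff_pow_eq_one.mp (Subgroup.orderOf_dvd_natCard _ hgN)
  by_cases q0 : orderOf x = 1
  · rw [t0.mpr q0, hb0, orderOf_eq_one_iff.mp q0]; simp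
  by_cases q1 : orderOf x = 409
  · rw [t1.mpr q1]
    cases hb : b 1
    · simpa [hb] using fix_ 409 (q1 ▸ dvd_rfl) (a1' hb)
    · simpa [hb] using pcase 409 q1 f409.1 f409.2.2.1 (a1 hb)
  by_cases q2 : orderOf x = 13
  · rw [t2.mpr q2]
    cases hb : b 2
    · simpa [hb] using fix_ 13 (q2 ▸ dvd_rfl) (a2' hb)
    · simpa [hb] using pcase 13 q2 f13.1 f13.2.2.1 (a2 hb)
  by_cases q3 : orderOf x = 7
  · rw [t3.mpr q3]
    cases hb : b 3
    · simpa [hb] using fix_ 7 (q3 ▸ dvd_rfl) (a3' hb)
    · simpa [hb] using pcase 7 q3 f7.1 f7.2.2.1 (a3 hb)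
  rw [t4.mpr ⟨q0, q1, q2, q3⟩]
  have h27 : orderOf x ∣ 27 := by
    have hd : orderOf x ∣ 1004913 := hG ▸ orderOf_dvd_natCard x
    have hall : ∀ c ∈ divs, ¬ 409 ∣ c → ¬ 13 ∣ c → ¬ 7 ∣ c → c ∣ 27 := by decide +kernel
    exact hall _ (dvd_cases hd) (fun e => q1 (orderOf_eq_of_dvd hG f409.2.2.2 e))
      (fun e => q2 (orderOf_eq_of_dvd hG f13.2.2.2 e))
      (fun e => q3 (orderOf_eq_of_dvd hG f7.2.2.2 e))
  cases hb : b 4
  · simpa [hb] using fix_ 27 h27 (a4' hb)
  · simp only [iff_true]
    intro hc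
    have hk : x ^ k = x⁻¹ := by
      rw [eq_inv_iff_mul_eq_one, ← pow_succ]
      exact orderOf_dvd_iff_pow_eq_one.mp (h27.trans (by have := a4 hb; omega))
    rw [hk] at hc
    obtain ⟨g, hg⟩ := isConj_iff.mp hc.symm
    have h2 : g ^ 2 * x * (g ^ 2)⁻¹ = x := by
      have e : g ^ 2 * x * (g ^ 2)⁻¹ = g * (g * x * g⁻¹) * g⁻¹ := by
        simp only [sq, mul_inv_rev, mul_assoc]
      rw [e, hg, ← conj_inv, hg, inv_inv]
    have hg2 : Commute (g ^ 2) x := mul_inv_eq_iff_eq_mul.mp h2
    obtain ⟨m, hm⟩ := exists_pow_eq_self_of_coprime (x := g) (n := 2)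
      (Nat.Coprime.coprime_dvd_right (hG ▸ orderOf_dvd_natCard g) (by norm_num))
    have hgx : Commute g x := hm ▸ hg2.pow_left m
    have hxx : x ^ 2 = 1 := by
      rw [hgx.eq, mul_inv_cancel_right] at hg
      rw [sq]; nth_rewrite 2 [hg]; rw [mul_inv_cancel]
    have := Nat.dvd_gcd h27 (orderOf_dvd_iff_pow_eq_one.mpr hxx)
    norm_num at this
    exact q0 (by simpa using this)

/-- Galois action by exponents prime to the group order. -/
noncomputable def F (k : ℕ) (χ : IrrCharacter G) : IrrCharacter G :=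
  if h : k.Coprime (Nat.card G) then ⟨fun g => (χ : G → ℂ) (g ^ k), Char.IsIrr.pow_map χ.2 h⟩ else χ

omit [IsSimpleGroup G] in
theorem F_apply {k : ℕ} (h : k.Coprime (Nat.card G)) (χ : IrrCharacter G) (g : G) :
    (F k χ : G → ℂ) g = (χ : G → ℂ) (g ^ k) := by rw [F, dif_pos h]

omit [IsSimpleGroup G] in
theorem F_mul {a b : ℕ} (ha : a.Coprime (Nat.card G)) (hb : b.Coprime (Nat.card G))
    (χ : IrrCharacter G) : F (a * b) χ = F a (F b χ) := by
  refine Subtype.ext (funext fun g => ?_)
  rw [F_apply (ha.mul_left hb), F_apply ha, F_apply hb, pow_mul]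

omit [IsSimpleGroup G] in
theorem F_injective {k : ℕ} (hk : k.Coprime (Nat.card G)) :
    Function.Injective (F (G := G) k) := by
  intro χ ψ h
  refine Subtype.ext (funext fun g => ?_)
  obtain ⟨m, hm⟩ := exists_pow_eq_self_of_coprime
    (hk.coprime_dvd_right (orderOf_dvd_natCard g))
  rw [← pow_mul, mul_comm, pow_mul] at hm
  have := congrFun (congrArg Subtype.val h) (g ^ m)
  rwa [F_apply hk, F_apply hk, hm] at this

theorem irr_card (hG : Nat.card G = 1004913) : Nat.card (IrrCharacter G) = 145 := by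
  classical
  haveI := Fintype.ofFinite (ConjClasses G)
  rw [Char.card_irrCharacter, Nat.card_eq_fintype_card, ← Finset.card_univ,
    Finset.card_eq_sum_card_fiberwise (f := ty) (t := Finset.univ) (fun g _ => Finset.mem_univ _),
    Finset.sum_congr rfl (g := mult) fun i _ => by
      rw [← ty_count hG i, Nat.card_eq_fintype_card, Fintype.card_subtype]]
  decide

open Classical in
theorem fixed_card [Fintype (IrrCharacter G)] (hG : Nat.card G = 1004913) {k : ℕ}
    (hk : k.Coprime (Nat.card G)) {b : Fin 5 → Bool} (h : Spec k b) :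
    (Finset.univ.filter fun χ : IrrCharacter G => F k χ = χ).card +
      (∑ i, if b i then mult i else 0) = 145 := by
  haveI := Fintype.ofFinite (ConjClasses G)
  have hp := Char.brauer_perm (F k) (powC k) fun χ g g' hg => by
    rw [F_apply hk]
    exact (Char.IsClass.eq_of_isConj (Char.IsIrr.classFun χ.2)
      (ConjClasses.mk_eq_mk_iff_isConj.mp (hg : ConjClasses.mk g' = ConjClasses.mk (g ^ k)))).symm
  simp only [Nat.card_eq_fintype_card, Fintype.card_subtype] at hp
  rw [hp]
  have hfib : ∀ i, (Finset.univ.filter fun C : ConjClasses G => ty C = i).card = mult i := fun i => by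
    rw [← ty_count hG i, Nat.card_eq_fintype_card, Fintype.card_subtype]
  have htot : Fintype.card (ConjClasses G) = 145 := by
    rw [← Finset.card_univ, Finset.card_eq_sum_card_fiberwise
      (f := ty) (t := Finset.univ) (fun g _ => Finset.mem_univ _), Finset.sum_congr rfl fun i _ => hfib i]
    decide
  have hmov : (Finset.univ.filter fun C : ConjClasses G => ¬ powC k C = C).card =
      ∑ i, if b i then mult i else 0 := by
    rw [Finset.card_eq_sum_card_fiberwise (f := ty) (t := Finset.univ) (fun g _ => Finset.mem_univ _)]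
    refine Finset.sum_congr rfl fun i _ => ?_
    rw [Finset.filter_filter]
    by_cases hi : b i
    · rw [if_pos hi, ← hfib i]
      congr 1
      ext C
      simp only [Finset.mem_filter, Finset.mem_univ, true_and]
      exact ⟨fun e => e.2, fun e => ⟨(moved_iff hG h C).mpr (e ▸ hi), e⟩⟩
    · rw [if_neg hi, Finset.card_eq_zero, Finset.filter_eq_empty_iff]
      rintro C - ⟨e1, e2⟩
      exact hi (e2 ▸ (moved_iff hG h C).mp e1)
  rw [← hmov, ← htot, ← Finset.card_univ]
  exact Finset.card_filter_add_card_filter_not _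

open Classical in
theorem equal_on_moved [Fintype (IrrCharacter G)] (hG : Nat.card G = 1004913) {k m : ℕ}
    (hk : k.Coprime (Nat.card G)) {b : Fin 5 → Bool} (hm : (∑ i, if b i then mult i else 0) = m)
    (hm1 : 1 < m) (h : ∀ j < m, 0 < j → Spec (k ^ j) b) :
    (Finset.univ.filter fun χ : IrrCharacter G => ¬ F k χ = χ).card = m ∧
      ∀ χ ψ : IrrCharacter G, ¬ F k χ = χ → ¬ F k ψ = ψ → (χ : G → ℂ) 1 = (ψ : G → ℂ) 1 := by
  have hk' : ∀ j, (k ^ j).Coprime (Nat.card G) := fun j => hk.pow_left j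
  have htot : Fintype.card (IrrCharacter G) = 145 := by
    rw [← Nat.card_eq_fintype_card]; exact irr_card hG
  have hfix : ∀ j, j < m → 0 < j →
      (Finset.univ.filter fun χ : IrrCharacter G => F (k ^ j) χ = χ).card + m = 145 := by
    intro j hj hj0; rw [← hm]; exact fixed_card hG (hk' j) (h j hj hj0)
  have hfix1 := hfix 1 hm1 one_pos
  simp only [pow_one] at hfix1
  have hcard : (Finset.univ.filter fun χ : IrrCharacter G => ¬ F k χ = χ).card = m := by
    have := Finset.card_filter_add_card_filter_not (s := (Finset.univ : Finset (IrrCharacter G)))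
      (fun χ : IrrCharacter G => F k χ = χ)
    rw [Finset.card_univ, htot] at this
    omega
  have hfixsub : ∀ j, ∀ χ : IrrCharacter G, F k χ = χ → F (k ^ j) χ = χ := by
    intro j χ hχ
    induction j with
    | zero => exact Subtype.ext (funext fun g => by rw [F_apply (hk' 0), pow_zero, pow_one])
    | succ j ih => rw [pow_succ, F_mul (hk' j) hk, hχ, ih]
  have hfree : ∀ j, j < m → 0 < j → ∀ χ : IrrCharacter G, F (k ^ j) χ = χ → F k χ = χ := by
    intro j hj hj0 χ hχ
    have heq : (Finset.univ.filter fun χ : IrrCharacter G => F k χ = χ) =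
        Finset.univ.filter fun χ : IrrCharacter G => F (k ^ j) χ = χ := by
      refine Finset.eq_of_subset_of_card_le (fun ψ hψ => ?_) (by have := hfix j hj hj0; omega)
      simp only [Finset.mem_filter, Finset.mem_univ, true_and] at hψ ⊢
      exact hfixsub j ψ hψ
    have : χ ∈ Finset.univ.filter fun χ : IrrCharacter G => F k χ = χ := heq ▸ by simpa using hχ
    simpa using this
  refine ⟨hcard, fun χ ψ hχ hψ => ?_⟩
  have hmoved : ∀ j, ¬ F k (F (k ^ j) χ) = F (k ^ j) χ := by
    intro j e
    refine hχ (F_injective (hk' j) ?_)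
    rw [← F_mul (hk' j) hk, mul_comm, F_mul hk (hk' j), e]
  have hinj : ∀ i j, i < j → j < m → F (k ^ i) χ ≠ F (k ^ j) χ := by
    intro i j hij hj e
    refine hmoved i (hfree (j - i) (by omega) (by omega) _ ?_)
    rw [← F_mul (hk' _) (hk' i), ← pow_add, Nat.sub_add_cancel hij.le, ← e]
  have himg : (Finset.range m).image (fun j => F (k ^ j) χ) =
      Finset.univ.filter fun χ : IrrCharacter G => ¬ F k χ = χ := by
    refine Finset.eq_of_subset_of_card_le ?_ ?_
    · intro φ hφ
      obtain ⟨j, -, rfl⟩ := Finset.mem_image.mp hφ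
      simpa using hmoved j
    · rw [hcard, Finset.card_image_of_injOn, Finset.card_range]
      intro i hi j hj e
      simp only [Finset.coe_range, Set.mem_Iio] at hi hj
      rcases lt_trichotomy i j with l | l | l
      · exact absurd e (hinj i j l hj)
      · exact l
      · exact absurd e.symm (hinj j i l hi)
  have : ψ ∈ (Finset.range m).image (fun j => F (k ^ j) χ) := himg ▸ by simpa using hψ
  obtain ⟨j, -, rfl⟩ := Finset.mem_image.mp this
  rw [F_apply (hk' j), one_pow]

theorem degree_one_trivial (hG : Nat.card G = 1004913) (χ : IrrCharacter G)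
    (h1 : (χ : G → ℂ) 1 = 1) : ∀ g, (χ : G → ℂ) g = 1 := by
  obtain ⟨l, hl⟩ := Char.linearHom_of_isCharacter (Char.IsIrr.isCharacter χ.2) h1
  rcases IsSimpleGroup.eq_bot_or_eq_top_of_normal _ (MonoidHom.normal_ker l) with hb | ht
  · have hinj := (MonoidHom.ker_eq_bot_iff l).mp hb
    exact absurd ⟨⟨fun a b => hinj (by rw [map_mul, map_mul, mul_comm])⟩⟩ (not_comm hG)
  · intro g
    have : l g = 1 := MonoidHom.mem_ker.mp (ht ▸ Subgroup.mem_top g)
    rw [hl]; simp [this]

theorem main (hG : Nat.card G = 1004913) : False := by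
  classical
  haveI : Fintype (IrrCharacter G) := Fintype.ofFinite _
  haveI := Fintype.ofFinite G
  let b : Fin 4 → Fin 5 → Bool := fun i j => decide ((j : ℕ) = i + 1)
  let k : Fin 4 → ℕ := ![351352, 695710, 430678, 148877]
  let m : Fin 4 → ℕ := ![136, 4, 2, 2]
  have hk : ∀ i, (k i).Coprime (Nat.card G) := by
    intro i; rw [hG]; fin_cases i <;> norm_num [k]
  have hm : ∀ i, (∑ j, if b i j then mult j else 0) = m i := by decide
  have hspec : ∀ i, ∀ j < m i, 0 < j → Spec (k i ^ j) (b i) := by decide +kernel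
  have hm1 : ∀ i, 1 < m i := by decide
  have hM := fun i => equal_on_moved hG (hk i) (hm i) (hm1 i) (hspec i)
  set M : Fin 4 → Finset (IrrCharacter G) :=
    fun i => Finset.univ.filter fun χ => ¬ F (k i) χ = χ with hMdef
  have hpair : ∀ i l, i ≠ l → Spec (k i * k l) (fun j => b i j || b l j) := by decide +kernel
  have hpair_sum : ∀ i l, i ≠ l →
      (∑ j, if (b i j || b l j) then mult j else 0) = m i + m l := by decide
  have htot : Fintype.card (IrrCharacter G) = 145 := by
    rw [← Nat.card_eq_fintype_card]; exact irr_card hG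
  have hMc : ∀ i, (M i).card = m i := fun i => by convert (hM i).1
  have hdisj : ∀ i l, i ≠ l → Disjoint (M i) (M l) := by
    intro i l hil
    have hf' := fixed_card hG ((hk i).mul_left (hk l)) (hpair i l hil)
    rw [hpair_sum i l hil] at hf'
    have hf : (Finset.univ.filter fun χ : IrrCharacter G => F (k i * k l) χ = χ).card +
        (m i + m l) = 145 := by convert hf'
    have hsub : (M i ∪ M l)ᶜ ⊆ Finset.univ.filter fun χ : IrrCharacter G => F (k i * k l) χ = χ := by
      intro χ hχ
      simp only [hMdef, Finset.mem_compl, Finset.mem_union, Finset.mem_filter, Finset.mem_univ,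
        true_and, not_or, not_not] at hχ ⊢
      rw [F_mul (hk i) (hk l), hχ.2, hχ.1]
    have h1 := Finset.card_le_card hsub
    rw [Finset.card_compl, htot] at h1
    have h2 := Finset.card_union_add_card_inter (M i) (M l)
    have h3 : (M i).card = m i := hMc i
    have h4 : (M l).card = m l := hMc l
    rw [Finset.disjoint_iff_inter_eq_empty, ← Finset.card_eq_zero]
    omega
  let one : IrrCharacter G := ⟨fun _ => 1, Char.isIrr_one⟩
  have hone : ∀ i, one ∉ M i := fun i => by
    simp only [hMdef, Finset.mem_filter, Finset.mem_univ, true_and, not_not]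
    exact Subtype.ext (funext fun g => by rw [F_apply (hk i)])
  set U := Finset.univ.biUnion M with hUdef
  have hUc : U.card = 144 := by
    rw [hUdef, Finset.card_biUnion (fun i _ l _ hil => hdisj i l hil),
      Finset.sum_congr rfl fun i _ => hMc i]
    decide
  have hUe : U = Finset.univ.erase one := by
    refine Finset.eq_of_subset_of_card_le (fun χ hχ => ?_) ?_
    · obtain ⟨i, -, hi⟩ := Finset.mem_biUnion.mp hχ
      exact Finset.mem_erase.mpr ⟨fun e => hone i (e ▸ hi), Finset.mem_univ _⟩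
    · rw [Finset.card_erase_of_mem (Finset.mem_univ _), Finset.card_univ, htot, hUc]
  have hdeg : ∀ i, ∃ d : ℕ, d ∣ 1004913 ∧ d ≠ 1 ∧ ∀ χ ∈ M i, (χ : G → ℂ) 1 = d := by
    intro i
    obtain ⟨χ, hχ⟩ : (M i).Nonempty := Finset.card_pos.mp (by rw [hMc i]; exact (hm1 i).trans' one_pos)
    obtain ⟨d, hd⟩ := Char.IsChar.one_eq_nat (Char.IsIrr.isCharacter χ.2)
    refine ⟨d, hG ▸ Char.IsIrr.degree_dvd_card χ.2 hd, fun e => ?_, fun ψ hψ => ?_⟩
    · refine hone i ?_
      have : χ = one := Subtype.ext (funext fun g => degree_one_trivial hG χ (by simp [hd, e]) g)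
      exact this ▸ hχ
    · rw [← hd]
      exact (hM i).2 ψ χ (Finset.mem_filter.mp hψ).2 (Finset.mem_filter.mp hχ).2
  choose d hd1 hd2 hd3 using hdeg
  have hsum : 1 + ∑ i, m i * d i ^ 2 = 1004913 := by
    have h : ∑ χ : IrrCharacter G, (χ : G → ℂ) 1 ^ 2 = (Nat.card G : ℂ) := by
      convert Char.sum_degree_sq (G := G)
    rw [← Finset.add_sum_erase _ _ (Finset.mem_univ one), ← hUe, hUdef,
      Finset.sum_biUnion (fun i _ l _ hil => hdisj i l hil)] at h
    have e : ∀ i, ∑ χ ∈ M i, (χ : G → ℂ) 1 ^ 2 = ((m i * d i ^ 2 : ℕ) : ℂ) := by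
      intro i
      rw [Finset.sum_congr rfl fun χ hχ => by rw [hd3 i χ hχ], Finset.sum_const, hMc i]
      simp
    rw [Finset.sum_congr rfl fun i _ => e i, hG] at h
    simp only [one, one_pow] at h
    exact_mod_cast h
  simp only [Fin.sum_univ_four, m, Matrix.cons_val_zero, Matrix.cons_val_one, Matrix.cons_val,
    sq] at hsum
  have q0 := deg_cases (hd1 0) (hd2 0) (by nlinarith)
  have q1 := deg_cases (hd1 1) (hd2 1) (by nlinarith)
  have q2 := deg_cases (hd1 2) (hd2 2) (by nlinarith)
  have q3 := deg_cases (hd1 3) (hd2 3) (by nlinarith)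
  exact no_solution _ q0 (by nlinarith) _ q1 _ q2 _ q3 (by linarith)

end Cfsg.Agent.Block.Suzuki1004913
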