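import Cfsg.Agent.Lib.Block.SmallIndex
import Cfsg.Agent.Lib.Block.Residue

/-!
Simple groups of order 168: Sylow numbers, centralizers and element orders.
-/

set_option autoImplicit false

namespace Cfsg.Agent.Block

universe u

variable {G : Type u} [Group G] [Finite G] [IsSimpleGroup G]

theorem o168_not_comm (h : Nat.card G = 168) : ¬ IsMulCommutative G :=
  small_not_comm (by rw [h]; norm_num)

/-- Burnside transfer in a non-abelian simple group. -/
theorem small_no_burnside (hG : ¬ IsMulCommutative G) {p : ℕ} [Fact p.Prime] (P : Sylow p G)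
    (hd : p ∣ Nat.card G) :
    ¬ Subgroup.normalizer ((P : Subgroup G) : Set G) ≤ Subgroup.centralizer ((P : Subgroup G) : Set G) :=
  fun hP => Cfsg.Agent.Fus.simple_no_complement hG hd
    ⟨P, _, inferInstance, MonoidHom.ker_transferSylow_isComplement' P hP⟩

theorem o168_seven (h : Nat.card G = 168) (P : Sylow 7 G) :
    Nat.card (P : Subgroup G) = 7 ∧ Nat.card (Sylow 7 G) = 8 ∧
      Nat.card (Subgroup.normalizer ((P : Subgroup G) : Set G)) = 21 ∧
      Subgroup.centralizer ((P : Subgroup G) : Set G) = (P : Subgroup G) := by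
  classical
  haveI := Fact.mk (show Nat.Prime 7 by norm_num)
  have hG := o168_not_comm h
  have hP : Nat.card (P : Subgroup G) = 7 := by
    rw [P.card_eq_multiplicity, h, show (168 : ℕ) = 7 ^ 1 * 24 by norm_num,
      Nat.factorization_mul (by norm_num) (by norm_num), Finsupp.add_apply,
      Nat.Prime.factorization_pow (by norm_num), Finsupp.single_eq_same,
      Nat.factorization_eq_zero_of_not_dvd (by norm_num : ¬ 7 ∣ 24), add_zero, pow_one]
  obtain ⟨k, hk, hn, hkd, -, hN, -⟩ := small_sylow_number hG P (a := 1) (m := 24)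
    (by rw [h]; norm_num) one_ne_zero
  have hk3 := Nat.le_of_dvd (by norm_num) hkd
  have hk1 : k = 1 := by
    have : k ≤ 3 := by omega
    interval_cases k <;> simp_all <;> omega
  subst hk1
  rw [h] at hN
  have hN21 : Nat.card (Subgroup.normalizer ((P : Subgroup G) : Set G)) = 21 := by omega
  refine ⟨hP, hn, hN21, ?_⟩
  haveI : IsCyclic (P : Subgroup G) := isCyclic_of_prime_card hP
  have hle : (P : Subgroup G) ≤ Subgroup.centralizer ((P : Subgroup G) : Set G) := by
    intro a ha b hb
    let _ := IsCyclic.commGroup (α := (P : Subgroup G))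
    exact congrArg Subtype.val (mul_comm (⟨b, hb⟩ : (P : Subgroup G)) ⟨a, ha⟩)
  have hC : Subgroup.centralizer ((P : Subgroup G) : Set G) ≤
      Subgroup.normalizer ((P : Subgroup G) : Set G) :=
    Subgroup.centralizer_le_normalizer ((P : Subgroup G) : Set G)
  have h1 := Subgroup.card_dvd_of_le hle
  have h2 := Subgroup.card_dvd_of_le hC
  rw [hP] at h1
  rw [hN21] at h2
  obtain ⟨m, hm⟩ := h1
  rw [hm, show (21 : ℕ) = 7 * 3 by norm_num] at h2
  rcases (Nat.dvd_prime (by norm_num : Nat.Prime 3)).1 (Nat.dvd_of_mul_dvd_mul_left (by norm_num) h2) with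
    rfl | rfl
  · exact (Subgroup.eq_of_le_of_card_ge hle (by omega)).symm
  · exfalso
    refine small_no_burnside hG P (by rw [h]; norm_num) ?_
    rw [Subgroup.eq_of_le_of_card_ge hC (by omega)]

/-- The normalizer of an element of order three fixing two points. -/
theorem o168_three (h : Nat.card G = 168) (P : Sylow 3 G) :
    Nat.card (P : Subgroup G) = 3 ∧ Nat.card (Sylow 3 G) = 28 ∧
      Nat.card (Subgroup.normalizer ((P : Subgroup G) : Set G)) = 6 ∧
      Subgroup.centralizer ((P : Subgroup G) : Set G) = (P : Subgroup G) := by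
  classical
  haveI := Fact.mk (show Nat.Prime 3 by norm_num)
  haveI := Fact.mk (show Nat.Prime 7 by norm_num)
  have hG := o168_not_comm h
  have hP : Nat.card (P : Subgroup G) = 3 := by
    rw [P.card_eq_multiplicity, h, show (168 : ℕ) = 3 ^ 1 * 56 by norm_num,
      Nat.factorization_mul (by norm_num) (by norm_num), Finsupp.add_apply,
      Nat.Prime.factorization_pow (by norm_num), Finsupp.single_eq_same,
      Nat.factorization_eq_zero_of_not_dvd (by norm_num : ¬ 3 ∣ 56), add_zero, pow_one]
  obtain ⟨k, hk, hn, hkd, -, hN, hfac⟩ := small_sylow_number hG P (a := 1) (m := 56)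
    (by rw [h]; norm_num) one_ne_zero
  obtain ⟨S⟩ : Nonempty (Sylow 7 G) := inferInstance
  obtain ⟨-, hS8, hS21, hSC⟩ := o168_seven h S
  obtain ⟨hS7, -⟩ := o168_seven h S
  set NS := Subgroup.normalizer ((S : Subgroup G) : Set G) with hNS
  -- an element of order three fixing `S`
  obtain ⟨g, hg⟩ := exists_prime_orderOf_dvd_card' (G := NS) 3 (by rw [hS21]; norm_num)
  have hg' : orderOf (g : G) = 3 := by rw [Subgroup.orderOf_coe, hg]
  let Z := Subgroup.zpowers (g : G)
  have hZc : Nat.card Z = 3 := by rw [Nat.card_zpowers, hg']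
  have hstab : ∀ (R : Sylow 7 G) (x : G), x • R = R ↔
      x ∈ Subgroup.normalizer ((R : Subgroup G) : Set G) := fun R x => Sylow.smul_eq_iff_mem_normalizer
  -- a second fixed Sylow subgroup
  have hfix : ∃ R : Sylow 7 G, R ≠ S ∧ (g : G) • R = R := by
    by_contra hno
    push Not at hno
    have hp3 : IsPGroup 3 Z := IsPGroup.of_card (n := 1) (by rw [hZc, pow_one])
    have h1 := hp3.card_modEq_card_fixedPoints (Sylow 7 G)
    rw [hS8] at h1
    have h2 : MulAction.fixedPoints Z (Sylow 7 G) = {S} := by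
      ext R
      simp only [Set.mem_singleton_iff]
      constructor
      · intro hR
        by_contra hne
        exact hno R hne (hR ⟨(g : G), Subgroup.mem_zpowers _⟩)
      · rintro rfl ⟨u, hu⟩
        show u • R = R
        rw [hstab]
        exact (Subgroup.zpowers_le.2 g.2) hu
    rw [h2] at h1
    simp [Nat.ModEq] at h1
  obtain ⟨R, hRS, hgR⟩ := hfix
  obtain ⟨hR7, -, hR21, -⟩ := o168_seven h R
  set H := NS ⊓ Subgroup.normalizer ((R : Subgroup G) : Set G) with hH
  have hH3 : H = Z := by
    refine (Subgroup.eq_of_le_of_card_ge (Subgroup.zpowers_le.2 (Subgroup.mem_inf.2 ⟨g.2, (hstab R _).1 hgR⟩)) ?_).symm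
    rw [hZc]
    have h1 : Nat.card H ∣ 21 := hS21 ▸ Subgroup.card_dvd_of_le inf_le_left
    have h2 : ¬ 7 ∣ Nat.card H := by
      intro h7
      obtain ⟨x, hx⟩ := exists_prime_orderOf_dvd_card' (G := H) 7 h7
      have hx' : orderOf (x : G) = 7 := by rw [Subgroup.orderOf_coe, hx]
      have key : ∀ T : Sylow 7 G, (x : G) ∈ Subgroup.normalizer ((T : Subgroup G) : Set G) →
          Nat.card (T : Subgroup G) = 7 → (T : Subgroup G) = Subgroup.zpowers (x : G) := by
        intro T hT hT7
        have hz : IsPGroup 7 (Subgroup.zpowers (x : G)) :=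
          IsPGroup.of_card (n := 1) (by rw [Nat.card_zpowers, hx', pow_one])
        have h3 := T.is_maximal' (hz.to_sup_of_normal_right' T.isPGroup' (Subgroup.zpowers_le.2 hT))
          le_sup_right
        refine (Subgroup.eq_of_le_of_card_ge (h3 ▸ le_sup_left) ?_).symm
        rw [Nat.card_zpowers, hx', hT7]
      exact hRS (Sylow.ext ((key R x.2.2 hR7).trans (key S x.2.1 hS7).symm))
    rcases (Nat.dvd_prime_pow (show Nat.Prime 3 by norm_num) (m := 1)).1 (by
      refine Nat.Coprime.dvd_of_dvd_mul_left (k := Nat.card H) (m := 7) ?_ (by simpa using h1)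
      exact ((Nat.Prime.coprime_iff_not_dvd (by norm_num)).2 h2).symm) with ⟨i, hi, hi'⟩
    interval_cases i <;> simp_all
  -- only two fixed Sylow subgroups
  have honly : ∀ T : Sylow 7 G, (g : G) • T = T → T = S ∨ T = R := by
    intro T hgT
    by_contra hne
    push Not at hne
    have hp7 : IsPGroup 7 (S : Subgroup G) := S.isPGroup'
    have horb : ∀ Q : Sylow 7 G, Q ≠ S → Nat.card (MulAction.orbit (S : Subgroup G) Q) = 7 := by
      intro Q hQ
      obtain ⟨n, hn⟩ := hp7.card_orbit Q
      have h1 := Nat.card_congr (MulAction.orbitProdStabilizerEquivGroup (S : Subgroup G) Q)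
      rw [Nat.card_prod, hS7, hn] at h1
      rcases n with _ | n
      · exfalso
        apply hQ
        obtain ⟨hQ7, -⟩ := o168_seven h Q
        have hle : (S : Subgroup G) ≤ Subgroup.normalizer ((Q : Subgroup G) : Set G) := by
          intro x hx
          rw [← hstab]
          have hsub : Subsingleton (MulAction.orbit (S : Subgroup G) Q) :=
            (Nat.card_eq_one_iff_unique.1 (hn.trans (pow_zero 7))).1
          exact congrArg Subtype.val (hsub.elim
            (⟨_, MulAction.mem_orbit Q (⟨x, hx⟩ : (S : Subgroup G))⟩ : MulAction.orbit (S : Subgroup G) Q)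
            ⟨Q, MulAction.mem_orbit_self Q⟩)
        have h3 := Q.is_maximal' (hp7.to_sup_of_normal_right' Q.isPGroup' hle) le_sup_right
        exact Sylow.ext (Subgroup.eq_of_le_of_card_ge (h3 ▸ le_sup_left) (by rw [hS7, hQ7])).symm
      · have : n = 0 := by
          by_contra hn0
          have h4 : 7 ^ 2 ≤ 7 ^ (n + 1) := Nat.pow_le_pow_right (by norm_num) (by omega)
          have h5 : 7 ^ (n + 1) ∣ 7 := ⟨_, h1.symm⟩
          have := Nat.le_of_dvd (by norm_num) h5
          omega
        rw [hn, this]; norm_num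
    have huniv : MulAction.orbit (S : Subgroup G) R = {Q | Q ≠ S} := by
      refine Set.eq_of_subset_of_ncard_le ?_ ?_
      · rintro Q ⟨u, rfl⟩ hQ
        apply hRS
        have h1 : u⁻¹ • S = S := by
          show ((u⁻¹ : (S : Subgroup G)) : G) • S = S
          rw [hstab]
          exact Subgroup.le_normalizer (u⁻¹).2
        calc R = u⁻¹ • (u • R) := (inv_smul_smul u R).symm
          _ = u⁻¹ • S := by rw [show u • R = S from hQ]
          _ = S := h1
      · rw [← Nat.card_coe_set_eq (MulAction.orbit _ _), horb R hRS,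
          show {Q : Sylow 7 G | Q ≠ S} = ({S} : Set (Sylow 7 G))ᶜ from rfl, Set.ncard_compl,
          Set.ncard_singleton, hS8]
    obtain ⟨⟨u, hu⟩, huT⟩ : T ∈ MulAction.orbit (S : Subgroup G) R := huniv ▸ hne.1
    have huN : u ∈ NS := Subgroup.le_normalizer hu
    have hmem : u⁻¹ * g * u ∈ H := by
      refine ⟨NS.mul_mem (NS.mul_mem (NS.inv_mem huN) g.2) huN, (hstab R _).1 ?_⟩
      rw [mul_smul, mul_smul, show u • R = T from huT, hgT, ← show u • R = T from huT, inv_smul_smul]
    rw [hH3] at hmem
    have h2 : (g : G)⁻¹ * (u⁻¹ * g * u) ∈ (S : Subgroup G) := by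
      have h3 : (g : G)⁻¹ * u⁻¹ * g ∈ (S : Subgroup G) := by
        have h4 := (Subgroup.mem_normalizer_iff.1 (NS.inv_mem g.2) u⁻¹).1 (inv_mem hu)
        simpa using h4
      simpa [mul_assoc] using mul_mem h3 hu
    have h4 : (g : G)⁻¹ * (u⁻¹ * g * u) = 1 := by
      have h5 : (g : G)⁻¹ * (u⁻¹ * g * u) ∈ Z :=
        Z.mul_mem (Z.inv_mem (Subgroup.mem_zpowers _)) hmem
      have h6 : orderOf ((g : G)⁻¹ * (u⁻¹ * g * u)) ∣ 1 := by
        have a := orderOf_dvd_natCard (⟨_, h5⟩ : Z)
        have b := orderOf_dvd_natCard (⟨_, h2⟩ : (S : Subgroup G))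
        rw [Subgroup.orderOf_mk, hZc] at a
        rw [Subgroup.orderOf_mk, hS7] at b
        exact Nat.dvd_gcd a b
      exact orderOf_eq_one_iff.1 (Nat.dvd_one.1 h6)
    have hcomm : (g : G) * u = u * g := by
      rw [inv_mul_eq_one] at h4
      conv_rhs => rw [h4]
      group
    have hu1 : u ≠ 1 := by
      rintro rfl
      exact hne.2 (by rw [← huT]; exact one_smul _ _)
    apply hne.1
    exfalso
    -- `g` would centralize `S`
    have hgen : Subgroup.zpowers u = (S : Subgroup G) := by
      refine Subgroup.eq_of_le_of_card_ge (Subgroup.zpowers_le.2 hu) ?_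
      rw [hS7, Nat.card_zpowers]
      rcases (Nat.dvd_prime (by norm_num : Nat.Prime 7)).1
        (hS7 ▸ (Subgroup.orderOf_mk u hu ▸ orderOf_dvd_natCard (⟨u, hu⟩ : (S : Subgroup G)))) with e | e
      · exact absurd (orderOf_eq_one_iff.1 e) hu1
      · omega
    have hgC : (g : G) ∈ Subgroup.centralizer ((S : Subgroup G) : Set G) := by
      rw [← hgen]
      intro y hy
      obtain ⟨i, rfl⟩ := Subgroup.mem_zpowers_iff.1 hy
      exact ((show Commute (g : G) u from hcomm).zpow_right i).eq.symm
    rw [hSC] at hgC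
    have := (Subgroup.orderOf_mk (g : G) hgC ▸ orderOf_dvd_natCard (⟨g, hgC⟩ : (S : Subgroup G)))
    rw [hg', hS7] at this
    norm_num at this
  -- the normalizer of `Z` has order at most six
  have hNZ : Nat.card (Subgroup.normalizer (Z : Set G)) ≤ 6 := by
    set M := Subgroup.normalizer (Z : Set G)
    have h1 := Nat.card_congr (MulAction.orbitProdStabilizerEquivGroup M S)
    rw [Nat.card_prod] at h1
    have hfixm : ∀ m : M, ∀ T : Sylow 7 G, (g : G) • T = T → (g : G) • ((m : G) • T) = (m : G) • T := by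
      intro m T hT
      have h3 : (m : G)⁻¹ * g * m ∈ Z := by
        have := (Subgroup.mem_normalizer_iff.1 (M.inv_mem m.2) g).1 (Subgroup.mem_zpowers _)
        simpa using this
      have hT' : (m : G)⁻¹ * g * m ∈ MulAction.stabilizer G T := Subgroup.zpowers_le.2 hT h3
      calc (g : G) • (m : G) • T = (m : G) • ((m : G)⁻¹ * g * m) • T := by simp [mul_smul]
        _ = (m : G) • T := by rw [MulAction.mem_stabilizer_iff.1 hT']
    have h2 : Nat.card (MulAction.orbit M S) ≤ 2 := by
      rw [Nat.card_coe_set_eq]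
      refine (Set.ncard_le_ncard (t := {S, R}) ?_ (Set.toFinite _)).trans (Set.ncard_pair hRS.symm).le
      rintro T ⟨m, rfl⟩
      exact honly _ (hfixm m S ((hstab S _).2 g.2))
    have h3 : Nat.card (MulAction.stabilizer M S) ≤ 3 := by
      rw [← hZc]
      refine Nat.card_le_card_of_injective (fun m => ⟨((m : M) : G), ?_⟩)
        (fun m m' hmm => Subtype.ext (Subtype.ext (congrArg Subtype.val hmm :)))
      rw [← hH3]
      refine ⟨(hstab S _).1 m.2, (hstab R _).1 ?_⟩
      rcases honly _ (hfixm m.1 R hgR) with e | e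
      · exact absurd (smul_left_cancel ((m : M) : G) (e.trans (show ((m : M) : G) • S = S from m.2).symm)) hRS
      · exact e
    exact h1 ▸ (Nat.mul_le_mul h2 h3)
  -- transfer to `P`
  obtain ⟨T, hT⟩ := (IsPGroup.of_card (n := 1) (by rw [hZc, pow_one]) : IsPGroup 3 Z).exists_le_sylow
  have hTc : Nat.card (T : Subgroup G) = 3 := by rw [T.card_eq_multiplicity, ← P.card_eq_multiplicity, hP]
  have hTZ : (T : Subgroup G) = Z := (Subgroup.eq_of_le_of_card_ge hT (by rw [hZc, hTc])).symm
  have hNP : Nat.card (Subgroup.normalizer ((P : Subgroup G) : Set G)) ≤ 6 := by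
    have h1 : Nat.card (Sylow 3 G) = (Subgroup.normalizer ((P : Subgroup G) : Set G)).index :=
      Sylow.card_eq_index_normalizer P
    have h2 : Nat.card (Sylow 3 G) = (Subgroup.normalizer ((T : Subgroup G) : Set G)).index :=
      Sylow.card_eq_index_normalizer T
    have h3 : Nat.card (Subgroup.normalizer ((P : Subgroup G) : Set G)) =
        Nat.card (Subgroup.normalizer ((T : Subgroup G) : Set G)) := by
      refine Nat.eq_of_mul_eq_mul_right (m := Nat.card (Sylow 3 G)) Nat.card_pos ?_
      conv_lhs => rw [h1, Subgroup.card_mul_index]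
      rw [h2, Subgroup.card_mul_index]
    rw [h3, hTZ]
    exact hNZ
  rw [h] at hN
  have hk28 : k = 9 := by
    have := Nat.le_of_dvd (by norm_num) hkd
    have : 6 * (3 * k + 1) ≥ 168 := by rw [← hN]; exact Nat.mul_le_mul_right _ hNP
    have : k ≤ 18 := by omega
    interval_cases k <;> omega
  subst hk28
  have hN6 : Nat.card (Subgroup.normalizer ((P : Subgroup G) : Set G)) = 6 := by omega
  refine ⟨hP, hn, hN6, ?_⟩
  haveI : IsCyclic (P : Subgroup G) := isCyclic_of_prime_card hP
  have hle : (P : Subgroup G) ≤ Subgroup.centralizer ((P : Subgroup G) : Set G) := by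
    intro a ha b hb
    let _ := IsCyclic.commGroup (α := (P : Subgroup G))
    exact congrArg Subtype.val (mul_comm (⟨b, hb⟩ : (P : Subgroup G)) ⟨a, ha⟩)
  have hC : Subgroup.centralizer ((P : Subgroup G) : Set G) ≤
      Subgroup.normalizer ((P : Subgroup G) : Set G) :=
    Subgroup.centralizer_le_normalizer ((P : Subgroup G) : Set G)
  have h1 := Subgroup.card_dvd_of_le hle
  have h2 := Subgroup.card_dvd_of_le hC
  rw [hP] at h1
  rw [hN6] at h2
  obtain ⟨m, hm⟩ := h1
  rw [hm, show (6 : ℕ) = 3 * 2 by norm_num] at h2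
  rcases (Nat.dvd_prime Nat.prime_two).1 (Nat.dvd_of_mul_dvd_mul_left (by norm_num) h2) with rfl | rfl
  · exact (Subgroup.eq_of_le_of_card_ge hle (by omega)).symm
  · exfalso
    refine small_no_burnside hG P (by rw [h]; norm_num) ?_
    rw [Subgroup.eq_of_le_of_card_ge hC (by omega)]

end Cfsg.Agent.Block
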