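import Cfsg.Agent.Lib.Block.Order168Classes

/-!
Simple groups of order 168: the Sylow 2-subgroup is dihedral.
-/

set_option autoImplicit false

namespace Cfsg.Agent.Block

universe u

variable {G : Type u} [Group G] [Finite G] [IsSimpleGroup G]

/-- A subgroup of a group of order 8 containing five elements is everything. -/
theorem o168_comm_of_five {T : Subgroup G} (hT : Nat.card T = 8) {z z' : G} (hz : z ∈ T) (hz' : z' ∈ T)
    (hne : z ≠ z') (h1 : z ≠ 1) (h1' : z' ≠ 1) (hsq : z * z = 1) (hsq' : z' * z' = 1)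
    (hc : ∀ t ∈ T, t * z = z * t) (hc' : ∀ t ∈ T, t * z' = z' * t) :
    ∀ a ∈ T, ∀ b ∈ T, a * b = b * a := by
  classical
  have := Fintype.ofFinite G
  intro a ha b hb
  let V : Finset G := {1, z, z', z * z'}
  by_cases haV : a ∈ V
  · simp only [V, Finset.mem_insert, Finset.mem_singleton] at haV
    rcases haV with rfl | rfl | rfl | rfl
    · simp
    · exact (hc b hb).symm
    · exact (hc' b hb).symm
    · rw [mul_assoc, ← hc' b hb, ← mul_assoc, ← hc b hb, mul_assoc]
  · have hVc : V.card = 4 := by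
      have e1 : z * z' ≠ 1 := fun e => hne ((eq_inv_of_mul_eq_one_left e).trans
        (eq_inv_of_mul_eq_one_left hsq').symm)
      have e2 : z * z' ≠ z := fun e => h1' (by simpa using e)
      have e3 : z * z' ≠ z' := fun e => h1 (by simpa using e)
      simp [V, hne, h1.symm, h1'.symm, e1.symm, e2.symm, e3.symm]
    set C := Subgroup.centralizer ({a} : Set G) ⊓ T
    have hsub : (insert a V) ⊆ Finset.univ.filter (fun x => x ∈ C) := by
      intro x hx
      rw [Finset.mem_filter]
      refine ⟨Finset.mem_univ _, ?_⟩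
      simp only [V, Finset.mem_insert, Finset.mem_singleton] at hx
      rcases hx with rfl | rfl | rfl | rfl | rfl
      · exact ⟨Subgroup.mem_centralizer_singleton_iff.2 rfl, ha⟩
      · exact one_mem _
      · exact ⟨Subgroup.mem_centralizer_singleton_iff.2 (hc a ha).symm, hz⟩
      · exact ⟨Subgroup.mem_centralizer_singleton_iff.2 (hc' a ha).symm, hz'⟩
      · exact ⟨Subgroup.mul_mem _ (Subgroup.mem_centralizer_singleton_iff.2 (hc a ha).symm)
          (Subgroup.mem_centralizer_singleton_iff.2 (hc' a ha).symm), mul_mem hz hz'⟩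
    have h5 := Finset.card_le_card hsub
    rw [Finset.card_insert_of_notMem haV, hVc, ← Fintype.card_subtype, ← Nat.card_eq_fintype_card] at h5
    have h3 : Nat.card C ∣ Nat.card T := Subgroup.card_dvd_of_le inf_le_right
    rw [hT] at h3
    have h6 := Nat.le_of_dvd (by norm_num) h3
    have h7 : 5 ≤ Nat.card C := h5
    have hCT : C = T := Subgroup.eq_of_le_of_card_ge inf_le_right (by
      rw [hT]
      generalize Nat.card C = n at *
      interval_cases n <;> omega)
    have hbC : b ∈ C := hCT ▸ hb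
    exact (Subgroup.mem_centralizer_singleton_iff.1 hbC.1).symm

theorem o168_central_unique (h : Nat.card G = 168) (T : Sylow 2 G) {z z' : G}
    (hz : z ∈ (T : Subgroup G)) (hz1 : z ≠ 1) (hzc : ∀ t ∈ (T : Subgroup G), t * z = z * t)
    (hz' : z' ∈ (T : Subgroup G)) (hz1' : z' ≠ 1) (hzc' : ∀ t ∈ (T : Subgroup G), t * z' = z' * t) :
    z = z' := by
  by_contra hne
  obtain ⟨hT8, -, hTN⟩ := o168_two h T
  have e1 := (o168_central h T hz hz1 hzc).1
  have e2 := (o168_central h T hz' hz1' hzc').1
  refine o168_commutative_false h T hTN (o168_comm_of_five hT8 hz hz' hne hz1 hz1' ?_ ?_ hzc hzc')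
  · rw [← pow_two, ← e1]; exact pow_orderOf_eq_one z
  · rw [← pow_two, ← e2]; exact pow_orderOf_eq_one z'

/-- The square of an element of order 4 of the Sylow subgroup is central. -/
theorem o168_sq_central (h : Nat.card G = 168) (T : Sylow 2 G) {f : G} (hf : f ∈ (T : Subgroup G))
    (hf4 : orderOf f = 4) :
    f * f ∈ (T : Subgroup G) ∧ f * f ≠ 1 ∧ ∀ t ∈ (T : Subgroup G), t * (f * f) = (f * f) * t := by
  haveI := Fact.mk Nat.prime_two
  obtain ⟨hT8, -⟩ := o168_two h T
  refine ⟨mul_mem hf hf, fun e => ?_, fun t ht => ?_⟩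
  · rw [← pow_two] at e
    have := orderOf_dvd_of_pow_eq_one e
    rw [hf4] at this
    norm_num at this
  · -- the subgroup generated by `f` has index two
    set U := (Subgroup.zpowers f).subgroupOf (T : Subgroup G)
    have hU : U.index = 2 := by
      have h1 := U.card_mul_index
      rw [Nat.card_congr (Subgroup.subgroupOfEquivOfLe (Subgroup.zpowers_le.2 hf)).toEquiv,
        Nat.card_zpowers, hf4, hT8] at h1
      omega
    have hn : U.Normal := Subgroup.normal_of_index_eq_two hU
    have h1 : (⟨t, ht⟩ : (T : Subgroup G)) * ⟨f, hf⟩ * (⟨t, ht⟩)⁻¹ ∈ U :=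
      hn.conj_mem _ (Subgroup.mem_subgroupOf.2 (Subgroup.mem_zpowers f)) _
    obtain ⟨i, hi⟩ := Subgroup.mem_zpowers_iff.1 (Subgroup.mem_subgroupOf.1 h1)
    simp only [Subgroup.coe_mul, Subgroup.coe_inv] at hi
    have h2 : t * (f * f) * t⁻¹ = f ^ (2 * i) := by
      rw [show t * (f * f) * t⁻¹ = (t * f * t⁻¹) * (t * f * t⁻¹) by group, ← hi, ← zpow_add]
      congr 1; ring
    rw [← mul_inv_eq_iff_eq_mul, h2]
    have h4 : (f : G) ^ (4 : ℤ) = 1 := by
      rw [show (4 : ℤ) = ((4 : ℕ) : ℤ) from rfl, zpow_natCast, ← hf4, pow_orderOf_eq_one]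
    rcases Int.even_or_odd i with ⟨j, hj⟩ | ⟨j, hj⟩
    · exfalso
      -- then the conjugate of `f` would be a square
      have h5 : orderOf (t * f * t⁻¹) = 4 := by
        rw [← hf4]; exact ((SemiconjBy.conj_mk t f).orderOf_eq t).symm
      have h6 : (t * f * t⁻¹) ^ 2 = 1 := by
        rw [← hi, ← zpow_natCast, ← zpow_mul, show i * ((2 : ℕ) : ℤ) = 4 * j by rw [hj]; push_cast; ring,
          zpow_mul, h4, one_zpow]
      have := orderOf_dvd_of_pow_eq_one h6
      rw [h5] at this
      norm_num at this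
    · rw [show 2 * i = 4 * j + 2 by rw [hj]; ring, zpow_add, zpow_mul, h4, one_zpow, one_mul,
        zpow_two]

theorem o168_four_in_sylow (h : Nat.card G = 168) (T : Sylow 2 G) :
    Nat.card {f : G // f ∈ (T : Subgroup G) ∧ orderOf f = 4} = 2 := by
  classical
  have := Fintype.ofFinite G
  obtain ⟨z, hzT, hz1, hzc⟩ := o168_exists_central h T
  obtain ⟨hz2, hzC⟩ := o168_central h T hzT hz1 hzc
  obtain ⟨-, -, h2, h4, hconj, -⟩ := o168_two_classes h
  let O : ℕ → Finset G := fun n => Finset.univ.filter (fun g => orderOf g = n)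
  have hO : ∀ n, Nat.card {g : G // orderOf g = n} = (O n).card := fun n => by
    rw [Nat.card_eq_fintype_card, Fintype.card_subtype]
  rw [hO] at h2 h4
  have hmap : ∀ g ∈ O 4, g * g ∈ O 2 := by
    intro g hg
    rw [Finset.mem_filter] at hg ⊢
    refine ⟨Finset.mem_univ _, ?_⟩
    rw [← pow_two, orderOf_pow, hg.2]; norm_num
  have hsum := Finset.card_eq_sum_card_fiberwise hmap
  have hfib : ∀ i ∈ O 2, ((O 4).filter (fun g => g * g = i)).card =
      ((O 4).filter (fun g => g * g = z)).card := by
    intro i hi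
    obtain ⟨c, hc⟩ := isConj_iff.1 (hconj z i hz2 (Finset.mem_filter.1 hi).2)
    refine (Finset.card_equiv (MulAut.conj c).toEquiv fun g => ?_).symm
    simp only [Finset.mem_filter, Finset.mem_univ, true_and, O, MulEquiv.toEquiv_eq_coe,
      EquivLike.coe_coe, MulAut.conj_apply]
    rw [show orderOf (c * g * c⁻¹) = orderOf g from ((SemiconjBy.conj_mk c g).orderOf_eq c).symm,
      show (c * g * c⁻¹) * (c * g * c⁻¹) = c * (g * g) * c⁻¹ by group, ← hc]
    simp
  rw [Finset.sum_congr rfl hfib, Finset.sum_const, smul_eq_mul, h2, h4] at hsum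
  have he : Finset.univ.filter (fun f => f ∈ (T : Subgroup G) ∧ orderOf f = 4) =
      (O 4).filter (fun g => g * g = z) := by
    ext g
    simp only [Finset.mem_filter, Finset.mem_univ, true_and, O]
    constructor
    · rintro ⟨hg, hg4⟩
      obtain ⟨a, b, c⟩ := o168_sq_central h T hg hg4
      exact ⟨hg4, o168_central_unique h T a b c hzT hz1 hzc⟩
    · rintro ⟨hg4, hgz⟩
      refine ⟨?_, hg4⟩
      rw [← hzC, Subgroup.mem_centralizer_singleton_iff, ← hgz, mul_assoc]
  rw [Nat.card_eq_fintype_card, Fintype.card_subtype, he]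
  omega

theorem o168_dihedral (h : Nat.card G = 168) (T : Sylow 2 G) :
    Nonempty ((T : Subgroup G) ≃* DihedralGroup 4) := by
  classical
  have := Fintype.ofFinite G
  haveI := Fact.mk Nat.prime_two
  obtain ⟨hT8, -, hTN⟩ := o168_two h T
  have h4T := o168_four_in_sylow h T
  rw [Nat.card_eq_fintype_card, Fintype.card_subtype, Finset.card_eq_two] at h4T
  obtain ⟨f, f', hff, hset⟩ := h4T
  have hmem : ∀ g, g ∈ (T : Subgroup G) → orderOf g = 4 → g = f ∨ g = f' := fun g h1 h2 => by
    have : g ∈ ({f, f'} : Finset G) := hset ▸ Finset.mem_filter.2 ⟨Finset.mem_univ _, h1, h2⟩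
    simpa using this
  obtain ⟨hfT, hf4⟩ := (Finset.mem_filter.1 (hset ▸ Finset.mem_insert_self f {f'} :
    f ∈ Finset.univ.filter (fun f => f ∈ (T : Subgroup G) ∧ orderOf f = 4))).2
  have hinv4 : orderOf f⁻¹ = 4 := by rw [orderOf_inv, hf4]
  have hfinv : f⁻¹ ≠ f := by
    intro e
    have h1 : f ^ 2 = 1 := by
      rw [pow_two]
      nth_rewrite 1 [← e]
      exact inv_mul_cancel f
    have := orderOf_dvd_of_pow_eq_one h1
    rw [hf4] at this
    norm_num at this
  have hf' : f' = f⁻¹ := ((hmem _ (inv_mem hfT) hinv4).resolve_left hfinv).symm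
  obtain ⟨s, hsT, hs⟩ : ∃ s ∈ (T : Subgroup G), s ∉ Subgroup.zpowers f := by
    by_contra hno
    push Not at hno
    have := Subgroup.card_le_of_le (show (T : Subgroup G) ≤ Subgroup.zpowers f from hno)
    rw [hT8, Nat.card_zpowers, hf4] at this
    omega
  have hs2 : orderOf s = 2 := by
    have h2 := orderOf_dvd_natCard (⟨s, hsT⟩ : (T : Subgroup G))
    rw [Subgroup.orderOf_mk, hT8] at h2
    rcases o168_orders h s with e | e | e | e | e
    · exact absurd (by rw [orderOf_eq_one_iff.1 e]; exact one_mem _) hs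
    · exact e
    · rw [e] at h2; norm_num at h2
    · rcases hmem s hsT e with e' | e'
      · exact absurd (e' ▸ Subgroup.mem_zpowers f) hs
      · exact absurd (by rw [e', hf']; exact inv_mem (Subgroup.mem_zpowers f)) hs
    · rw [e] at h2; norm_num at h2
  have hss : s * s = 1 := by rw [← pow_two, ← hs2, pow_orderOf_eq_one]
  have hsf : s * f * s = f⁻¹ := by
    have hsinv : s⁻¹ = s := inv_eq_of_mul_eq_one_left hss
    have h5 : orderOf (s * f * s⁻¹) = 4 := by
      rw [← hf4]; exact ((SemiconjBy.conj_mk s f).orderOf_eq s).symm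
    rcases hmem _ (mul_mem (mul_mem hsT hfT) (inv_mem hsT)) h5 with e | e
    · exfalso
      -- `T` would centralize `f`
      have hle : (T : Subgroup G) ≤ Subgroup.centralizer ({f} : Set G) := by
        set C := Subgroup.centralizer ({f} : Set G) ⊓ (T : Subgroup G) with hC
        have hzC : Subgroup.zpowers f ≤ C :=
          Subgroup.zpowers_le.2 (Subgroup.mem_inf.2 ⟨Subgroup.mem_centralizer_singleton_iff.2 rfl, hfT⟩)
        have hsC : s ∈ C := Subgroup.mem_inf.2
          ⟨Subgroup.mem_centralizer_singleton_iff.2 (mul_inv_eq_iff_eq_mul.1 e), hsT⟩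
        have h2 : Nat.card (Subgroup.zpowers f) < Nat.card C :=
          Set.Finite.card_lt_card (Set.toFinite _) (lt_of_le_not_ge hzC fun h' => hs (h' hsC))
        have h3 : Nat.card C ∣ Nat.card (T : Subgroup G) := Subgroup.card_dvd_of_le inf_le_right
        rw [hT8] at h3
        rw [Nat.card_zpowers, hf4] at h2
        have h6 := Nat.le_of_dvd (by norm_num) h3
        exact (Subgroup.eq_of_le_of_card_ge inf_le_right (by
          rw [hT8]; generalize Nat.card C = n at *; interval_cases n <;> omega) :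
          C = (T : Subgroup G)).ge.trans inf_le_left
      have := (o168_central h T hfT (fun e => by rw [e, orderOf_one] at hf4; omega)
        (fun t ht => Subgroup.mem_centralizer_singleton_iff.1 (hle ht))).1
      omega
    · rw [hsinv, hf'] at e
      exact e
  let F : (T : Subgroup G) := ⟨f, hfT⟩
  let S : (T : Subgroup G) := ⟨s, hsT⟩
  let pw : ZMod 4 → (T : Subgroup G) := fun i => F ^ i.val
  have hF : orderOf F = 4 := by rw [← Subgroup.orderOf_coe]; exact hf4
  have hadd : ∀ i j, pw (i + j) = pw i * pw j := by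
    intro i j
    simp only [pw]
    rw [← pow_add, ZMod.val_add, ← pow_mod_orderOf F (i.val + j.val), hF]
  have h0 : pw 0 = 1 := by simp [pw]
  have hneg : ∀ i, (pw i)⁻¹ = pw (-i) := fun i => by
    rw [inv_eq_iff_mul_eq_one, ← hadd, add_neg_cancel, h0]
  have hSS : S * S = 1 := Subtype.ext hss
  have hSF : ∀ n : ℕ, F ^ n * S = S * (F ^ n)⁻¹ := by
    intro n
    have h1 : S * F * S = F⁻¹ := Subtype.ext hsf
    have hSi : S⁻¹ = S := inv_eq_of_mul_eq_one_left hSS
    have h2 : (S * F * S⁻¹) ^ n = S * F ^ n * S⁻¹ := conj_pow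
    rw [hSi] at h2
    rw [h1, inv_pow] at h2
    rw [h2, ← mul_assoc, ← mul_assoc, hSS, one_mul]
  have hcomm : ∀ i, pw i * S = S * pw (-i) := fun i => by rw [← hneg]; exact hSF _
  let φ : DihedralGroup 4 → (T : Subgroup G) := fun x => match x with
    | .r i => pw i
    | .sr i => S * pw i
  have hφ : ∀ x y, φ (x * y) = φ x * φ y := by
    rintro (i | i) (j | j)
    · simp [φ, DihedralGroup.r_mul_r, hadd]
    · show S * pw (j - i) = pw i * (S * pw j)
      rw [← mul_assoc, hcomm, mul_assoc, ← hadd, sub_eq_neg_add]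
    · show S * pw (i + j) = S * pw i * pw j
      rw [hadd, mul_assoc]
    · show pw (j - i) = S * pw i * (S * pw j)
      rw [mul_assoc S, ← mul_assoc (pw i), hcomm, ← mul_assoc, ← mul_assoc, hSS, one_mul, ← hadd,
        sub_eq_neg_add]
  let Φ : DihedralGroup 4 →* (T : Subgroup G) := MonoidHom.mk' φ hφ
  have hinj : Function.Injective Φ := by
    rw [injective_iff_map_eq_one]
    rintro (i | i) hx
    · have hx' : F ^ i.val = 1 := hx
      have := orderOf_dvd_of_pow_eq_one hx'
      rw [hF] at this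
      have hi : i.val = 0 := by
        have := ZMod.val_lt i
        omega
      rw [(ZMod.val_eq_zero i).1 hi]
      rfl
    · exfalso
      have hx' : S * F ^ i.val = 1 := hx
      apply hs
      have : s * f ^ i.val = 1 := congrArg Subtype.val hx'
      rw [eq_inv_of_mul_eq_one_left this]
      exact inv_mem (pow_mem (Subgroup.mem_zpowers f) _)
  have hbij : Function.Bijective Φ := by
    rw [Nat.bijective_iff_injective_and_card]
    exact ⟨hinj, by rw [hT8, DihedralGroup.nat_card]⟩
  exact ⟨(MulEquiv.ofBijective Φ hbij).symm⟩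

end Cfsg.Agent.Block
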