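import Cfsg.Agent.Lib.Block.Principal
import Cfsg.Agent.Lib.Char.PPrimeDegree
import Cfsg.Agent.Lib.Grp.PLengthSeries
import Cfsg.Agent.Lib.Grp.SchurZassenhaus

/-!
# `p`-length one and restriction of the principal block to a Sylow normalizer

If every character in the principal block restricts irreducibly to `N = N(P)`, then for `p`-regular
`y` in the normal closure of `P` the function `n ↦ Σ (χ y - χ 1) χ n` vanishes on the `p`-singular
elements of `N` and is orthogonal to all characters of `N/P`; hence it is zero.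
-/

set_option autoImplicit false
set_option linter.style.haveILetI false
set_option linter.unusedSectionVars false

open scoped ComplexConjugate Pointwise

namespace Cfsg.Agent.Block.PLenRes

open Cfsg Cfsg.Agent.Char Cfsg.Agent.Block

universe u

variable {G : Type u} [Group G] [Finite G] {p : ℕ} [hp : Fact p.Prime] {M : Ideal AlgInt}

/-- Regular elements in one coset of a normal `p`-subgroup are conjugate. -/
theorem exists_conj_eq (Q : Subgroup G) [Q.Normal] (hQ : IsPGroup p Q) {a b : G}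
    (ha : ¬ p ∣ orderOf a) (hb : ¬ p ∣ orderOf b)
    (hab : (a : G ⧸ Q) = (b : G ⧸ Q)) : ∃ u : G, u * a * u⁻¹ = b := by
  obtain ⟨j, hj⟩ := IsPGroup.iff_card.mp hQ
  have hcop : ∀ x : G, ¬ p ∣ orderOf x → (Nat.card Q).Coprime (Nat.card (Subgroup.zpowers x)) := by
    intro x hx
    rw [Nat.card_zpowers, hj]
    exact Nat.Coprime.pow_left j (hp.out.coprime_iff_not_dvd.mpr hx)
  have horder : ∀ x : G, ¬ p ∣ orderOf x → orderOf (x : G ⧸ Q) = orderOf x := by
    intro x hx
    refine Nat.dvd_antisymm (orderOf_map_dvd (QuotientGroup.mk' Q) x) ?_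
    have h : x ^ orderOf (x : G ⧸ Q) ∈ Q ⊓ Subgroup.zpowers x := by
      refine Subgroup.mem_inf.mpr ⟨(QuotientGroup.eq_one_iff _).mp ?_,
        Subgroup.npow_mem_zpowers x _⟩
      rw [QuotientGroup.mk_pow, pow_orderOf_eq_one]
    rw [Grp.inf_eq_bot_of_coprime (hcop x hx), Subgroup.mem_bot] at h
    exact orderOf_dvd_of_pow_eq_one h
  have hle : Subgroup.zpowers b ≤ Q ⊔ Subgroup.zpowers a := by
    rw [Subgroup.zpowers_le]
    have hq : b * a⁻¹ ∈ Q := (QuotientGroup.eq_one_iff _).mp (by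
      rw [QuotientGroup.mk_mul, QuotientGroup.mk_inv, hab, mul_inv_cancel])
    simpa using Subgroup.mul_mem_sup hq (Subgroup.mem_zpowers a)
  obtain ⟨u, hu, he⟩ := Grp.exists_conj_of_le_sup (N := Q) (H := Subgroup.zpowers a)
    (K := Subgroup.zpowers b) (by rw [Subgroup.normalizer_eq_top]; exact le_top) hle
    (by rw [Nat.card_zpowers, Nat.card_zpowers, ← horder a ha, ← horder b hb, hab]) (hcop a ha)
    (Or.inr inferInstance)
  refine ⟨u, eq_of_inv_mul_eq_one ?_⟩
  have hmem : u * a * u⁻¹ ∈ Subgroup.zpowers b :=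
    he ▸ Subgroup.smul_mem_pointwise_smul a (MulAut.conj u) _ (Subgroup.mem_zpowers a)
  have h : (u * a * u⁻¹)⁻¹ * b ∈ Q ⊓ Subgroup.zpowers b := by
    refine Subgroup.mem_inf.mpr ⟨(QuotientGroup.eq_one_iff _).mp ?_,
      mul_mem (inv_mem hmem) (Subgroup.mem_zpowers b)⟩
    rw [QuotientGroup.mk_mul, QuotientGroup.mk_inv, QuotientGroup.mk_mul, QuotientGroup.mk_mul,
      QuotientGroup.mk_inv, (QuotientGroup.eq_one_iff u).mpr hu, hab]
    group
  rwa [Grp.inf_eq_bot_of_coprime (hcop b hb), Subgroup.mem_bot] at h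

/-- A class function supported on regular elements and orthogonal to the characters of the
quotient by a normal `p`-subgroup of `p'`-index vanishes. -/
theorem eq_zero_of_orth [Fintype G] (Q : Subgroup G) [Q.Normal] (hQ : IsPGroup p Q)
    (hidx : ¬ p ∣ Q.index) {F : G → ℂ} (hF : IsClassFunction G F)
    (hsing : ∀ g : G, p ∣ orderOf g → F g = 0)
    (horth : ∀ ψ : IrrCharacter (G ⧸ Q),
      ∑ g : G, F g * conj ((ψ : G ⧸ Q → ℂ) (g : G ⧸ Q)) = 0) : F = 0 := by
  classical
  haveI := Fintype.ofFinite (G ⧸ Q)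
  set S : G ⧸ Q → ℂ := fun c => ∑ g ∈ Finset.univ.filter (fun g : G => (QuotientGroup.mk g : G ⧸ Q) = c), F g with hS
  have hcl : IsClassFunction (G ⧸ Q) S := by
    intro c d
    obtain ⟨t, rfl⟩ := QuotientGroup.mk_surjective d
    refine (Finset.sum_equiv (MulAut.conj t).toEquiv (fun g => ?_) fun g _ => ?_).symm
    · simp only [Finset.mem_filter, Finset.mem_univ, true_and]
      show (g : G ⧸ Q) = c ↔ ((t * g * t⁻¹ : G) : G ⧸ Q) = _
      rw [QuotientGroup.mk_mul, QuotientGroup.mk_mul, QuotientGroup.mk_inv]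
      exact ⟨fun h => by rw [h], fun h => mul_left_cancel (mul_right_cancel h)⟩
    · exact (hF g t).symm
  have hS0 : S = 0 := by
    refine eq_zero_of_orth_irr hcl fun ψ hψ => ?_
    have h : ∑ c : G ⧸ Q, S c * conj (ψ c) = 0 := by
      rw [← horth ⟨ψ, hψ⟩, ← Finset.sum_fiberwise (Finset.univ : Finset G) (fun g : G => (g : G ⧸ Q))]
      refine Finset.sum_congr rfl fun c _ => ?_
      rw [hS, Finset.sum_mul]
      exact Finset.sum_congr rfl fun g hg => by rw [(Finset.mem_filter.mp hg).2]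
    rw [classInner, h, mul_zero]
  funext n
  by_cases hn : p ∣ orderOf n
  · exact hsing n hn
  have h := congrFun hS0 (n : G ⧸ Q)
  set A := (Finset.univ.filter fun g : G => (g : G ⧸ Q) = (n : G ⧸ Q)).filter
    fun g : G => ¬ p ∣ orderOf g with hA
  have hsum : S (n : G ⧸ Q) = (A.card : ℂ) * F n := by
    rw [hS, ← nsmul_eq_mul, ← Finset.sum_const]
    show (∑ g ∈ Finset.univ.filter (fun g : G => (QuotientGroup.mk g : G ⧸ Q) = (n : G ⧸ Q)), F g) = _
    rw [← Finset.sum_filter_of_ne (p := fun g : G => ¬ p ∣ orderOf g)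
      fun g _ hg hd => hg (hsing g hd)]
    refine Finset.sum_congr rfl fun g hg => ?_
    obtain ⟨h1, h2⟩ := Finset.mem_filter.mp hg
    obtain ⟨u, hu⟩ := exists_conj_eq Q hQ h2 hn (Finset.mem_filter.mp h1).2
    rw [← hu, hF]
  rw [hsum, Pi.zero_apply, mul_eq_zero] at h
  refine h.resolve_left (Nat.cast_ne_zero.mpr (Finset.card_pos.mpr ⟨n, ?_⟩).ne')
  simp [hA, hn]

/-- The kernel of the principal block lies in the `p'`-core. -/
theorem mem_pPrimeCore_of_ker (hM : IsPModular p M) {y : G}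
    (hy : ∀ χ ∈ principalBlock M G, (χ : G → ℂ) y = (χ : G → ℂ) 1) :
    y ∈ Cfsg.pPrimeCore p G := by
  classical
  choose K hKn hK using fun χ : IrrCharacter G => PPrime.exists_kernel χ
  set W : Subgroup G := ⨅ χ ∈ principalBlock M G, K χ with hW
  haveI : W.Normal := Subgroup.normal_iInf_normal fun χ =>
    Subgroup.normal_iInf_normal fun _ => hKn χ
  have hmem : ∀ x, x ∈ W ↔ ∀ χ ∈ principalBlock M G, (χ : G → ℂ) x = (χ : G → ℂ) 1 := by
    intro x
    simp only [hW, Subgroup.mem_iInf]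
    exact forall₂_congr fun χ _ => hK χ x
  refine Grp.le_pPrimeCore (p := p) ‹W.Normal› ?_ ((hmem y).mpr hy)
  refine (hp.out.coprime_iff_not_dvd.mpr fun hd => ?_).symm
  obtain ⟨x, hx⟩ := exists_prime_orderOf_dvd_card' p hd
  have h := weak_orth hM (isPBlock_principalBlock (M := M) (G := G))
    (x := (1 : G)) (y := (x : G)) (by rw [orderOf_one]; exact hp.out.not_dvd_one)
    (by rw [Subgroup.orderOf_coe, hx])
  haveI := Fintype.ofFinite G
  rw [finsum_mem_eq_toFinset_sum] at h
  have hre : ∑ χ ∈ (principalBlock M G).toFinset, ((charDegree (χ : G → ℂ) : ℝ) ^ 2) = 0 := by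
    have h' : ∑ χ ∈ (principalBlock M G).toFinset,
        (((charDegree (χ : G → ℂ) : ℝ) ^ 2 : ℝ) : ℂ) = 0 := by
      rw [← h]
      refine Finset.sum_congr rfl fun χ hχ => ?_
      rw [(hmem x).mp x.2 χ (Set.mem_toFinset.mp hχ), charDeg_spec' χ, map_natCast]
      push_cast
      ring
    exact_mod_cast h'
  have h1 := (Finset.sum_eq_zero_iff_of_nonneg fun χ _ => sq_nonneg _).mp hre (trivialIrr G)
    (Set.mem_toFinset.mpr (trivial_mem_principalBlock hM))
  exact (charDeg_pos (trivialIrr G)).ne' (by exact_mod_cast pow_eq_zero_iff two_ne_zero |>.mp h1)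

/-- A function on the principal block which is real part maximal has to be constant. -/
theorem eq_deg_of_weighted (χ : IrrCharacter G) (y : G)
    (h : ((χ : G → ℂ) y).re = ((χ : G → ℂ) 1).re) : (χ : G → ℂ) y = (χ : G → ℂ) 1 := by
  haveI := Fintype.ofFinite G
  have hn := IsChar.norm_le (irr_isChar χ) y
  rw [charDeg_spec' χ] at h hn ⊢
  rw [Complex.norm_natCast] at hn
  rw [Complex.natCast_re] at h
  have h2 : ((χ : G → ℂ) y).re ^ 2 + ((χ : G → ℂ) y).im ^ 2 ≤ (charDegree (χ : G → ℂ) : ℝ) ^ 2 := by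
    have h3 := Complex.sq_norm ((χ : G → ℂ) y)
    rw [Complex.normSq_apply] at h3
    nlinarith [norm_nonneg ((χ : G → ℂ) y)]
  refine Complex.ext (by rw [Complex.natCast_re]; exact h) ?_
  rw [Complex.natCast_im]
  rw [h] at h2
  nlinarith

/-- Regular elements of the normal closure of a Sylow subgroup are in the kernel of the block. -/
theorem ker_of_restrict (hM : IsPModular p M) (P : Sylow p G)
    (h : ∀ χ ∈ principalBlock M G, IsIrrCharacter ↥(Subgroup.normalizer ((P : Subgroup G) : Set G))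
      (fun n : ↥(Subgroup.normalizer ((P : Subgroup G) : Set G)) => (χ : G → ℂ) n))
    {y : G} (hyM : y ∈ Subgroup.normalClosure ((P : Subgroup G) : Set G)) (hy : ¬ p ∣ orderOf y) :
    ∀ χ ∈ principalBlock M G, (χ : G → ℂ) y = (χ : G → ℂ) 1 := by
  classical
  set N := Subgroup.normalizer ((P : Subgroup G) : Set G) with hN
  haveI := Fintype.ofFinite G
  haveI := Fintype.ofFinite N
  set Q : Subgroup N := (P : Subgroup G).subgroupOf N with hQdef
  haveI : Q.Normal := Subgroup.normal_subgroupOf_of_le_normalizer le_rfl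
  have hQ : IsPGroup p Q := P.isPGroup'.comap_subtype
  have hidx : ¬ p ∣ Q.index := fun hd => P.not_dvd_index
    ((show p ∣ (P : Subgroup G).relIndex N from hd).trans
      ⟨_, (Subgroup.relIndex_mul_index Subgroup.le_normalizer).symm⟩)
  set F : N → ℂ := fun n => ∑ χ ∈ (principalBlock M G).toFinset,
    (conj ((χ : G → ℂ) y) - (χ : G → ℂ) 1) * (χ : G → ℂ) n with hFdef
  have hF : IsClassFunction N F := fun a b => Finset.sum_congr rfl fun χ _ =>
    congrArg _ (IsIrr.classFun χ.2 (a : G) (b : G))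
  have hsing : ∀ n : N, p ∣ orderOf n → F n = 0 := by
    intro n hn
    have horth : ∀ x : G, ¬ p ∣ orderOf x →
        ∑ χ ∈ (principalBlock M G).toFinset, conj ((χ : G → ℂ) x) * (χ : G → ℂ) n = 0 := by
      intro x hx
      have h1 := weak_orth hM (isPBlock_principalBlock (M := M) (G := G)) (x := x) (y := (n : G))
        hx (by rwa [Subgroup.orderOf_coe])
      rw [finsum_mem_eq_toFinset_sum] at h1
      have h2 := congrArg conj h1
      rw [map_sum, map_zero] at h2
      simpa using h2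
    have h1 : ∑ χ ∈ (principalBlock M G).toFinset, (χ : G → ℂ) 1 * (χ : G → ℂ) n = 0 := by
      rw [← horth 1 (by rw [orderOf_one]; exact hp.out.not_dvd_one)]
      refine Finset.sum_congr rfl fun χ _ => ?_
      rw [charDeg_spec' χ, map_natCast]
    simp only [hFdef, sub_mul, Finset.sum_sub_distrib, horth y hy, h1, sub_self]
  have horth : ∀ ψ : IrrCharacter (N ⧸ Q),
      ∑ n : N, F n * conj ((ψ : N ⧸ Q → ℂ) (n : N ⧸ Q)) = 0 := by
    intro ψ
    have hψ : IsIrrCharacter N (fun n : N => (ψ : N ⧸ Q → ℂ) (n : N ⧸ Q)) :=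
      IsIrr.comp_surjective (QuotientGroup.mk' Q) (QuotientGroup.mk'_surjective Q) ψ.2
    simp only [hFdef, Finset.sum_mul]
    rw [Finset.sum_comm]
    refine Finset.sum_eq_zero fun χ hχ => ?_
    simp only [mul_assoc, ← Finset.mul_sum]
    rcases eq_or_ne (fun n : N => (χ : G → ℂ) n) (fun n : N => (ψ : N ⧸ Q → ℂ) (n : N ⧸ Q))
      with he | hne
    · obtain ⟨K, hKn, hK⟩ := PPrime.exists_kernel χ
      have hPK : ((P : Subgroup G) : Set G) ⊆ K := fun x hx => by
        rw [SetLike.mem_coe, hK]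
        have hxN : x ∈ N := Subgroup.le_normalizer hx
        rw [show (χ : G → ℂ) x = _ from congrFun he ⟨x, hxN⟩,
          show (χ : G → ℂ) 1 = _ from congrFun he 1]
        refine congrArg (ψ : N ⧸ Q → ℂ) ?_
        rw [QuotientGroup.mk_one, QuotientGroup.eq_one_iff]
        exact hx
      haveI := hKn
      rw [(hK y).mp (Subgroup.normalClosure_le_normal hPK hyM), charDeg_spec' χ, map_natCast,
        sub_self, zero_mul]
    · have h0 := classInner_irr_ne (h χ (Set.mem_toFinset.mp hχ)) hψ hne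
      rw [classInner, mul_eq_zero] at h0
      rw [h0.resolve_left (inv_ne_zero (Nat.cast_ne_zero.mpr Nat.card_pos.ne')), mul_zero]
  have h0 := congrFun (eq_zero_of_orth Q hQ hidx hF hsing horth) 1
  simp only [hFdef, Subgroup.coe_one, Pi.zero_apply] at h0
  have hre := congrArg Complex.re h0
  rw [Complex.re_sum, Complex.zero_re] at hre
  have hterm : ∀ χ : IrrCharacter G, ((conj ((χ : G → ℂ) y) - (χ : G → ℂ) 1) * (χ : G → ℂ) 1).re
      = (((χ : G → ℂ) y).re - ((χ : G → ℂ) 1).re) * (charDegree (χ : G → ℂ) : ℝ) := fun χ => by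
    rw [charDeg_spec' χ]; simp
  have hle : ∀ χ : IrrCharacter G, ((χ : G → ℂ) y).re ≤ ((χ : G → ℂ) 1).re := fun χ => by
    have h1 := (Complex.re_le_norm _).trans (IsChar.norm_le (irr_isChar χ) y)
    rw [charDeg_spec' χ, Complex.norm_natCast] at h1
    rw [charDeg_spec' χ, Complex.natCast_re]
    exact h1
  intro χ hχ
  refine eq_deg_of_weighted χ y (le_antisymm (hle χ) ?_)
  simp only [hterm] at hre
  have h2 := (Finset.sum_eq_zero_iff_of_nonpos fun χ _ =>
    mul_nonpos_of_nonpos_of_nonneg (sub_nonpos.mpr (hle χ)) (Nat.cast_nonneg _)).mp hre χ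
    (Set.mem_toFinset.mpr hχ)
  rw [mul_eq_zero] at h2
  exact (sub_eq_zero.mp (h2.resolve_right (Nat.cast_ne_zero.mpr (charDeg_pos χ).ne'))).ge

/-- Irreducible restriction of the principal block forces `p`-length at most one. -/
theorem pLength_of_restrict (hM : IsPModular p M) (P : Sylow p G)
    (h : ∀ χ ∈ principalBlock M G, IsIrrCharacter ↥(Subgroup.normalizer ((P : Subgroup G) : Set G))
      (fun n : ↥(Subgroup.normalizer ((P : Subgroup G) : Set G)) => (χ : G → ℂ) n)) :
    Cfsg.PLengthLE p 1 G := by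
  refine Grp.pLengthLE_one_of_index fun {hKn} => ?_
  set K := Cfsg.pPrimeCore p G with hK
  set q := QuotientGroup.mk' K with hq
  set C := Subgroup.normalClosure ((P : Subgroup G) : Set G) with hC
  have hpg : IsPGroup p ↥(C.map q) := by
    rintro ⟨z, x, hx, rfl⟩
    obtain ⟨u, v, huv, -, ⟨k, hk⟩, hv, huz, hvz⟩ := exists_pPart_zpowers (p := p) x
    have hvK : v ∈ K := mem_pPrimeCore_of_ker hM
      (ker_of_restrict hM P h (Subgroup.zpowers_le.mpr hx hvz) hv)
    refine ⟨k, Subtype.ext ?_⟩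
    show q x ^ p ^ k = 1
    rw [← huv, map_mul, show q v = 1 from (QuotientGroup.eq_one_iff v).mpr hvK, mul_one, ← map_pow,
      ← hk, pow_orderOf_eq_one, map_one]
  have hle : C.map q ≤ Cfsg.pCore p (G ⧸ K) :=
    Grp.le_pCore (Subgroup.normalClosure_normal.map q (QuotientGroup.mk'_surjective K)) hpg
  intro hd
  refine P.not_dvd_index (hd.trans ((Subgroup.index_dvd_of_le ?_).trans
    (Subgroup.index_map_dvd (P : Subgroup G) (QuotientGroup.mk'_surjective K))))
  exact (Subgroup.map_mono Subgroup.subset_normalClosure).trans hle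

/-- `p`-length at most one gives `G = O_{p'}(G) N(P)`. -/
theorem exists_mul_of_pLength (hL : Cfsg.PLengthLE p 1 G) (P : Sylow p G) (g : G) :
    ∃ k ∈ Cfsg.pPrimeCore p G, ∃ n ∈ Subgroup.normalizer ((P : Subgroup G) : Set G), k * n = g := by
  haveI hKn : (Cfsg.pPrimeCore p G).Normal := Grp.pPrimeCore_isNormal
  set U1 := Grp.uSer p G 1 with hU1
  set U2 := Grp.uSer p G 2 with hU2
  haveI : U2.Normal := (Cfsg.upperPSeries p G 2).2
  haveI : U1.Normal := (Cfsg.upperPSeries p G 1).2
  have h23 : ¬ p ∣ U2.index := by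
    have h := Grp.uSer_relIndex_even (G := G) (p := p) (n := 2) even_two
    rwa [show Grp.uSer p G (2 + 1) = ⊤ from hL, Subgroup.relIndex_top_right] at h
  have hPU : (P : Subgroup G) ≤ U2 := fun x hx => by
    obtain ⟨i, hi⟩ := P.isPGroup' ⟨x, hx⟩
    refine regular_mem_quot U2 h23 (i := i) ?_
    exact congrArg Subtype.val hi
  have h12 : U2 ≤ Cfsg.pPrimeCore p G ⊔ (P : Subgroup G) := by
    obtain ⟨m, hm⟩ := Grp.uSer_relIndex_odd (G := G) (p := p) (n := 1) odd_one
    have hU1K : U1 ≤ Cfsg.pPrimeCore p G := by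
      refine Grp.le_pPrimeCore ‹U1.Normal› (hp.out.coprime_iff_not_dvd.mpr ?_).symm
      have h := Grp.uSer_relIndex_even (G := G) (p := p) (n := 0) ⟨0, rfl⟩
      rwa [Grp.uSer_zero, Subgroup.relIndex_bot_left] at h
    -- the index of `U1 ⊔ P` in `U2` is both a power of `p` and prime to `p`
    have hle : U1 ⊔ (P : Subgroup G) ≤ U2 := sup_le (Grp.uSer_le_succ 1) hPU
    have h1 : (U1 ⊔ (P : Subgroup G)).relIndex U2 ∣ p ^ m :=
      hm ▸ Subgroup.relIndex_dvd_of_le_left U2 le_sup_left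
    have h2 : ¬ p ∣ (U1 ⊔ (P : Subgroup G)).relIndex U2 := fun hd => P.not_dvd_index
      ((hd.trans (Subgroup.relIndex_dvd_of_le_left U2 le_sup_right)).trans
        ⟨_, (Subgroup.relIndex_mul_index hPU).symm⟩)
    obtain ⟨j, -, hj⟩ := (Nat.dvd_prime_pow hp.out).mp h1
    have hj0 : j = 0 := by
      by_contra hne
      exact h2 (hj ▸ dvd_pow_self p hne)
    rw [hj0, pow_zero, Subgroup.relIndex_eq_one] at hj
    exact hj.trans (sup_le_sup_right hU1K _)
  have htop : Subgroup.normalizer ((P : Subgroup G) : Set G) ⊔ U2 = ⊤ :=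
    Sylow.normalizer_sup_eq_top' P hPU
  have hg : g ∈ Cfsg.pPrimeCore p G ⊔ Subgroup.normalizer ((P : Subgroup G) : Set G) := by
    have hmem : g ∈ Subgroup.normalizer ((P : Subgroup G) : Set G) ⊔ U2 :=
      htop ▸ Subgroup.mem_top g
    exact (sup_le le_sup_right (h12.trans (sup_le_sup_left Subgroup.le_normalizer _))) hmem
  exact Subgroup.mem_sup_of_normal_left.mp hg
where
  regular_mem_quot (U : Subgroup G) [U.Normal] (hU : ¬ p ∣ U.index) {x : G} {i : ℕ}
      (hx : x ^ p ^ i = 1) : x ∈ U := by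
    have h1 : (x : G ⧸ U) ^ p ^ i = 1 := by rw [← QuotientGroup.mk_pow, hx, QuotientGroup.mk_one]
    have h2 : (x : G ⧸ U) ^ U.index = 1 := by rw [Subgroup.index_eq_card]; exact pow_card_eq_one'
    have h3 := pow_gcd_eq_one.mpr ⟨h1, h2⟩
    rw [Nat.coprime_iff_gcd_eq_one.mp (Nat.Coprime.pow_left i
      (hp.out.coprime_iff_not_dvd.mpr hU)), pow_one] at h3
    exact (QuotientGroup.eq_one_iff x).mp h3

/-- Characters of the principal block restrict irreducibly when the `p`-length is at most one. -/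
theorem restrict_of_pLength (hM : IsPModular p M) (P : Sylow p G) (hL : Cfsg.PLengthLE p 1 G)
    {χ : IrrCharacter G} (hχ : χ ∈ principalBlock M G) :
    IsIrrCharacter ↥(Subgroup.normalizer ((P : Subgroup G) : Set G))
      (fun n : ↥(Subgroup.normalizer ((P : Subgroup G) : Set G)) => (χ : G → ℂ) n) := by
  haveI hKn : (Cfsg.pPrimeCore p G).Normal := Grp.pPrimeCore_isNormal
  set N := Subgroup.normalizer ((P : Subgroup G) : Set G) with hN
  obtain ⟨ψ, hψ, he⟩ := IsIrr.exists_factor_quotient χ.2 (Cfsg.pPrimeCore p G)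
    fun k hk => principal_ker_of_coprime hM Grp.pPrimeCore_not_dvd hχ hk
  let f : N →* G ⧸ Cfsg.pPrimeCore p G := (QuotientGroup.mk' _).comp N.subtype
  have hf : Function.Surjective f := by
    intro c
    obtain ⟨g, rfl⟩ := QuotientGroup.mk'_surjective _ c
    obtain ⟨k, hk, n, hn, rfl⟩ := exists_mul_of_pLength hL P g
    refine ⟨⟨n, hn⟩, ?_⟩
    show QuotientGroup.mk' _ n = QuotientGroup.mk' _ (k * n)
    rw [map_mul, show QuotientGroup.mk' (Cfsg.pPrimeCore p G) k = 1 from
      (QuotientGroup.eq_one_iff k).mpr hk, one_mul]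
  have heq : (fun n : N => (χ : G → ℂ) n) = fun n : N => ψ (f n) := funext fun n => (he n).symm
  rw [heq]
  exact IsIrr.comp_surjective f hf hψ

end Cfsg.Agent.Block.PLenRes
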