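import Cfsg.Agent.Lib.Block.PermChar

/-!
The centre of the centraliser ring of a permutation representation: it is spanned by the
projections of the constituents, and it is the image of the Casimir map.
-/

set_option autoImplicit false

namespace Cfsg.Agent.Block.PermChar

open scoped ComplexConjugate
open Module Cfsg Matrix

universe u v

variable {G : Type u} [Group G] {Ω : Type v} [Fintype Ω] [DecidableEq Ω] [MulAction G Ω]

variable (G Ω) in
/-- The centre of the centraliser ring. -/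
def center : Submodule ℂ (Matrix Ω Ω ℂ) where
  carrier := {z | Inv G Ω z ∧ ∀ M, Inv G Ω M → z * M = M * z}
  add_mem' := by
    rintro a b ⟨ha, ha'⟩ ⟨hb, hb'⟩
    refine ⟨fun g x y => ?_, fun M hM => ?_⟩
    · rw [Matrix.add_apply, Matrix.add_apply, ha, hb]
    · rw [Matrix.add_mul, Matrix.mul_add, ha' M hM, hb' M hM]
  zero_mem' := ⟨fun g x y => rfl, fun M _ => by simp⟩
  smul_mem' := by
    rintro c a ⟨ha, ha'⟩
    refine ⟨fun g x y => ?_, fun M hM => ?_⟩
    · rw [Matrix.smul_apply, Matrix.smul_apply, ha]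
    · rw [Matrix.smul_mul, Matrix.mul_smul, ha' M hM]

theorem trace_pmat_classFun {M : Matrix Ω Ω ℂ} (hM : Inv G Ω M) :
    IsClassFunction G fun g => (M * pmat G Ω g).trace := fun g h => by
  show (M * pmat G Ω (h * g * h⁻¹)).trace = (M * pmat G Ω g).trace
  rw [map_mul, map_mul, ← Matrix.mul_assoc, ← Matrix.mul_assoc, ← (inv_iff_commute M).1 hM h,
    Matrix.mul_assoc (pmat G Ω h), Matrix.trace_mul_comm, ← Matrix.mul_assoc, ← map_mul,
    inv_mul_cancel, map_one, Matrix.one_mul]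

variable [Fintype G]

variable (G) in
/-- The Casimir map. -/
noncomputable def cas (M : Matrix Ω Ω ℂ) : Matrix Ω Ω ℂ :=
  ∑ g : G, (M * pmat G Ω g).trace • pmat G Ω g⁻¹

theorem cas_smul (c : ℂ) (M : Matrix Ω Ω ℂ) : cas G (c • M) = c • cas G M := by
  rw [cas, cas, Finset.smul_sum]
  exact Finset.sum_congr rfl fun g _ => by rw [Matrix.smul_mul, Matrix.trace_smul, smul_assoc]

theorem cas_mem_center {M : Matrix Ω Ω ℂ} (hM : Inv G Ω M) : cas G M ∈ center G Ω := by
  refine ⟨(inv_iff_commute _).2 fun x => ?_, fun N hN => ?_⟩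
  · rw [cas, Finset.mul_sum, Finset.sum_mul]
    refine Fintype.sum_equiv (MulAut.conj x).toEquiv _ _ fun g => ?_
    rw [Matrix.mul_smul, Matrix.smul_mul, ← map_mul, ← map_mul]
    show _ = (M * pmat G Ω (x * g * x⁻¹)).trace • pmat G Ω ((x * g * x⁻¹)⁻¹ * x)
    have h : (M * pmat G Ω (x * g * x⁻¹)).trace = (M * pmat G Ω g).trace :=
      trace_pmat_classFun hM g x
    rw [h]
    congr 2
    group
  · rw [cas, Finset.mul_sum, Finset.sum_mul]
    exact Finset.sum_congr rfl fun g _ => by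
      rw [Matrix.mul_smul, Matrix.smul_mul, (inv_iff_commute N).1 hN]

theorem cas_proj (χ : IrrCharacter G) :
    cas G (proj G Ω (χ : G → ℂ)) =
      ((Nat.card G : ℂ) * mult G Ω (χ : G → ℂ) / (χ : G → ℂ) 1) • proj G Ω (χ : G → ℂ) := by
  classical
  have hG : (Nat.card G : ℂ) ≠ 0 := Nat.cast_ne_zero.mpr Nat.card_pos.ne'
  obtain ⟨a, ha⟩ := exists_mult (Ω := Ω) χ
  have hπ : IsClassFunction G (piFun G Ω) :=
    Cfsg.Agent.Char.IsChar.classFun (isCharacter_piFun (G := G) (Ω := Ω))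
  have key : ∀ g : G, (proj G Ω (χ : G → ℂ) * pmat G Ω g).trace =
      mult G Ω (χ : G → ℂ) * (χ : G → ℂ) g := by
    intro g
    rw [proj, Matrix.smul_mul, Finset.sum_mul, Matrix.trace_smul, Matrix.trace_sum]
    simp only [Matrix.smul_mul, Matrix.trace_smul, ← map_mul, trace_pmat, smul_eq_mul]
    have h1 := Cfsg.Agent.Char.sum_classFun_mul_apply χ.2 hπ g⁻¹
    have h2 : ∑ h : G, conj ((χ : G → ℂ) h) * piFun G Ω (h * g) =
        conj (∑ k : G, piFun G Ω k * (χ : G → ℂ) (k * g⁻¹)) := by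
      rw [map_sum]
      refine Fintype.sum_equiv (Equiv.mulRight g) _ _ fun h => ?_
      rw [Equiv.coe_mulRight, map_mul, mul_inv_cancel_right, piFun, Complex.conj_natCast, mul_comm]
    have h3 : conj (∑ k : G, piFun G Ω k * (χ : G → ℂ) k) =
        (Nat.card G : ℂ) * mult G Ω (χ : G → ℂ) := by
      rw [map_sum, mult, classInner, ← mul_assoc, mul_inv_cancel₀ hG, one_mul]
      refine Finset.sum_congr rfl fun k _ => ?_
      rw [map_mul, piFun, Complex.conj_natCast]
    obtain ⟨d, hd, hd'⟩ := Cfsg.Agent.Char.IsIrr.one_eq_pos χ.2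
    have hd0 : (d : ℂ) ≠ 0 := Nat.cast_ne_zero.mpr hd.ne'
    rw [h2, h1, map_mul, map_div₀, h3, hd', Complex.conj_natCast,
      Cfsg.Agent.Char.IsIrr.apply_inv χ.2, Complex.conj_conj]
    field_simp
  have hd0 := Cfsg.Agent.Char.IsIrr.one_ne_zero χ.2
  simp only [cas, key]
  rw [proj, smul_smul, Finset.smul_sum]
  refine Fintype.sum_equiv (Equiv.inv G) _ _ fun g => ?_
  rw [Equiv.inv_apply, Cfsg.Agent.Char.IsIrr.apply_inv χ.2, Complex.conj_conj, smul_smul]
  congr 1
  field_simp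

theorem proj_eq_zero {χ : IrrCharacter G} (h : mult G Ω (χ : G → ℂ) = 0) :
    proj G Ω (χ : G → ℂ) = 0 := by
  classical
  have hi : IsIdempotentElem (Matrix.toLin' (proj G Ω (χ : G → ℂ))) := by
    show Matrix.toLin' _ * Matrix.toLin' _ = _
    rw [Module.End.mul_eq_comp, ← Matrix.toLin'_mul, proj_mul, if_pos rfl]
  have h1 := (LinearMap.IsIdempotentElem.isProj_range _ hi).trace
  rw [Matrix.trace_toLin'_eq, trace_proj, h, mul_zero] at h1
  have h2 : LinearMap.range (Matrix.toLin' (proj G Ω (χ : G → ℂ))) = ⊥ :=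
    Submodule.finrank_eq_zero.1 (Nat.cast_eq_zero.1 h1.symm)
  rw [LinearMap.range_eq_bot] at h2
  exact (LinearEquiv.map_eq_zero_iff (Matrix.toLin' (R := ℂ) (m := Ω) (n := Ω))).1 h2

theorem center_le_span_pmat {z : Matrix Ω Ω ℂ} (hz : z ∈ center G Ω) :
    z ∈ Submodule.span ℂ (Set.range (pmat G Ω : G → Matrix Ω Ω ℂ)) := by
  classical
  obtain ⟨S, hS⟩ : ∃ S, S = Submodule.span ℂ (Set.range (pmat G Ω : G → Matrix Ω Ω ℂ)) := ⟨_, rfl⟩
  obtain ⟨T, hT⟩ := S.exists_isCompl
  let P : Matrix Ω Ω ℂ →ₗ[ℂ] Matrix Ω Ω ℂ := S.subtype ∘ₗ S.projectionOnto T hT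
  have hP : ∀ X, P X ∈ S := fun X => (S.projectionOnto T hT X).2
  have hmul : ∀ (g : G) X, X ∈ S → pmat G Ω g * X ∈ S := by
    intro g X hX
    rw [hS] at hX ⊢
    induction hX using Submodule.span_induction with
    | mem y hy =>
      obtain ⟨h, rfl⟩ := hy
      exact Submodule.subset_span ⟨g * h, map_mul _ _ _⟩
    | zero => simp
    | add a b _ _ ha hb => rw [Matrix.mul_add]; exact add_mem ha hb
    | smul r a _ ha => rw [Matrix.mul_smul]; exact Submodule.smul_mem _ r ha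
  let Q : Matrix Ω Ω ℂ →ₗ[ℂ] Matrix Ω Ω ℂ := (Nat.card G : ℂ)⁻¹ •
    ∑ g : G, LinearMap.mulLeft ℂ (pmat G Ω g) ∘ₗ P ∘ₗ LinearMap.mulLeft ℂ (pmat G Ω g⁻¹)
  have hQapp : ∀ X, Q X = (Nat.card G : ℂ)⁻¹ • ∑ g : G, pmat G Ω g * P (pmat G Ω g⁻¹ * X) := by
    intro X
    simp [Q]
  have hQmem : ∀ X, Q X ∈ S := fun X => by
    rw [hQapp]
    exact Submodule.smul_mem _ _ (Submodule.sum_mem _ fun g _ => hmul g _ (hP _))
  have hQfix : Q 1 = 1 := by
    have h1 : ∀ g : G, P (pmat G Ω g⁻¹) = pmat G Ω g⁻¹ := by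
      intro g
      have hmem : pmat G Ω g⁻¹ ∈ S := hS ▸ Submodule.subset_span ⟨g⁻¹, rfl⟩
      show ((S.projectionOnto T hT (pmat G Ω g⁻¹) : S) : Matrix Ω Ω ℂ) = _
      rw [show pmat G Ω g⁻¹ = ((⟨_, hmem⟩ : S) : Matrix Ω Ω ℂ) from rfl,
        Submodule.projectionOnto_apply_left]
    rw [hQapp, Finset.sum_congr rfl fun g _ => by
      rw [Matrix.mul_one, h1, ← map_mul, mul_inv_cancel, map_one], Finset.sum_const,
      Finset.card_univ, ← Nat.cast_smul_eq_nsmul ℂ, smul_smul, ← Nat.card_eq_fintype_card,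
      inv_mul_cancel₀ (Nat.cast_ne_zero.mpr Nat.card_pos.ne'), one_smul]
  have hQeq : ∀ (h : G) X, Q (pmat G Ω h * X) = pmat G Ω h * Q X := by
    intro h X
    rw [hQapp, hQapp, Matrix.mul_smul, Finset.mul_sum]
    congr 1
    refine Fintype.sum_equiv (Equiv.mulLeft h⁻¹) _ _ fun g => ?_
    rw [Equiv.coe_mulLeft, ← Matrix.mul_assoc (pmat G Ω g⁻¹), ← map_mul,
      ← Matrix.mul_assoc (pmat G Ω h), ← map_mul, mul_inv_cancel_left, _root_.mul_inv_rev, inv_inv]
  -- the entries of `Q` are invariant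
  let ins : Ω → (Ω → ℂ) →ₗ[ℂ] Matrix Ω Ω ℂ := fun i =>
    { toFun := fun v => Matrix.vecMulVec v (Pi.single i 1)
      map_add' := fun a b => by ext; simp [Matrix.vecMulVec_apply, add_mul]
      map_smul' := fun c a => by ext; simp [Matrix.vecMulVec_apply, mul_assoc] }
  have hins : ∀ (M : Matrix Ω Ω ℂ) i v, ins i (M *ᵥ v) = M * ins i v := fun M i v =>
    (Matrix.mul_vecMulVec _ _ _).symm
  let A : Ω → Ω → (Ω → ℂ) →ₗ[ℂ] (Ω → ℂ) := fun i j =>
    { toFun := fun v x => Q (ins i v) x j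
      map_add' := fun a b => by funext x; simp
      map_smul' := fun c a => by funext x; simp }
  have hA : ∀ i j (g : G) v, A i j (pmat G Ω g *ᵥ v) = pmat G Ω g *ᵥ A i j v := by
    intro i j g v
    funext x
    show Q (ins i (pmat G Ω g *ᵥ v)) x j = _
    rw [hins, hQeq]
    rfl
  have hAinv : ∀ i j, Inv G Ω (LinearMap.toMatrix' (A i j)) := by
    intro i j
    rw [inv_iff_commute]
    intro g
    refine Matrix.toLin'.injective (LinearMap.ext fun v => ?_)
    simp only [Matrix.toLin'_apply, ← Matrix.mulVec_mulVec, LinearMap.toMatrix'_mulVec]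
    exact (hA i j g v).symm
  have hAz : ∀ i j v, A i j (z *ᵥ v) = z *ᵥ A i j v := by
    intro i j v
    have h := congrArg (· *ᵥ v) (hz.2 _ (hAinv i j))
    simp only [← Matrix.mulVec_mulVec, LinearMap.toMatrix'_mulVec] at h
    exact h.symm
  have hzins : ∀ i v, Q (z * ins i v) = z * Q (ins i v) := by
    intro i v
    ext x j
    rw [← hins]
    exact congrFun (hAz i j v) x
  have hone : (1 : Matrix Ω Ω ℂ) = ∑ i, ins i (Pi.single i 1) := by
    ext a b
    rw [Matrix.sum_apply]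
    simp [ins, Matrix.vecMulVec_apply, Pi.single_apply, Matrix.one_apply, eq_comm]
  have hfin : Q z = z := by
    conv_lhs => rw [← Matrix.mul_one z, hone, Finset.mul_sum, map_sum]
    rw [Finset.sum_congr rfl fun i _ => hzins i _, ← Finset.mul_sum, ← map_sum, ← hone, hQfix,
      Matrix.mul_one]
  rw [← hS, ← hfin]
  exact hQmem z

theorem center_le_span_proj {z : Matrix Ω Ω ℂ} (hz : z ∈ center G Ω) :
    z ∈ Submodule.span ℂ (Set.range fun χ : {χ : IrrCharacter G // mult G Ω (χ : G → ℂ) ≠ 0} =>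
      proj G Ω (χ.1 : G → ℂ)) := by
  classical
  have hG : (Nat.card G : ℂ) ≠ 0 := Nat.cast_ne_zero.mpr Nat.card_pos.ne'
  obtain ⟨c, hc⟩ := (Submodule.mem_span_range_iff_exists_fun ℂ).1 (center_le_span_pmat hz)
  let d : G → ℂ := fun g => conj ((Nat.card G : ℂ)⁻¹ * ∑ h : G, c (h * g * h⁻¹))
  have hd : IsClassFunction G d := by
    intro g k
    show conj _ = conj _
    congr 2
    refine Fintype.sum_equiv (Equiv.mulRight k) _ _ fun h => ?_
    rw [Equiv.coe_mulRight]
    congr 1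
    group
  have havg : z = ∑ g : G, conj (d g) • pmat G Ω g := by
    have h1 : ∀ h : G, z = ∑ g : G, c (h * g * h⁻¹) • pmat G Ω g := by
      intro h
      have h2 : pmat G Ω h⁻¹ * z * pmat G Ω h = z := by
        rw [Matrix.mul_assoc, ← (inv_iff_commute z).1 hz.1 h, ← Matrix.mul_assoc, ← map_mul,
          inv_mul_cancel, map_one, Matrix.one_mul]
      conv_lhs => rw [← h2, ← hc, Finset.mul_sum, Finset.sum_mul]
      refine (Fintype.sum_equiv (MulAut.conj h).toEquiv _ _ fun g => ?_).symm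
      rw [Matrix.mul_smul, Matrix.smul_mul, ← map_mul, ← map_mul]
      show _ = c (h * g * h⁻¹) • pmat G Ω (h⁻¹ * (h * g * h⁻¹) * h)
      congr 2
      group
    simp only [d, Complex.conj_conj]
    calc z = (Nat.card G : ℂ)⁻¹ • ∑ _h : G, z := by
          rw [Finset.sum_const, Finset.card_univ, ← Nat.cast_smul_eq_nsmul ℂ, smul_smul,
            ← Nat.card_eq_fintype_card, inv_mul_cancel₀ hG, one_smul]
      _ = (Nat.card G : ℂ)⁻¹ • ∑ h : G, ∑ g : G, c (h * g * h⁻¹) • pmat G Ω g := by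
          rw [Finset.sum_congr rfl fun h _ => h1 h]
      _ = _ := by
          rw [Finset.sum_comm, Finset.smul_sum]
          exact Finset.sum_congr rfl fun g _ => by rw [← Finset.sum_smul, smul_smul]
  have hexp := Cfsg.Agent.Char.classFunction_expansion hd
  have hz' : z = ∑ χ : IrrCharacter G,
      (conj (classInner d (χ : G → ℂ)) * (Nat.card G : ℂ) / (χ : G → ℂ) 1) •
        proj G Ω (χ : G → ℂ) := by
    rw [havg]
    simp only [proj, smul_smul, Finset.smul_sum]
    rw [Finset.sum_comm]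
    refine Finset.sum_congr rfl fun g _ => ?_
    rw [← Finset.sum_smul]
    congr 1
    conv_lhs => rw [hexp]
    rw [Finset.sum_apply, map_sum]
    refine Finset.sum_congr rfl fun χ _ => ?_
    have hd0 := Cfsg.Agent.Char.IsIrr.one_ne_zero χ.2
    rw [Pi.smul_apply, smul_eq_mul, map_mul]
    field_simp
  rw [hz']
  refine Submodule.sum_mem _ fun χ _ => ?_
  by_cases h : mult G Ω (χ : G → ℂ) = 0
  · rw [proj_eq_zero h, smul_zero]
    exact Submodule.zero_mem _
  · exact Submodule.smul_mem _ _ (Submodule.subset_span ⟨⟨χ, h⟩, rfl⟩)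

theorem proj_linearIndependent :
    LinearIndependent ℂ fun χ : {χ : IrrCharacter G // mult G Ω (χ : G → ℂ) ≠ 0} =>
      proj G Ω (χ.1 : G → ℂ) := by
  classical
  rw [linearIndependent_iff']
  intro s c hc χ hχ
  have h := congrArg (fun X => proj G Ω (χ.1 : G → ℂ) * X) hc
  simp only [Finset.mul_sum, Matrix.mul_smul, Matrix.mul_zero] at h
  rw [Finset.sum_eq_single χ (fun ψ _ hne => by
    rw [proj_mul, if_neg (fun e => hne (Subtype.ext e.symm)), smul_zero]) (fun h' => absurd hχ h'),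
    proj_mul, if_pos rfl] at h
  exact (smul_eq_zero.1 h).resolve_right (proj_ne_zero χ.2)

theorem proj_mem_center (χ : IrrCharacter G) : proj G Ω (χ : G → ℂ) ∈ center G Ω := by
  refine ⟨proj_inv χ, fun M hM => ?_⟩
  rw [proj, Matrix.smul_mul, Matrix.mul_smul, Finset.mul_sum, Finset.sum_mul]
  congr 1
  refine Finset.sum_congr rfl fun g _ => ?_
  rw [Matrix.mul_smul, Matrix.smul_mul, (inv_iff_commute M).1 hM]

theorem finrank_center :
    finrank ℂ (center G Ω) =
      Nat.card {χ : IrrCharacter G // mult G Ω (χ : G → ℂ) ≠ 0} := by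
  classical
  have e : center G Ω = Submodule.span ℂ
      (Set.range fun χ : {χ : IrrCharacter G // mult G Ω (χ : G → ℂ) ≠ 0} =>
        proj G Ω (χ.1 : G → ℂ)) := by
    refine le_antisymm (fun z hz => center_le_span_proj hz) (Submodule.span_le.2 ?_)
    rintro _ ⟨χ, rfl⟩
    exact proj_mem_center χ.1
  rw [e, finrank_span_eq_card proj_linearIndependent, Nat.card_eq_fintype_card]

/-- The Casimir map hits the whole centre. -/
theorem center_le_cas {z : Matrix Ω Ω ℂ} (hz : z ∈ center G Ω) :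
    ∃ M, Inv G Ω M ∧ cas G M = z := by
  have hG : (Nat.card G : ℂ) ≠ 0 := Nat.cast_ne_zero.mpr Nat.card_pos.ne'
  have h := center_le_span_proj hz
  clear hz
  induction h using Submodule.span_induction with
  | mem x hx =>
    obtain ⟨χ, rfl⟩ := hx
    have hd0 := Cfsg.Agent.Char.IsIrr.one_ne_zero χ.1.2
    obtain ⟨t, ht⟩ : ∃ t : ℂ,
        t = (Nat.card G : ℂ) * mult G Ω (χ.1 : G → ℂ) / (χ.1 : G → ℂ) 1 := ⟨_, rfl⟩
    have ht0 : t ≠ 0 := ht ▸ div_ne_zero (mul_ne_zero hG χ.2) hd0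
    refine ⟨t⁻¹ • proj G Ω (χ.1 : G → ℂ), fun g a b => ?_, ?_⟩
    · rw [Matrix.smul_apply, Matrix.smul_apply, proj_inv χ.1 g a b]
    · rw [cas_smul, cas_proj, ← ht, smul_smul, inv_mul_cancel₀ ht0, one_smul]
  | zero => exact ⟨0, fun _ _ _ => rfl, by simp [cas]⟩
  | add a b _ _ ha hb =>
    obtain ⟨A, hA, rfl⟩ := ha
    obtain ⟨B, hB, rfl⟩ := hb
    refine ⟨A + B, fun g x y => ?_, ?_⟩
    · rw [Matrix.add_apply, Matrix.add_apply, hA, hB]
    · rw [cas, cas, cas, ← Finset.sum_add_distrib]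
      exact Finset.sum_congr rfl fun g _ => by rw [Matrix.add_mul, Matrix.trace_add, add_smul]
  | smul r a _ ha =>
    obtain ⟨A, hA, rfl⟩ := ha
    refine ⟨r • A, fun g x y => ?_, cas_smul r A⟩
    rw [Matrix.smul_apply, Matrix.smul_apply, hA]

end Cfsg.Agent.Block.PermChar
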