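import Mathlib.GroupTheory.SchurZassenhaus
import Mathlib.GroupTheory.Sylow
import Mathlib.Algebra.Group.Subgroup.Pointwise
import Cfsg.Prelude.Def_Solvable
import Cfsg.Prelude.Def_Blocks
import Cfsg.Agent.Lib.Char.Clifford
import Cfsg.Agent.Lib.Char.Constituent

/-!
# Faithful irreducible characters of prime codegree
-/

set_option autoImplicit false
set_option linter.style.haveILetI false
set_option linter.unusedSectionVars false

open Cfsg
open scoped ComplexConjugate Pointwise

namespace Cfsg.Agent.Block.PrimeCodegree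

universe u

variable {G : Type u} [Group G] [Finite G]

open Cfsg.Agent.Char

theorem deg_sq_lt (χ : IrrCharacter G) {d : ℕ} (hd : (χ : G → ℂ) 1 = d) (h2 : 1 < d) :
    d * d < Nat.card G := by
  classical
  have h := sum_degree_sq (G := G)
  rw [← Finset.add_sum_erase _ _ (Finset.mem_univ χ), hd] at h
  have hmem : (⟨fun _ => 1, isIrr_one⟩ : IrrCharacter G) ∈ Finset.univ.erase χ :=
    Finset.mem_erase.mpr ⟨fun e => by
      have := congrFun (congrArg Subtype.val e) 1
      rw [hd] at this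
      simp only [] at this
      exact absurd (by exact_mod_cast this : (1 : ℕ) = d) h2.ne, Finset.mem_univ _⟩
  choose n hn0 hn using fun ψ : IrrCharacter G => IsIrr.one_eq_pos ψ.2
  simp only [hn] at h
  have h' : d ^ 2 + ∑ ψ ∈ Finset.univ.erase χ, n ψ ^ 2 = Nat.card G := by exact_mod_cast h
  have h1 := Finset.single_le_sum (f := fun ψ => n ψ ^ 2) (fun _ _ => Nat.zero_le _) hmem
  have := hn0 ⟨fun _ => 1, isIrr_one⟩
  nlinarith

theorem normal_of_lt {p d : ℕ} [Fact p.Prime] (hG : Nat.card G = p * d) (hlt : d < p)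
    (P : Subgroup G) (hP : Nat.card P = p) : P.Normal := by
  classical
  refine ⟨fun a ha g => ?_⟩
  let P' : Subgroup G := P.map (MulAut.conj g).toMonoidHom
  have hP' : Nat.card P' = p := by
    rw [Subgroup.card_map_of_injective (MulAut.conj g).injective, hP]
  suffices h : P' = P by
    rw [← h]
    exact ⟨a, ha, rfl⟩
  by_contra hne
  have hdis : P' ⊓ P = ⊥ := by
    refine (Subgroup.eq_bot_or_eq_top_of_prime_card ((P' ⊓ P).subgroupOf P')
      (hp := ⟨hP' ▸ Fact.out⟩)).elim (fun h => ?_) fun h => ?_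
    · rw [eq_bot_iff]
      intro x hx
      have : (⟨x, hx.1⟩ : P') ∈ (P' ⊓ P).subgroupOf P' := hx
      rw [h, Subgroup.mem_bot] at this
      exact Subgroup.mem_bot.mpr (congrArg Subtype.val this)
    · exfalso
      apply hne
      refine Subgroup.eq_of_le_of_card_ge ?_ (by rw [hP, hP'])
      intro x hx
      have : (⟨x, hx⟩ : P') ∈ (P' ⊓ P).subgroupOf P' := h ▸ Subgroup.mem_top _
      exact this.2
  have hinj : Function.Injective (fun q : P' × P => (q.1 : G) * q.2) := by
    rintro ⟨a, b⟩ ⟨c, e⟩ h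
    have h0 : (c : G)⁻¹ * a = e * (b : G)⁻¹ := by
      rw [inv_mul_eq_iff_eq_mul, ← mul_assoc, eq_mul_inv_iff_mul_eq]; exact h
    have hm : (c : G)⁻¹ * a ∈ P' ⊓ P :=
      ⟨P'.mul_mem (P'.inv_mem c.2) a.2, h0 ▸ P.mul_mem e.2 (P.inv_mem b.2)⟩
    rw [hdis, Subgroup.mem_bot] at hm
    have hac : (c : G) = a := inv_mul_eq_one.mp hm
    have hbe : (e : G) = b := mul_inv_eq_one.mp (h0 ▸ hm)
    exact Prod.ext (Subtype.ext hac.symm) (Subtype.ext hbe.symm)
  have hle := Nat.card_le_card_of_injective _ hinj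
  rw [Nat.card_prod, hP, hP', hG] at hle
  exact absurd (Nat.le_of_mul_le_mul_left hle (Fact.out : p.Prime).pos) hlt.not_ge

theorem card_centralizer_le (χ : IrrCharacter G) {p d : ℕ} [Fact p.Prime]
    (hd : (χ : G → ℂ) 1 = d) (hG : Nat.card G = p * d) (P : Subgroup G) [P.Normal]
    (hP : Nat.card P = p) : Nat.card (Subgroup.centralizer (P : Set G)) ≤ p := by
  classical
  cases nonempty_fintype G
  haveI := Fintype.ofFinite P
  haveI : IsCyclic P := isCyclic_of_prime_card hP
  have hcomm : ∀ a b : P, a * b = b * a := fun a b => ((IsCyclic.isMulCommutative (α := P)).is_comm.comm a b)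
  have hres := IsChar.res (IsIrr.isCharacter χ.2) P
  obtain ⟨θ, hθ⟩ := IsChar.exists_constituent' hres (by
    show (χ : G → ℂ) ((1 : P) : G) ≠ 0
    rw [Subgroup.coe_one]; exact IsIrr.one_ne_zero χ.2)
  obtain ⟨e, he⟩ := IsChar.classInner_nat hres (IsIrr.isCharacter θ.2)
  have hθ1 : (θ : P → ℂ) 1 = 1 := IsIrr.one_of_comm hcomm θ.2
  have hdeg := clifford_one P χ.2 θ.2 hθ
  rw [hd, hθ1, mul_one, he] at hdeg
  have hde : d = e * (inertia P (θ : P → ℂ)).index := by exact_mod_cast hdeg
  have hcl := clifford P χ.2 θ.2 hθ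
  rw [he] at hcl
  have horb : ∀ ψ ∈ conjOrbit P (θ : P → ℂ), IsIrrCharacter P ψ := fun ψ hψ => by
    obtain ⟨g, rfl⟩ := (mem_conjOrbit P).mp hψ
    exact IsIrr.conjN P θ.2 g
  have hnorm : classInner (fun n : P => (χ : G → ℂ) n) (fun n : P => (χ : G → ℂ) n) =
      ((e * e * (inertia P (θ : P → ℂ)).index : ℕ) : ℂ) := by
    rw [hcl, classInner_smul_left, classInner_smul_right, classInner_sum_left,
      Finset.sum_congr rfl (fun ψ hψ => show classInner ψ _ = 1 by
        rw [classInner_sum_right, Finset.sum_eq_single ψ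
          (fun φ hφ hne => classInner_irr_ne (horb ψ hψ) (horb φ hφ) hne.symm)
          (fun h => absurd hψ h), classInner_self_irr (horb ψ hψ)]),
      Finset.sum_const, card_conjOrbit, nsmul_one, Complex.conj_natCast]
    push_cast; ring
  rw [classInner_self] at hnorm
  have hnorm' : (Nat.card P : ℝ)⁻¹ * ∑ u : P, ‖(χ : G → ℂ) u‖ ^ 2 =
      ((e * e * (inertia P (θ : P → ℂ)).index : ℕ) : ℝ) := by exact_mod_cast hnorm
  have hself := classInner_self_irr χ.2
  rw [classInner_self] at hself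
  have hself' : (Nat.card G : ℝ)⁻¹ * ∑ g : G, ‖(χ : G → ℂ) g‖ ^ 2 = 1 := by exact_mod_cast hself
  rw [inv_mul_eq_iff_eq_mul₀ (by simp), mul_one] at hself'
  rw [inv_mul_eq_iff_eq_mul₀ (by simp)] at hnorm'
  have hle : ∑ u : P, ‖(χ : G → ℂ) u‖ ^ 2 ≤ ∑ g : G, ‖(χ : G → ℂ) g‖ ^ 2 := by
    rw [← Finset.sum_subtype (Finset.univ.filter (· ∈ P)) (fun g => by simp)
      (fun g => ‖(χ : G → ℂ) g‖ ^ 2)]
    exact Finset.sum_le_sum_of_subset_of_nonneg (Finset.filter_subset _ _)
      fun g _ _ => by positivity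
  rw [hnorm', hself', hP, hG] at hle
  have hle' : p * (e * e * (inertia P (θ : P → ℂ)).index) ≤ p * d := by exact_mod_cast hle
  have hle2 := Nat.le_of_mul_le_mul_left hle' (Fact.out : p.Prime).pos
  have hd0 : 0 < d := by
    rcases Nat.eq_zero_or_pos d with h | h
    · exfalso; rw [h, mul_zero] at hG; exact Nat.card_pos.ne' hG
    · exact h
  have he1 : e ≤ 1 := by
    rw [mul_assoc, ← hde] at hle2
    exact Nat.le_of_mul_le_mul_right (by rwa [one_mul]) hd0
  have hC : Subgroup.centralizer (P : Set G) ≤ inertia P (θ : P → ℂ) := by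
    intro g hg
    rw [mem_inertia]
    funext n
    rw [conjN_apply]
    refine congrArg _ (Subtype.ext ?_)
    show g * (n : G) * g⁻¹ = n
    rw [← Subgroup.mem_centralizer_iff.mp hg n n.2, mul_inv_cancel_right]
  have hidx : d ≤ (Subgroup.centralizer (P : Set G)).index :=
    calc d = e * (inertia P (θ : P → ℂ)).index := hde
      _ ≤ 1 * (inertia P (θ : P → ℂ)).index := Nat.mul_le_mul_right _ he1
      _ ≤ _ := by
        rw [one_mul]
        exact Nat.le_of_dvd (Nat.pos_of_ne_zero Subgroup.index_ne_zero_of_finite)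
          (Subgroup.index_dvd_of_le hC)
  have hmul := Subgroup.card_mul_index (Subgroup.centralizer (P : Set G))
  rw [hG] at hmul
  refine Nat.le_of_mul_le_mul_right ?_ hd0
  rw [← hmul]
  exact Nat.mul_le_mul_left _ hidx

theorem frobenius {p d : ℕ} [Fact p.Prime] (hG : Nat.card G = p * d) (h2 : 1 < d) (hlt : d < p)
    (P : Subgroup G) [P.Normal] (hP : Nat.card P = p)
    (hC : Nat.card (Subgroup.centralizer (P : Set G)) ≤ p) :
    ∃ H : Subgroup G, IsFrobeniusComplement H ∧ Nat.card ↥(frobeniusKernel H) = p := by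
  classical
  have hp : p.Prime := Fact.out
  haveI : IsCyclic P := isCyclic_of_prime_card hP
  have hidx : P.index = d := by
    have := Subgroup.card_mul_index P
    rw [hP, hG] at this
    exact Nat.eq_of_mul_eq_mul_left hp.pos this
  have hcopn : Nat.Coprime p d := hp.coprime_iff_not_dvd.mpr fun h =>
    absurd (Nat.le_of_dvd (by omega) h) hlt.not_ge
  obtain ⟨H, hH⟩ := Subgroup.exists_right_complement'_of_coprime (N := P)
    (by rw [hP, hidx]; exact hcopn)
  have hcH : Nat.card H = d := by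
    have := hH.card_mul
    rw [hP, hG] at this
    exact Nat.eq_of_mul_eq_mul_left hp.pos this
  have hdisj : ∀ x ∈ P, x ∈ H → x = 1 := fun x h1 h2 =>
    Subgroup.mem_bot.mp (hH.disjoint.le_bot ⟨h1, h2⟩)
  have hCP : ∀ x, (∀ z ∈ P, z * x = x * z) → x ∈ P := by
    intro x hx
    have hle : P ≤ Subgroup.centralizer (P : Set G) := fun z hz =>
      Subgroup.mem_centralizer_iff.mpr fun w hw =>
        congrArg Subtype.val ((IsCyclic.isMulCommutative (α := P)).is_comm.comm (⟨w, hw⟩ : P) ⟨z, hz⟩)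
    rw [Subgroup.eq_of_le_of_card_ge hle (hC.trans hP.ge)]
    exact Subgroup.mem_centralizer_iff.mpr hx
  have hfree : ∀ x, x ∉ P → ∀ z ∈ P, z * x = x * z → z = 1 := by
    intro x hx z hz hc
    by_contra hz1
    refine hx (hCP x fun w hw => ?_)
    obtain ⟨i, hi⟩ : (⟨w, hw⟩ : P) ∈ Subgroup.zpowers (⟨z, hz⟩ : P) :=
      mem_zpowers_of_prime_card hP fun e => hz1 (congrArg Subtype.val e)
    have hi' : z ^ i = w := congrArg Subtype.val hi
    rw [← hi']
    exact ((show Commute z x from hc).zpow_left i).eq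
  have hne : ∀ h ∈ H, h ≠ 1 → h ∉ P := fun h hh h1 hP' => h1 (hdisj h hP' hh)
  have hdec : ∀ g : G, ∃ a ∈ P, ∃ h ∈ H, a * h = g := fun g => by
    obtain ⟨⟨⟨a, ha⟩, ⟨h, hh⟩⟩, e⟩ := hH.2 g
    exact ⟨a, ha, h, hh, e⟩
  have hconj_mem : ∀ (g x : G), x ∈ MulAut.conj g • H ↔ g⁻¹ * x * g ∈ H := fun g x => by
    rw [Subgroup.mem_pointwise_smul_iff_inv_smul_mem, MulAut.smul_def]
    simp
  refine ⟨H, ⟨?_, ?_, ?_⟩, ?_⟩
  · intro e
    rw [e, Subgroup.card_bot] at hcH
    omega
  · intro e
    rw [e, Subgroup.card_top, hG] at hcH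
    have := hp.two_le
    nlinarith
  · intro g hg
    rw [eq_bot_iff]
    rintro x ⟨hx, hxg⟩
    replace hxg := (hconj_mem g x).mp hxg
    obtain ⟨a, ha, h, hh, rfl⟩ := hdec g
    have hy : a⁻¹ * x * a ∈ H := by
      have := H.mul_mem (H.mul_mem hh hxg) (H.inv_mem hh)
      simpa [mul_assoc] using this
    have hxy : x⁻¹ * (a⁻¹ * x * a) = 1 := by
      refine hdisj _ ?_ (H.mul_mem (H.inv_mem hx) hy)
      have := P.mul_mem ((inferInstance : P.Normal).conj_mem _ (P.inv_mem ha) x⁻¹) ha
      simpa [mul_assoc] using this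
    refine Subgroup.mem_bot.mpr (by_contra fun hx1 => hg ?_)
    have hca : a * x = x * a := by
      have e := (inv_mul_eq_one.mp hxy)
      calc a * x = a * (a⁻¹ * x * a) := by rw [← e]
        _ = _ := by group
    rw [hfree x (hne x hx hx1) a ha hca, one_mul]
    exact hh
  · have hset : frobeniusKernel H = (P : Set G) := by
      ext x
      refine ⟨fun hx => ?_, fun hx => ?_⟩
      · by_contra hxP
        rcases hx with rfl | hx
        · exact hxP P.one_mem
        obtain ⟨a, ha, h, hh, rfl⟩ := hdec x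
        have hhP : h ∉ P := fun e => hxP (P.mul_mem ha e)
        let F : P → P := fun z => ⟨z * h * (z : G)⁻¹ * h⁻¹, by
          have := P.mul_mem z.2 ((inferInstance : P.Normal).conj_mem _ (P.inv_mem z.2) h)
          simpa [mul_assoc] using this⟩
        have hF : Function.Injective F := by
          intro z w hzw
          have e : (z : G) * h * (z : G)⁻¹ = (w : G) * h * (w : G)⁻¹ :=
            mul_right_cancel (congrArg Subtype.val hzw)
          have e2 : (w : G)⁻¹ * z * h = h * ((w : G)⁻¹ * z) := by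
            calc (w : G)⁻¹ * z * h = (w : G)⁻¹ * ((z : G) * h * (z : G)⁻¹) * z := by group
              _ = (w : G)⁻¹ * ((w : G) * h * (w : G)⁻¹) * z := by rw [e]
              _ = _ := by group
          exact Subtype.ext (inv_mul_eq_one.mp
            (hfree h hhP _ (P.mul_mem (P.inv_mem w.2) z.2) e2)).symm
        obtain ⟨z, hz⟩ := (Finite.injective_iff_surjective.mp hF) ⟨a, ha⟩
        have hz' : (z : G) * h * (z : G)⁻¹ * h⁻¹ = a := congrArg Subtype.val hz
        refine hx z ((hconj_mem _ _).mpr ?_)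
        rw [← hz']
        simpa [mul_assoc] using hh
      · by_cases h1 : x = 1
        · exact Or.inl h1
        refine Or.inr fun g hg => h1 ?_
        rw [hconj_mem] at hg
        have h0 := hdisj _ (by
          simpa using (inferInstance : P.Normal).conj_mem x hx g⁻¹) hg
        calc x = g * (g⁻¹ * x * g) * g⁻¹ := by group
          _ = 1 := by rw [h0]; group
    rw [hset]
    exact hP

theorem main (χ : IrrCharacter G) (p : ℕ) (hp : p.Prime)
    (hcod : Nat.card G = p * charDegree (χ : G → ℂ)) :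
    (IsCyclic G ∧ Nat.card G = p) ∨
      ∃ H : Subgroup G, IsFrobeniusComplement H ∧ Nat.card ↥(frobeniusKernel H) = p := by
  haveI := Fact.mk hp
  obtain ⟨d, hd0, hd⟩ := IsIrr.one_eq_pos χ.2
  have hdd : charDegree (χ : G → ℂ) = d := by
    rw [charDegree, hd, Complex.natCast_re, Nat.floor_natCast]
  rw [hdd] at hcod
  rcases Nat.lt_or_ge 1 d with h2 | h2
  · have hlt : d < p := by
      have := deg_sq_lt χ hd h2
      rw [hcod] at this
      exact lt_of_mul_lt_mul_right this (Nat.zero_le d)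
    obtain ⟨x, hx⟩ := exists_prime_orderOf_dvd_card' (G := G) p (hcod ▸ dvd_mul_right p d)
    have hP : Nat.card (Subgroup.zpowers x) = p := by rw [Nat.card_zpowers, hx]
    haveI := normal_of_lt hcod hlt _ hP
    exact Or.inr (frobenius hcod h2 hlt _ hP (card_centralizer_le χ hd hcod _ hP))
  · have hd1 : d = 1 := le_antisymm h2 hd0
    rw [hd1, mul_one] at hcod
    exact Or.inl ⟨isCyclic_of_prime_card hcod, hcod⟩

end Cfsg.Agent.Block.PrimeCodegree
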