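import Cfsg.Agent.Lib.Block.DegreePrimes
import Cfsg.Agent.Lib.Block.OrderPrime
import Cfsg.Agent.Lib.Block.DegreeRel.Solvable
import Cfsg.Agent.Lib.Grp.Solvable
import Cfsg.Agent.Lib.Char.Kernel
import Cfsg.Agent.Lib.Char.ModP

/-!
Groups all of whose non-linear degrees are prime: they are solvable and have at most three degrees.
-/

set_option autoImplicit false
set_option linter.unusedSectionVars false
set_option linter.style.haveILetI false

namespace Cfsg.Agent.Block.PrimeNL

open Cfsg Cfsg.Agent Cfsg.Agent.Char Cfsg.Agent.Block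
open scoped commutatorElement

universe u

/-- Every degree is one or a prime. -/
def AllPrime (G : Type u) [Group G] : Prop := ∀ d ∈ charDegrees G, d = 1 ∨ d.Prime

variable {G : Type u} [Group G] [Finite G]

theorem allPrime_quotient (h : AllPrime G) (N : Subgroup G) [N.Normal] : AllPrime (G ⧸ N) := by
  rintro d ⟨χ, rfl⟩
  exact h _ ⟨⟨fun g => (χ : G ⧸ N → ℂ) (QuotientGroup.mk' N g),
    IsIrr.comp_surjective _ (QuotientGroup.mk'_surjective N) χ.2⟩, by simp [charDegree]⟩

theorem allPrime_normal (h : AllPrime G) (N : Subgroup G) [N.Normal] : AllPrime N := by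
  classical
  haveI := Fintype.ofFinite G
  haveI := Fintype.ofFinite N
  rintro d ⟨θ, rfl⟩
  obtain ⟨χ, hχ⟩ := IsChar.exists_constituent' (isCharacter_indFun N (IsIrr.isCharacter θ.2))
    (by rw [indFun_one_eq]
        exact mul_ne_zero (Nat.cast_ne_zero.2 Subgroup.index_ne_zero_of_finite)
          (irr_one_ne_zero θ))
  rw [classInner_indFun N _ (IsIrr.classFun χ.2)] at hχ
  have hne : classInner (fun n : N => (χ : G → ℂ) n) (θ : N → ℂ) ≠ 0 := by
    rw [← classInner_conj_symm]
    exact fun h => hχ (by simpa using h)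
  obtain ⟨e, he, -⟩ := Ext.ratio_dvd_index' χ.2 θ.2 hne
  rw [charDeg_spec' χ, charDeg_spec' θ] at he
  have hd : charDegree (θ : N → ℂ) ∣ charDegree (χ : G → ℂ) :=
    ⟨e, by rw [mul_comm]; exact_mod_cast he⟩
  rcases h _ ⟨χ, rfl⟩ with h1 | h1
  · exact Or.inl (Nat.dvd_one.1 (h1 ▸ hd))
  · rcases (Nat.dvd_prime h1).1 hd with h2 | h2
    · exact Or.inl h2
    · exact Or.inr (h2 ▸ h1)

theorem normal_of_commutator_le {T : Subgroup G} (h : commutator G ≤ T) : T.Normal := by
  refine ⟨fun x hx g => ?_⟩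
  rw [show g * x * g⁻¹ = ⁅g, x⁆ * x by rw [commutatorElement_def]; group]
  exact T.mul_mem (h (Subgroup.commutator_mem_commutator (Subgroup.mem_top g) (Subgroup.mem_top x))) hx

theorem exists_nonlinear (hna : commutator G ≠ ⊥) :
    ∃ χ : IrrCharacter G, charDegree (χ : G → ℂ) ≠ 1 := by
  by_contra hno
  push Not at hno
  refine hna (eq_bot_iff.2 fun x hx => Subgroup.mem_bot.2 ?_)
  refine isConj_one_left.mp ((isConj_iff_irr x 1).mpr fun χ => ?_)
  obtain ⟨l, hl⟩ := linearHom_of_isCharacter (IsIrr.isCharacter χ.2) (by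
    rw [charDeg_spec' χ, hno χ, Nat.cast_one])
  simp [hl, MonoidHom.mem_ker.1 (Abelianization.commutator_subset_ker l hx)]

/-- With a unique minimal normal subgroup equal to the derived subgroup, every prime dividing the
order is that of the derived subgroup or divides the degree. -/
theorem two_primes_sylow [Group.IsSolvable G] (hne : commutator G ≠ ⊥)
    (hmin : ∀ M : Subgroup G, M.Normal → M ≠ ⊥ → commutator G ≤ M) {η : IrrCharacter G} {r : ℕ}
    (hr : r ≠ 1) (hη : charDegree (η : G → ℂ) = r) :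
    ∃ s : ℕ, s.Prime ∧ IsPGroup s (commutator G) ∧
      ∀ t : ℕ, t.Prime → t ∣ Nat.card G → t ∣ r ∨ t = s := by
  classical
  haveI := Fintype.ofFinite G
  set Q := commutator G with hQ
  haveI := Fintype.ofFinite Q
  have hmin' : ∀ M : Subgroup G, M.Normal → M ≤ Q → M = ⊥ ∨ M = Q := fun M hM hle =>
    or_iff_not_imp_left.2 fun h => le_antisymm hle (hmin M hM h)
  obtain ⟨hab, -⟩ := Grp.minimal_normal_solvable (N := Q) inferInstance hne hmin'
  obtain ⟨s, hs, hsQ⟩ := Grp.minimal_normal_solvable_isPGroup (N := Q) inferInstance hne hmin'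
  refine ⟨s, hs, hsQ, fun t ht htd => or_iff_not_imp_right.2 fun hts => ?_⟩
  haveI := Fact.mk ht
  haveI := Fact.mk hs
  obtain ⟨a, ha⟩ := exists_prime_orderOf_dvd_card' t htd
  have hcomm : ∀ x ∈ Q, ∀ y ∈ Q, Commute x y := fun x hx y hy =>
    congrArg (fun z : Q => (z : G)) (mul_comm' (⟨x, hx⟩ : Q) ⟨y, hy⟩)
  have hmemQ : ∀ g x : G, g * x * g⁻¹ * x⁻¹ ∈ Q := fun g x => by
    rw [← commutatorElement_def]
    exact Subgroup.commutator_mem_commutator (Subgroup.mem_top g) (Subgroup.mem_top x)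
  -- the centralizer of `a` in the derived subgroup is trivial
  have hfix : ∀ n ∈ Q, Commute a n → n = 1 := by
    set C : Subgroup G := Subgroup.centralizer ({a} : Set G) ⊓ Q with hC
    have hCn : C.Normal := by
      refine ⟨fun n hn g => Subgroup.mem_inf.2 ⟨?_, (inferInstance : Q.Normal).conj_mem n hn.2 g⟩⟩
      rw [Subgroup.mem_centralizer_singleton_iff]
      have h1 : Commute n a := Subgroup.mem_centralizer_singleton_iff.1 hn.1
      have h2 : Commute n (g⁻¹ * a * g) := by
        have hc := hcomm n hn.2 _ (hmemQ g⁻¹ a)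
        have := hc.mul_right h1
        rwa [inv_inv, inv_mul_cancel_right] at this
      have h3 := h2.map (MulAut.conj g).toMonoidHom
      simp only [MulEquiv.coe_toMonoidHom, MulAut.conj_apply] at h3
      rw [show g * (g⁻¹ * a * g) * g⁻¹ = a by group] at h3
      exact h3.eq
    rcases eq_or_ne C ⊥ with h | h
    · intro n hn hc
      exact Subgroup.mem_bot.1 (h ▸ Subgroup.mem_inf.2
        ⟨Subgroup.mem_centralizer_singleton_iff.2 hc.symm.eq, hn⟩)
    exfalso
    have hle := hmin C hCn h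
    have hQa : ∀ n ∈ Q, Commute n a := fun n hn =>
      Subgroup.mem_centralizer_singleton_iff.1 (hle hn).1
    have hcent : a ∈ Subgroup.center G := by
      refine Subgroup.mem_center_iff.2 fun g => ?_
      set c := g * a * g⁻¹ * a⁻¹ with hc
      have hcQ : c ∈ Q := hmemQ g a
      have h1 : (c * a) ^ t = 1 := by
        rw [hc, inv_mul_cancel_right, conj_pow, ← ha, pow_orderOf_eq_one, mul_one, mul_inv_cancel]
      rw [(hQa c hcQ).mul_pow, show a ^ t = 1 from ha ▸ pow_orderOf_eq_one a, mul_one] at h1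
      obtain ⟨k, hk⟩ := hsQ ⟨c, hcQ⟩
      have hk' : c ^ s ^ k = 1 := congrArg (fun z : Q => (z : G)) hk
      have hc1 : c = 1 := orderOf_eq_one_iff.1 (Nat.eq_one_of_dvd_coprimes
        (Nat.Coprime.pow_right k ((Nat.coprime_primes ht hs).2 hts))
        (orderOf_dvd_of_pow_eq_one h1) (orderOf_dvd_of_pow_eq_one hk'))
      rw [hc, mul_inv_eq_one, mul_inv_eq_iff_eq_mul] at hc1
      exact hc1
    have hZn : (Subgroup.zpowers a).Normal := by
      refine ⟨fun x hx g => ?_⟩
      have hx' : x ∈ Subgroup.center G := Subgroup.zpowers_le.2 hcent hx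
      rwa [Subgroup.mem_center_iff.1 hx' g, mul_inv_cancel_right]
    have hZ := hmin _ hZn fun e => ht.ne_one (by
      rw [← ha, orderOf_eq_one_iff]
      exact Subgroup.mem_bot.1 (e ▸ Subgroup.mem_zpowers a))
    obtain ⟨n, hn, hn1⟩ := (Subgroup.bot_or_exists_ne_one Q).resolve_left hne
    obtain ⟨i, rfl⟩ := Subgroup.mem_zpowers_iff.1 (hZ hn)
    obtain ⟨k, hk⟩ := hsQ ⟨_, hn⟩
    refine hn1 (orderOf_eq_one_iff.1 (Nat.eq_one_of_dvd_coprimes
      (Nat.Coprime.pow_right k ((Nat.coprime_primes ht hs).2 hts)) (ha ▸ orderOf_dvd_of_pow_eq_one ?_)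
      (orderOf_dvd_of_pow_eq_one (congrArg (fun z : Q => (z : G)) hk))))
    rw [← zpow_natCast, ← zpow_mul, mul_comm, zpow_mul, zpow_natCast, pow_orderOf_eq_one, one_zpow]
  -- a nonprincipal constituent
  obtain ⟨x, hxQ, hx⟩ : ∃ x ∈ Q, (η : G → ℂ) x ≠ (η : G → ℂ) 1 := by
    by_contra hno
    push Not at hno
    obtain ⟨ψ, hψ, hψη⟩ := IsIrr.exists_factor_quotient η.2 Q hno
    have h1 := IsIrr.one_of_comm (G := G ⧸ Q) (fun u v => by
      induction u using QuotientGroup.induction_on with | _ u =>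
      induction v using QuotientGroup.induction_on with | _ v =>
      rw [← QuotientGroup.mk_mul, ← QuotientGroup.mk_mul, QuotientGroup.eq]
      rw [show (u * v)⁻¹ * (v * u) = v⁻¹ * u⁻¹ * v⁻¹⁻¹ * u⁻¹⁻¹ by group]
      exact hmemQ v⁻¹ u⁻¹) hψ
    rw [show (1 : G ⧸ Q) = ((1 : G) : G ⧸ Q) from rfl, hψη, charDeg_spec' η, hη] at h1
    exact hr (by exact_mod_cast h1)
  obtain ⟨θ, hθc, hθx⟩ := exists_nonprincipal_constituent
    (χ := fun n : Q => (η : G → ℂ) n) (IsChar.res (IsIrr.isCharacter η.2) Q) (g := ⟨x, hxQ⟩) hx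
  set T := inertia Q (θ : Q → ℂ) with hT
  have hQT : Q ≤ T := le_inertia Q (IsIrr.classFun θ.2)
  haveI := normal_of_commutator_le hQT
  have hnot : a ∉ T := by
    intro h
    refine hθx ?_
    have := eq_one_of_conjN_fixed Q (g := a) (fun m hm n hn he => ?_) θ.2 h
    · rw [this]
    refine hfix n hn ?_
    rw [mul_assoc, ← mul_assoc n, ← (hcomm m hm n hn).eq, mul_assoc] at he
    exact mul_left_cancel he
  have htT : t ∣ T.index := by
    by_contra h
    obtain ⟨m, hm⟩ := exists_pow_eq_self_of_coprime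
      (x := a) (n := T.index) (by rw [ha]; exact (ht.coprime_iff_not_dvd.2 h).symm)
    exact hnot (hm ▸ pow_mem (Subgroup.pow_index_mem T a) m)
  obtain ⟨m, hm, -⟩ := IsChar.exists_decomp_inner (IsChar.res (IsIrr.isCharacter η.2) Q)
  have h1 := clifford_one Q η.2 θ.2 hθc
  rw [hm θ, charDeg_spec' η, charDeg_spec' θ, hη] at h1
  have h2 : r = m θ * T.index * charDegree (θ : Q → ℂ) := by exact_mod_cast h1
  exact h2 ▸ dvd_mul_of_dvd_left (dvd_mul_of_dvd_right htT _) _

theorem two_primes [Group.IsSolvable G] (hne : commutator G ≠ ⊥)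
    (hmin : ∀ M : Subgroup G, M.Normal → M ≠ ⊥ → commutator G ≤ M) {η : IrrCharacter G} {r : ℕ}
    (hr : r ≠ 1) (hη : charDegree (η : G → ℂ) = r) :
    ∃ s : ℕ, ∀ t : ℕ, t.Prime → t ∣ Nat.card G → t ∣ r ∨ t = s :=
  (two_primes_sylow hne hmin hr hη).imp fun _ h => h.2.2

/-- A degree coprime to the index of `K` times a degree of the quotient is a degree. -/
theorem mul_mem_of_coprime (K : Subgroup G) [K.Normal] (χ : IrrCharacter G) (η : IrrCharacter (G ⧸ K))
    (hcop : Nat.Coprime (charDegree (χ : G → ℂ)) K.index) :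
    charDegree (χ : G → ℂ) * charDegree (η : G ⧸ K → ℂ) ∈ charDegrees G := by
  classical
  haveI := Fintype.ofFinite G
  haveI : Fintype K := Fintype.ofFinite K
  set f := QuotientGroup.mk' K with hf
  obtain ⟨θ, hθ⟩ := IsChar.exists_constituent' (IsChar.res (irr_isChar χ) K)
    (show (χ : G → ℂ) ((1 : K) : G) ≠ 0 from irr_one_ne_zero χ)
  obtain ⟨e, he, hed⟩ := Ext.ratio_dvd_index' χ.2 θ.2 hθ
  have he' : charDegree (χ : G → ℂ) = e * charDegree (θ : K → ℂ) := PIto.charDeg_eq (by
    rw [he, charDeg_spec' θ, Nat.cast_mul])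
  have he1 : e = 1 := Nat.eq_one_of_dvd_coprimes hcop ⟨_, he'⟩ hed
  have hres : IsIrrCharacter K (fun x : K => (χ : G → ℂ) x) := by
    rw [eq_of_constituent_degree (IsChar.res (irr_isChar χ) K) θ.2 hθ (by
      rw [Subgroup.coe_one, he, he1, Nat.cast_one, one_mul])]
    exact θ.2
  have hirr := DegreeRel.irr_mul_of_res K χ.2
    (IsIrr.comp_surjective f (QuotientGroup.mk'_surjective K) η.2 :
      IsIrrCharacter G fun g => (η : G ⧸ K → ℂ) (f g)) hres
    fun x => by
      show (η : G ⧸ K → ℂ) (f x) = (η : G ⧸ K → ℂ) (f 1)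
      rw [map_one, hf, QuotientGroup.mk'_apply, (QuotientGroup.eq_one_iff _).2 x.2]
  refine ⟨⟨_, hirr⟩, PIto.charDeg_eq ?_⟩
  show ((χ : G → ℂ) * fun g => (η : G ⧸ K → ℂ) (f g)) 1 = _
  rw [Pi.mul_apply, map_one, Nat.cast_mul, charDeg_spec' χ, charDeg_spec' η]

/-- A nonabelian solvable group has a quotient with a nonlinear degree `r` whose order has only the
primes of `r` and one further prime. -/
theorem exists_minimal_quotient [Group.IsSolvable G] (hab : commutator G ≠ ⊥) :
    ∃ (K : Subgroup G) (_ : K.Normal) (η : IrrCharacter (G ⧸ K)) (s : ℕ),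
      charDegree (η : G ⧸ K → ℂ) ≠ 1 ∧
      ∀ t : ℕ, t.Prime → t ∣ K.index → t ∣ charDegree (η : G ⧸ K → ℂ) ∨ t = s := by
  classical
  obtain ⟨K, ⟨hKn, hK⟩, hmax⟩ := Set.Finite.exists_maximal
    (s := {K : Subgroup G | K.Normal ∧ ¬ commutator G ≤ K}) (Set.toFinite _)
    ⟨⊥, inferInstance, fun e => hab (eq_bot_iff.2 e)⟩
  set f := QuotientGroup.mk' K with hf
  have hfs : Function.Surjective f := QuotientGroup.mk'_surjective K
  have hne : commutator (G ⧸ K) ≠ ⊥ := fun e => hK (by
    rw [commutator_def, Subgroup.commutator_le]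
    intro a _ b _
    rw [← QuotientGroup.ker_mk' K, MonoidHom.mem_ker, map_commutatorElement, ← Subgroup.mem_bot, ← e]
    exact Subgroup.commutator_mem_commutator (Subgroup.mem_top _) (Subgroup.mem_top _))
  have hmin : ∀ M : Subgroup (G ⧸ K), M.Normal → M ≠ ⊥ → commutator (G ⧸ K) ≤ M := by
    intro M hM hMne
    have hle : K ≤ M.comap f := fun k hk => by
      rw [Subgroup.mem_comap, hf, QuotientGroup.mk'_apply, (QuotientGroup.eq_one_iff k).2 hk]
      exact M.one_mem
    have hM' : commutator G ≤ M.comap f := by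
      by_contra hno
      refine hMne (eq_bot_iff.2 fun x hx => Subgroup.mem_bot.2 ?_)
      obtain ⟨g, rfl⟩ := hfs x
      exact (QuotientGroup.eq_one_iff g).2 (hmax ⟨hM.comap f, hno⟩ hle hx)
    rw [commutator_def, Subgroup.commutator_le]
    intro a _ b _
    obtain ⟨a', rfl⟩ := hfs a
    obtain ⟨b', rfl⟩ := hfs b
    rw [← map_commutatorElement]
    exact hM' (Subgroup.commutator_mem_commutator (Subgroup.mem_top a') (Subgroup.mem_top b'))
  haveI : Group.IsSolvable (G ⧸ K) := solvable_of_surjective hfs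
  obtain ⟨η, hη1⟩ := exists_nonlinear hne
  obtain ⟨s, hs⟩ := two_primes hne hmin hη1 rfl
  exact ⟨K, hKn, η, s, hη1, fun t ht htd => hs t ht (Subgroup.index_eq_card (H := K) ▸ htd)⟩

theorem deg_one_of_abelian (hab : commutator G = ⊥) (χ : IrrCharacter G) :
    charDegree (χ : G → ℂ) = 1 := by
  have h1 := IsIrr.one_of_comm (fun a b => (commutatorElement_eq_one_iff_mul_comm.1
    (Subgroup.mem_bot.1 (hab ▸ Subgroup.commutator_mem_commutator (Subgroup.mem_top a)
      (Subgroup.mem_top b))))) χ.2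
  rw [charDeg_spec' χ] at h1
  exact_mod_cast h1

/-- A solvable group with all non-linear degrees prime has at most three degrees. -/
theorem solvable_degrees [Group.IsSolvable G] (h : AllPrime G) :
    ∃ r s : ℕ, charDegrees G ⊆ {1, r, s} := by
  classical
  by_cases hab : commutator G = ⊥
  · refine ⟨1, 1, ?_⟩
    rintro d ⟨χ, rfl⟩
    exact Set.mem_insert_iff.2 (Or.inl (deg_one_of_abelian hab χ))
  obtain ⟨K, hKn, η, s, hη1, hs⟩ := exists_minimal_quotient hab
  have hr : (charDegree (η : G ⧸ K → ℂ)).Prime :=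
    (allPrime_quotient h K _ ⟨η, rfl⟩).resolve_left hη1
  refine ⟨charDegree (η : G ⧸ K → ℂ), s, ?_⟩
  rintro q ⟨χ, rfl⟩
  by_contra hmem
  simp only [Set.mem_insert_iff, Set.mem_singleton_iff, not_or] at hmem
  obtain ⟨hq1, hqr, hqs⟩ := hmem
  have hq : (charDegree (χ : G → ℂ)).Prime := (h _ ⟨χ, rfl⟩).resolve_left hq1
  have hcop : Nat.Coprime (charDegree (χ : G → ℂ)) K.index := hq.coprime_iff_not_dvd.2 fun hd => by
    rcases hs _ hq hd with h2 | h2
    exacts [hqr ((Nat.prime_dvd_prime_iff_eq hq hr).1 h2), hqs h2]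
  rcases h _ (mul_mem_of_coprime K χ η hcop) with h1 | h1
  · exact hq1 (Nat.eq_one_of_mul_eq_one_right h1)
  · exact Nat.not_prime_mul hq1 hr.ne_one h1

/-- The degree graph of a solvable group has at most two components. -/
theorem solvable_components [Group.IsSolvable G] :
    Nat.card ((degreeGraph G).induce (degreePrimes G)).ConnectedComponent ≤ 2 := by
  classical
  by_cases hab : commutator G = ⊥
  · haveI : IsEmpty ((degreeGraph G).induce (degreePrimes G)).ConnectedComponent := ⟨fun c => by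
      induction c using SimpleGraph.ConnectedComponent.ind with
      | h v =>
        obtain ⟨hv, d, ⟨χ, rfl⟩, hd⟩ := v.2
        rw [deg_one_of_abelian hab χ] at hd
        exact hv.ne_one (Nat.dvd_one.1 hd)⟩
    simp
  obtain ⟨K, hKn, η, s, hη1, hs⟩ := exists_minimal_quotient hab
  set r := charDegree (η : G ⧸ K → ℂ) with hr'
  have hrG : r ∈ charDegrees G :=
    ⟨⟨fun g => (η : G ⧸ K → ℂ) (QuotientGroup.mk' K g),
      IsIrr.comp_surjective _ (QuotientGroup.mk'_surjective K) η.2⟩, by simp [charDegree, hr']⟩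
  obtain ⟨t₀, ht₀, ht₀r⟩ := Nat.exists_prime_and_dvd hη1
  set Γ := (degreeGraph G).induce (degreePrimes G)
  have near : ∀ (a b : degreePrimes G) (d : ℕ), d ∈ charDegrees G → (a : ℕ) ∣ d → (b : ℕ) ∣ d →
      Γ.Reachable a b := by
    intro a b d hd ha hb
    by_cases hab' : a = b
    · rw [hab']
    have hne : (a : ℕ) ≠ b := fun e => hab' (Subtype.ext e)
    exact SimpleGraph.Adj.reachable (show (degreeGraph G).Adj a b from
      ⟨hne, a.2.1, b.2.1, d, hd, ((Nat.coprime_primes a.2.1 b.2.1).2 hne).mul_dvd_of_dvd_of_dvd ha hb⟩)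
  let v₀ : degreePrimes G := ⟨t₀, ht₀, r, hrG, ht₀r⟩
  have hcase : ∀ v : degreePrimes G,
      Γ.Reachable v v₀ ∨ ∃ hsv : s ∈ degreePrimes G, Γ.Reachable v ⟨s, hsv⟩ := by
    intro v
    obtain ⟨hv, d, ⟨χ, rfl⟩, hvd⟩ := v.2
    by_cases hcop : Nat.Coprime (charDegree (χ : G → ℂ)) K.index
    · exact Or.inl (near v v₀ _ (mul_mem_of_coprime K χ η hcop) (hvd.trans (dvd_mul_right _ _))
        (ht₀r.trans (dvd_mul_left _ _)))
    · obtain ⟨t, ht, htd, hti⟩ := Nat.Prime.not_coprime_iff_dvd.1 hcop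
      have htv : t ∈ degreePrimes G := ⟨ht, _, ⟨χ, rfl⟩, htd⟩
      have h1 := near v ⟨t, htv⟩ _ ⟨χ, rfl⟩ hvd htd
      rcases hs t ht hti with h2 | h2
      · exact Or.inl (h1.trans (near ⟨t, htv⟩ v₀ r hrG h2 ht₀r))
      · subst h2
        exact Or.inr ⟨htv, h1⟩
  let f : Bool → Γ.ConnectedComponent := fun b =>
    if hsv : s ∈ degreePrimes G then
      (if b then Γ.connectedComponentMk v₀ else Γ.connectedComponentMk ⟨s, hsv⟩)
    else Γ.connectedComponentMk v₀
  have hf : Function.Surjective f := by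
    intro c
    induction c using SimpleGraph.ConnectedComponent.ind with
    | h v =>
      rcases hcase v with h1 | ⟨hsv, h1⟩
      · exact ⟨true, by
          rw [SimpleGraph.ConnectedComponent.eq.2 h1]
          simp [f]⟩
      · exact ⟨false, by
          rw [SimpleGraph.ConnectedComponent.eq.2 h1]
          simp [f, hsv]⟩
  exact (Nat.card_le_card_of_surjective f hf).trans (by simp)

variable {S : Type u} [Group S] [Finite S] [IsSimpleGroup S]

/-- No nonabelian simple group has all non-linear degrees prime. -/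
theorem not_simple (hna : ¬ IsMulCommutative S) (h : AllPrime S) : False := by
  classical
  haveI := Fintype.ofFinite S
  obtain ⟨p, hp5, χ, hχ, hmax⟩ : ∃ p : ℕ, 5 ≤ p ∧ ∃ χ : IrrCharacter S,
      (charDegree (χ : S → ℂ) = p ∧ p.Prime) ∧ ∀ ψ : IrrCharacter S, charDegree (ψ : S → ℂ) ≤ p := by
    haveI : Nonempty (IrrCharacter S) := ⟨trivialIrr S⟩
    obtain ⟨χ, -, hmax⟩ := Finset.exists_max_image (Finset.univ : Finset (IrrCharacter S))
      (fun ψ => charDegree (ψ : S → ℂ)) Finset.univ_nonempty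
    obtain ⟨a, b, c, hab, hbc, hac, ha, hb, hc⟩ := DegP.simple_three hna
    have hle : ∀ x ∈ degreePrimes S, x ≤ charDegree (χ : S → ℂ) := by
      rintro x ⟨hx, d, ⟨ψ, rfl⟩, hd⟩
      refine le_trans (Nat.le_of_dvd ?_ hd) (hmax ψ (Finset.mem_univ _))
      rcases h _ ⟨ψ, rfl⟩ with h1 | h1
      · omega
      · exact h1.pos
    have hge : 4 ≤ charDegree (χ : S → ℂ) := by
      have := ha.1.two_le; have := hb.1.two_le; have := hc.1.two_le
      have := hle a ha; have := hle b hb; have := hle c hc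
      omega
    have hpp : (charDegree (χ : S → ℂ)).Prime := (h _ ⟨χ, rfl⟩).resolve_left (by omega)
    refine ⟨_, ?_, χ, ⟨rfl, hpp⟩, fun ψ => hmax ψ (Finset.mem_univ _)⟩
    rcases Nat.lt_or_ge (charDegree (χ : S → ℂ)) 5 with h5 | h5
    · exact absurd (show charDegree (χ : S → ℂ) = 4 by omega) fun e => by
        rw [e] at hpp; exact absurd hpp (by norm_num)
    · exact h5
  obtain ⟨hdeg, hp⟩ := hχ
  haveI := Fact.mk hp
  have hχne : χ ≠ trivialIrr S := fun e => by
    have h1 : charDegree (χ : S → ℂ) = 1 := by rw [e]; simp [trivialIrr, charDegree]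
    omega
  obtain ⟨P⟩ := (inferInstance : Nonempty (Sylow p S))
  have hpS : p ∣ Nat.card S := hdeg ▸ charDeg_dvd χ
  haveI : Nontrivial (P : Subgroup S) :=
    (Subgroup.nontrivial_iff_ne_bot _).2 (P.ne_bot_of_dvd_card hpS)
  set Z := Subgroup.center (P : Subgroup S) with hZ
  haveI : Fintype Z := Fintype.ofFinite Z
  haveI : Fintype (P : Subgroup S) := Fintype.ofFinite _
  have hvan : ∀ z : Z, z ≠ 1 → (χ : S → ℂ) ((z : (P : Subgroup S)) : S) = 0 := by
    intro z hz
    have hz' : ((z : (P : Subgroup S)) : S) ≠ 1 := fun e => hz (Subtype.ext (Subtype.ext e))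
    refine DegP.eq_zero_of_coprime hna hχne hz' ?_
    rw [hdeg, hp.coprime_iff_not_dvd]
    refine fun hd => P.not_dvd_index (hd.trans (Subgroup.index_dvd_of_le fun y hy => ?_))
    rw [Subgroup.mem_centralizer_singleton_iff]
    exact congrArg (fun w : (P : Subgroup S) => (w : S)) (Subgroup.mem_center_iff.mp z.2 ⟨y, hy⟩)
  have hresP : IsCharacter (P : Subgroup S) fun x => (χ : S → ℂ) x :=
    IsChar.res (irr_isChar χ) _
  have hresZ : IsCharacter Z fun z => (χ : S → ℂ) ((z : (P : Subgroup S)) : S) :=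
    IsChar.res hresP Z
  haveI := P.isPGroup'.center_nontrivial
  have hZcard : Nat.card Z = p := by
    have hone : IsIrrCharacter Z fun _ => (1 : ℂ) := isIrr_one
    obtain ⟨m, hm, -⟩ := IsChar.exists_decomp_inner hresZ
    have h1 := hm ⟨_, hone⟩
    rw [classInner, Finset.sum_eq_single (1 : Z)] at h1
    rotate_left
    · intro z _ hz
      rw [hvan z hz, zero_mul]
    · intro hn; exact absurd (Finset.mem_univ _) hn
    simp only [OneMemClass.coe_one, map_one, mul_one, charDeg_spec' χ, hdeg] at h1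
    rw [inv_mul_eq_iff_eq_mul₀ (by exact_mod_cast (Nat.card_pos (α := Z)).ne')] at h1
    have h2 : Nat.card Z ∣ p := ⟨m ⟨_, hone⟩, by exact_mod_cast h1⟩
    exact ((Nat.dvd_prime hp).1 h2).resolve_left (Finite.one_lt_card (α := Z)).ne'
  -- the Sylow subgroup is abelian
  have hlin : ∀ φ : IrrCharacter (P : Subgroup S),
      classInner (fun x : (P : Subgroup S) => (χ : S → ℂ) x) (φ : ↥(P : Subgroup S) → ℂ) ≠ 0 →
      charDegree (φ : ↥(P : Subgroup S) → ℂ) = 1 := by
    intro φ hφ
    obtain ⟨m, hm, hd⟩ := IsChar.exists_decomp_inner hresP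
    have hle : charDegree (φ : ↥(P : Subgroup S) → ℂ) ≤ p := by
      have h1 := congrFun hd 1
      rw [sum_irr_apply] at h1
      simp only [OneMemClass.coe_one, charDeg_spec', hdeg] at h1
      have h1' : p = ∑ ψ : IrrCharacter (P : Subgroup S),
          m ψ * charDegree (ψ : ↥(P : Subgroup S) → ℂ) := by exact_mod_cast h1
      have hmφ : 1 ≤ m φ := Nat.one_le_iff_ne_zero.2 fun e => hφ (by rw [hm φ, e, Nat.cast_zero])
      calc charDegree (φ : ↥(P : Subgroup S) → ℂ)
          ≤ m φ * charDegree (φ : ↥(P : Subgroup S) → ℂ) := Nat.le_mul_of_pos_left _ hmφ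
        _ ≤ ∑ ψ : IrrCharacter (P : Subgroup S), m ψ * charDegree (ψ : ↥(P : Subgroup S) → ℂ) :=
            Finset.single_le_sum (f := fun ψ : IrrCharacter (P : Subgroup S) =>
              m ψ * charDegree (ψ : ↥(P : Subgroup S) → ℂ)) (fun _ _ => Nat.zero_le _)
              (Finset.mem_univ φ)
        _ = p := h1'.symm
    obtain ⟨n, hn⟩ := P.isPGroup'.exists_card_eq
    obtain ⟨k, -, hk⟩ := (Nat.dvd_prime_pow hp).1 (hn ▸ charDeg_dvd φ)
    rcases Nat.eq_zero_or_pos k with rfl | hk0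
    · simpa using hk
    exfalso
    have hkp : charDegree (φ : ↥(P : Subgroup S) → ℂ) = p :=
      le_antisymm hle (hk ▸ Nat.le_self_pow hk0.ne' p)
    have heq : (fun x : (P : Subgroup S) => (χ : S → ℂ) x) = (φ : ↥(P : Subgroup S) → ℂ) :=
      eq_of_constituent_degree hresP φ.2 hφ (by
        rw [Subgroup.coe_one, charDeg_spec' χ, charDeg_spec' φ, hdeg, hkp])
    obtain ⟨z, hz⟩ := exists_ne (1 : Z)
    obtain ⟨c, hc, hcz⟩ := IsIrr.scalar_of_center φ.2 z.2
    have h1 := hcz 1
    rw [mul_one, ← heq] at h1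
    simp only [hvan z hz] at h1
    rcases mul_eq_zero.1 h1.symm with h2 | h2
    · rw [h2, norm_zero] at hc; exact zero_ne_one hc
    · exact irr_one_ne_zero χ h2
  have hPab : ∀ a b : (P : Subgroup S), a * b = b * a := by
    intro a b
    refine commutatorElement_eq_one_iff_mul_comm.1 (Subtype.ext ?_)
    refine OrdP.eq_one_of_value hχne ?_
    by_contra hne
    obtain ⟨φ, hφ, hφg⟩ := exists_nonprincipal_constituent hresP (g := ⁅a, b⁆) hne
    obtain ⟨l, hl⟩ := linearHom_of_isCharacter (IsIrr.isCharacter φ.2) (by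
      rw [charDeg_spec' φ, hlin φ hφ, Nat.cast_one])
    exact hφg (by simp [hl, map_commutatorElement, commutatorElement_eq_one_iff_mul_comm.2 (mul_comm (l a) (l b))])
  have hP : Nat.card P = p := by
    refine Eq.trans (Subgroup.card_top (G := (P : Subgroup S))).symm (Eq.trans ?_ hZcard)
    rw [hZ, show Subgroup.center (P : Subgroup S) = ⊤ from
      eq_top_iff.2 fun x _ => Subgroup.mem_center_iff.2 fun y => hPab y x]
  obtain ⟨M, hM⟩ := exists_isPModular p hp
  have hcard : Nat.card S = p * (P : Subgroup S).index := by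
    rw [← (P : Subgroup S).card_mul_index, show Nat.card (P : Subgroup S) = p from hP]
  obtain ⟨e, k, -, -, he, he1, hep, -, -⟩ := OrdP.exists_e hna hcard P.not_dvd_index P
  have key : ∀ (ψ : IrrCharacter S) (ε : ℤ), ψ ≠ trivialIrr S → (ε = 1 ∨ ε = -1) →
      (charDegree (ψ : S → ℂ) : ℤ) ≡ ε [ZMOD p] → False := by
    intro ψ ε hψ hε hmod
    have h2 := OrdP.two_le_deg hna hψ
    have hq := (h _ ⟨ψ, rfl⟩).resolve_left (by omega)
    have hlep := hmax ψ
    rw [Int.modEq_iff_dvd] at hmod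
    rcases hε with rfl | rfl
    · have := Int.le_of_dvd (by omega) (dvd_neg.2 hmod)
      omega
    · obtain ⟨j, hj⟩ := dvd_neg.2 hmod
      have hj1 : j = 1 := by nlinarith
      subst hj1
      have hev : Even (charDegree (ψ : S → ℂ)) := by
        obtain ⟨i, hi⟩ := hp.odd_of_ne_two (by omega)
        exact ⟨i, by omega⟩
      have := hq.even_iff.1 hev
      omega
  by_cases hne : e = p - 1
  · subst hne
    obtain ⟨Z', s, hZ', htriv, -, hs, -, -⟩ := OrdP.full hna hM (by omega) P hP he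
    obtain ⟨ψ, hψ⟩ := Finset.card_pos.1 (by omega : 0 < Z'.card)
    exact key ψ (s ψ) (fun e => htriv (e ▸ hψ)) (hs ψ hψ).1 (hs ψ hψ).2.1
  · obtain ⟨X, y, s, ε, hX, hXs, -, -, -, -, -⟩ := OrdP.data hna hM (by omega) P hP he he1 hep hne
    obtain ⟨ψ, hψ⟩ := Finset.card_pos.1 (by omega : 0 < X.card)
    exact key ψ (s ψ) (hXs ψ hψ).1 (hXs ψ hψ).2.1 (hXs ψ hψ).2.2.1

theorem solvable_of_allPrime : ∀ (n : ℕ) (G : Type u) [Group G] [Finite G], Nat.card G = n →
    AllPrime G → Group.IsSolvable G := by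
  intro n
  induction n using Nat.strong_induction_on with
  | _ n ih =>
  intro G _ _ hn h
  rcases subsingleton_or_nontrivial G with hG | hG
  · infer_instance
  by_cases hs : IsSimpleGroup G
  · by_contra hns
    exact not_simple (fun hc => hns (isSolvable_of_comm fun a b => hc.1.comm a b)) h
  obtain ⟨N, hN, hb, ht⟩ : ∃ N : Subgroup G, N.Normal ∧ N ≠ ⊥ ∧ N ≠ ⊤ := by
    by_contra hno
    push Not at hno
    exact hs ⟨fun N hN => or_iff_not_imp_left.2 (hno N hN)⟩
  have hmul := N.card_mul_index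
  have hb1 : 1 < Nat.card N := (Subgroup.one_lt_card_iff_ne_bot N).2 hb
  have ht1 : 1 < N.index := Subgroup.one_lt_index_of_ne_top ht
  haveI : Group.IsSolvable N := ih (Nat.card N) (by
    rw [← hn, ← hmul]
    exact lt_mul_right (by omega) ht1) N rfl (allPrime_normal h N)
  haveI : Group.IsSolvable (G ⧸ N) := ih (Nat.card (G ⧸ N)) (by
    rw [← hn, ← hmul, ← Subgroup.index_eq_card]
    exact lt_mul_left (by omega) hb1) (G ⧸ N) rfl (allPrime_quotient h N)
  exact solvable_of_ker_le_range N.subtype (QuotientGroup.mk' N)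
    (by rw [QuotientGroup.ker_mk', Subgroup.range_subtype])

end Cfsg.Agent.Block.PrimeNL
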