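import Cfsg.Agent.Lib.Block.QuaternionSylow
import Cfsg.Agent.Lib.Block.KleinFour
import Cfsg.Agent.Lib.Block.AbelianThree
import Cfsg.Agent.Lib.Block.CentralDefect
import Cfsg.Agent.Lib.Block.Elementary2

/-!
The principal 2-block of a group with quaternion Sylow 2-subgroup of order eight and no
normal 2-complement has seven irreducible characters: four trivial on the central involution,
three faithful on it.
-/

open scoped ComplexConjugate

namespace Cfsg.Agent.Block

set_option linter.unusedSectionVars false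
set_option linter.style.haveILetI false

universe u

variable {G : Type u} [Group G] [Finite G] {M : Ideal AlgInt}

/-- Twisting the regular part of a character of a block by a sign at a central involution stays
inside the span of the characters of the block with that sign. -/
theorem regPart_mem_span_sign (hM : IsPModular 2 M) {B : Set (IrrCharacter G)} (hB : IsPBlock M B)
    {z : G} (hzc : z ∈ Subgroup.center G) (hz : orderOf z = 2) {s : ℂ} (hs : s * s = 1)
    {χ : IrrCharacter G} (hχ : χ ∈ B) :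
    pRegularPart 2 (χ : G → ℂ) ∈ Submodule.span ℂ
      ((fun ξ : IrrCharacter G => pRegularPart 2 (ξ : G → ℂ)) ''
        {ξ | ξ ∈ B ∧ (ξ : G → ℂ) z = s * (ξ : G → ℂ) 1}) := by
  classical
  cases nonempty_fintype G
  haveI : Fact (Nat.Prime 2) := ⟨Nat.prime_two⟩
  have hzz : z * z = 1 := by rw [← pow_two, ← hz, pow_orderOf_eq_one]
  have hcz : ∀ g : G, Commute g z := fun g => Subgroup.mem_center_iff.1 hzc g
  have hsing : ∀ g : G, ¬ 2 ∣ orderOf g → 2 ∣ orderOf (g * z) := by
    intro g hg
    rw [(hcz g).orderOf_mul_eq_mul_orderOf_of_coprime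
      (by rw [hz]; exact (Nat.prime_two.coprime_iff_not_dvd.2 hg).symm), hz]
    exact dvd_mul_left 2 _
  set θ : G → ℂ := fun g => if 2 ∣ orderOf g then
    (if 2 ∣ orderOf (g * z) then 0 else s * (χ : G → ℂ) (g * z)) else (χ : G → ℂ) g with hθ
  have hθz : ∀ g, θ (g * z) = s * θ g := by
    intro g
    simp only [hθ, mul_assoc g z z, hzz, mul_one]
    by_cases h1 : 2 ∣ orderOf g
    · by_cases h2 : 2 ∣ orderOf (g * z)
      · simp [h1, h2]
      · rw [if_neg h2, if_pos h1, if_neg h2, ← mul_assoc, hs, one_mul]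
    · rw [if_pos (hsing g h1), if_neg h1, if_neg h1]
  have hcoef : ∀ ξ : IrrCharacter G, (ξ : G → ℂ) z ≠ s * (ξ : G → ℂ) 1 →
      classInner θ (ξ : G → ℂ) = 0 := by
    intro ξ hξ
    have hmul : ∀ g, (ξ : G → ℂ) (g * z) = (ξ : G → ℂ) z / (ξ : G → ℂ) 1 * (ξ : G → ℂ) g :=
      fun g => by rw [(hcz g).eq, char_center_mul ξ hzc]
    set t : ℂ := (ξ : G → ℂ) z / (ξ : G → ℂ) 1 with ht
    have htt : t * t = 1 := by
      have := hmul z
      rw [hzz] at this
      calc t * t = t * (ξ : G → ℂ) z / (ξ : G → ℂ) 1 := by rw [ht]; ring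
        _ = 1 := by rw [← this, div_self (irr_one_ne_zero ξ)]
    have hne : t ≠ s := fun e => hξ (by rw [← e, ht, div_mul_cancel₀ _ (irr_one_ne_zero ξ)])
    have htreal : conj t = t := by
      have : (t - 1) * (t + 1) = 0 := by linear_combination htt
      rcases mul_eq_zero.1 this with h | h
      · rw [sub_eq_zero.1 h, map_one]
      · rw [eq_neg_of_add_eq_zero_left h, map_neg, map_one]
    have key : classInner θ (ξ : G → ℂ) = s * t * classInner θ (ξ : G → ℂ) := by
      simp only [classInner, Finset.mul_sum]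
      rw [← Equiv.sum_comp (Equiv.mulRight z)]
      refine Finset.sum_congr rfl fun g _ => ?_
      simp only [Equiv.coe_mulRight, hθz, hmul, map_mul, htreal]
      ring
    by_contra h0
    have hst : s * t = 1 := by
      have h2 : (s * t - 1) * classInner θ (ξ : G → ℂ) = 0 := by linear_combination -key
      exact sub_eq_zero.1 ((mul_eq_zero.1 h2).resolve_right h0)
    exact hne (by linear_combination (-t) * hs + s * hst)
  have hval : ∀ g : G, ¬ 2 ∣ orderOf g →
      ∑ ξ ∈ Finset.univ.filter (· ∈ B), classInner θ (ξ : G → ℂ) * (ξ : G → ℂ) g = (χ : G → ℂ) g := by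
    intro g hg
    calc ∑ ξ ∈ Finset.univ.filter (· ∈ B), classInner θ (ξ : G → ℂ) * (ξ : G → ℂ) g
        = ∑ ξ ∈ Finset.univ.filter (· ∈ B), classInner (χ : G → ℂ) (ξ : G → ℂ) * (ξ : G → ℂ) g := by
          simp only [classInner, mul_assoc, ← Finset.mul_sum]
          congr 1
          simp only [Finset.sum_mul]
          rw [Finset.sum_comm]
          conv_rhs => rw [Finset.sum_comm]
          refine Finset.sum_congr rfl fun y _ => ?_
          by_cases hy : 2 ∣ orderOf y
          · have h := weak_orth hM hB hg hy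
            rw [finsum_mem_block] at h
            simp only [mul_comm (conj _) _, mul_assoc, ← Finset.mul_sum, h, mul_zero]
          · simp only [hθ, if_neg hy]
      _ = (χ : G → ℂ) g := by
          rw [Finset.sum_eq_single χ]
          · rw [Cfsg.Agent.Char.classInner_self_irr χ.2, one_mul]
          · intro ξ _ hne
            rw [Cfsg.Agent.Char.classInner_irr_ne χ.2 ξ.2 fun e => hne (Subtype.ext e.symm), zero_mul]
          · intro h; exact absurd (Finset.mem_filter.2 ⟨Finset.mem_univ _, hχ⟩) h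
  have hexp : pRegularPart 2 (χ : G → ℂ) = ∑ ξ ∈ Finset.univ.filter (· ∈ B),
      classInner θ (ξ : G → ℂ) • pRegularPart 2 (ξ : G → ℂ) := by
    funext g
    simp only [Finset.sum_apply, Pi.smul_apply, smul_eq_mul, pRegularPart_apply, IsPRegular]
    by_cases hg : 2 ∣ orderOf g
    · simp [hg]
    · simp only [hg, not_false_eq_true, if_true]
      exact (hval g hg).symm
  rw [hexp]
  refine Submodule.sum_mem _ fun ξ hξ => ?_
  by_cases hξs : (ξ : G → ℂ) z = s * (ξ : G → ℂ) 1
  · exact Submodule.smul_mem _ _ (Submodule.subset_span ⟨ξ, ⟨(Finset.mem_filter.1 hξ).2, hξs⟩, rfl⟩)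
  · rw [hcoef ξ hξs, zero_smul]; exact Submodule.zero_mem _

set_option maxHeartbeats 1000000 in
theorem quaternion_principal (hM : IsPModular 2 M) (S : Sylow 2 G) (h : Q8Sylow S)
    (hO : ∀ N : Subgroup G, N.Normal → Odd (Nat.card N) → N = ⊥) (hG : (S : Subgroup G) ≠ ⊤) :
    Nat.card (principalBlock M G) = 7 := by
  classical
  cases nonempty_fintype G
  haveI : Fact (Nat.Prime 2) := ⟨Nat.prime_two⟩
  have hnc : ∀ N : Subgroup G, N.Normal → ¬ Subgroup.IsComplement' N (S : Subgroup G) := by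
    intro N hN hc
    have hodd : Odd (Nat.card N) := by
      rw [← hc.index_eq_card, Nat.odd_iff]
      exact Nat.two_dvd_ne_zero.1 S.not_dvd_index
    have := hO N hN hodd
    subst this
    exact hG (Subgroup.isComplement'_bot_left.1 hc)
  have htrans := h.transitive hnc
  obtain ⟨x, hxS, hxx⟩ := h.exists_four
  obtain ⟨z, hzS, hz2, hzsq⟩ := h.exists_involution
  have hxz : x * x = z := hzsq x hxS hxx
  have hzz : z * z = 1 := by rw [← pow_two, ← hz2, pow_orderOf_eq_one]
  have hzc : z ∈ Subgroup.center G := by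
    refine Subgroup.mem_center_iff.2 fun g => ?_
    have hbot : pPrimeCore 2 G = ⊥ :=
      hO _ Grp.pPrimeCore_isNormal (BS.odd_iff_coprime_two.2 Grp.pPrimeCore_coprime)
    have := BS.commutator_mem_oddCore _ G rfl h.twoRankOne z hz2 g
    rw [hbot, Subgroup.mem_bot, mul_inv_eq_one, mul_inv_eq_iff_eq_mul] at this
    exact this.symm
  have hcz : ∀ g : G, Commute g z := fun g => Subgroup.mem_center_iff.1 hzc g
  have hx4 : orderOf x = 2 ^ (1 + 1) := orderOf_eq_prime_pow (p := 2) (n := 1)
    (by rw [pow_one, pow_two]; exact hxx)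
    (by rw [show (2 : ℕ) ^ (1 + 1) = 2 + 2 by norm_num, pow_add, pow_two]; exact h.sq_sq x hxS)
  -- the 2-elements
  have htwo : ∀ u : G, (∃ k, orderOf u = 2 ^ k) → u = 1 ∨ u = z ∨ IsConj x u := by
    rintro u ⟨k, hk⟩
    obtain ⟨g, hg⟩ := Invol.exists_conj_subset_sylow
      (IsPGroup.of_card (n := k) (show Nat.card (Subgroup.zpowers u) = 2 ^ k by
        rw [Nat.card_zpowers, hk])) S
    have hu' := hg u (Subgroup.mem_zpowers u)
    by_cases hsq : g * u * g⁻¹ * (g * u * g⁻¹) = 1
    · rcases h.small _ hu' x hxS hsq hxx with e | e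
      · exact .inl (conj_eq_one_iff.1 e)
      · right; left
        rw [hxz] at e
        calc u = g⁻¹ * (g * u * g⁻¹) * g := by group
          _ = z := by rw [e, mul_assoc, ← (hcz g).eq, inv_mul_cancel_left]
    · obtain ⟨n, -, hn⟩ := htrans x hxS _ hu' hxx hsq
      exact .inr (.inr ((isConj_iff.2 ⟨n, hn⟩).trans (isConj_iff.2 ⟨g⁻¹, by group⟩)))
  obtain ⟨w, hwS, hw⟩ := h.conj_inv x hxS hxx
  -- the centralizer of `x`
  set C := Subgroup.centralizer ({x} : Set G) with hCdef
  let xC : C := ⟨x, centralizer_self_mem x⟩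
  obtain ⟨Q, hQ⟩ := (show IsPGroup 2 (Subgroup.zpowers xC) from
    IsPGroup.of_card (n := 1 + 1) (by rw [Nat.card_zpowers, ← hx4, ← Subgroup.orderOf_coe])).exists_le_sylow
  have hQeq : (Q : Subgroup C) = Subgroup.zpowers xC := by
    refine le_antisymm (fun q hq => ?_) hQ
    obtain ⟨g, hg⟩ := Invol.exists_conj_subset_sylow
      (Q.isPGroup'.map C.subtype) S
    have hx' := hg x ⟨xC, hQ (Subgroup.mem_zpowers _), rfl⟩
    have hq' := hg (q : G) ⟨q, hq, rfl⟩
    have hsq : g * x * g⁻¹ * (g * x * g⁻¹) ≠ 1 := by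
      rw [show g * x * g⁻¹ * (g * x * g⁻¹) = g * (x * x) * g⁻¹ by group, Ne, conj_eq_one_iff]
      exact hxx
    have hcq : g * (q : G) * g⁻¹ * (g * x * g⁻¹) = g * x * g⁻¹ * (g * (q : G) * g⁻¹) := by
      rw [conj_mul, conj_mul, Subgroup.mem_centralizer_singleton_iff.1 q.2]
    rcases h.self_centralizing _ hx' _ hq' hsq hcq with e | e | e | e
    · have : q = 1 := Subtype.ext (conj_eq_one_iff.1 e)
      rw [this]; exact one_mem _
    · have : q = xC := Subtype.ext (mul_left_cancel (mul_right_cancel e))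
      rw [this]; exact Subgroup.mem_zpowers _
    · have : q = xC * xC := Subtype.ext (mul_left_cancel (mul_right_cancel
        (e.trans (show _ = g * (x * x) * g⁻¹ by group))))
      rw [this]; exact mul_mem (Subgroup.mem_zpowers _) (Subgroup.mem_zpowers _)
    · have : q = xC * xC * xC := Subtype.ext (mul_left_cancel (mul_right_cancel
        (e.trans (show _ = g * (x * x * x) * g⁻¹ by group))))
      rw [this]
      exact mul_mem (mul_mem (Subgroup.mem_zpowers _) (Subgroup.mem_zpowers _))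
        (Subgroup.mem_zpowers _)
  obtain ⟨K, hKn, hKodd, hKidx⟩ := cyclic_two_complement Q
    (by rw [hQeq]; exact Subgroup.isCyclic_zpowers xC)
  have hQcard : Nat.card (Q : Subgroup C) = 2 ^ 2 := by
    rw [hQeq, Nat.card_zpowers, ← Subgroup.orderOf_coe, hx4]
  rw [hQcard] at hKidx
  haveI := hKn
  set B := principalBlock M G with hBdef
  have hB : IsPBlock M B := isPBlock_principalBlock
  have h1B : trivialIrr G ∈ B := trivial_mem_principalBlock hM
  have htriv : ∀ g, ((trivialIrr G : IrrCharacter G) : G → ℂ) g = 1 := fun _ => rfl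
  -- constancy on the section of `x`
  have hsec : ∀ χ ∈ B, ∀ g : G, (∃ a v : G, a * v = g ∧ Commute a v ∧ IsConj x a ∧
      ¬ 2 ∣ orderOf v) → (χ : G → ℂ) g = (χ : G → ℂ) x := by
    rintro χ hχ g ⟨a, v, rfl, hav, hxa, hv⟩
    obtain ⟨t, rfl⟩ := isConj_iff.1 hxa
    have hv' : t⁻¹ * v * t ∈ C := by
      refine Subgroup.mem_centralizer_singleton_iff.2 ?_
      have e := congrArg (fun w => t⁻¹ * w * t) hav.eq
      simp only [mul_assoc] at e ⊢
      simpa [mul_assoc] using e.symm
    have hv2 : ¬ 2 ∣ orderOf (⟨_, hv'⟩ : C) := by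
      rw [← Subgroup.orderOf_coe]
      show ¬ 2 ∣ orderOf (t⁻¹ * v * t)
      rwa [show t⁻¹ * v * t = MulAut.conj t⁻¹ v by simp, MulEquiv.orderOf_eq]
    rw [← principal_section_const hM ⟨1 + 1, hx4⟩ hKodd hv2 (regular_mem_of_index_pPow hKidx hv2) hχ,
      ← irr_classFun χ (x * (t⁻¹ * v * t)) t]
    congr 1
    group
  have hcases : ∀ g : G, ¬ 2 ∣ orderOf g ∨ (∃ v, g = v * z ∧ ¬ 2 ∣ orderOf v) ∨
      (∃ a v : G, a * v = g ∧ Commute a v ∧ IsConj x a ∧ ¬ 2 ∣ orderOf v) := by
    intro g
    obtain ⟨a, v, hav, hc, hk, hv, -, -⟩ := exists_pPart_zpowers (p := 2) g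
    rcases htwo a hk with rfl | rfl | hxa
    · left; rw [← hav, one_mul]; exact hv
    · exact .inr (.inl ⟨v, by rw [← hav]; exact hc.eq, hv⟩)
    · exact .inr (.inr ⟨a, v, hav, hc, hxa, hv⟩)
  -- signs at `z`
  have hmul : ∀ (χ : IrrCharacter G) (g : G), (χ : G → ℂ) (g * z) =
      (χ : G → ℂ) z / (χ : G → ℂ) 1 * (χ : G → ℂ) g :=
    fun χ g => by rw [(hcz g).eq, char_center_mul χ hzc]
  have hsign : ∀ χ : IrrCharacter G,
      (χ : G → ℂ) z = (1 : ℂ) * (χ : G → ℂ) 1 ∨ (χ : G → ℂ) z = (-1 : ℂ) * (χ : G → ℂ) 1 := by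
    intro χ
    have := hmul χ z
    rw [hzz] at this
    have e : ((χ : G → ℂ) z - (χ : G → ℂ) 1) * ((χ : G → ℂ) z + (χ : G → ℂ) 1) = 0 := by
      field_simp [irr_one_ne_zero χ] at this
      linear_combination -this
    rcases mul_eq_zero.1 e with e | e
    · left; linear_combination e
    · right; linear_combination e
  set F := Finset.univ.filter fun χ : IrrCharacter G =>
    χ ∈ B ∧ (χ : G → ℂ) z = (-1 : ℂ) * (χ : G → ℂ) 1 with hF
  set T := Finset.univ.filter fun χ : IrrCharacter G =>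
    χ ∈ B ∧ (χ : G → ℂ) z = (1 : ℂ) * (χ : G → ℂ) 1 with hT
  have hdisj : Disjoint T F := Finset.disjoint_filter.2 fun χ _ h1 h2 => irr_one_ne_zero χ (by
    have := h1.2.symm.trans h2.2
    linear_combination this / 2)
  have hunion : Finset.univ.filter (· ∈ B) = T ∪ F := by
    ext χ
    simp only [hT, hF, Finset.mem_union, Finset.mem_filter, Finset.mem_univ, true_and]
    refine ⟨fun hχ => (hsign χ).imp (fun e => ⟨hχ, e⟩) (fun e => ⟨hχ, e⟩), ?_⟩
    rintro (⟨h, -⟩ | ⟨h, -⟩) <;> exact h
  -- values at `x`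
  have hreal : ∀ χ : IrrCharacter G, conj ((χ : G → ℂ) x) = (χ : G → ℂ) x := fun χ => by
    rw [← irr_apply_inv, ← hw, irr_classFun χ x w]
  have hFx : ∀ χ ∈ F, (χ : G → ℂ) x = 0 := by
    intro χ hχ
    have h1 := hmul χ x
    rw [(Finset.mem_filter.1 hχ).2.2, mul_div_cancel_right₀ _ (irr_one_ne_zero χ)] at h1
    have h2 : x * z = x⁻¹ := eq_inv_of_mul_eq_one_left (by
      rw [(hcz x).eq, mul_assoc, hxz, hzz])
    rw [h2, irr_apply_inv, hreal] at h1
    linear_combination h1 / 2
  have hint : ∀ χ ∈ T, ∃ n : ℤ, (χ : G → ℂ) x = n := by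
    intro χ hχ
    set Z := Subgroup.zpowers z
    haveI : Z.Normal := ⟨fun a ha q => by
      rw [Subgroup.mem_center_iff.1 (Subgroup.zpowers_le.2 hzc ha) q, mul_inv_cancel_right]
      exact ha⟩
    obtain ⟨χ', hχ', hfac⟩ := Cfsg.Agent.Char.IsIrr.exists_factor_quotient χ.2 Z fun a ha => by
      obtain ⟨i, rfl⟩ := Subgroup.mem_zpowers_iff.1 ha
      rcases Int.emod_two_eq_zero_or_one i with e | e
      · rw [← zpow_mod_orderOf, hz2]; norm_num [e]
      · rw [← zpow_mod_orderOf, hz2]; norm_num [e]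
        simpa using (Finset.mem_filter.1 hχ).2.2
    obtain ⟨n, hn⟩ := char_involution_int (⟨χ', hχ'⟩ : IrrCharacter (G ⧸ Z))
      (z := (x : G ⧸ Z)) (by
        rw [← QuotientGroup.mk_mul, QuotientGroup.eq_one_iff, hxz]; exact Subgroup.mem_zpowers z)
    exact ⟨n, by rw [← hfac]; exact hn⟩
  have hTne : ∀ χ ∈ T, (χ : G → ℂ) x ≠ 0 := by
    intro χ hχ h0
    obtain ⟨-, hχB, hχz⟩ := Finset.mem_filter.1 hχ
    have hne : χ ≠ trivialIrr G := fun e => by rw [e, htriv] at h0; exact one_ne_zero h0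
    have hsum : ∑ g : G, (χ : G → ℂ) g = 0 := by
      have h1 := Cfsg.Agent.Char.classInner_irr_ne χ.2 (trivialIrr G).2
        (fun e => hne (Subtype.ext e))
      simp only [classInner, htriv, map_one, mul_one, mul_eq_zero, inv_eq_zero, Nat.cast_eq_zero,
        Nat.card_pos.ne', false_or] at h1
      exact h1
    have hsplit : ∀ g : G, (χ : G → ℂ) g = (if 2 ∣ orderOf g then 0 else (χ : G → ℂ) g) +
        (if 2 ∣ orderOf (g * z) then 0 else (χ : G → ℂ) (g * z)) := by
      intro g
      have hgz : (χ : G → ℂ) (g * z) = (χ : G → ℂ) g := by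
        rw [hmul, hχz, one_mul, div_self (irr_one_ne_zero χ), one_mul]
      have hodd : ∀ v : G, ¬ 2 ∣ orderOf v → 2 ∣ orderOf (v * z) := fun v hv => by
        rw [(hcz v).orderOf_mul_eq_mul_orderOf_of_coprime
          (by rw [hz2]; exact (Nat.prime_two.coprime_iff_not_dvd.2 hv).symm), hz2]
        exact dvd_mul_left 2 _
      rcases hcases g with hg | ⟨v, rfl, hv⟩ | hg
      · rw [if_neg hg, if_pos (hodd g hg), add_zero]
      · rw [if_pos (hodd v hv), mul_assoc, hzz, mul_one, if_neg hv, zero_add, hmul, hχz, one_mul,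
          div_self (irr_one_ne_zero χ), one_mul]
      · rw [hgz, hsec χ hχB g hg, h0]
        simp
    have hreg : regSum 2 (χ : G → ℂ) ((trivialIrr G : IrrCharacter G) : G → ℂ) = 0 := by
      rw [regSum_eq_sum]
      simp only [htriv, map_one, mul_one]
      have h2 : ∑ g : G, (if 2 ∣ orderOf (g * z) then 0 else (χ : G → ℂ) (g * z)) =
          ∑ g : G, (if 2 ∣ orderOf g then 0 else (χ : G → ℂ) g) :=
        Equiv.sum_comp (Equiv.mulRight z) (fun g => if 2 ∣ orderOf g then 0 else (χ : G → ℂ) g)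
      rw [Finset.sum_congr rfl fun g _ => hsplit g, Finset.sum_add_distrib, h2] at hsum
      rw [Finset.sum_filter]
      refine Eq.trans (Finset.sum_congr rfl fun g _ => ?_) (show ∑ g : G,
        (if 2 ∣ orderOf g then 0 else (χ : G → ℂ) g) = 0 by linear_combination hsum / 2)
      by_cases hg : 2 ∣ orderOf g <;> simp [hg]
    refine regPair_unit hM hB h1B hχB (by
      rw [blockHeight, show charDegree ((trivialIrr G : IrrCharacter G) : G → ℂ) = 1 from charDeg_trivial,
        Nat.factorization_one]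
      simp) ?_
    rw [regPair, hreg, zero_div]
    exact ideal_zero hM
  have hcol : ∑ χ ∈ T, (χ : G → ℂ) x * conj ((χ : G → ℂ) x) = 4 := by
    have h1 := principal_pElem_self hM (y := x) ⟨1 + 1, hx4⟩
    have h2 := principal_column_complement hM (G := C) hKodd hKidx (y := 1)
      (by rw [orderOf_one]; norm_num)
    have hC4 : (Nat.card C).factorization 2 = 2 := by
      have := Q.card_eq_multiplicity
      rw [hQcard] at this
      exact (Nat.pow_right_injective le_rfl this).symm
    rw [show (Nat.card ↥C).factorization 2 = 2 from hC4] at h2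
    rw [show (∑ᶠ ψ ∈ principalBlock M C, ((charDegree (ψ : C → ℂ) : ℕ) : ℂ) ^ 2) = 4 from ?_,
      finsum_mem_block, hunion, Finset.sum_union hdisj,
      Finset.sum_eq_zero (s := F) fun χ hχ => by rw [hFx χ hχ, zero_mul], add_zero] at h1
    · exact h1
    · refine Eq.trans (finsum_congr fun ψ => finsum_congr fun _ => ?_) (h2.trans (by norm_num))
      rw [charDeg_spec' ψ, Complex.conj_natCast, sq]
  choose! m hm using hint
  have hTm : ∑ χ ∈ T, (m χ) ^ 2 = 4 := by
    have : ((∑ χ ∈ T, (m χ) ^ 2 : ℤ) : ℂ) = ((4 : ℤ) : ℂ) := by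
      push_cast
      rw [← hcol]
      exact Finset.sum_congr rfl fun χ hχ => by rw [hreal, hm χ hχ]; ring
    exact_mod_cast this
  have h1T : trivialIrr G ∈ T := Finset.mem_filter.2 ⟨Finset.mem_univ _, h1B, by simp [htriv]⟩
  have hm1 : ∀ χ ∈ T, (m χ) ^ 2 = 1 := by
    intro χ hχ
    have hpos : ∀ ξ ∈ T, 1 ≤ (m ξ) ^ 2 := fun ξ hξ => by
      have : m ξ ≠ 0 := fun e => hTne ξ hξ (by rw [hm ξ hξ, e, Int.cast_zero])
      nlinarith [Int.one_le_abs this, sq_abs (m ξ)]
    by_contra hne
    have hbig : 4 ≤ (m χ) ^ 2 := by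
      have h1 := hpos χ hχ
      have : 2 ≤ |m χ| := by
        by_contra h2
        push Not at h2
        apply hne
        have : |m χ| = 1 := by
          have := abs_nonneg (m χ)
          rcases eq_or_ne (m χ) 0 with e | e
          · rw [e] at h1; norm_num at h1
          · have := Int.one_le_abs e; omega
        rw [← sq_abs, this, one_pow]
      nlinarith [sq_abs (m χ)]
    have hχ1 : χ ≠ trivialIrr G := fun e => by
      have := hm χ hχ
      rw [e, htriv] at this
      have : m (trivialIrr G) = 1 := by exact_mod_cast this.symm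
      exact hne (by rw [e, this, one_pow])
    have h2 : (m χ) ^ 2 + (m (trivialIrr G)) ^ 2 ≤ ∑ ξ ∈ T, (m ξ) ^ 2 := by
      rw [← Finset.sum_pair (f := fun ξ => (m ξ) ^ 2) hχ1]
      exact Finset.sum_le_sum_of_subset_of_nonneg
        (Finset.insert_subset hχ (Finset.singleton_subset_iff.2 h1T))
        fun ξ _ _ => sq_nonneg _
    have := hpos _ h1T
    omega
  have hTcard : T.card = 4 := by
    rw [Finset.sum_congr rfl hm1, Finset.sum_const, nsmul_eq_mul, mul_one] at hTm
    exact_mod_cast hTm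
  -- the regular parts
  set T' := T.erase (trivialIrr G) with hT'
  let r : IrrCharacter G → (G → ℂ) := fun χ => pRegularPart 2 (χ : G → ℂ)
  have hcomb : ∀ (A : Finset (IrrCharacter G)) (a : A → ℂ), (∑ χ : A, a χ • r χ) = 0 →
      ∀ g : G, ¬ 2 ∣ orderOf g → ∑ χ : A, a χ * ((χ : IrrCharacter G) : G → ℂ) g = 0 := by
    intro A a ha g hg
    have := congrFun ha g
    simpa [r, pRegularPart_apply, IsPRegular, hg] using this
  have hindep : ∀ (A : Finset (IrrCharacter G)) (a : A → ℂ),
      (∀ g : G, ∑ χ : A, a χ * ((χ : IrrCharacter G) : G → ℂ) g = 0) → ∀ χ, a χ = 0 := by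
    intro A a ha χ
    have h0 : ∀ φ : IrrCharacter G, (if hφ : φ ∈ A then a ⟨φ, hφ⟩ else 0) = 0 := by
      intro φ
      rw [← Cfsg.Agent.Char.classInner_sum_irr (fun φ : IrrCharacter G =>
        if hφ : φ ∈ A then a ⟨φ, hφ⟩ else 0) φ]
      have : (∑ φ : IrrCharacter G, (if hφ : φ ∈ A then a ⟨φ, hφ⟩ else 0) • (φ : G → ℂ)) = 0 := by
        funext g
        rw [Cfsg.Agent.Char.sum_irr_apply, Pi.zero_apply]
        refine Eq.trans ?_ (ha g)
        rw [← Finset.sum_subset (Finset.subset_univ A) fun φ _ hφ => by rw [dif_neg hφ, zero_mul],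
          ← Finset.sum_attach A, ← Finset.univ_eq_attach]
        exact Finset.sum_congr rfl fun φ _ => by rw [dif_pos φ.2]
      rw [this]
      simp [classInner]
    simpa using h0 χ
  have hliF : LinearIndependent ℂ (fun χ : F => r χ) := by
    refine Fintype.linearIndependent_iff.2 fun a ha => hindep F a fun g => ?_
    rcases hcases g with hg | ⟨v, rfl, hv⟩ | hg
    · exact hcomb F a ha g hg
    · rw [Finset.sum_congr rfl fun χ _ => show a χ * ((χ : IrrCharacter G) : G → ℂ) (v * z) =
        -(a χ * ((χ : IrrCharacter G) : G → ℂ) v) by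
          rw [hmul, (Finset.mem_filter.1 χ.2).2.2, mul_div_cancel_right₀ _ (irr_one_ne_zero _)]
          ring, Finset.sum_neg_distrib, hcomb F a ha v hv, neg_zero]
    · exact Finset.sum_eq_zero fun χ _ => by
        rw [hsec _ (Finset.mem_filter.1 χ.2).2.1 g hg, hFx _ χ.2, mul_zero]
  have hliT : LinearIndependent ℂ (fun χ : T' => r χ) := by
    refine Fintype.linearIndependent_iff.2 fun a ha => hindep T' a ?_
    set c : ℂ := ∑ χ : T', a χ * ((χ : IrrCharacter G) : G → ℂ) x
    have hz0 : ∀ g : G, ¬ 2 ∣ orderOf g ∨ (∃ v, g = v * z ∧ ¬ 2 ∣ orderOf v) →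
        ∑ χ : T', a χ * ((χ : IrrCharacter G) : G → ℂ) g = 0 := by
      rintro g (hg | ⟨v, rfl, hv⟩)
      · exact hcomb T' a ha g hg
      · rw [← hcomb T' a ha v hv]
        refine Finset.sum_congr rfl fun χ _ => ?_
        rw [hmul, (Finset.mem_filter.1 (Finset.mem_of_mem_erase χ.2)).2.2, one_mul,
          div_self (irr_one_ne_zero _), one_mul]
    have hxs : ∀ g : G, ¬ (¬ 2 ∣ orderOf g ∨ (∃ v, g = v * z ∧ ¬ 2 ∣ orderOf v)) →
        ∑ χ : T', a χ * ((χ : IrrCharacter G) : G → ℂ) g = c := by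
      intro g hg
      refine Finset.sum_congr rfl fun χ _ => ?_
      rcases hcases g with h' | h' | h'
      · exact absurd (.inl h') hg
      · exact absurd (.inr h') hg
      · rw [hsec _ (Finset.mem_filter.1 (Finset.mem_of_mem_erase χ.2)).2.1 g h']
    have htot : ∑ g : G, ∑ χ : T', a χ * ((χ : IrrCharacter G) : G → ℂ) g = 0 := by
      rw [Finset.sum_comm]
      refine Finset.sum_eq_zero fun χ _ => ?_
      rw [← Finset.mul_sum]
      have h1 := Cfsg.Agent.Char.classInner_irr_ne (χ : IrrCharacter G).2 (trivialIrr G).2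
        (fun e => Finset.ne_of_mem_erase χ.2 (Subtype.ext e))
      simp only [classInner, htriv, map_one, mul_one, mul_eq_zero, inv_eq_zero, Nat.cast_eq_zero,
        Nat.card_pos.ne', false_or] at h1
      rw [h1, mul_zero]
    rw [← Finset.sum_filter_add_sum_filter_not Finset.univ
      (fun g : G => ¬ 2 ∣ orderOf g ∨ (∃ v, g = v * z ∧ ¬ 2 ∣ orderOf v)),
      Finset.sum_eq_zero fun g hg => hz0 g (Finset.mem_filter.1 hg).2, zero_add,
      Finset.sum_congr rfl fun g hg => hxs g (Finset.mem_filter.1 hg).2, Finset.sum_const,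
      nsmul_eq_mul, mul_eq_zero] at htot
    have hc : c = 0 := by
      refine htot.resolve_left fun e => ?_
      rw [Nat.cast_eq_zero, Finset.card_eq_zero] at e
      refine (Finset.eq_empty_iff_forall_notMem.1 e x) (Finset.mem_filter.2 ⟨Finset.mem_univ _, ?_⟩)
      rintro (h' | ⟨v, hv, hv'⟩)
      · exact h' (by rw [hx4]; norm_num)
      · have : orderOf x = orderOf v * 2 := by
          rw [hv, (hcz v).orderOf_mul_eq_mul_orderOf_of_coprime
            (by rw [hz2]; exact (Nat.prime_two.coprime_iff_not_dvd.2 hv').symm), hz2]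
        rw [hx4] at this
        omega
    intro g
    by_cases hg : ¬ 2 ∣ orderOf g ∨ (∃ v, g = v * z ∧ ¬ 2 ∣ orderOf v)
    · exact hz0 g hg
    · rw [hxs g hg, hc]
  have hrel : r (trivialIrr G) ∈ Submodule.span ℂ (Set.range fun χ : T' => r χ) := by
    have : r (trivialIrr G) = ∑ χ : T', (-((χ : IrrCharacter G) : G → ℂ) x) • r χ := by
      funext g
      simp only [r, Finset.sum_apply, Pi.smul_apply, smul_eq_mul, pRegularPart_apply, IsPRegular]
      by_cases hg : 2 ∣ orderOf g
      · simp [hg]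
      · have hw' := weak_orth hM hB hg (y := x) (by rw [hx4]; norm_num)
        rw [finsum_mem_block, hunion, Finset.sum_union hdisj,
          Finset.sum_eq_zero (s := F) fun χ hχ => by rw [hFx χ hχ, map_zero, mul_zero], add_zero,
          ← Finset.add_sum_erase T _ h1T, htriv, htriv, map_one, mul_one, ← hT',
          ← Finset.sum_attach T', ← Finset.univ_eq_attach] at hw'
        simp only [hg, not_false_eq_true, if_true, htriv, neg_mul, Finset.sum_neg_distrib]
        refine eq_neg_of_add_eq_zero_left (Eq.trans ?_ hw')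
        congr 1
        exact Finset.sum_congr rfl fun χ _ => by rw [hreal]; ring
    rw [this]
    exact Submodule.sum_mem _ fun χ _ => Submodule.smul_mem _ _ (Submodule.subset_span ⟨χ, rfl⟩)
  have hspan : Submodule.span ℂ (Set.range fun χ : F => r χ) =
      Submodule.span ℂ (Set.range fun χ : T' => r χ) := by
    refine le_antisymm (Submodule.span_le.2 ?_) (Submodule.span_le.2 ?_)
    · rintro _ ⟨χ, rfl⟩
      refine Submodule.span_le.2 ?_ (regPart_mem_span_sign hM hB hzc hz2 (one_mul (1 : ℂ))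
        (Finset.mem_filter.1 χ.2).2.1)
      rintro _ ⟨ξ, hξ, rfl⟩
      by_cases he : ξ = trivialIrr G
      · rw [he]; exact hrel
      · exact Submodule.subset_span
          ⟨⟨ξ, Finset.mem_erase.2 ⟨he, Finset.mem_filter.2 ⟨Finset.mem_univ _, hξ⟩⟩⟩, rfl⟩
    · rintro _ ⟨χ, rfl⟩
      refine Submodule.span_le.2 ?_ (regPart_mem_span_sign hM hB hzc hz2
        (show (-1 : ℂ) * -1 = 1 by ring) (Finset.mem_filter.1 (Finset.mem_of_mem_erase χ.2)).2.1)
      rintro _ ⟨ξ, hξ, rfl⟩
      exact Submodule.subset_span ⟨⟨ξ, Finset.mem_filter.2 ⟨Finset.mem_univ _, hξ⟩⟩, rfl⟩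
  have hFcard : F.card = 3 := by
    have h1 := finrank_span_eq_card hliF
    have h2 := finrank_span_eq_card hliT
    rw [hspan, h2, Fintype.card_coe, Fintype.card_coe, hT', Finset.card_erase_of_mem h1T, hTcard] at h1
    omega
  calc Nat.card B = (Finset.univ.filter (· ∈ B)).card := by
        rw [Nat.card_eq_fintype_card, Fintype.card_subtype]
    _ = 7 := by rw [hunion, Finset.card_union_of_disjoint hdisj, hTcard, hFcard]

end Cfsg.Agent.Block
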