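import Mathlib
import Cfsg.Agent.Lib.Block.ClassMul
import Cfsg.Agent.Lib.Block.Central

/-!
A real element other than the identity with centralizer of odd order forces an irreducible
character of even degree.
-/

namespace Cfsg.Agent.Block

open scoped ComplexConjugate
open Cfsg

universe u

theorem sq_sum_parity {ι : Type*} (s : Finset ι) (x : ι → ℂ) (hx : ∀ i ∈ s, IsIntegral ℤ (x i)) :
    ∃ b : ℂ, IsIntegral ℤ b ∧ (∑ i ∈ s, x i) ^ 2 = ∑ i ∈ s, x i ^ 2 + 2 * b := by
  classical
  induction s using Finset.induction with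
  | empty => exact ⟨0, isIntegral_zero, by simp⟩
  | insert a s ha ih =>
    obtain ⟨b, hb, hb'⟩ := ih fun i hi => hx i (Finset.mem_insert_of_mem hi)
    refine ⟨b + x a * ∑ i ∈ s, x i, hb.add ((hx a (Finset.mem_insert_self a s)).mul
      (IsIntegral.sum _ fun i hi => hx i (Finset.mem_insert_of_mem hi))), ?_⟩
    rw [Finset.sum_insert ha, Finset.sum_insert ha, add_sq, hb']
    ring

/-- A non-identity real element with odd centralizer gives an irreducible character of even
degree. -/
theorem exists_even_degree_of_real {G : Type u} [Group G] [Finite G] {u : G} (hu1 : u ≠ 1)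
    (hu : IsConj u u⁻¹) (hodd : Odd (Nat.card (Subgroup.centralizer ({u} : Set G)))) :
    ∃ χ : IrrCharacter G, Even (charDegree (χ : G → ℂ)) := by
  classical
  haveI := Fintype.ofFinite G
  by_contra hno
  push Not at hno
  have hd : ∀ χ : IrrCharacter G, ∃ m : ℕ, charDegree (χ : G → ℂ) = 2 * m + 1 := fun χ =>
    Nat.not_even_iff_odd.mp (hno χ)
  choose m hm using hd
  have h1 := Cfsg.Agent.Char.sum_irr_mul_conj u (1 : G)
  rw [if_neg (fun h => hu1 (isConj_one_left.mp h))] at h1
  simp only [charDeg_spec', Complex.conj_natCast, hm] at h1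
  set S := ∑ χ : IrrCharacter G, (χ : G → ℂ) u with hS
  set a := ∑ χ : IrrCharacter G, (χ : G → ℂ) u * (m χ : ℂ) with ha
  have hSa : S = -(2 * a) := by
    rw [eq_neg_iff_add_eq_zero, hS, ha, Finset.mul_sum, ← Finset.sum_add_distrib, ← h1]
    refine Finset.sum_congr rfl fun χ _ => ?_
    push_cast
    ring
  have hint : ∀ χ : IrrCharacter G, IsIntegral ℤ ((χ : G → ℂ) u) := fun χ => irr_isIntegral χ u
  have hai : IsIntegral ℤ a := IsIntegral.sum _ fun χ _ =>
    (hint χ).mul (by exact_mod_cast isIntegral_algebraMap (R := ℤ) (A := ℂ) (x := (m χ : ℤ)))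
  obtain ⟨b, hb, hb'⟩ := sq_sum_parity Finset.univ (fun χ : IrrCharacter G => (χ : G → ℂ) u)
    (fun χ _ => hint χ)
  have h2 : ∑ χ : IrrCharacter G, (χ : G → ℂ) u ^ 2 =
      (Nat.card (Subgroup.centralizer ({u} : Set G)) : ℂ) := by
    have h := Cfsg.Agent.Char.sum_irr_mul_conj u u
    rw [if_pos (IsConj.refl u)] at h
    rw [← h]
    refine Finset.sum_congr rfl fun χ _ => ?_
    rw [← irr_apply_inv, sq]
    obtain ⟨g, hg⟩ := isConj_iff.mp hu
    rw [← hg, irr_classFun χ]
  rw [← hS, h2, hSa] at hb'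
  have h3 : ((Nat.card (Subgroup.centralizer ({u} : Set G)) : ℕ) : ℂ) / ((2 : ℕ) : ℂ) =
      2 * (a * a) - b := by
    push_cast
    linear_combination (-1 / 2 : ℂ) * hb'
  have h4 := Cfsg.Agent.Char.nat_dvd_of_isIntegral_div (by norm_num : (2 : ℕ) ≠ 0)
    (h3 ▸ ((IsIntegral.mul (by exact_mod_cast isIntegral_algebraMap (R := ℤ) (A := ℂ) (x := (2 : ℤ)))
      (hai.mul hai)).sub hb))
  exact (Nat.not_even_iff_odd.mpr hodd) (even_iff_two_dvd.mpr h4)

end Cfsg.Agent.Block
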