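import Mathlib
import Cfsg.Agent.Lib.Block.IndicatorInd

/-!
# Real characters over a real character of a normal subgroup of odd index
-/

set_option autoImplicit false
set_option linter.style.haveILetI false
set_option linter.unusedSectionVars false

open Cfsg
open scoped ComplexConjugate

namespace Cfsg.Agent.Block.FS

open Cfsg.Agent.Char

universe u

variable {G : Type u} [Group G] [Fintype G]

/-- Column sums without conjugation. -/
theorem sum_irr_mul (g h : G) :
    ∑ χ : IrrCharacter G, (χ : G → ℂ) g * (χ : G → ℂ) h =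
      ∑ y : G, (open Classical in if y * g⁻¹ * y⁻¹ = h then (1 : ℂ) else 0) := by
  classical
  have h1 := sum_irr_mul_conj h g⁻¹
  rw [Finset.sum_congr rfl fun χ _ => by rw [IsIrr.apply_inv χ.2 g, Complex.conj_conj,
    mul_comm]] at h1
  rw [h1, Finset.sum_boole]
  split_ifs with hc
  · obtain ⟨y, hy⟩ := isConj_iff.mp hc.symm
    rw [← Fintype.card_subtype, ← Nat.card_eq_fintype_card, Nat.cast_inj]
    refine Nat.card_congr
      { toFun := fun c => ⟨y * c, ?_⟩
        invFun := fun z => ⟨y⁻¹ * z.1, ?_⟩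
        left_inv := fun c => Subtype.ext (by simp)
        right_inv := fun z => Subtype.ext (by simp) }
    · have hcm := Subgroup.mem_centralizer_singleton_iff.mp c.2
      calc y * (c : G) * g⁻¹ * (y * (c : G))⁻¹ = y * ((c : G) * g⁻¹) * (c : G)⁻¹ * y⁻¹ := by group
        _ = y * (g⁻¹ * (c : G)) * (c : G)⁻¹ * y⁻¹ := by rw [hcm]
        _ = y * g⁻¹ * y⁻¹ := by group
        _ = h := hy
    · rw [Subgroup.mem_centralizer_singleton_iff]
      calc y⁻¹ * z.1 * g⁻¹ = y⁻¹ * (z.1 * g⁻¹ * z.1⁻¹) * z.1 := by group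
        _ = y⁻¹ * (y * g⁻¹ * y⁻¹) * z.1 := by rw [z.2, hy]
        _ = _ := by group
  · rw [Finset.filter_eq_empty_iff.mpr fun y _ hy => hc (isConj_iff.mpr ⟨y, hy⟩).symm,
      Finset.card_empty, Nat.cast_zero]

variable (N : Subgroup G) [hN : N.Normal] [Fintype N]

theorem mem_of_conj_inv (hodd : Odd N.index) {g y : G}
    (h : y * g⁻¹ * y⁻¹ * g⁻¹ ∈ N) : g ∈ N := by
  have hQ : Odd (Nat.card (G ⧸ N)) := hodd
  set q : G ⧸ N := (g : G ⧸ N) with hq
  set c : G ⧸ N := (y : G ⧸ N) with hc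
  have h1 : c * q⁻¹ * c⁻¹ * q⁻¹ = 1 := by
    rw [hq, hc, ← QuotientGroup.mk_inv, ← QuotientGroup.mk_inv, ← QuotientGroup.mk_mul,
      ← QuotientGroup.mk_mul, ← QuotientGroup.mk_mul, QuotientGroup.eq_one_iff]
    exact h
  have h2 : c * q⁻¹ = q * c := by
    calc c * q⁻¹ = (c * q⁻¹ * c⁻¹ * q⁻¹) * (q * c) := by group
      _ = q * c := by rw [h1, one_mul]
  have h3 : Commute (c ^ 2) q := by
    show c ^ 2 * q = q * c ^ 2
    have h4 : c * q = q⁻¹ * c := by
      calc c * q = q⁻¹ * (q * c) * q := by group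
        _ = q⁻¹ * (c * q⁻¹) * q := by rw [h2]
        _ = _ := by group
    calc c ^ 2 * q = c * (c * q) := by rw [sq]; group
      _ = (c * q⁻¹) * c := by rw [h4]; group
      _ = q * c * c := by rw [h2]
      _ = _ := by rw [sq]; group
  obtain ⟨k, hk⟩ := hQ
  have h5 : Commute c q := by
    have := (h3.pow_left (k + 1))
    rwa [← pow_mul, show 2 * (k + 1) = Nat.card (G ⧸ N) + 1 by omega, pow_succ,
      pow_card_eq_one', one_mul] at this
  have h6 : q ^ 2 = 1 := by
    have e : c * q⁻¹ = c * q := by rw [h2, h5.eq]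
    have e2 : q⁻¹ = q := mul_left_cancel e
    rw [sq]
    nth_rewrite 1 [← e2]
    exact inv_mul_cancel q
  have h7 : orderOf q ∣ 1 := by
    have ha := orderOf_dvd_natCard q
    have hb := orderOf_dvd_of_pow_eq_one h6
    have hg : (2 * k + 1).Coprime 2 := Nat.coprime_two_right.mpr ⟨k, rfl⟩
    rw [← hg]
    exact Nat.dvd_gcd (hk ▸ ha) hb
  exact (QuotientGroup.eq_one_iff g).mp (orderOf_eq_one_iff.mp (Nat.dvd_one.mp h7))

/-- Over a real character of a normal subgroup of odd index exactly one character is real. -/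
theorem existsUnique_real_over (hodd : Odd N.index) {φ : N → ℂ} (hφ : IsIrrCharacter N φ)
    (hreal : ∀ n, conj (φ n) = φ n) :
    ∃ χ : IrrCharacter G, ∀ ψ : IrrCharacter G,
      ((∀ g, conj ((ψ : G → ℂ) g) = (ψ : G → ℂ) g) ∧
        classInner (fun n : N => (ψ : G → ℂ) n) φ ≠ 0) ↔ ψ = χ := by
  classical
  set I := inertia N φ with hI
  have hnN : (Nat.card N : ℂ) ≠ 0 := Nat.cast_ne_zero.mpr Nat.card_pos.ne'
  have hnG : (Nat.card G : ℂ) ≠ 0 := Nat.cast_ne_zero.mpr Nat.card_pos.ne'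
  obtain ⟨d, hd0, hd⟩ := IsIrr.one_eq_pos hφ
  have hdC : (d : ℂ) ≠ 0 := Nat.cast_ne_zero.mpr hd0.ne'
  have ht : (I.index : ℂ) ≠ 0 := Nat.cast_ne_zero.mpr Subgroup.index_ne_zero_of_finite
  -- the weight
  let w : IrrCharacter G → ℂ := fun χ =>
    (∑ n : N, coef N φ n * (χ : G → ℂ) n) / (χ : G → ℂ) 1
  have hw : ∀ χ : IrrCharacter G, w χ =
      if classInner (fun n : N => (χ : G → ℂ) n) φ ≠ 0 then (I.index : ℂ)⁻¹ else 0 := by
    intro χ
    have e : ∑ n : N, coef N φ n * (χ : G → ℂ) n =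
        (d : ℂ) * classInner (fun n : N => (χ : G → ℂ) n) φ := by
      simp only [coef, hd, classInner, mul_assoc, ← Finset.mul_sum]
      rw [Finset.sum_congr rfl fun n _ => mul_comm (conj (φ n)) ((χ : G → ℂ) n)]
      ring
    simp only [w, e]
    split_ifs with h
    · rw [clifford_one N χ.2 hφ h, ← hI, hd]
      field_simp
    · rw [not_not.mp h, mul_zero, zero_div]
  -- one twisted sum
  have hcoset : ∀ (ξ : N → ℂ), IsIrrCharacter N ξ → (∀ n, conj (ξ n) = ξ n) → ∀ y : G,
      ∑ n : N, ∑ g : N, ξ (g * conjEquivN N ((n : G) * y) g) =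
        (Nat.card N : ℂ) ^ 2 / ξ 1 * (if conjN N y ξ = ξ then 1 else 0) := by
    intro ξ hξ hξr y
    rw [Finset.sum_comm]
    have e : ∀ g : N, ∑ n : N, ξ (g * conjEquivN N ((n : G) * y) g) =
        (Nat.card N : ℂ) * ξ (conjEquivN N y g) / ξ 1 * ξ g := fun g => by
      rw [← sum_conj_apply hξ (conjEquivN N y g) g]
      refine Finset.sum_congr rfl fun n _ => ?_
      have : conjEquivN N ((n : G) * y) g = n * conjEquivN N y g * n⁻¹ := by
        rw [conjEquivN_apply, conjEquivN_apply]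
        exact Subtype.ext (by simp [mul_assoc])
      rw [this, ← IsIrr.classFun hξ (g * (n * conjEquivN N y g * n⁻¹)) g⁻¹]
      congr 1
      group
    rw [Finset.sum_congr rfl fun g _ => e g]
    have hc := classInner_irr_eq_ite (IsIrr.conjN N hξ y) hξ
    rw [classInner, inv_mul_eq_iff_eq_mul₀ hnN] at hc
    rw [conjN_eq_comp] at hc ⊢
    rw [Finset.sum_congr rfl fun g _ => show _ = (Nat.card N : ℂ) / ξ 1 *
      (ξ (conjEquivN N y g) * conj (ξ g)) by rw [hξr]; ring, ← Finset.mul_sum, hc]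
    ring
  have hcount : (∑ χ : IrrCharacter G,
      if (∀ g, conj ((χ : G → ℂ) g) = (χ : G → ℂ) g) ∧
        classInner (fun n : N => (χ : G → ℂ) n) φ ≠ 0 then (1 : ℂ) else 0) = 1 := by
    have h1 : ∀ χ : IrrCharacter G,
        (if (∀ g, conj ((χ : G → ℂ) g) = (χ : G → ℂ) g) ∧
          classInner (fun n : N => (χ : G → ℂ) n) φ ≠ 0 then (1 : ℂ) else 0) =
        (I.index : ℂ) * (Nat.card G : ℂ)⁻¹ *
          ∑ g : G, w χ * (χ : G → ℂ) g * (χ : G → ℂ) g := by
      intro χ
      have h2 := classInner_irr_eq_ite χ.2 (IsIrr.conj χ.2)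
      rw [classInner, inv_mul_eq_iff_eq_mul₀ hnG] at h2
      simp only [Complex.conj_conj] at h2
      have hs : ∑ g : G, w χ * (χ : G → ℂ) g * (χ : G → ℂ) g =
          w χ * ∑ g : G, (χ : G → ℂ) g * (χ : G → ℂ) g := by
        rw [Finset.mul_sum]
        exact Finset.sum_congr rfl fun g _ => mul_assoc _ _ _
      rw [hs, h2, hw]
      have hiff : (χ : G → ℂ) = (fun g => conj ((χ : G → ℂ) g)) ↔
          ∀ g, conj ((χ : G → ℂ) g) = (χ : G → ℂ) g := by
        rw [funext_iff]
        exact forall_congr' fun g => eq_comm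
      by_cases hr : ∀ g, conj ((χ : G → ℂ) g) = (χ : G → ℂ) g
      · rw [if_pos (hiff.mpr hr)]
        by_cases h0 : classInner (fun n : N => (χ : G → ℂ) n) φ ≠ 0
        · rw [if_pos ⟨hr, h0⟩, if_pos h0]
          field_simp
        · rw [if_neg (fun h => h0 h.2), if_neg h0]
          ring
      · rw [if_neg (mt hiff.mp hr), if_neg (fun h => hr h.1)]
        ring
    rw [Finset.sum_congr rfl fun χ _ => h1 χ, ← Finset.mul_sum]
    -- move the weight inside
    have h3 : ∀ χ : IrrCharacter G, ∀ g : G, w χ * (χ : G → ℂ) g =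
        (Nat.card G : ℂ)⁻¹ * ∑ n : N, coef N φ n *
          ∑ x : G, (χ : G → ℂ) (x * n * x⁻¹ * g) := by
      intro χ g
      simp only [sum_conj_apply χ.2, w, Finset.mul_sum, Finset.sum_div, Finset.sum_mul]
      refine Finset.sum_congr rfl fun n _ => ?_
      have := IsIrr.one_ne_zero χ.2
      field_simp
    rw [Finset.sum_comm]
    simp only [h3, Finset.mul_sum, Finset.sum_mul]
    have h4 : ∀ g : G, ∀ n : N, ∀ x : G, ∑ χ : IrrCharacter G, (χ : G → ℂ) g *
        (χ : G → ℂ) (x * n * x⁻¹ * g) =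
        ∑ y : G, if y * g⁻¹ * y⁻¹ = x * n * x⁻¹ * g then (1 : ℂ) else 0 := fun g n x =>
      sum_irr_mul g _
    have h5 : ∑ g : G, ∑ χ : IrrCharacter G, ∑ n : N, ∑ x : G, (I.index : ℂ) * (Nat.card G : ℂ)⁻¹ *
        ((Nat.card G : ℂ)⁻¹ * (coef N φ n * (χ : G → ℂ) (x * n * x⁻¹ * g)) * (χ : G → ℂ) g) =
        (I.index : ℂ) * ((Nat.card G : ℂ)⁻¹) ^ 2 *
          ∑ g : G, ∑ x : G, ∑ y : G, ∑ n : N,
            coef N φ n * (if y * g⁻¹ * y⁻¹ = x * n * x⁻¹ * g then (1 : ℂ) else 0) := by
      rw [Finset.mul_sum]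
      refine Finset.sum_congr rfl fun g _ => ?_
      rw [Finset.sum_comm, Finset.mul_sum]
      conv_rhs => arg 2; ext x; rw [Finset.sum_comm, Finset.mul_sum]
      conv_rhs => rw [Finset.sum_comm]
      refine Finset.sum_congr rfl fun n _ => ?_
      rw [Finset.sum_comm]
      refine Finset.sum_congr rfl fun x _ => ?_
      simp only [← Finset.mul_sum (a := coef N φ n), ← h4 g n x]
      simp only [Finset.mul_sum]
      exact Finset.sum_congr rfl fun χ _ => by ring
    rw [h5]
    -- restrict `g` to `N` and determine `n`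
    have h6 : ∀ g x y : G, (∑ n : N,
        coef N φ n * (if y * g⁻¹ * y⁻¹ = x * n * x⁻¹ * g then (1 : ℂ) else 0)) =
        if hg : g ∈ N then (d : ℂ) / (Nat.card N : ℂ) *
          conjN N x⁻¹ φ (⟨g, hg⟩ * conjEquivN N y ⟨g, hg⟩) else 0 := by
      intro g x y
      split_ifs with hg
      · set g' : N := ⟨g, hg⟩
        set n₀ : N := conjEquivN N x⁻¹ ((g' * conjEquivN N y g')⁻¹) with hn₀
        have hco : (conjEquivN N y g' : G) = y * g * y⁻¹ := by rw [conjEquivN_apply]
        have hn₀v : (n₀ : G) = x⁻¹ * ((y * g * y⁻¹)⁻¹ * g⁻¹) * x := by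
          rw [hn₀, conjEquivN_apply]
          simp [hco, g', mul_assoc]
        rw [Fintype.sum_eq_single n₀ (fun n hn => by
          rw [if_neg, mul_zero]
          intro e
          refine hn (Subtype.ext ?_)
          rw [hn₀v]
          calc (n : G) = x⁻¹ * ((x * n * x⁻¹ * g) * g⁻¹) * x := by group
            _ = x⁻¹ * ((y * g⁻¹ * y⁻¹) * g⁻¹) * x := by rw [← e]
            _ = _ := by group), if_pos (by rw [hn₀v]; group), mul_one, coef, hd, hn₀, map_inv,
          IsIrr.apply_inv hφ, Complex.conj_conj, conjN_eq_comp]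
      · refine Finset.sum_eq_zero fun n _ => ?_
        rw [if_neg, mul_zero]
        intro e
        refine hg (mem_of_conj_inv N hodd (y := y) ?_)
        rw [e, mul_inv_cancel_right]
        exact hN.conj_mem _ n.2 x
    simp only [h6]
    rw [← Finset.sum_filter_add_sum_filter_not Finset.univ (fun g : G => g ∈ N),
      Finset.sum_eq_zero (s := Finset.univ.filter fun g : G => ¬ g ∈ N) (fun g hg => by
        simp [(Finset.mem_filter.mp hg).2]), add_zero]
    have h7 : (∑ g ∈ Finset.univ.filter (fun g : G => g ∈ N), ∑ x : G, ∑ y : G,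
        if hg : g ∈ N then (d : ℂ) / (Nat.card N : ℂ) *
          conjN N x⁻¹ φ (⟨g, hg⟩ * conjEquivN N y ⟨g, hg⟩) else 0) =
        ∑ g : N, ∑ x : G, ∑ y : G, (d : ℂ) / (Nat.card N : ℂ) *
          conjN N x⁻¹ φ (g * conjEquivN N y g) := by
      refine Finset.sum_bij' (fun g hg => (⟨g, (Finset.mem_filter.mp hg).2⟩ : N))
        (fun g _ => (g : G)) (by simp) (by simp) (fun _ _ => rfl) (fun _ _ => rfl) ?_
      intro g hg
      simp only [dif_pos (Finset.mem_filter.mp hg).2]
    rw [h7, Finset.sum_comm]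
    -- average `y` over cosets
    have h8 : ∀ x : G, ∑ g : N, ∑ y : G, (d : ℂ) / (Nat.card N : ℂ) *
          conjN N x⁻¹ φ (g * conjEquivN N y g) =
        ∑ y : G, if conjN N y (conjN N x⁻¹ φ) = conjN N x⁻¹ φ then (1 : ℂ) else 0 := by
      intro x
      set ξ := conjN N x⁻¹ φ with hξdef
      have hξ : IsIrrCharacter N ξ := IsIrr.conjN N hφ x⁻¹
      have hξr : ∀ n, conj (ξ n) = ξ n := fun n => hreal _
      have hξ1 : ξ 1 = (d : ℂ) := by
        rw [hξdef, conjN_eq_comp, ← hd]
        simp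
      refine mul_left_cancel₀ hnN ?_
      rw [Finset.sum_comm]
      calc (Nat.card N : ℂ) * ∑ y : G, ∑ g : N, (d : ℂ) / (Nat.card N : ℂ) * ξ (g * conjEquivN N y g)
          = ∑ _n : N, ∑ y : G, ∑ g : N, (d : ℂ) / (Nat.card N : ℂ) * ξ (g * conjEquivN N y g) := by
            rw [Finset.sum_const, Finset.card_univ, nsmul_eq_mul, Nat.card_eq_fintype_card]
        _ = ∑ n : N, ∑ y : G, ∑ g : N, (d : ℂ) / (Nat.card N : ℂ) *
              ξ (g * conjEquivN N ((n : G) * y) g) := Finset.sum_congr rfl fun n _ =>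
            (Fintype.sum_equiv (Equiv.mulLeft (n : G)) _ _ fun y => rfl).symm
        _ = _ := by
            rw [Finset.sum_comm, Finset.mul_sum]
            refine Finset.sum_congr rfl fun y _ => ?_
            simp only [← Finset.mul_sum]
            rw [hcoset ξ hξ hξr y, hξ1]
            field_simp
    rw [Finset.sum_congr rfl fun x _ => h8 x]
    have h9 : ∀ x : G, (∑ y : G, if conjN N y (conjN N x⁻¹ φ) = conjN N x⁻¹ φ then (1 : ℂ) else 0) =
        (Nat.card I : ℂ) := by
      intro x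
      rw [Finset.sum_boole, Nat.cast_inj, ← Fintype.card_subtype, ← Nat.card_eq_fintype_card]
      refine Nat.card_congr
        { toFun := fun y => ⟨x⁻¹ * y.1 * x, ?_⟩
          invFun := fun z => ⟨x * (z : G) * x⁻¹, ?_⟩
          left_inv := fun y => Subtype.ext (by simp [mul_assoc])
          right_inv := fun z => Subtype.ext (by simp [mul_assoc]) }
      · have h' := congrArg (conjN N x) y.2
        rw [← conjN_mul, ← conjN_mul, ← conjN_mul] at h'
        show _ ∈ inertia N φ
        rw [mem_inertia]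
        simpa [mul_assoc, conjN_one] using h'
      · have hz : conjN N (z : G) φ = φ := z.2
        rw [← conjN_mul]
        conv_rhs => rw [← hz, ← conjN_mul]
        congr 1
        group
    rw [Finset.sum_congr rfl fun x _ => h9 x, Finset.sum_const, Finset.card_univ, nsmul_eq_mul,
      ← Nat.card_eq_fintype_card]
    have h10 : (I.index : ℂ) * (Nat.card I : ℂ) = (Nat.card G : ℂ) := by
      rw [← Nat.cast_mul, Subgroup.index_mul_card]
    rw [sq]
    field_simp
    linear_combination h10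
  rw [Finset.sum_boole, Nat.cast_eq_one, Finset.card_eq_one] at hcount
  obtain ⟨χ, hχ⟩ := hcount
  refine ⟨χ, fun ψ => ?_⟩
  have := Finset.ext_iff.mp hχ ψ
  simpa using this

end Cfsg.Agent.Block.FS
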