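import Cfsg.Agent.Lib.Block.RelGlauberman
import Cfsg.Agent.Lib.Char.CliffordCorr
import Cfsg.Agent.Lib.Block.Residue

/-!
# The relative Glauberman correspondence: reduction to an invariant character
-/

set_option autoImplicit false
set_option linter.style.haveILetI false
set_option linter.unusedSectionVars false

open Cfsg
open scoped ComplexConjugate

namespace Cfsg.Agent.Block.RelGal

universe u

open Cfsg.Agent.Char

variable {p : ℕ} {P K C : Type u} [Group P] [Group K] [Group C]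

/-- A `p`-group fixes a constituent on an invariant normal subgroup of index prime to `p`. -/
theorem exists_inv_constituent {X : Type u} [Group X] [Fintype X] [Fact p.Prime]
    (φ : P →* MulAut X) (hP : IsPGroup p P) (N : Subgroup X) [N.Normal] [Fintype N]
    (hN : ∀ x, ∀ n ∈ N, φ x n ∈ N) (hidx : ¬ p ∣ N.index) {χ : X → ℂ}
    (hχ : IsIrrCharacter X χ) (hinv : InvF φ χ) :
    ∃ θ : IrrCharacter N, classInner (fun n : N => χ n) (θ : N → ℂ) ≠ 0 ∧
      ∀ x (n : N), (θ : N → ℂ) ⟨φ x n, hN x n n.2⟩ = (θ : N → ℂ) n := by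
  classical
  let φN := restrictAut φ N hN
  let S := {θ : IrrCharacter N // classInner (fun n : N => χ n) (θ : N → ℂ) ≠ 0}
  have hmove : ∀ (x : P) (θ : IrrCharacter N),
      classInner (fun n : N => χ n) (fun n => (θ : N → ℂ) (φN x n)) =
        classInner (fun n : N => χ n) (θ : N → ℂ) := by
    intro x θ
    have e := classInner_comp_surjective (φN x).toMonoidHom (φN x).surjective (fun n : N => χ n)
      (θ : N → ℂ)
    rw [← e]
    congr 1
    funext n
    exact (hinv x n).symm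
  letI : MulAction P S :=
    { smul := fun x θ => ⟨⟨fun n => (θ.1 : N → ℂ) (φN x⁻¹ n),
        IsIrr.comp_surjective (φN x⁻¹).toMonoidHom (φN x⁻¹).surjective θ.1.2⟩,
        by show classInner _ _ ≠ 0; rw [hmove]; exact θ.2⟩
      one_smul := fun θ => Subtype.ext (Subtype.ext (funext fun n => by
        show (θ.1 : N → ℂ) (φN (1 : P)⁻¹ n) = _
        rw [inv_one, map_one, MulAut.one_apply]))
      mul_smul := fun a b θ => Subtype.ext (Subtype.ext (funext fun n => by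
        show (θ.1 : N → ℂ) (φN (a * b)⁻¹ n) = (θ.1 : N → ℂ) (φN b⁻¹ (φN a⁻¹ n))
        rw [mul_inv_rev, map_mul, MulAut.mul_apply])) }
  obtain ⟨θ₀, hθ₀⟩ := IsChar.exists_constituent' (IsChar.res (IsIrr.isCharacter hχ) N) (by
    show χ ((1 : N) : X) ≠ 0
    rw [Subgroup.coe_one]; exact IsIrr.one_ne_zero hχ)
  have hcard : Nat.card S = (conjOrbit N (θ₀ : N → ℂ)).card := by
    rw [← Fintype.card_coe (conjOrbit N (θ₀ : N → ℂ)), ← Nat.card_eq_fintype_card]
    refine Nat.card_eq_of_bijective (fun θ : S => (⟨(θ.1 : N → ℂ), (mem_conjOrbit N).mpr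
      (exists_conj_of_constituents N hχ θ₀.2 θ.1.2 hθ₀ θ.2)⟩ : conjOrbit N (θ₀ : N → ℂ)))
      ⟨fun a b h => Subtype.ext (Subtype.ext (congrArg (fun t => t.1) h :)), fun ψ => ?_⟩
    obtain ⟨g, hg⟩ := (mem_conjOrbit N).mp ψ.2
    refine ⟨⟨⟨ψ.1, hg ▸ IsIrr.conjN N θ₀.2 g⟩, ?_⟩, Subtype.ext rfl⟩
    show classInner (fun n : N => χ n) ψ.1 ≠ 0
    rw [← hg, classInner_res_conjN N (IsIrr.classFun hχ)]
    exact hθ₀
  have hnd : ¬ p ∣ Nat.card S := by
    rw [hcard, card_conjOrbit]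
    exact fun h => hidx (h.trans (Subgroup.index_dvd_of_le (le_inertia N (IsIrr.classFun θ₀.2))))
  obtain ⟨θ, hθ⟩ := hP.nonempty_fixed_point_of_prime_not_dvd_card S hnd
  refine ⟨θ.1, θ.2, fun x n => ?_⟩
  have h := congrFun (congrArg (fun t : S => (t.1 : N → ℂ)) (hθ x⁻¹)) n
  have h' : (θ.1 : N → ℂ) (φN (x⁻¹)⁻¹ n) = (θ.1 : N → ℂ) n := h
  rwa [inv_inv] at h'

/-- Induction commutes with automorphisms. -/
theorem indFun_comp_aut {X : Type u} [Group X] [Fintype X] (T : Subgroup X) (a : MulAut X)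
    (h : ∀ t, a t ∈ T ↔ t ∈ T) (f : T → ℂ) (g : X) :
    indFun T (fun t : T => f ⟨a t, (h t).mpr t.2⟩) g = indFun T f (a g) := by
  simp only [indFun]
  congr 1
  refine Fintype.sum_equiv a.toEquiv _ _ fun y => ?_
  show extendByZero T _ (y⁻¹ * g * y) = extendByZero T f ((a y)⁻¹ * a g * a y)
  rw [← map_inv, ← map_mul, ← map_mul]
  by_cases hy : y⁻¹ * g * y ∈ T
  · rw [extendByZero_of_mem _ hy, extendByZero_of_mem _ ((h _).mpr hy)]
  · rw [extendByZero_not_mem _ hy, extendByZero_not_mem _ (fun hh => hy ((h _).mp hh))]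

namespace Sys

variable {φK : P →* MulAut K} {φC : P →* MulAut C} {ι : C →* K} {Q : Subgroup K} {j : Q →* C}
variable (S : Sys p φK φC ι Q j)
variable [Fintype K] [Fintype C] [Fintype Q] [hp : Fact p.Prime]
include S

theorem j_equiv (x : P) (q : Q) : j ⟨φK x q, S.mapsTo x q⟩ = φC x (j q) :=
  S.inj (by rw [S.ιj, S.equiv, S.ιj])

/-- The correspondence for characters over a fixed invariant character of `Q`. -/
theorem local_corr (θ : IrrCharacter Q)
    (hθP : ∀ x (q : Q), (θ : Q → ℂ) ⟨φK x q, S.mapsTo x q⟩ = (θ : Q → ℂ) q) :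
    (∀ χ : IrrCharacter K, InvF φK (χ : K → ℂ) → Over Q.subtype (θ : Q → ℂ) (χ : K → ℂ) →
      ∃ ξ : IrrCharacter C, InvF φC (ξ : C → ℂ) ∧ Over j (θ : Q → ℂ) (ξ : C → ℂ) ∧
        Sign ι p (χ : K → ℂ) (ξ : C → ℂ) ∧
        ∀ ξ' : IrrCharacter C, Over j (θ : Q → ℂ) (ξ' : C → ℂ) →
          Corr ι p (χ : K → ℂ) (ξ' : C → ℂ) → ξ' = ξ) ∧
    (∀ ξ : IrrCharacter C, Over j (θ : Q → ℂ) (ξ : C → ℂ) →
      ∃ χ : IrrCharacter K, InvF φK (χ : K → ℂ) ∧ Over Q.subtype (θ : Q → ℂ) (χ : K → ℂ) ∧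
        Sign ι p (χ : K → ℂ) (ξ : C → ℂ) ∧
        ∀ χ' : IrrCharacter K, InvF φK (χ' : K → ℂ) → Over Q.subtype (θ : Q → ℂ) (χ' : K → ℂ) →
          Corr ι p (χ' : K → ℂ) (ξ : C → ℂ) → χ' = χ) := by
  classical
  haveI := S.norm
  -- the inertia groups
  let T : Subgroup K := inertia Q (θ : Q → ℂ)
  have hQT : Q ≤ T := le_inertia Q (IsIrr.classFun θ.2)
  have hTinv : ∀ x, ∀ t ∈ T, φK x t ∈ T := by
    intro x t ht
    rw [mem_inertia]
    funext n
    let n' : Q := ⟨φK x⁻¹ n, S.mapsTo x⁻¹ n⟩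
    have hn : φK x (n' : K) = n := by simp [n']
    have h1 := congrFun ((mem_inertia Q).mp ht) n'
    rw [conjN_apply] at h1 ⊢
    rw [← hθP x, ← hθP x n'] at h1
    refine Eq.trans ?_ (h1.trans (congrArg _ (Subtype.ext hn)))
    refine congrArg _ (Subtype.ext ?_)
    show φK x t * (n : K) * (φK x t)⁻¹ = φK x (t * (n' : K) * t⁻¹)
    rw [map_mul, map_mul, map_inv, hn]
  let φT := restrictAut φK T hTinv
  let Ct : Subgroup C := T.comap ι
  have hCtinv : ∀ x, ∀ c ∈ Ct, φC x c ∈ Ct := fun x c hc => by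
    show ι (φC x c) ∈ T
    rw [S.equiv]; exact hTinv x _ hc
  let φCt := restrictAut φC Ct hCtinv
  let ι' : Ct →* T := (ι.comp Ct.subtype).codRestrict T fun c => c.2
  let QT : Subgroup T := Q.subgroupOf T
  let eT : QT ≃* Q := Subgroup.subgroupOfEquivOfLe hQT
  have hjCt : ∀ q : Q, j q ∈ Ct := fun q => by
    show ι (j q) ∈ T
    rw [S.ιj]; exact hQT q.2
  let jT : QT →* Ct := (j.comp eT.toMonoidHom).codRestrict Ct fun q => hjCt _
  haveI : Fintype T := Fintype.ofFinite _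
  haveI : Fintype Ct := Fintype.ofFinite _
  haveI : Fintype QT := Fintype.ofFinite _
  have S' : Sys p φT φCt ι' QT jT :=
    { inj := fun a b h => Subtype.ext (S.inj (congrArg Subtype.val h))
      equiv := fun x c => Subtype.ext (S.equiv x c)
      norm := Subgroup.Normal.subgroupOf inferInstance _
      ιj := fun q => Subtype.ext (S.ιj (eT q))
      range_iff := fun t => by
        constructor
        · rintro ⟨c, rfl⟩ x
          exact (S.range_iff _).mp ⟨(c : C), rfl⟩ x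
        · intro h
          obtain ⟨c, hc⟩ := (S.range_iff (t : K)).mpr fun x => h x
          exact ⟨⟨c, show ι c ∈ T from hc ▸ t.2⟩, Subtype.ext hc⟩
      pGroup := S.pGroup
      qGroup := S.qGroup.of_equiv eT.symm
      idx := fun h => S.idx (h.trans (Subgroup.relIndex_dvd_index_of_normal Q T)) }
  let θT : IrrCharacter QT := ⟨fun q => (θ : Q → ℂ) (eT q), IsIrr.comp_mulEquiv eT θ.2⟩
  have hθTK : ∀ (g : T) (q : QT) (h : g * q * g⁻¹ ∈ QT),
      (θT : QT → ℂ) ⟨g * q * g⁻¹, h⟩ = (θT : QT → ℂ) q := by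
    intro g q h
    have h1 := congrFun ((mem_inertia Q).mp g.2) (eT q)
    rw [conjN_apply] at h1
    exact h1
  have hθTP : ∀ x (q : QT), (θT : QT → ℂ) ⟨φT x q, S'.mapsTo x q⟩ = (θT : QT → ℂ) q :=
    fun x q => hθP x (eT q)
  obtain ⟨tK, tC⟩ := S'.tlevel θT hθTK hθTP
  have hoverT : ∀ f : T → ℂ, Over QT.subtype (θT : QT → ℂ) f ↔
      classInner (fun n : Q => f ⟨n, hQT n.2⟩) (θ : Q → ℂ) ≠ 0 := fun f => by
    rw [Over, ← classInner_comp_surjective eT.toMonoidHom eT.surjective]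
    rfl
  have hoverCt : ∀ f : Ct → ℂ, Over jT (θT : QT → ℂ) f ↔
      classInner (fun n : Q => f ⟨j n, hjCt n⟩) (θ : Q → ℂ) ≠ 0 := fun f => by
    rw [Over, ← classInner_comp_surjective eT.toMonoidHom eT.surjective]
    rfl
  -- the normal subgroup of `C`
  let NC : Subgroup C := Q.comap ι
  haveI : Fintype NC := Fintype.ofFinite _
  let j' : Q →* NC := j.codRestrict NC fun q => by
    show ι (j q) ∈ Q
    rw [S.ιj]; exact q.2
  have hj' : Function.Bijective j' :=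
    ⟨fun a b h => S.j_injective (congrArg Subtype.val h), fun n =>
      ⟨⟨ι n, n.2⟩, Subtype.ext (S.inj (S.ιj ⟨ι n, n.2⟩))⟩⟩
  let eN : NC ≃* Q := (MulEquiv.ofBijective j' hj').symm
  have heN : ∀ n : NC, ((eN n : Q) : K) = ι n := fun n => by
    have h := congrArg (fun m : NC => ι m) ((MulEquiv.ofBijective j' hj').apply_symm_apply n)
    rw [← h]
    exact (S.ιj _).symm
  let θN : NC → ℂ := fun n => (θ : Q → ℂ) (eN n)
  have hθN : IsIrrCharacter NC θN := IsIrr.comp_mulEquiv eN θ.2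
  have hCt : Ct = inertia NC θN := by
    ext c
    show ι c ∈ T ↔ _
    rw [mem_inertia, mem_inertia]
    constructor
    · intro h
      funext n
      have h1 := congrFun h (eN n)
      rw [conjN_apply] at h1 ⊢
      show (θ : Q → ℂ) _ = (θ : Q → ℂ) _
      refine Eq.trans (congrArg _ (Subtype.ext ?_)) h1
      rw [heN]
      show ι (c * n * c⁻¹) = ι c * (eN n : K) * (ι c)⁻¹
      rw [map_mul, map_mul, map_inv, heN]
    · intro h
      funext q
      have h1 := congrFun h (j' q)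
      rw [conjN_apply] at h1 ⊢
      have e : eN (j' q) = q := (MulEquiv.ofBijective j' hj').symm_apply_apply q
      rw [show θN (j' q) = (θ : Q → ℂ) q from congrArg _ e] at h1
      refine Eq.trans (congrArg _ (Subtype.ext ?_)) h1
      rw [heN]
      show ι c * (q : K) * (ι c)⁻¹ = ι (c * j q * c⁻¹)
      rw [map_mul, map_mul, map_inv, S.ιj]
  have hNCt : NC ≤ Ct := fun c hc => hQT hc
  have hoverN : ∀ f : C → ℂ, Over j (θ : Q → ℂ) f ↔
      classInner (fun n : NC => f n) θN ≠ 0 := fun f => by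
    rw [Over, ← classInner_comp_surjective j' hj'.2 (fun n : NC => f n)]
    have e1 : (fun q : Q => θN (j' q)) = (θ : Q → ℂ) := funext fun q =>
      congrArg _ ((MulEquiv.ofBijective j' hj').symm_apply_apply q)
    rw [e1]
    rfl
  have hoverNt : ∀ f : Ct → ℂ, Over jT (θT : QT → ℂ) f ↔
      classInner (fun n : NC => f ⟨n, hNCt n.2⟩) θN ≠ 0 := fun f => by
    rw [hoverCt, ← classInner_comp_surjective j' hj'.2 (fun n : NC => f ⟨n, hNCt n.2⟩)]
    have e1 : (fun q : Q => θN (j' q)) = (θ : Q → ℂ) := funext fun q =>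
      congrArg _ ((MulEquiv.ofBijective j' hj').symm_apply_apply q)
    rw [e1]
    rfl
  -- self pairing of an induced character
  have hself : ∀ {X : Type u} [Group X] [Fintype X] (H : Subgroup X) [Fintype H] (f : H → ℂ),
      IsIrrCharacter X (indFun H f) → classInner (fun h : H => indFun H f h) f = 1 := by
    intro X _ _ H _ f hf
    rw [← classInner_indFun_right H f (IsIrr.classFun hf), classInner_self_irr hf]
  have hindK : ∀ ψ : IrrCharacter T, Over QT.subtype (θT : QT → ℂ) (ψ : T → ℂ) →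
      IsIrrCharacter K (indFun T (ψ : T → ℂ)) ∧
        Over Q.subtype (θ : Q → ℂ) (indFun T (ψ : T → ℂ)) := by
    intro ψ h
    have h1 := (Corr.indFun_irr Q θ.2 rfl hQT ψ.2 ((hoverT _).mp h)).1
    refine ⟨h1, ?_⟩
    exact over_of_constituent T.subtype (Subgroup.inclusion hQT) (IsIrr.isCharacter h1) ψ.2
      (by show classInner (fun t : T => indFun T (ψ : T → ℂ) t) _ ≠ 0
          rw [hself T _ h1]; exact one_ne_zero)
      (IsIrr.isCharacter θ.2) ((hoverT _).mp h)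
  have hindC : ∀ η : IrrCharacter Ct, Over jT (θT : QT → ℂ) (η : Ct → ℂ) →
      IsIrrCharacter C (indFun Ct (η : Ct → ℂ)) ∧
        Over j (θ : Q → ℂ) (indFun Ct (η : Ct → ℂ)) := by
    intro η h
    have h1 := (Corr.indFun_irr NC hθN hCt hNCt η.2 ((hoverNt _).mp h)).1
    refine ⟨h1, ?_⟩
    exact over_of_constituent Ct.subtype (j.codRestrict Ct hjCt) (IsIrr.isCharacter h1) η.2
      (by show classInner (fun t : Ct => indFun Ct (η : Ct → ℂ) t) _ ≠ 0
          rw [hself Ct _ h1]; exact one_ne_zero)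
      (IsIrr.isCharacter θ.2) ((hoverCt _).mp h)
  have hTiff : ∀ x t, φK x t ∈ T ↔ t ∈ T := fun x t =>
    ⟨fun h => by simpa using hTinv x⁻¹ _ h, hTinv x t⟩
  have hCtiff : ∀ x c, φC x c ∈ Ct ↔ c ∈ Ct := fun x c =>
    ⟨fun h => by simpa using hCtinv x⁻¹ _ h, hCtinv x c⟩
  have hindinvK : ∀ ψ : T → ℂ, InvF φT ψ → InvF φK (indFun T ψ) := by
    intro ψ h x g
    rw [← indFun_comp_aut T (φK x) (hTiff x) ψ g]
    congr 1
    exact funext fun t => h x t
  have hindinvC : ∀ η : Ct → ℂ, InvF φCt η → InvF φC (indFun Ct η) := by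
    intro η h x g
    rw [← indFun_comp_aut Ct (φC x) (hCtiff x) η g]
    congr 1
    exact funext fun t => h x t
  -- the multiplicities agree
  have key : ∀ (ψ : IrrCharacter T) (η : IrrCharacter Ct),
      Over QT.subtype (θT : QT → ℂ) (ψ : T → ℂ) → Over jT (θT : QT → ℂ) (η : Ct → ℂ) →
      classInner (fun c : C => indFun T (ψ : T → ℂ) (ι c)) (indFun Ct (η : Ct → ℂ)) =
        classInner (fun c : Ct => (ψ : T → ℂ) (ι' c)) (η : Ct → ℂ) := by
    intro ψ η hψ hη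
    obtain ⟨hχ, -⟩ := hindK ψ hψ
    rw [classInner_indFun_right Ct _ (IsChar.classFun (IsChar.comp ι (IsIrr.isCharacter hχ)))]
    obtain ⟨a, ha, hd⟩ := IsChar.exists_decomp_inner (IsChar.res (IsIrr.isCharacter hχ) T)
    have haψ : (a ψ : ℂ) = 1 := by rw [← ha, hself T _ hχ]
    have hrest : ∀ φ : IrrCharacter T, φ ≠ ψ →
        (a φ : ℂ) * classInner (fun c : Ct => (φ : T → ℂ) (ι' c)) (η : Ct → ℂ) = 0 := by
      intro φ hne
      by_contra h0
      rw [mul_eq_zero, not_or] at h0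
      have hov : Over (ι'.comp jT) (θT : QT → ℂ) (φ : T → ℂ) :=
        over_of_constituent ι' jT (IsIrr.isCharacter φ.2) η.2 h0.2
          (IsIrr.isCharacter θT.2) hη
      have hov' : Over QT.subtype (θT : QT → ℂ) (φ : T → ℂ) := by
        have e : ι'.comp jT = QT.subtype := MonoidHom.ext fun q => S'.ιj q
        rwa [e] at hov
      refine hne (Subtype.ext ((Corr.core Q θ.2 rfl hQT ψ.2 ((hoverT _).mp hψ) hχ
        (by rw [hself T _ hχ]; exact one_ne_zero)).2.2 φ φ.2 ?_ ((hoverT _).mp hov')))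
      rw [ha φ]
      exact h0.1
    have e : (fun c : Ct => indFun T (ψ : T → ℂ) (ι c)) =
        ∑ φ : IrrCharacter T, (a φ : ℂ) • fun c : Ct => (φ : T → ℂ) (ι' c) := by
      funext c
      have := congrFun hd (ι' c)
      simp only [Finset.sum_apply, Pi.smul_apply] at this ⊢
      exact this
    rw [e, classInner_sum_left, Finset.sum_eq_single ψ
      (fun φ _ hne => by rw [classInner_smul_left]; exact hrest φ hne)
      (fun h => absurd (Finset.mem_univ _) h), classInner_smul_left, haψ, one_mul]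
  have keyC : ∀ (ψ : IrrCharacter T) (η : IrrCharacter Ct),
      Over QT.subtype (θT : QT → ℂ) (ψ : T → ℂ) → Over jT (θT : QT → ℂ) (η : Ct → ℂ) →
      (Sign ι p (indFun T (ψ : T → ℂ)) (indFun Ct (η : Ct → ℂ)) ↔
          Sign ι' p (ψ : T → ℂ) (η : Ct → ℂ)) ∧
        (Corr ι p (indFun T (ψ : T → ℂ)) (indFun Ct (η : Ct → ℂ)) ↔
          Corr ι' p (ψ : T → ℂ) (η : Ct → ℂ)) := by
    intro ψ η hψ hη
    simp only [Sign, RelGal.Corr, key ψ η hψ hη, and_self]
  -- the correspondents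
  have hliftK : ∀ χ : IrrCharacter K, InvF φK (χ : K → ℂ) →
      Over Q.subtype (θ : Q → ℂ) (χ : K → ℂ) → ∃ ψ : IrrCharacter T, InvF φT (ψ : T → ℂ) ∧
        Over QT.subtype (θT : QT → ℂ) (ψ : T → ℂ) ∧ indFun T (ψ : T → ℂ) = (χ : K → ℂ) := by
    intro χ hinv hov
    obtain ⟨ψ, hψ, hind, hin⟩ := Corr.exists_correspondent Q θ.2 rfl hQT χ.2 hov
    have hψov : classInner (fun n : Q => ψ ⟨n, hQT n.2⟩) (θ : Q → ℂ) ≠ 0 := hin ▸ hov
    refine ⟨⟨ψ, hψ⟩, fun x t => ?_, (hoverT _).mpr hψov, hind⟩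
    let φQ := restrictAut φK Q fun x q hq => S.mapsTo x ⟨q, hq⟩
    have hirr : IsIrrCharacter T (fun t => ψ (φT x t)) :=
      IsIrr.comp_surjective (φT x).toMonoidHom (φT x).surjective hψ
    have hov' : classInner (fun n : Q => ψ (φT x ⟨n, hQT n.2⟩)) (θ : Q → ℂ) ≠ 0 := by
      rw [← classInner_comp_surjective (φQ x).toMonoidHom (φQ x).surjective
        (fun n : Q => ψ ⟨n, hQT n.2⟩) (θ : Q → ℂ)] at hψov
      have e : (fun n : Q => (θ : Q → ℂ) (φQ x n)) = (θ : Q → ℂ) := funext fun n => hθP x n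
      exact e ▸ hψov
    have heq : indFun T (fun t => ψ (φT x t)) = indFun T ψ := by
      funext g
      rw [show indFun T (fun t => ψ (φT x t)) g = indFun T ψ (φK x g) from
        indFun_comp_aut T (φK x) (hTiff x) ψ g, hind]
      exact hinv x g
    exact congrFun ((Corr.indFun_irr Q θ.2 rfl hQT hψ hψov).2 _ hirr hov' heq) t
  have hliftC : ∀ ξ : IrrCharacter C, Over j (θ : Q → ℂ) (ξ : C → ℂ) →
      ∃ η : IrrCharacter Ct, Over jT (θT : QT → ℂ) (η : Ct → ℂ) ∧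
        indFun Ct (η : Ct → ℂ) = (ξ : C → ℂ) := by
    intro ξ hov
    obtain ⟨η, hη, hind, hin⟩ :=
      Corr.exists_correspondent NC hθN hCt hNCt ξ.2 ((hoverN _).mp hov)
    exact ⟨⟨η, hη⟩, (hoverNt _).mpr (hin ▸ (hoverN _).mp hov), hind⟩
  refine ⟨fun χ hinv hov => ?_, fun ξ hov => ?_⟩
  · obtain ⟨ψ, hψi, hψo, hψe⟩ := hliftK χ hinv hov
    obtain ⟨η, hηi, hηo, hsg, huniq⟩ := tK ψ hψi hψo
    obtain ⟨hξ, hξo⟩ := hindC η hηo
    refine ⟨⟨_, hξ⟩, hindinvC _ hηi, hξo, hψe ▸ ((keyC ψ η hψo hηo).1).mpr hsg,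
      fun ξ' hov' hc => Subtype.ext ?_⟩
    obtain ⟨η', hηo', hηe'⟩ := hliftC ξ' hov'
    rw [← hψe, ← hηe', (keyC ψ η' hψo hηo').2] at hc
    rw [← hηe', huniq η' hηo' hc]
  · obtain ⟨η, hηo, hηe⟩ := hliftC ξ hov
    obtain ⟨ψ, hψi, hψo, hsg, huniq⟩ := tC η hηo
    obtain ⟨hχ, hχo⟩ := hindK ψ hψo
    refine ⟨⟨_, hχ⟩, hindinvK _ hψi, hχo, hηe ▸ ((keyC ψ η hψo hηo).1).mpr hsg,
      fun χ' hinv' hov' hc => Subtype.ext ?_⟩
    obtain ⟨ψ', hψi', hψo', hψe'⟩ := hliftK χ' hinv' hov'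
    rw [← hψe', ← hηe, (keyC ψ' η hψo' hηo).2] at hc
    rw [← hψe', huniq ψ' hψi' hψo' hc]

theorem comap_index_not_dvd : ¬ p ∣ (Q.comap ι).index := fun h => by
  haveI := S.norm
  rw [Subgroup.index_comap] at h
  exact S.idx (h.trans (Subgroup.relIndex_dvd_index_of_normal Q ι.range))

theorem exists_inv_over_K (χ : IrrCharacter K) (hχ : InvF φK (χ : K → ℂ)) :
    ∃ θ : IrrCharacter Q, (∀ x (q : Q), (θ : Q → ℂ) ⟨φK x q, S.mapsTo x q⟩ = (θ : Q → ℂ) q) ∧
      Over Q.subtype (θ : Q → ℂ) (χ : K → ℂ) := by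
  haveI := S.norm
  obtain ⟨θ, h1, h2⟩ := exists_inv_constituent φK S.pGroup Q
    (fun x q hq => S.mapsTo x ⟨q, hq⟩) S.idx χ.2 hχ
  exact ⟨θ, h2, h1⟩

theorem exists_inv_over_C (ξ : IrrCharacter C) (hξ : InvF φC (ξ : C → ℂ)) :
    ∃ θ : IrrCharacter Q, (∀ x (q : Q), (θ : Q → ℂ) ⟨φK x q, S.mapsTo x q⟩ = (θ : Q → ℂ) q) ∧
      Over j (θ : Q → ℂ) (ξ : C → ℂ) := by
  classical
  haveI := S.norm
  let NC : Subgroup C := Q.comap ι
  haveI : Fintype NC := Fintype.ofFinite _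
  let j' : Q →* NC := j.codRestrict NC fun q => by
    show ι (j q) ∈ Q
    rw [S.ιj]; exact q.2
  have hj' : Function.Bijective j' :=
    ⟨fun a b h => S.j_injective (congrArg Subtype.val h), fun n =>
      ⟨⟨ι n, n.2⟩, Subtype.ext (S.inj (S.ιj ⟨ι n, n.2⟩))⟩⟩
  obtain ⟨θ, h1, h2⟩ := exists_inv_constituent φC S.pGroup NC (fun x n hn => by
      show ι (φC x n) ∈ Q
      rw [S.equiv]; exact S.mapsTo x ⟨ι n, hn⟩) S.comap_index_not_dvd ξ.2 hξ
  refine ⟨⟨fun q => (θ : NC → ℂ) (j' q), IsIrr.comp_surjective j' hj'.2 θ.2⟩, fun x q => ?_, ?_⟩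
  · show (θ : NC → ℂ) (j' _) = (θ : NC → ℂ) (j' q)
    rw [← h2 x (j' q)]
    exact congrArg _ (Subtype.ext (S.j_equiv x q))
  · show classInner (fun q : Q => (fun n : NC => (ξ : C → ℂ) n) (j' q))
      (fun q => (θ : NC → ℂ) (j' q)) ≠ 0
    rw [classInner_comp_surjective j' hj'.2 (fun n : NC => (ξ : C → ℂ) n) (θ : NC → ℂ)]
    exact h1

/-- A corresponding character lies over the same invariant character. -/
theorem over_of_corr {χ : IrrCharacter K} {ξ : IrrCharacter C}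
    (hξ : InvF φC (ξ : C → ℂ)) (hc : RelGal.Corr ι p (χ : K → ℂ) (ξ : C → ℂ)) (θ : IrrCharacter Q)
    (hθP : ∀ x (q : Q), (θ : Q → ℂ) ⟨φK x q, S.mapsTo x q⟩ = (θ : Q → ℂ) q)
    (hθ : Over Q.subtype (θ : Q → ℂ) (χ : K → ℂ)) : Over j (θ : Q → ℂ) (ξ : C → ℂ) := by
  classical
  haveI := S.norm
  obtain ⟨θ', hθ'P, hθ'⟩ := S.exists_inv_over_C ξ hξ
  have hov : Over Q.subtype (θ' : Q → ℂ) (χ : K → ℂ) := by
    have h := over_of_constituent ι j (IsIrr.isCharacter χ.2) ξ.2 hc.ne_zero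
      (IsIrr.isCharacter θ'.2) hθ'
    have e : ι.comp j = Q.subtype := MonoidHom.ext fun q => S.ιj q
    rwa [e] at h
  obtain ⟨k₀, hk₀⟩ := exists_conj_of_constituents Q χ.2 θ.2 θ'.2 hθ hov
  let Z := {y : K ⧸ Q // ∃ k : K, (k : K ⧸ Q) = y ∧ conjN Q k (θ : Q → ℂ) = (θ' : Q → ℂ)}
  letI : MulAction P Z :=
    { smul := fun x y => ⟨S.bar x y.1, by
        obtain ⟨k, hk, hk'⟩ := y.2
        refine ⟨φK x k, by rw [← hk, bar_mk], funext fun n => ?_⟩
        let n' : Q := ⟨φK x⁻¹ n, S.mapsTo x⁻¹ n⟩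
        have hn : φK x (n' : K) = n := by simp [n']
        have h1 := congrFun hk' n'
        rw [conjN_apply] at h1 ⊢
        rw [← hθP x, ← hθ'P x n'] at h1
        refine Eq.trans ?_ (h1.trans (congrArg _ (Subtype.ext hn)))
        refine congrArg _ (Subtype.ext ?_)
        show φK x k * (n : K) * (φK x k)⁻¹ = φK x (k * (n' : K) * k⁻¹)
        rw [map_mul, map_mul, map_inv, hn]⟩
      one_smul := fun y => Subtype.ext (by
        show S.bar 1 y.1 = y.1
        rw [map_one, MulAut.one_apply])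
      mul_smul := fun a b y => Subtype.ext (by
        show S.bar (a * b) y.1 = S.bar a (S.bar b y.1)
        rw [map_mul, MulAut.mul_apply]) }
  let T₀ : Subgroup (K ⧸ Q) := (inertia Q (θ : Q → ℂ)).map (QuotientGroup.mk' Q)
  have hcard : Nat.card Z = Nat.card T₀ := by
    refine (Nat.card_eq_of_bijective (fun y : T₀ => (⟨y.1 * (k₀ : K ⧸ Q), by
      obtain ⟨t, ht, hy⟩ := y.2
      refine ⟨t * k₀, by rw [QuotientGroup.mk_mul, ← hy]; rfl, ?_⟩
      rw [conjN_mul, (mem_inertia Q).mp ht, hk₀]⟩ : Z))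
      ⟨fun a b h => Subtype.ext (mul_right_cancel (congrArg Subtype.val h)), ?_⟩).symm
    rintro ⟨_, k, rfl, hk⟩
    refine ⟨⟨((k * k₀⁻¹ : K) : K ⧸ Q), ⟨k * k₀⁻¹, ?_, rfl⟩⟩, Subtype.ext ?_⟩
    · rw [SetLike.mem_coe, mem_inertia, conjN_mul, hk, ← hk₀, conjN_inv_cancel]
    · show ((k * k₀⁻¹ : K) : K ⧸ Q) * (k₀ : K ⧸ Q) = (k : K ⧸ Q)
      rw [← QuotientGroup.mk_mul, inv_mul_cancel_right]
  have hnd : ¬ p ∣ Nat.card Z := fun h => S.idx (by
    rw [Subgroup.index_eq_card]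
    exact (hcard ▸ h).trans (Subgroup.card_subgroup_dvd_card T₀))
  obtain ⟨⟨y, k, rfl, hk⟩, hfix⟩ := S.pGroup.nonempty_fixed_point_of_prime_not_dvd_card Z hnd
  obtain ⟨c, rfl⟩ := (S.range_iff k).mpr fun x => by
    have h : S.bar x (k : K ⧸ Q) = (k : K ⧸ Q) := congrArg Subtype.val (hfix x)
    rw [← div_eq_mul_inv]
    exact QuotientGroup.eq_iff_div_mem.mp h
  have e : conjN Q (ι c) (fun q : Q => (ξ : C → ℂ) (j q)) = fun q : Q => (ξ : C → ℂ) (j q) := by
    funext q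
    rw [conjN_apply]
    rw [← IsIrr.classFun ξ.2 (j q) c]
    exact congrArg _ (S.inj (by rw [S.ιj, map_mul, map_mul, map_inv, S.ιj]))
  show classInner (fun q : Q => (ξ : C → ℂ) (j q)) (θ : Q → ℂ) ≠ 0
  rw [← classInner_conjN Q (ι c), hk, e]
  exact hθ'

theorem corr_exists (χ : IrrCharacter K) (hχ : InvF φK (χ : K → ℂ)) :
    ∃ ξ : IrrCharacter C, InvF φC (ξ : C → ℂ) ∧ Sign ι p (χ : K → ℂ) (ξ : C → ℂ) := by
  obtain ⟨θ, h1, h2⟩ := S.exists_inv_over_K χ hχ
  obtain ⟨ξ, hi, -, hs, -⟩ := (S.local_corr θ h1).1 χ hχ h2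
  exact ⟨ξ, hi, hs⟩

theorem corr_unique {χ : IrrCharacter K} {ξ ξ' : IrrCharacter C} (hχ : InvF φK (χ : K → ℂ))
    (hξ : InvF φC (ξ : C → ℂ)) (hξ' : InvF φC (ξ' : C → ℂ))
    (h : RelGal.Corr ι p (χ : K → ℂ) (ξ : C → ℂ)) (h' : RelGal.Corr ι p (χ : K → ℂ) (ξ' : C → ℂ)) :
    ξ = ξ' := by
  obtain ⟨θ, h1, h2⟩ := S.exists_inv_over_K χ hχ
  obtain ⟨ξ₀, -, -, -, hu⟩ := (S.local_corr θ h1).1 χ hχ h2
  rw [hu ξ (S.over_of_corr hξ h θ h1 h2) h, hu ξ' (S.over_of_corr hξ' h' θ h1 h2) h']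

theorem corr_surj (ξ : IrrCharacter C) (hξ : InvF φC (ξ : C → ℂ)) :
    ∃ χ : IrrCharacter K, InvF φK (χ : K → ℂ) ∧ Sign ι p (χ : K → ℂ) (ξ : C → ℂ) := by
  obtain ⟨θ, h1, h2⟩ := S.exists_inv_over_C ξ hξ
  obtain ⟨χ, hi, -, hs, -⟩ := (S.local_corr θ h1).2 ξ h2
  exact ⟨χ, hi, hs⟩

theorem corr_inj {χ χ' : IrrCharacter K} {ξ : IrrCharacter C} (hχ : InvF φK (χ : K → ℂ))
    (hχ' : InvF φK (χ' : K → ℂ)) (hξ : InvF φC (ξ : C → ℂ))
    (h : RelGal.Corr ι p (χ : K → ℂ) (ξ : C → ℂ)) (h' : RelGal.Corr ι p (χ' : K → ℂ) (ξ : C → ℂ)) :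
    χ = χ' := by
  obtain ⟨θ, h1, h2⟩ := S.exists_inv_over_C ξ hξ
  obtain ⟨χ₀, -, -, -, hu⟩ := (S.local_corr θ h1).2 ξ h2
  have hov : ∀ η : IrrCharacter K, RelGal.Corr ι p (η : K → ℂ) (ξ : C → ℂ) →
      Over Q.subtype (θ : Q → ℂ) (η : K → ℂ) := by
    intro η hη
    have h := over_of_constituent ι j (IsIrr.isCharacter η.2) ξ.2 hη.ne_zero
      (IsIrr.isCharacter θ.2) h2
    have e : ι.comp j = Q.subtype := MonoidHom.ext fun q => S.ιj q
    rwa [e] at h
  rw [hu χ hχ (hov χ h) h, hu χ' hχ' (hov χ' h') h']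

/-- Degrees of corresponding characters agree modulo `p` up to sign. -/
theorem degree_congr [Finite P] {χ : IrrCharacter K} {ξ : IrrCharacter C} (hχ : InvF φK (χ : K → ℂ))
    (hξ : InvF φC (ξ : C → ℂ)) (hs : Sign ι p (χ : K → ℂ) (ξ : C → ℂ)) {a b : ℕ}
    (ha : (χ : K → ℂ) 1 = a) (hb : (ξ : C → ℂ) 1 = b) :
    (b : ZMod p) = a ∨ (b : ZMod p) = -(a : ZMod p) := by
  classical
  obtain ⟨n, hn, hsgn⟩ := hs
  choose d hd0 hd using fun η : IrrCharacter C => IsIrr.one_eq_pos η.2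
  obtain ⟨m, hm, hdec⟩ := IsChar.exists_decomp_inner (IsChar.comp ι (IsIrr.isCharacter χ.2))
  have hdeg : a = ∑ η : IrrCharacter C, m η * d η := by
    have h := congrFun hdec 1
    simp only [map_one, Finset.sum_apply, Pi.smul_apply, smul_eq_mul, ha, hd] at h
    exact_mod_cast h
  letI : MulAction P (IrrCharacter C) :=
    { smul := fun x η => ⟨fun c => (η : C → ℂ) (φC x⁻¹ c),
        IsIrr.comp_surjective (φC x⁻¹).toMonoidHom (φC x⁻¹).surjective η.2⟩
      one_smul := fun η => Subtype.ext (funext fun c => by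
        show (η : C → ℂ) (φC (1 : P)⁻¹ c) = _
        rw [inv_one, map_one, MulAut.one_apply])
      mul_smul := fun a b η => Subtype.ext (funext fun c => by
        show (η : C → ℂ) (φC (a * b)⁻¹ c) = (η : C → ℂ) (φC b⁻¹ (φC a⁻¹ c))
        rw [mul_inv_rev, map_mul, MulAut.mul_apply]) }
  have hinv : ∀ (x : P) (η : IrrCharacter C),
      (m (x • η) : ZMod p) * d (x • η) = (m η : ZMod p) * d η := by
    intro x η
    have h1 : m (x • η) = m η := by
      have hx : ((m (x • η) : ℕ) : ℂ) = (m η : ℂ) := by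
        rw [← hm, ← hm]
        show classInner _ (fun c => (η : C → ℂ) (φC x⁻¹ c)) = _
        rw [← classInner_comp_surjective (φC x⁻¹).toMonoidHom (φC x⁻¹).surjective
          (fun c => (χ : K → ℂ) (ι c)) (η : C → ℂ)]
        congr 1
        funext c
        show (χ : K → ℂ) (ι c) = (χ : K → ℂ) (ι (φC x⁻¹ c))
        rw [S.equiv, hχ]
      exact_mod_cast hx
    have h2 : d (x • η) = d η := by
      have hx : ((d (x • η) : ℕ) : ℂ) = (d η : ℂ) := by
        rw [← hd, ← hd]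
        show (η : C → ℂ) (φC x⁻¹ 1) = _
        rw [map_one]
      exact_mod_cast hx
    rw [h1, h2]
  have hsum := sum_eq_sum_fixed (p := p) (A := ZMod p) (fun y => by
    rw [nsmul_eq_mul, ZMod.natCast_self, zero_mul]) S.pGroup
    (fun η : IrrCharacter C => (m η : ZMod p) * d η) hinv
  have hfixed : ∀ η : IrrCharacter C, η ∈ MulAction.fixedPoints P (IrrCharacter C) →
      InvF φC (η : C → ℂ) := by
    intro η h x c
    have := congrFun (congrArg Subtype.val (h x⁻¹)) c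
    have h' : (η : C → ℂ) (φC (x⁻¹)⁻¹ c) = (η : C → ℂ) c := this
    rwa [inv_inv] at h'
  have hmn : m ξ = n := by
    have h := hm ξ
    exact (Nat.cast_injective (hn.symm.trans h)).symm
  have hz : (a : ZMod p) = (n : ZMod p) * b := by
    have hbd : d ξ = b := Nat.cast_injective ((hd ξ).symm.trans hb)
    rw [hdeg, Nat.cast_sum]
    simp only [Nat.cast_mul]
    rw [hsum, finsum_mem_eq_sum_of_inter_support_eq _
      (t := Finset.univ.filter (· ∈ MulAction.fixedPoints P (IrrCharacter C))) (by ext; simp),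
      Finset.sum_eq_single ξ, hmn, hbd]
    · intro η hη hne
      by_cases hdvd : p ∣ m η
      · rw [(ZMod.natCast_eq_zero_iff _ _).mpr hdvd, zero_mul]
      · exact absurd (S.corr_unique hχ (hfixed η (by simpa using hη)) hξ ⟨m η, hm η, hdvd⟩
          (Sign.corr ⟨n, hn, hsgn⟩)) hne
    · intro h
      refine absurd (Finset.mem_filter.mpr ⟨Finset.mem_univ _, fun x => Subtype.ext ?_⟩) h
      funext c
      exact hξ x⁻¹ c
  rcases hsgn with h | h <;> rw [h] at hz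
  · left; rw [hz, one_mul]
  · right; rw [hz]; ring

end Sys

end Cfsg.Agent.Block.RelGal
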