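import Cfsg.Agent.Lib.Char.Average
import Cfsg.Agent.Lib.Char.ExtendMain
import Cfsg.Agent.Lib.Char.Quotient
import Cfsg.Agent.Lib.Char.Galois

/-!
# Products of an extended character with the characters of the quotient
-/

set_option autoImplicit false
set_option linter.style.haveILetI false
set_option linter.unusedSectionVars false

open Cfsg
open scoped ComplexConjugate

namespace Cfsg.Agent.Block.RelGal

universe u v

open Cfsg.Agent.Char

variable {X : Type u} [Group X] [Fintype X]

/-- A character restricting irreducibly along a homomorphism is irreducible. -/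
theorem irr_of_res_irr {N : Type v} [Group N] [Fintype N] (j : N →* X) {χ : X → ℂ}
    (hχ : IsCharacter X χ) (h : IsIrrCharacter N (fun n => χ (j n))) : IsIrrCharacter X χ := by
  classical
  obtain ⟨a, ha, hd⟩ := IsChar.exists_decomp_inner hχ
  have hres : (fun n => χ (j n)) = ∑ φ : IrrCharacter X, (a φ : ℂ) • fun n => (φ : X → ℂ) (j n) := by
    funext n
    conv_lhs => rw [hd]
    simp [Finset.sum_apply]
  have h1 := classInner_self_irr h
  nth_rw 1 [hres] at h1
  rw [classInner_sum_left] at h1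
  obtain ⟨φ, -, hφ⟩ := Finset.exists_ne_zero_of_sum_ne_zero (h1.trans_ne one_ne_zero)
  rw [classInner_smul_left, mul_ne_zero_iff] at hφ
  have hc : classInner χ (φ : X → ℂ) ≠ 0 := by rw [ha]; exact hφ.1
  obtain ⟨m, hm⟩ := IsChar.one_eq_nat hχ
  obtain ⟨n, -, hn⟩ := IsIrr.one_eq_pos φ.2
  have hm' : (fun n => χ (j n)) 1 = m := by simpa using hm
  have hn' : (fun n => (φ : X → ℂ) (j n)) 1 = n := by simpa using hn
  have h2 := degree_le_of_constituent hχ φ.2 hc hm hn
  have h3 := degree_le_of_constituent (IsChar.comp j (IsIrr.isCharacter φ.2)) h hφ.2 hn' hm'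
  rw [eq_of_constituent_degree hχ φ.2 hc (by rw [hm, hn, show m = n by omega])]
  exact φ.2

variable {Y : Type v} [Group Y] [Fintype Y] (π : X →* Y) [Fintype π.ker] {θh : X → ℂ}

theorem avgN_normSq (hX : IsIrrCharacter X θh)
    (hi : IsIrrCharacter π.ker (fun n : π.ker => θh n)) :
    avgN π.ker (θh * fun g => conj (θh g)) = fun _ => 1 := by
  obtain ⟨hirr, -⟩ := gallagher (N := π.ker) hX hX hi
    (by rw [classInner_self_irr hi]; exact one_ne_zero)
  have h1 : avgN π.ker (θh * fun g => conj (θh g)) 1 = 1 := by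
    rw [avgN_one_eq]
    have := classInner_self_irr hi
    simpa [classInner] using this
  obtain ⟨l, hl⟩ := linearHom_of_isCharacter (IsIrr.isCharacter hirr) h1
  funext g
  set r : ℝ := (Nat.card π.ker : ℝ)⁻¹ * ∑ n : π.ker, Complex.normSq (θh ((n : X) * g)) with hr
  have he : avgN π.ker (θh * fun g => conj (θh g)) g = (r : ℂ) := by
    simp [avgN, hr, Complex.mul_conj]
  have hlg : (l g : ℂ) = (r : ℂ) := by rw [← congrFun hl g, he]
  have hn : ‖(r : ℂ)‖ = 1 := by
    rw [← hlg]
    refine Complex.norm_eq_one_of_pow_eq_one (n := Nat.card X) ?_ Nat.card_pos.ne'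
    rw [← Units.val_pow_eq_pow_val, ← map_pow, pow_card_eq_one', map_one, Units.val_one]
  have hpos : 0 ≤ r := mul_nonneg (inv_nonneg.mpr (Nat.cast_nonneg _))
    (Finset.sum_nonneg fun n _ => Complex.normSq_nonneg _)
  rw [Complex.norm_real, Real.norm_eq_abs, abs_of_nonneg hpos] at hn
  show avgN π.ker (θh * fun g => conj (θh g)) g = 1
  rw [he, hn, Complex.ofReal_one]

theorem inner_prod (hπ : Function.Surjective π) (hX : IsIrrCharacter X θh)
    (hi : IsIrrCharacter π.ker (fun n : π.ker => θh n)) (F H : Y → ℂ) :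
    classInner (fun x => θh x * F (π x)) (fun x => θh x * H (π x)) = classInner F H := by
  set W : X → ℂ := fun x => H (π x) * conj (F (π x)) with hW
  have h1 : classInner (fun x => θh x * F (π x)) (fun x => θh x * H (π x)) =
      classInner (θh * fun g => conj (θh g)) W := by
    simp only [classInner, hW, Pi.mul_apply, map_mul, Complex.conj_conj]
    congr 1
    exact Finset.sum_congr rfl fun x _ => by ring
  have h2 : avgN π.ker W = W := by
    funext g
    simp only [avgN, hW]
    rw [Finset.sum_congr rfl (fun n _ => show _ = H (π g) * conj (F (π g)) by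
      rw [map_mul, MonoidHom.mem_ker.mp n.2, one_mul]), Finset.sum_const, Finset.card_univ,
      ← Nat.card_eq_fintype_card, nsmul_eq_mul,
      inv_mul_cancel_left₀ (Nat.cast_ne_zero.mpr Nat.card_pos.ne')]
  rw [h1, ← h2, ← classInner_avgN, avgN_normSq π hX hi, ← classInner_comp_surjective π hπ F H]
  simp only [classInner, hW, map_mul, Complex.conj_conj, one_mul]
  congr 1
  exact Finset.sum_congr rfl fun x _ => mul_comm _ _

theorem isIrr_prod (hπ : Function.Surjective π) (hX : IsIrrCharacter X θh)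
    (hi : IsIrrCharacter π.ker (fun n : π.ker => θh n)) {β : Y → ℂ} (hβ : IsIrrCharacter Y β) :
    IsIrrCharacter X (fun x => θh x * β (π x)) := by
  refine IsChar.irr_of_norm_one
    (IsChar.mul (IsIrr.isCharacter hX) (IsChar.comp π (IsIrr.isCharacter hβ))) ?_
  show classInner (fun x => θh x * β (π x)) (fun x => θh x * β (π x)) = 1
  rw [inner_prod π hπ hX hi, classInner_self_irr hβ]

theorem over_prod (hi : IsIrrCharacter π.ker (fun n : π.ker => θh n)) {β : Y → ℂ}
    (hβ : IsIrrCharacter Y β) :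
    classInner (fun n : π.ker => θh n * β (π n)) (fun n : π.ker => θh n) ≠ 0 := by
  have e : (fun n : π.ker => θh n * β (π n)) = β 1 • (fun n : π.ker => θh n) := by
    funext n
    rw [MonoidHom.mem_ker.mp n.2]
    simp [mul_comm]
  rw [e, classInner_smul_left, classInner_self_irr hi, mul_one]
  exact IsIrr.one_ne_zero hβ

theorem exists_factor_of_over (hπ : Function.Surjective π) (hX : IsIrrCharacter X θh)
    (hi : IsIrrCharacter π.ker (fun n : π.ker => θh n)) {ψ : X → ℂ} (hψ : IsIrrCharacter X ψ)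
    (hne : classInner (fun n : π.ker => ψ n) (fun n : π.ker => θh n) ≠ 0) :
    ∃ β : IrrCharacter Y, ψ = fun x => θh x * (β : Y → ℂ) (π x) := by
  obtain ⟨hL, hmul⟩ := gallagher (N := π.ker) hX hψ hi hne
  obtain ⟨β, hβ, he⟩ := IsIrr.exists_factor hL π hπ fun k hk => by
    have := avgN_mul_left π.ker (ψ * fun g => conj (θh g)) ⟨k, hk⟩ 1
    rwa [mul_one] at this
  refine ⟨⟨β, hβ⟩, ?_⟩
  rw [← hmul]
  funext x
  rw [Pi.mul_apply, ← he x]

/-- The factor of an invariant character is invariant. -/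
theorem factor_inv (hπ : Function.Surjective π) (hX : IsIrrCharacter X θh)
    (hi : IsIrrCharacter π.ker (fun n : π.ker => θh n)) (β : IrrCharacter Y)
    (a : MulAut X) (b : MulAut Y) (hab : ∀ x, π (a x) = b (π x)) (ha : ∀ x, θh (a x) = θh x)
    (hψ : ∀ x, θh (a x) * (β : Y → ℂ) (π (a x)) = θh x * (β : Y → ℂ) (π x)) :
    ∀ y, (β : Y → ℂ) (b y) = (β : Y → ℂ) y := by
  have hb : IsIrrCharacter Y (fun y => (β : Y → ℂ) (b y)) :=
    IsIrr.comp_surjective b.toMonoidHom b.surjective β.2
  have e : (fun x => θh x * (β : Y → ℂ) (b (π x))) = fun x => θh x * (β : Y → ℂ) (π x) := by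
    funext x
    rw [← hab, ← hψ x, ha]
  by_contra hno
  push Not at hno
  obtain ⟨y, hy⟩ := hno
  have h := inner_prod π hπ hX hi (fun y => (β : Y → ℂ) (b y)) (β : Y → ℂ)
  rw [e, inner_prod π hπ hX hi, classInner_self_irr β.2,
    classInner_irr_ne hb β.2 (fun hh => hy (congrFun hh y))] at h
  exact one_ne_zero h

theorem exists_nat_pow_degree {p : ℕ} [Fact p.Prime] {N : Type v} [Group N] [Finite N]
    (hN : IsPGroup p N) {θ : N → ℂ} (hθ : IsIrrCharacter N θ) :
    ∃ (d a b : ℕ), θ 1 = (d : ℂ) ∧ d = p ^ a ∧ orderOf (detChar θ) = p ^ b := by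
  obtain ⟨k, ρ, hρ, -, hk, hdet⟩ := IsIrr.exists_rep hθ
  haveI := hρ
  have h1 := degree_dvd_card ρ
  rw [Module.finrank_fin_fun] at h1
  obtain ⟨c, hc⟩ := IsPGroup.iff_card.mp hN
  rw [hc] at h1
  obtain ⟨a, -, ha⟩ := (Nat.dvd_prime_pow (Fact.out : p.Prime)).mp h1
  obtain ⟨l, hl⟩ := isCharacter_detChar hθ
  have h2 : orderOf l ∣ p ^ c := by
    rw [← hc]
    exact orderOf_dvd_of_pow_eq_one (MonoidHom.ext fun g => by
      rw [MonoidHom.pow_apply, ← map_pow, pow_card_eq_one', map_one, MonoidHom.one_apply])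
  obtain ⟨b, -, hb⟩ := (Nat.dvd_prime_pow (Fact.out : p.Prime)).mp h2
  exact ⟨k, a, b, hk, ha, by rw [hl, orderOf_unitsFun, hb]⟩

/-- An invariant character of a normal `p`-subgroup of index prime to `p` has an extension
fixed by every automorphism fixing it. -/
theorem exists_canonical_ext {p : ℕ} [Fact p.Prime] (N : Subgroup X) [N.Normal]
    (hN : IsPGroup p N) (hidx : ¬ p ∣ N.index) {θ : N → ℂ} (hθ : IsIrrCharacter N θ)
    (hinv : ∀ (g : X) (n : N) (h : g * n * g⁻¹ ∈ N), θ ⟨g * n * g⁻¹, h⟩ = θ n) :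
    ∃ χ : X → ℂ, IsIrrCharacter X χ ∧ (∀ n : N, χ n = θ n) ∧
      ∀ a : MulAut X, ∀ ha : (∀ n : N, a n ∈ N),
        (∀ n : N, θ ⟨a n, ha n⟩ = θ n) → ∀ x, χ (a x) = χ x := by
  obtain ⟨d, u, w, hd, hdu, hdw⟩ := exists_nat_pow_degree hN hθ
  have hp : p.Prime := Fact.out
  have hc1 : Nat.Coprime N.index p := (hp.coprime_iff_not_dvd.mpr hidx).symm
  have hcd : Nat.Coprime N.index d := hdu ▸ hc1.pow_right _
  have hco : Nat.Coprime N.index (orderOf (detChar θ)) := hdw ▸ hc1.pow_right _
  obtain ⟨η, hη, hres⟩ := Ext.exists_extension_of_witness hθ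
    (fun g n => hinv g n _) hd fun q hq =>
      Ext.witness_of_coprime hθ (hco.mul_right hcd) hq
  obtain ⟨δ, hδ⟩ := isCharacter_detChar hη
  have hδN : (fun m : N => (δ m : ℂ)) = detChar θ := funext fun m => by
    rw [detChar_comp hη N.subtype hθ hres m, hδ]
    rfl
  obtain ⟨l, hl, hlo⟩ := Ext.exists_linear_adjust (N := N) δ
    (o := orderOf (detChar θ)) (by rw [hδN]) hco
  obtain ⟨χ, hχ, hχres, hχdet⟩ := Ext.exists_ext_det hθ hd hcd hη hres l fun m => by
    rw [hl m]; exact congrFun hδN m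
  refine ⟨χ, hχ, hχres, fun a ha hfix => ?_⟩
  have hχa : IsIrrCharacter X (fun x => χ (a x)) :=
    IsIrr.comp_surjective a.toMonoidHom a.surjective hχ
  have hresa : ∀ m : N, χ (a m) = θ m := fun m => by
    rw [← hfix m]; exact hχres ⟨a m, ha m⟩
  have hdeta : detChar (fun x => χ (a x)) = fun g => ((l.comp a.toMonoidHom) g : ℂ) := by
    funext g
    rw [detChar_comp hχ a.toMonoidHom hχa (fun _ => rfl) g, hχdet]
    rfl
  have hlcomp : l.comp a.toMonoidHom = l := by
    refine Ext.linear_unique (N := N) (fun m => Units.ext ?_) ?_ (hlo ▸ hco)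
    · rw [← congrFun hdeta (m : X), ← congrFun hχdet (m : X)]
      exact (detChar_comp hχa N.subtype hθ hresa m).symm.trans
        (detChar_comp hχ N.subtype hθ hχres m)
    · refine Nat.Coprime.coprime_dvd_right (orderOf_dvd_of_pow_eq_one
        (MonoidHom.ext fun g => ?_)) (hlo ▸ hco)
      have := DFunLike.congr_fun (pow_orderOf_eq_one l) (a g)
      exact this
  intro x
  refine congrFun (Ext.ext_unique hθ hd hcd hχ hχa hχres hresa ?_) x
  rw [hdeta, hlcomp, hχdet]

end Cfsg.Agent.Block.RelGal
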