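import Mathlib.Algebra.Algebra.ZMod
import Mathlib.RingTheory.RootsOfUnity.Complex
import Mathlib.RingTheory.RootsOfUnity.Minpoly
import Mathlib.RingTheory.Polynomial.Cyclotomic.Basic
import Mathlib.RingTheory.Ideal.Operations
import Mathlib.RingTheory.IntegralClosure.IsIntegralClosure.Basic
import Mathlib.FieldTheory.Finite.Basic
import Cfsg.Prelude.Def_Blocks

/-!
# Roots of unity of order prime to `p` and the residue field
-/

set_option autoImplicit false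
set_option linter.style.haveILetI false

open Cfsg Polynomial

namespace Cfsg.Agent.Block

variable {p : ℕ} [hp : Fact p.Prime] {M : Ideal AlgInt}

theorem natCast_notMem_of_not_dvd (hM : IsPModular p M) {m : ℕ} (hm : ¬ p ∣ m) :
    (m : AlgInt) ∉ M := by
  intro h
  obtain ⟨a, b, hab⟩ := Nat.isCoprime_iff_coprime.mpr
    ((Nat.Prime.coprime_iff_not_dvd hp.out).mpr hm)
  have h1 : (a : AlgInt) * (p : AlgInt) + (b : AlgInt) * (m : AlgInt) = 1 := by
    exact_mod_cast congrArg (Int.cast : ℤ → AlgInt) hab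
  exact hM.2.1.ne_top ((Ideal.eq_top_iff_one M).mpr
    (h1 ▸ M.add_mem (M.mul_mem_left _ hM.2.2) (M.mul_mem_left _ h)))

theorem roots_injective (hM : IsPModular p M) {e₁ e₂ : AlgInt} {m₁ m₂ : ℕ}
    (hm₁ : ¬ p ∣ m₁) (h₁ : (e₁ : ℂ) ^ m₁ = 1) (hm₂ : ¬ p ∣ m₂) (h₂ : (e₂ : ℂ) ^ m₂ = 1)
    (h : e₁ - e₂ ∈ M) : e₁ = e₂ := by
  have g₁ : e₁ ^ m₁ = 1 := Subtype.ext (by simpa using h₁)
  have g₂ : e₂ ^ m₂ = 1 := Subtype.ext (by simpa using h₂)
  have hm₂' : 0 < m₂ := Nat.pos_of_ne_zero fun e => hm₂ (e ▸ dvd_zero p)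
  have hinv : e₂ * e₂ ^ (m₂ - 1) = 1 := by
    rw [← pow_succ', show m₂ - 1 + 1 = m₂ by omega, g₂]
  set η := e₁ * e₂ ^ (m₂ - 1) with hη
  have hη1 : η - 1 ∈ M := by
    rw [← hinv, hη, ← sub_mul]
    exact M.mul_mem_right _ h
  have hpow : η ^ (m₁ * m₂) = 1 := by
    rw [hη, mul_pow, pow_mul, g₁, one_pow, one_mul, ← pow_mul,
      show (m₂ - 1) * (m₁ * m₂) = m₂ * ((m₂ - 1) * m₁) by ring, pow_mul, g₂, one_pow]
  by_cases he : η = 1
  · calc e₁ = e₁ * (e₂ * e₂ ^ (m₂ - 1)) := by rw [hinv, mul_one]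
      _ = e₂ * η := by rw [hη]; ring
      _ = e₂ := by rw [he, mul_one]
  · exfalso
    have hgs := geom_sum_mul η (m₁ * m₂)
    rw [hpow, sub_self] at hgs
    have h0 := (mul_eq_zero.mp hgs).resolve_right (sub_ne_zero.mpr he)
    have h2 : ∑ i ∈ Finset.range (m₁ * m₂), (η ^ i - 1) ∈ M :=
      M.sum_mem fun i _ => by
        obtain ⟨c, hc⟩ := sub_one_dvd_pow_sub_one η i
        rw [hc]
        exact M.mul_mem_right _ hη1
    rw [Finset.sum_sub_distrib, h0, Finset.sum_const, Finset.card_range, nsmul_one, zero_sub,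
      neg_mem_iff] at h2
    exact natCast_notMem_of_not_dvd hM
      (fun hd => (hp.out.dvd_mul.mp hd).elim hm₁ hm₂) h2

theorem exists_pow_eq_one_of_integral {k : Type*} [Field k] [CharP k p] {x : k} (hx0 : x ≠ 0)
    (hint0 : IsIntegral ℤ x) : ∃ N : ℕ, ¬ p ∣ N ∧ x ^ N = 1 := by
  letI := ZMod.algebra k p
  have hint : IsIntegral (ZMod p) x :=
    IsIntegral.tower_top (R := ℤ) (A := ZMod p) hint0
  haveI : Module.Finite (ZMod p) (Algebra.adjoin (ZMod p) {x}) :=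
    Module.Finite.iff_fg.mpr hint.fg_adjoin_singleton
  haveI : Finite (Algebra.adjoin (ZMod p) {x}) := Module.finite_of_finite (ZMod p)
  have hmem : x ∈ Algebra.adjoin (ZMod p) {x} := Algebra.subset_adjoin (Set.mem_singleton x)
  let y : Algebra.adjoin (ZMod p) ({x} : Set k) := ⟨x, hmem⟩
  obtain ⟨i, j, hij, he⟩ := Finite.exists_ne_map_eq_of_infinite (fun n : ℕ => y ^ n)
  have he' : x ^ i = x ^ j := by simpa [y] using congrArg Subtype.val he
  have hfin : IsOfFinOrder x := by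
    rcases lt_or_gt_of_ne hij with h | h
    · refine isOfFinOrder_iff_pow_eq_one.mpr ⟨j - i, by omega,
        mul_left_cancel₀ (pow_ne_zero i hx0) ?_⟩
      rw [← pow_add, Nat.add_sub_cancel' h.le, mul_one, he']
    · refine isOfFinOrder_iff_pow_eq_one.mpr ⟨i - j, by omega,
        mul_left_cancel₀ (pow_ne_zero j hx0) ?_⟩
      rw [← pow_add, Nat.add_sub_cancel' h.le, mul_one, he']
  refine ⟨orderOf x, fun hd => ?_, pow_orderOf_eq_one x⟩
  obtain ⟨N', hN'⟩ := hd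
  have h1 : (x ^ N' - 1) ^ p = 0 := by
    rw [sub_pow_char, one_pow, ← pow_mul, mul_comm, ← hN', pow_orderOf_eq_one, sub_self]
  have h2 : x ^ N' = 1 := sub_eq_zero.mp (eq_zero_of_pow_eq_zero h1)
  have hpos := hfin.orderOf_pos
  have h3 := Nat.le_of_dvd (Nat.pos_of_mul_pos_left (hN' ▸ hpos)) (orderOf_dvd_of_pow_eq_one h2)
  have h4 : 2 * N' ≤ p * N' := Nat.mul_le_mul_right N' hp.out.two_le
  omega

theorem exists_pow_sub_one_mem (hM : IsPModular p M) {a : AlgInt} (ha : a ∉ M) :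
    ∃ N : ℕ, ¬ p ∣ N ∧ a ^ N - 1 ∈ M := by
  haveI := hM.2.1
  letI : Field (AlgInt ⧸ M) := Ideal.Quotient.field M
  haveI : CharP (AlgInt ⧸ M) p := (CharP.charP_iff_prime_eq_zero hp.out).mpr (by
    simpa using Ideal.Quotient.eq_zero_iff_mem.mpr hM.2.2)
  have hint : IsIntegral ℤ (Ideal.Quotient.mk M a) :=
    map_isIntegral_int (Ideal.Quotient.mk M) (integralClosure.isIntegral a)
  obtain ⟨N, hN, hpow⟩ := exists_pow_eq_one_of_integral (p := p)
    (fun e => ha (Ideal.Quotient.eq_zero_iff_mem.mp e)) hint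
  refine ⟨N, hN, ?_⟩
  rw [← Ideal.Quotient.eq, map_pow, map_one, hpow]

theorem exists_root_lift (hM : IsPModular p M) {a : AlgInt} (ha : a ∉ M) :
    ∃ ε : AlgInt, (∃ m : ℕ, ¬ p ∣ m ∧ (ε : ℂ) ^ m = 1) ∧ a - ε ∈ M := by
  obtain ⟨N, hN, haN⟩ := exists_pow_sub_one_mem hM ha
  have hN0 : N ≠ 0 := fun e => hN (e ▸ dvd_zero p)
  have hz := Complex.isPrimitiveRoot_exp N hN0
  let z : AlgInt := ⟨_, hz.isIntegral (Nat.pos_of_ne_zero hN0)⟩
  have hz' : IsPrimitiveRoot z N :=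
    IsPrimitiveRoot.of_map_of_injective (f := AlgInt.val) (by exact hz)
      Subtype.val_injective
  have e := congrArg (Polynomial.eval a) (X_pow_sub_one_eq_prod (Nat.pos_of_ne_zero hN0) hz')
  rw [eval_prod] at e
  simp only [eval_sub, eval_pow, eval_X, eval_one, eval_C] at e
  rw [e] at haN
  obtain ⟨ε, hε, hmem⟩ := (hM.2.1.isPrime.prod_mem_iff).mp haN
  have hroot := (Polynomial.mem_nthRootsFinset (Nat.pos_of_ne_zero hN0) (1 : AlgInt)).mp hε
  exact ⟨ε, ⟨N, hN, by simpa using congrArg Subtype.val hroot⟩, hmem⟩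

end Cfsg.Agent.Block
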