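import Mathlib.GroupTheory.Index
import Cfsg.Agent.Lib.Block.RelGalAux
import Cfsg.Agent.Lib.Char.Glauberman
import Cfsg.Agent.Lib.Char.ModP

/-!
# The relative Glauberman correspondence
-/

set_option autoImplicit false
set_option linter.style.haveILetI false
set_option linter.unusedSectionVars false

open Cfsg
open scoped ComplexConjugate

namespace Cfsg.Agent.Block.RelGal

universe u

open Cfsg.Agent.Char

variable {p : ℕ} {P K C : Type u} [Group P] [Group K] [Group C]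

/-- A `p`-group acting on `K` with a normal Sylow `p`-subgroup `Q`, and `C` the preimage of the
fixed points on `K ⧸ Q`. -/
structure Sys (p : ℕ) (φK : P →* MulAut K) (φC : P →* MulAut C) (ι : C →* K) (Q : Subgroup K)
    (j : Q →* C) : Prop where
  inj : Function.Injective ι
  equiv : ∀ x c, ι (φC x c) = φK x (ι c)
  norm : Q.Normal
  ιj : ∀ q : Q, ι (j q) = q
  range_iff : ∀ k, (∃ c, ι c = k) ↔ ∀ x, φK x k * k⁻¹ ∈ Q
  pGroup : IsPGroup p P
  qGroup : IsPGroup p Q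
  idx : ¬ p ∣ Q.index

/-- Invariance of a function under an action. -/
def InvF {X : Type u} [Group X] (φ : P →* MulAut X) (f : X → ℂ) : Prop :=
  ∀ x g, f (φ x g) = f g

theorem invF_inv {X : Type u} [Group X] {φ : P →* MulAut X} {f : X → ℂ} (h : InvF φ f) (x : P)
    (g : X) : f ((φ x).symm g) = f g := by
  conv_rhs => rw [← (φ x).apply_symm_apply g, h]

/-- The restriction of an action to an invariant subgroup. -/
def restrictAut {X : Type u} [Group X] (φ : P →* MulAut X) (T : Subgroup X)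
    (h : ∀ x, ∀ t ∈ T, φ x t ∈ T) : P →* MulAut T :=
  MonoidHom.mk' (fun x =>
    { toFun := fun t => ⟨φ x t, h x t t.2⟩
      invFun := fun t => ⟨φ x⁻¹ t, h x⁻¹ t t.2⟩
      left_inv := fun t => Subtype.ext (by simp)
      right_inv := fun t => Subtype.ext (by simp)
      map_mul' := fun a b => Subtype.ext (by simp) })
    fun a b => MulEquiv.ext fun t => Subtype.ext (by simp)

theorem restrictAut_apply {X : Type u} [Group X] (φ : P →* MulAut X) (T : Subgroup X)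
    (h : ∀ x, ∀ t ∈ T, φ x t ∈ T) (x : P) (t : T) :
    ((restrictAut φ T h x t : T) : X) = φ x t := rfl

/-- A character is over `θ` along a homomorphism from the group of `θ`. -/
def Over {X N : Type u} [Group X] [Group N] [Fintype N] (j : N →* X) (θ : N → ℂ) (f : X → ℂ) :
    Prop :=
  classInner (fun n => f (j n)) θ ≠ 0

theorem over_of_constituent {X Y N : Type u} [Group X] [Group Y] [Group N] [Fintype Y] [Fintype N]
    (ι : Y →* X) (j : N →* Y) {F : X → ℂ} (hF : IsCharacter X F) {η : Y → ℂ}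
    (hη : IsIrrCharacter Y η) (hne : classInner (fun y => F (ι y)) η ≠ 0) {θ : N → ℂ}
    (hθ : IsCharacter N θ) (hov : Over j θ η) : Over (ι.comp j) θ F := by
  classical
  have hFc := IsChar.comp ι hF
  obtain ⟨a, ha, hd⟩ := IsChar.exists_decomp_inner hFc
  choose b hb using fun φ : IrrCharacter Y =>
    IsChar.classInner_nat (IsChar.comp j (IsIrr.isCharacter φ.2)) hθ
  have e : (fun n => F ((ι.comp j) n)) = ∑ φ : IrrCharacter Y,
      (a φ : ℂ) • fun n => (φ : Y → ℂ) (j n) := by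
    funext n
    have := congrFun hd (j n)
    simpa [Finset.sum_apply] using this
  intro h0
  rw [e, classInner_sum_left, Finset.sum_congr rfl (fun φ _ => show _ = ((a φ * b φ : ℕ) : ℂ) by
    rw [classInner_smul_left, hb, Nat.cast_mul]), ← Nat.cast_sum, Nat.cast_eq_zero,
    Finset.sum_eq_zero_iff] at h0
  rcases mul_eq_zero.mp (h0 ⟨η, hη⟩ (Finset.mem_univ _)) with h | h
  · exact hne (by rw [ha ⟨η, hη⟩, h, Nat.cast_zero])
  · exact hov (by show classInner (fun n => η (j n)) θ = 0; rw [hb ⟨η, hη⟩, h, Nat.cast_zero])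

variable (φK : P →* MulAut K) (φC : P →* MulAut C) (ι : C →* K) (Q : Subgroup K) (j : Q →* C)

/-- The multiplicity is `± 1` modulo `p`. -/
def Sign [Fintype C] (p : ℕ) (χ : K → ℂ) (ξ : C → ℂ) : Prop :=
  ∃ n : ℕ, classInner (fun c => χ (ι c)) ξ = (n : ℂ) ∧ ((n : ZMod p) = 1 ∨ (n : ZMod p) = -1)

/-- The multiplicity is prime to `p`. -/
def Corr [Fintype C] (p : ℕ) (χ : K → ℂ) (ξ : C → ℂ) : Prop :=
  ∃ n : ℕ, classInner (fun c => χ (ι c)) ξ = (n : ℂ) ∧ ¬ p ∣ n

variable {φK φC ι Q j}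

theorem Sign.corr [Fintype C] [hp : Fact p.Prime] {χ : K → ℂ} {ξ : C → ℂ} (h : Sign ι p χ ξ) :
    Corr ι p χ ξ := by
  obtain ⟨n, hn, h1⟩ := h
  refine ⟨n, hn, fun hd => ?_⟩
  rw [(ZMod.natCast_eq_zero_iff _ _).mpr hd] at h1
  rcases h1 with h | h
  · exact one_ne_zero h.symm
  · exact one_ne_zero (neg_eq_zero.mp h.symm)

theorem Corr.ne_zero [Fintype C] {χ : K → ℂ} {ξ : C → ℂ} (h : Corr ι p χ ξ) :
    classInner (fun c => χ (ι c)) ξ ≠ 0 := by
  obtain ⟨n, hn, hd⟩ := h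
  rw [hn]
  exact Nat.cast_ne_zero.mpr fun e => hd (e ▸ dvd_zero p)

namespace Sys

variable (S : Sys p φK φC ι Q j)
include S

theorem mapsTo (x : P) (q : Q) : φK x q ∈ Q := by
  have h := (S.range_iff q).mp ⟨j q, S.ιj q⟩ x
  exact (Subgroup.mul_mem_cancel_right Q (Q.inv_mem q.2)).mp h

theorem j_injective : Function.Injective j := fun a b h => Subtype.ext <| by
  rw [← S.ιj a, ← S.ιj b, h]

theorem map_eq (x : P) : Q.map (φK x).toMonoidHom = Q := by
  refine le_antisymm (Subgroup.map_le_iff_le_comap.mpr fun q hq => S.mapsTo x ⟨q, hq⟩) fun q hq =>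
    ⟨φK x⁻¹ q, S.mapsTo x⁻¹ ⟨q, hq⟩, ?_⟩
  simp

/-- The action on the quotient. -/
noncomputable def bar [Q.Normal] : P →* MulAut (K ⧸ Q) :=
  MonoidHom.mk' (fun x => QuotientGroup.congr Q Q (φK x) (S.map_eq x)) fun a b =>
    MulEquiv.ext fun y => by
      induction y using QuotientGroup.induction_on with
      | H k =>
        show ((φK (a * b) k : K) : K ⧸ Q) = ((φK a (φK b k) : K) : K ⧸ Q)
        rw [map_mul, MulAut.mul_apply]

theorem bar_mk [Q.Normal] (x : P) (k : K) :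
    S.bar x (k : K ⧸ Q) = ((φK x k : K) : K ⧸ Q) := rfl

variable [Fintype K] [Fintype C] [Fintype Q] [hp : Fact p.Prime]

/-- The correspondence when the character of `Q` is invariant. -/
theorem tlevel (θ : IrrCharacter Q)
    (hθK : ∀ (g : K) (q : Q) (h : g * q * g⁻¹ ∈ Q), (θ : Q → ℂ) ⟨g * q * g⁻¹, h⟩ = (θ : Q → ℂ) q)
    (hθP : ∀ x (q : Q), (θ : Q → ℂ) ⟨φK x q, S.mapsTo x q⟩ = (θ : Q → ℂ) q) :
    (∀ ψ : IrrCharacter K, InvF φK (ψ : K → ℂ) → Over Q.subtype (θ : Q → ℂ) (ψ : K → ℂ) →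
      ∃ η : IrrCharacter C, InvF φC (η : C → ℂ) ∧ Over j (θ : Q → ℂ) (η : C → ℂ) ∧
        Sign ι p (ψ : K → ℂ) (η : C → ℂ) ∧
        ∀ η' : IrrCharacter C, Over j (θ : Q → ℂ) (η' : C → ℂ) →
          Corr ι p (ψ : K → ℂ) (η' : C → ℂ) → η' = η) ∧
    (∀ η : IrrCharacter C, Over j (θ : Q → ℂ) (η : C → ℂ) →
      ∃ ψ : IrrCharacter K, InvF φK (ψ : K → ℂ) ∧ Over Q.subtype (θ : Q → ℂ) (ψ : K → ℂ) ∧
        Sign ι p (ψ : K → ℂ) (η : C → ℂ) ∧
        ∀ ψ' : IrrCharacter K, InvF φK (ψ' : K → ℂ) → Over Q.subtype (θ : Q → ℂ) (ψ' : K → ℂ) →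
          Corr ι p (ψ' : K → ℂ) (η : C → ℂ) → ψ' = ψ) := by
  classical
  haveI := S.norm
  obtain ⟨M, hM⟩ := exists_isPModular p hp.out
  obtain ⟨θh, hθh, hres, hfix⟩ := exists_canonical_ext Q S.qGroup S.idx θ.2 hθK
  have hθinv : InvF φK θh := fun x => hfix (φK x) (S.mapsTo x) (hθP x)
  haveI : Fintype (K ⧸ Q) := Fintype.ofFinite _
  let π : K →* K ⧸ Q := QuotientGroup.mk' Q
  have hπ : Function.Surjective π := QuotientGroup.mk'_surjective Q
  haveI : Fintype π.ker := Fintype.ofFinite _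
  let e : π.ker ≃* Q := MulEquiv.subgroupCongr (QuotientGroup.ker_mk' Q)
  have he : ∀ n : π.ker, ((e n : Q) : K) = n := fun n => rfl
  have hiK : IsIrrCharacter π.ker (fun n : π.ker => θh n) := by
    have h := IsIrr.comp_mulEquiv e θ.2
    have h' : (fun n : π.ker => θh n) = fun n => (θ : Q → ℂ) (e n) := funext fun n => by
      rw [← hres (e n), he]
    rwa [h']
  have hoverK : ∀ f : K → ℂ, Over Q.subtype (θ : Q → ℂ) f ↔
      classInner (fun n : π.ker => f n) (fun n : π.ker => θh n) ≠ 0 := by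
    intro f
    rw [Over, ← classInner_comp_surjective e.toMonoidHom e.surjective]
    have e1 : (fun n : π.ker => (θ : Q → ℂ) (e.toMonoidHom n)) = fun n : π.ker => θh n :=
      funext fun n => (hres (e n)).symm
    rw [e1]
    rfl
  let A : Subgroup (MulAut (K ⧸ Q)) := S.bar.range
  have hA : IsPGroup p A := S.pGroup.of_surjective _ S.bar.rangeRestrict_surjective
  have hcop : Nat.Coprime (Nat.card (K ⧸ Q)) p :=
    (hp.out.coprime_iff_not_dvd.mpr (by rw [← Subgroup.index_eq_card]; exact S.idx)).symm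
  haveI : Fintype (Glaub.fix A) := Fintype.ofFinite _
  have hmemfix : ∀ c : C, π (ι c) ∈ Glaub.fix A := by
    rintro c _ ⟨x, rfl⟩
    show S.bar x ((ι c : K) : K ⧸ Q) = ((ι c : K) : K ⧸ Q)
    rw [bar_mk]
    exact QuotientGroup.eq_iff_div_mem.mpr
      (by rw [div_eq_mul_inv]; exact (S.range_iff _).mp ⟨c, rfl⟩ x)
  let π' : C →* Glaub.fix A := (π.comp ι).codRestrict _ hmemfix
  have hπ' : Function.Surjective π' := by
    rintro ⟨y, hy⟩
    obtain ⟨k, rfl⟩ := hπ y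
    obtain ⟨c, rfl⟩ := (S.range_iff k).mpr fun x => by
      have := hy _ ⟨x, rfl⟩
      rw [← div_eq_mul_inv]
      exact QuotientGroup.eq_iff_div_mem.mp this
    exact ⟨c, rfl⟩
  haveI : Fintype π'.ker := Fintype.ofFinite _
  have hjker : ∀ q : Q, j q ∈ π'.ker := fun q => by
    refine MonoidHom.mem_ker.mpr (Subtype.ext ?_)
    show ((ι (j q) : K) : K ⧸ Q) = 1
    rw [S.ιj]
    exact (QuotientGroup.eq_one_iff (q : K)).mpr q.2
  let j' : Q →* π'.ker := j.codRestrict _ hjker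
  have hj' : Function.Bijective j' := by
    refine ⟨fun a b h => S.j_injective (congrArg Subtype.val h), fun n => ?_⟩
    have hn : (ι n : K) ∈ Q := (QuotientGroup.eq_one_iff (ι n)).mp
      (congrArg Subtype.val (MonoidHom.mem_ker.mp n.2))
    exact ⟨⟨ι n, hn⟩, Subtype.ext (S.inj (by show ι (j ⟨ι n, hn⟩) = ι n; rw [S.ιj]))⟩
  let θC : C → ℂ := fun c => θh (ι c)
  have hθCj : ∀ q : Q, θC (j q) = (θ : Q → ℂ) q := fun q => by
    show θh (ι (j q)) = _
    rw [S.ιj, hres]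
  have hiC : IsIrrCharacter π'.ker (fun n : π'.ker => θC n) := by
    let e' : π'.ker ≃* Q := (MulEquiv.ofBijective j' hj').symm
    have h := IsIrr.comp_mulEquiv e' θ.2
    have h' : (fun n : π'.ker => θC n) = fun n => (θ : Q → ℂ) (e' n) := funext fun n => by
      rw [← hθCj (e' n)]
      have := (MulEquiv.ofBijective j' hj').apply_symm_apply n
      exact congrArg (fun m : π'.ker => θC m) this.symm
    rwa [h']
  have hθC : IsIrrCharacter C θC :=
    irr_of_res_irr π'.ker.subtype (IsChar.comp ι (IsIrr.isCharacter hθh)) hiC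
  have hoverC : ∀ f : C → ℂ, Over j (θ : Q → ℂ) f ↔
      classInner (fun n : π'.ker => f n) (fun n : π'.ker => θC n) ≠ 0 := by
    intro f
    rw [Over, ← classInner_comp_surjective j' hj'.2 (fun n : π'.ker => f n)]
    have e1 : (fun q : Q => θC (j' q : C)) = (θ : Q → ℂ) := funext hθCj
    rw [e1]
    rfl
  -- the characters over `θ`
  let mkK : IrrCharacter (K ⧸ Q) → IrrCharacter K := fun β =>
    ⟨fun k => θh k * (β : K ⧸ Q → ℂ) (π k), isIrr_prod π hπ hθh hiK β.2⟩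
  let mkC : IrrCharacter (Glaub.fix A) → IrrCharacter C := fun γ =>
    ⟨fun c => θC c * (γ : Glaub.fix A → ℂ) (π' c), isIrr_prod π' hπ' hθC hiC γ.2⟩
  have hmkK : ∀ ψ : IrrCharacter K, Over Q.subtype (θ : Q → ℂ) (ψ : K → ℂ) →
      ∃ β, ψ = mkK β := fun ψ h => by
    obtain ⟨β, hβ⟩ := exists_factor_of_over π hπ hθh hiK ψ.2 ((hoverK _).mp h)
    exact ⟨β, Subtype.ext hβ⟩
  have hmkC : ∀ η : IrrCharacter C, Over j (θ : Q → ℂ) (η : C → ℂ) →
      ∃ γ, η = mkC γ := fun η h => by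
    obtain ⟨γ, hγ⟩ := exists_factor_of_over π' hπ' hθC hiC η.2 ((hoverC _).mp h)
    exact ⟨γ, Subtype.ext hγ⟩
  have hKinv : ∀ β : IrrCharacter (K ⧸ Q),
      InvF φK (mkK β : K → ℂ) ↔ Glaub.Inv A (β : K ⧸ Q → ℂ) := by
    intro β
    refine ⟨fun h => ?_, fun h x k => ?_⟩
    · rintro _ ⟨x, rfl⟩ y
      exact factor_inv π hπ hθh hiK β (φK x) (S.bar x) (fun k => rfl) (hθinv x) (h x) y
    · show θh (φK x k) * (β : K ⧸ Q → ℂ) (π (φK x k)) = θh k * (β : K ⧸ Q → ℂ) (π k)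
      rw [hθinv x k]
      congr 1
      exact h (S.bar x) ⟨x, rfl⟩ (π k)
  have hCinv : ∀ γ : IrrCharacter (Glaub.fix A), InvF φC (mkC γ : C → ℂ) := by
    intro γ x c
    have e1 : θC (φC x c) = θC c := by
      show θh (ι (φC x c)) = θh (ι c)
      rw [S.equiv, hθinv]
    have e2 : π' (φC x c) = π' c := Subtype.ext <| by
      show π (ι (φC x c)) = π (ι c)
      rw [S.equiv]
      exact hmemfix c (S.bar x) ⟨x, rfl⟩
    show θC (φC x c) * _ = θC c * _
    rw [e1, e2]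
  have hm : ∀ (β : IrrCharacter (K ⧸ Q)) (γ : IrrCharacter (Glaub.fix A)),
      classInner (fun c => (mkK β : K → ℂ) (ι c)) (mkC γ : C → ℂ) =
        (Glaub.mult (Glaub.fix A) (β : K ⧸ Q → ℂ) (γ : Glaub.fix A → ℂ) : ℂ) := by
    intro β γ
    rw [← Glaub.mult_spec (Glaub.fix A) (IsIrr.isCharacter β.2) (IsIrr.isCharacter γ.2),
      ← inner_prod π' hπ' hθC hiC (fun y : Glaub.fix A => (β : K ⧸ Q → ℂ) y) (γ : Glaub.fix A → ℂ)]
    rfl
  have hcorr : ∀ β γ, Corr ι p (mkK β : K → ℂ) (mkC γ : C → ℂ) ↔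
      Glaub.Corr p β γ := by
    intro β γ
    constructor
    · rintro ⟨n, hn, hd⟩
      rw [hm] at hn
      rw [Glaub.Corr, Nat.cast_injective hn]
      exact hd
    · intro h
      exact ⟨_, hm β γ, h⟩
  have hsign : ∀ (β : IrrCharacter (K ⧸ Q)) γ, Glaub.Inv A (β : K ⧸ Q → ℂ) → Glaub.Corr p β γ →
      Sign ι p (mkK β : K → ℂ) (mkC γ : C → ℂ) := by
    intro β γ hb h
    refine ⟨_, hm β γ, ?_⟩
    rcases Glaub.corr_sign hM hA hcop hb h with h' | h'
    · left
      simpa using (ZMod.intCast_eq_intCast_iff _ _ p).mpr h'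
    · right
      simpa using (ZMod.intCast_eq_intCast_iff _ _ p).mpr h'
  refine ⟨fun ψ hψ hov => ?_, fun η hov => ?_⟩
  · obtain ⟨β, rfl⟩ := hmkK ψ hov
    have hb := (hKinv β).mp hψ
    obtain ⟨γ, hγ⟩ := Glaub.exists_corr hM hA hcop hb
    refine ⟨mkC γ, hCinv γ, (hoverC _).mpr (over_prod π' hiC γ.2), hsign β γ hb hγ,
      fun η' hov' hc => ?_⟩
    obtain ⟨γ', rfl⟩ := hmkC η' hov'
    rw [Glaub.corr_unique hM hA hcop hb ((hcorr β γ').mp hc) hγ]
  · obtain ⟨γ, rfl⟩ := hmkC η hov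
    obtain ⟨β, hb, hc⟩ := Glaub.surj_corr hM hA hcop γ
    refine ⟨mkK β, (hKinv β).mpr hb, (hoverK _).mpr (over_prod π hiK β.2), hsign β γ hb hc,
      fun ψ' hψ' hov' hc' => ?_⟩
    obtain ⟨β', rfl⟩ := hmkK ψ' hov'
    rw [Glaub.corr_inj hM hA hcop ((hKinv β').mp hψ') hb ((hcorr β' γ).mp hc') hc]

end Sys

end Cfsg.Agent.Block.RelGal
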