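import Cfsg.Agent.Lib.Block.Orth

/-!
Traces on relatively projective lattices: if an idempotent over the local ring is a relative trace
from the subgroup of `p`-th powers of an automorphism, that automorphism, composed with anything
commuting, has trace zero on it.
-/

namespace Cfsg.Agent.Block

set_option linter.unusedSectionVars false
set_option linter.style.haveILetI false

universe u

variable {p : ℕ} {M : Ideal AlgInt} {N : Type*} [Fintype N] [DecidableEq N]

/-- A matrix has entries in the local ring. -/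
def MatRing {I J : Type*} (M : Ideal AlgInt) (A : Matrix I J ℂ) : Prop :=
  ∀ i j, MemLocalRing M (A i j)

theorem MatRing.mul (hM : IsPModular p M) {I J K : Type*} [Fintype J] {A : Matrix I J ℂ}
    {B : Matrix J K ℂ} (hA : MatRing M A) (hB : MatRing M B) : MatRing M (A * B) := fun i k => by
  rw [Matrix.mul_apply]
  exact ring_sum hM fun j _ => ring_mul hM (hA i j) (hB j k)

theorem MatRing.one (hM : IsPModular p M) : MatRing M (1 : Matrix N N ℂ) := fun i j => by
  rw [Matrix.one_apply]
  split_ifs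
  · exact ring_one hM
  · exact ring_zero hM

theorem MatRing.pow (hM : IsPModular p M) {A : Matrix N N ℂ} (hA : MatRing M A) :
    ∀ n : ℕ, MatRing M (A ^ n)
  | 0 => by rw [pow_zero]; exact MatRing.one hM
  | n + 1 => by rw [pow_succ]; exact (MatRing.pow hM hA n).mul hM hA

/-- Congruent idempotents are intertwined by an invertible matrix commuting with everything that
commutes with both. -/
theorem exists_intertwiner (hM : IsPModular p M) {P Q : Matrix N N ℂ} (hP : MatRing M P)
    (hQ : MatRing M Q) (hPP : P * P = P) (hQQ : Q * Q = Q)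
    (hc : ∀ i j, MemLocalIdeal M (P i j - Q i j)) :
    ∃ W : Matrix N N ℂ, IsUnit W.det ∧ P * W = W * Q ∧
      ∀ A, A * P = P * A → A * Q = Q * A → A * W = W * A := by
  let R := localRing hM
  let f : R →+* ℂ := R.subtype
  let P' : Matrix N N R := fun i j => ⟨P i j, hP i j⟩
  let Q' : Matrix N N R := fun i j => ⟨Q i j, hQ i j⟩
  let π : R →+* R ⧸ localIdeal hM := Ideal.Quotient.mk _
  have hfP : f.mapMatrix P' = P := rfl
  have hfQ : f.mapMatrix Q' = Q := rfl
  have hinj : Function.Injective (f.mapMatrix (m := N)) := fun A B h => by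
    ext i j
    exact congrFun (congrFun h i) j
  have hPP' : P' * P' = P' := hinj (by rw [map_mul, hfP, hPP])
  have hπ : π.mapMatrix P' = π.mapMatrix Q' := by
    ext i j
    exact Ideal.Quotient.eq.2 ((mem_localIdeal hM).2 (hc i j))
  let W' : Matrix N N R := P' * Q' + (1 - P') * (1 - Q')
  have hW1 : π.mapMatrix W' = 1 := by
    simp only [W', map_add, map_mul, map_sub, map_one, ← hπ]
    have h : π.mapMatrix P' * π.mapMatrix P' = π.mapMatrix P' := by rw [← map_mul, hPP']
    rw [sub_mul, one_mul, mul_sub, mul_one, h]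
    abel
  have hdet : π W'.det = 1 := by rw [RingHom.map_det, hW1, Matrix.det_one]
  have hWdef : f.mapMatrix W' = P * Q + (1 - P) * (1 - Q) := by
    simp only [W', map_add, map_mul, map_sub, map_one, hfP, hfQ]
  refine ⟨P * Q + (1 - P) * (1 - Q), ?_, ?_, ?_⟩
  · rw [← hWdef, show (f.mapMatrix W').det = f W'.det from (RingHom.map_det f W').symm,
      isUnit_iff_ne_zero]
    intro h0
    have h : MemLocalIdeal M ((W'.det : ℂ) - 1) :=
      (mem_localIdeal hM).1 (Ideal.Quotient.eq.1 (hdet.trans (map_one π).symm))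
    rw [show (W'.det : ℂ) = 0 from h0, zero_sub] at h
    exact ideal_one hM (by simpa using ideal_neg h)
  · have hP0 : P * (1 - P) = 0 := by rw [mul_sub, mul_one, hPP, sub_self]
    rw [mul_add, ← mul_assoc P P Q, ← mul_assoc P (1 - P) (1 - Q), hPP, hP0, zero_mul, add_zero,
      add_mul, mul_assoc P Q Q, mul_assoc (1 - P) (1 - Q) Q, hQQ,
      sub_mul (1 : Matrix N N ℂ) Q Q, one_mul, hQQ, sub_self, mul_zero, add_zero]
  · intro A hAP hAQ
    have h1 : Commute A P := hAP
    have h2 : Commute A Q := hAQ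
    exact ((h1.mul_right h2).add_right
      (((Commute.one_right A).sub_right h1).mul_right ((Commute.one_right A).sub_right h2))).eq

set_option maxHeartbeats 400000 in
/-- An automorphism has trace zero on the image of a relative trace from its `p`-th power. -/
theorem trace_eq_zero_of_relTrace (hM : IsPModular p M) {S T E O P : Matrix N N ℂ}
    (hS : MatRing M S) (hT : MatRing M T) (hE : MatRing M E) (hP : MatRing M P)
    (hST : S * T = 1) (hTS : T * S = 1) (hES : E * S ^ p = S ^ p * E) (hOS : O * S = S * O)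
    (hOE : O * E = E * O) (hPP : P * P = P)
    (hsum : P = ∑ i ∈ Finset.range p, S ^ i * E * T ^ i) : (S * O * P).trace = 0 := by
  classical
  have hp := pmod_prime hM
  have hp0 : 0 < p := hp.pos
  have hOT : O * T = T * O := by
    calc O * T = T * S * (O * T) := by rw [hTS, one_mul]
      _ = T * (S * O) * T := by simp only [mul_assoc]
      _ = T * (O * S) * T := by rw [hOS]
      _ = T * O * (S * T) := by simp only [mul_assoc]
      _ = _ := by rw [hST, mul_one]
  have hTpow : ∀ n : ℕ, S ^ n * T ^ n = 1 := fun n => by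
    rw [← (show Commute S T from hST.trans hTS.symm).mul_pow, hST, one_pow]
  have hSpE : S ^ p * E * T ^ p = E := by rw [← hES, mul_assoc, hTpow, mul_one]
  have hPS : S * P = P * S := by
    have h : S * P * T = P := by
      rw [hsum, Finset.mul_sum, Finset.sum_mul]
      have h1 : ∀ i ∈ Finset.range p, S * (S ^ i * E * T ^ i) * T = S ^ (i + 1) * E * T ^ (i + 1) :=
        fun i _ => by rw [pow_succ' S, pow_succ T]; simp only [mul_assoc]
      rw [Finset.sum_congr rfl h1]
      obtain ⟨q, rfl⟩ : ∃ q, p = q + 1 := ⟨p - 1, by omega⟩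
      rw [Finset.sum_range_succ (fun i => S ^ (i + 1) * E * T ^ (i + 1)), hSpE,
        Finset.sum_range_succ' (fun i => S ^ i * E * T ^ i) q, pow_zero, pow_zero, one_mul,
        mul_one]
    calc S * P = S * P * (T * S) := by rw [hTS, mul_one]
      _ = S * P * T * S := by rw [mul_assoc (S * P)]
      _ = P * S := by rw [h]
  have hPO : O * P = P * O := by
    rw [hsum, Finset.mul_sum, Finset.sum_mul]
    refine Finset.sum_congr rfl fun i _ => ?_
    exact ((((show Commute O S from hOS).pow_right i).mul_right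
      (show Commute O E from hOE)).mul_right ((show Commute O T from hOT).pow_right i)).eq
  let iot : Matrix (Fin p × N) N ℂ := Matrix.of fun x b => (E * T ^ (x.1 : ℕ)) x.2 b
  let pro : Matrix N (Fin p × N) ℂ := Matrix.of fun a y => (S ^ (y.1 : ℕ)) a y.2
  let Zb : Fin p → Fin p → Matrix N N ℂ := fun i j =>
    if (i : ℕ) = (j : ℕ) + 1 then 1 else if (i : ℕ) = 0 ∧ (j : ℕ) + 1 = p then S ^ p else 0
  let Z : Matrix (Fin p × N) (Fin p × N) ℂ := Matrix.of fun x y => Zb x.1 y.1 x.2 y.2
  let OO : Matrix (Fin p × N) (Fin p × N) ℂ := Matrix.of fun x y => if x.1 = y.1 then O x.2 y.2 else 0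
  have hproZ : pro * Z = S * pro := by
    ext a ⟨j, b⟩
    rw [Matrix.mul_apply, Fintype.sum_prod_type]
    have hlhs : ∑ i : Fin p, ∑ c : N, pro a (i, c) * Z (i, c) (j, b) =
        (∑ i : Fin p, S ^ (i : ℕ) * Zb i j) a b := by
      simp [pro, Z, Matrix.sum_apply, Matrix.mul_apply]
    have hrhs : (S * pro) a (j, b) = (S ^ ((j : ℕ) + 1)) a b := by
      rw [pow_succ']; simp [pro, Matrix.mul_apply]
    rw [hlhs, hrhs]
    congr 1
    by_cases hj : (j : ℕ) + 1 < p
    · rw [Finset.sum_eq_single ⟨(j : ℕ) + 1, hj⟩]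
      · simp [Zb]
      · intro i _ hi
        have h1 : (i : ℕ) ≠ (j : ℕ) + 1 := fun h => hi (Fin.ext h)
        simp only [Zb, if_neg h1, if_neg (fun h : _ ∧ _ => absurd h.2 hj.ne), mul_zero]
      · exact fun h => absurd (Finset.mem_univ _) h
    · have hj' : (j : ℕ) + 1 = p := by have := j.2; omega
      rw [Finset.sum_eq_single ⟨0, hp0⟩]
      · simp [Zb, hj', hp0.ne]
      · intro i _ hi
        have h1 : (i : ℕ) ≠ (j : ℕ) + 1 := by have := i.2; omega
        have h2 : ¬ ((i : ℕ) = 0 ∧ (j : ℕ) + 1 = p) := fun h => hi (Fin.ext h.1)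
        simp only [Zb, if_neg h1, if_neg h2, mul_zero]
      · exact fun h => absurd (Finset.mem_univ _) h
  have hZiot : Z * iot = iot * S := by
    ext ⟨i, a⟩ b
    rw [Matrix.mul_apply, Fintype.sum_prod_type]
    have hlhs : ∑ j : Fin p, ∑ c : N, Z (i, a) (j, c) * iot (j, c) b =
        (∑ j : Fin p, Zb i j * (E * T ^ (j : ℕ))) a b := by
      simp [iot, Z, Matrix.sum_apply, Matrix.mul_apply]
    have hrhs : (iot * S) (i, a) b = (E * T ^ (i : ℕ) * S) a b := by
      simp [iot, Matrix.mul_apply]
    rw [hlhs, hrhs]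
    congr 1
    by_cases hi : (i : ℕ) = 0
    · rw [Finset.sum_eq_single (⟨p - 1, by omega⟩ : Fin p)]
      · have h1 : p - 1 + 1 = p := by omega
        simp only [Zb, hi, h1, and_self, if_true, if_neg (by omega : ¬ 0 = p), pow_zero, mul_one]
        rw [← mul_assoc, ← hES, mul_assoc]
        congr 1
        conv_lhs => rw [← h1, pow_succ', Nat.add_sub_cancel, mul_assoc, hTpow, mul_one]
      · intro j _ hj
        have h2 : ¬ ((i : ℕ) = 0 ∧ (j : ℕ) + 1 = p) := fun h => hj (Fin.ext (by
          show (j : ℕ) = p - 1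
          omega))
        simp only [Zb, if_neg (by omega : ¬ (i : ℕ) = (j : ℕ) + 1), if_neg h2, zero_mul]
      · exact fun h => absurd (Finset.mem_univ _) h
    · rw [Finset.sum_eq_single (⟨(i : ℕ) - 1, by have := i.2; omega⟩ : Fin p)]
      · have h1 : (i : ℕ) - 1 + 1 = (i : ℕ) := by omega
        simp only [Zb, h1, if_true, one_mul]
        conv_rhs => rw [← h1, pow_succ, mul_assoc, mul_assoc, hTS, mul_one]
      · intro j _ hj
        have h1 : ¬ (i : ℕ) = (j : ℕ) + 1 := fun h => hj (Fin.ext (by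
          show (j : ℕ) = (i : ℕ) - 1
          omega))
        simp only [Zb, if_neg h1, if_neg (fun h : _ ∧ _ => absurd h.1 hi), zero_mul]
      · exact fun h => absurd (Finset.mem_univ _) h
  have hproO : pro * OO = O * pro := by
    ext a ⟨j, b⟩
    rw [Matrix.mul_apply, Fintype.sum_prod_type, Finset.sum_eq_single j]
    · calc ∑ c : N, pro a (j, c) * OO (j, c) (j, b) = (S ^ (j : ℕ) * O) a b := by
            simp [pro, OO, Matrix.mul_apply]
        _ = (O * S ^ (j : ℕ)) a b := by rw [((show Commute O S from hOS).pow_right _).eq]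
        _ = _ := by simp [pro, Matrix.mul_apply]
    · intro i _ hi; simp [OO, hi]
    · exact fun h => absurd (Finset.mem_univ _) h
  have hOiot : OO * iot = iot * O := by
    ext ⟨i, a⟩ b
    rw [Matrix.mul_apply, Fintype.sum_prod_type, Finset.sum_eq_single i]
    · calc ∑ c : N, OO (i, a) (i, c) * iot (i, c) b = (O * (E * T ^ (i : ℕ))) a b := by
            simp [iot, OO, Matrix.mul_apply]
        _ = (E * T ^ (i : ℕ) * O) a b := by
            rw [((show Commute O E from hOE).mul_right
              ((show Commute O T from hOT).pow_right _)).eq]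
        _ = _ := by simp [iot, Matrix.mul_apply]
    · intro j _ hj; simp [OO, Ne.symm hj]
    · exact fun h => absurd (Finset.mem_univ _) h
  have hproiot : pro * iot = P := by
    rw [hsum]
    ext a b
    rw [Matrix.mul_apply, Fintype.sum_prod_type, Matrix.sum_apply,
      ← Fin.sum_univ_eq_sum_range (fun i => (S ^ i * E * T ^ i) a b)]
    refine Finset.sum_congr rfl fun i _ => ?_
    rw [mul_assoc]
    simp [pro, iot, Matrix.mul_apply]
  let Q : Matrix (Fin p × N) (Fin p × N) ℂ := iot * P * pro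
  have hQQ : Q * Q = Q := by
    simp only [Q, Matrix.mul_assoc]
    rw [← Matrix.mul_assoc pro iot, hproiot, ← Matrix.mul_assoc P P, hPP,
      ← Matrix.mul_assoc P P, hPP]
  have hZQ : Z * Q = Q * Z := by
    simp only [Q]
    rw [← Matrix.mul_assoc, ← Matrix.mul_assoc, hZiot, Matrix.mul_assoc iot S P, hPS,
      Matrix.mul_assoc (iot * P) pro Z, hproZ]
    simp only [Matrix.mul_assoc]
  have hOQ : OO * Q = Q * OO := by
    simp only [Q]
    rw [← Matrix.mul_assoc, ← Matrix.mul_assoc, hOiot, Matrix.mul_assoc iot O P, hPO,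
      Matrix.mul_assoc (iot * P) pro OO, hproO]
    simp only [Matrix.mul_assoc]
  obtain ⟨ε, hε⟩ : ∃ ε : ℂ, IsPrimitiveRoot ε p :=
    ⟨_, Complex.isPrimitiveRoot_exp p hp.ne_zero⟩
  have hεp : ε ^ p = 1 := hε.pow_eq_one
  have hε0 : ε ≠ 0 := hε.ne_zero hp.ne_zero
  let D : Matrix (Fin p × N) (Fin p × N) ℂ := Matrix.diagonal fun x => ε ^ (x.1 : ℕ)
  let D' : Matrix (Fin p × N) (Fin p × N) ℂ := Matrix.diagonal fun x => (ε ^ (x.1 : ℕ))⁻¹
  have hDD' : D * D' = 1 := by
    rw [Matrix.diagonal_mul_diagonal, ← Matrix.diagonal_one]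
    congr 1
    funext x
    exact mul_inv_cancel₀ (pow_ne_zero _ hε0)
  have hD'D : D' * D = 1 := by
    rw [Matrix.diagonal_mul_diagonal, ← Matrix.diagonal_one]
    congr 1
    funext x
    exact inv_mul_cancel₀ (pow_ne_zero _ hε0)
  have hDZ : D * Z = ε • (Z * D) := by
    ext ⟨i, a⟩ ⟨j, b⟩
    simp only [D, Matrix.diagonal_mul, Matrix.mul_diagonal, Matrix.smul_apply, smul_eq_mul, Z, Zb,
      Matrix.of_apply]
    split_ifs with h1 h2
    · rw [h1, pow_succ]; ring
    · rw [h2.1, pow_zero, one_mul, ← mul_assoc, mul_comm ε, mul_assoc, ← pow_succ', h2.2, hεp,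
        mul_one]
    · simp
  have hDO : D * OO = OO * D := by
    ext ⟨i, a⟩ ⟨j, b⟩
    simp only [D, Matrix.diagonal_mul, Matrix.mul_diagonal, OO, Matrix.of_apply]
    split_ifs with h1
    · subst h1; ring
    · simp
  have hZD' : Z * D' = ε • (D' * Z) := by
    calc Z * D' = D' * (D * Z) * D' := by rw [← Matrix.mul_assoc D', hD'D, Matrix.one_mul]
      _ = ε • (D' * Z) := by
          rw [hDZ, Matrix.mul_smul, Matrix.smul_mul, ← Matrix.mul_assoc,
            Matrix.mul_assoc (D' * Z) D D', hDD', Matrix.mul_one]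
  have hOD' : OO * D' = D' * OO := by
    calc OO * D' = D' * (D * OO) * D' := by rw [← Matrix.mul_assoc D', hD'D, Matrix.one_mul]
      _ = D' * OO := by
          rw [hDO, ← Matrix.mul_assoc, Matrix.mul_assoc (D' * OO) D D', hDD', Matrix.mul_one]
  let Q' : Matrix (Fin p × N) (Fin p × N) ℂ := D * Q * D'
  have hQ'Q' : Q' * Q' = Q' := by
    simp only [Q', Matrix.mul_assoc]
    rw [← Matrix.mul_assoc D' D, hD'D, Matrix.one_mul, ← Matrix.mul_assoc Q Q, hQQ]
  have hZQ' : Z * Q' = Q' * Z := by
    apply smul_right_injective _ hε0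
    simp only [Q']
    calc ε • (Z * (D * Q * D')) = (ε • (Z * D)) * Q * D' := by
          simp only [Matrix.smul_mul, Matrix.mul_assoc]
      _ = D * (Z * Q) * D' := by rw [← hDZ]; simp only [Matrix.mul_assoc]
      _ = D * Q * (Z * D') := by rw [hZQ]; simp only [Matrix.mul_assoc]
      _ = _ := by rw [hZD']; simp only [Matrix.mul_smul, Matrix.mul_assoc]
  have hOQ' : OO * Q' = Q' * OO := by
    simp only [Q']
    calc OO * (D * Q * D') = (D * OO) * Q * D' := by rw [hDO]; simp only [Matrix.mul_assoc]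
      _ = D * (OO * Q) * D' := by simp only [Matrix.mul_assoc]
      _ = D * Q * (OO * D') := by rw [hOQ]; simp only [Matrix.mul_assoc]
      _ = _ := by rw [hOD']; simp only [Matrix.mul_assoc]
  have hiotring : MatRing M iot := fun x b => by
    simp only [iot, Matrix.of_apply]
    exact (hE.mul hM (hT.pow hM _)) x.2 b
  have hproring : MatRing M pro := fun a y => by
    simp only [pro, Matrix.of_apply]
    exact (hS.pow hM _) a y.2
  have hQring : MatRing M Q := (hiotring.mul hM hP).mul hM hproring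
  have hεr : MemLocalRing M ε :=
    ring_of_integral hM (isIntegral_of_pow_eq_one hp.pos hεp)
  have hinv : ∀ n : ℕ, (ε ^ n)⁻¹ = ε ^ (n * (p - 1)) := fun n => by
    refine inv_eq_of_mul_eq_one_right ?_
    rw [← pow_add, show n + n * (p - 1) = p * n by
      obtain ⟨q, rfl⟩ : ∃ q, p = q + 1 := ⟨p - 1, by omega⟩
      rw [Nat.add_sub_cancel]; ring,
      pow_mul, hεp, one_pow]
  have hQ'ring : MatRing M Q' := by
    intro x y
    simp only [Q', D, D', Matrix.mul_diagonal, Matrix.diagonal_mul, hinv]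
    exact ring_mul hM (ring_mul hM (ring_pow hM hεr _) (hQring x y)) (ring_pow hM hεr _)
  have hcongr : ∀ x y, MemLocalIdeal M (Q' x y - Q x y) := by
    intro x y
    simp only [Q', D, D', Matrix.mul_diagonal, Matrix.diagonal_mul, hinv]
    rw [show ε ^ (x.1 : ℕ) * Q x y * ε ^ ((y.1 : ℕ) * (p - 1)) - Q x y =
      (ε ^ (x.1 : ℕ) * ε ^ ((y.1 : ℕ) * (p - 1)) - 1) * Q x y by ring]
    refine ideal_mul_right hM (ideal_root_sub_one hM (k := 1) ?_) (hQring x y)
    rw [pow_one, ← pow_add, ← pow_mul, mul_comm, pow_mul, hεp, one_pow]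
  obtain ⟨W, hW, hQW, hcomm⟩ := exists_intertwiner hM hQ'ring hQring hQ'Q' hQQ hcongr
  have hZW := hcomm Z hZQ' hZQ
  have hOW := hcomm OO hOQ' hOQ
  have h1 : (Z * OO * Q').trace = (Z * OO * Q).trace := by
    have hQ'eq : Q' = W * Q * W⁻¹ := by
      rw [← hQW, Matrix.mul_assoc, Matrix.mul_nonsing_inv W hW, Matrix.mul_one]
    have hA : Z * OO * Q' = W * (Z * OO * Q) * W⁻¹ := by
      rw [hQ'eq]
      calc Z * OO * (W * Q * W⁻¹) = Z * (OO * W) * Q * W⁻¹ := by simp only [Matrix.mul_assoc]
        _ = Z * W * OO * Q * W⁻¹ := by rw [hOW]; simp only [Matrix.mul_assoc]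
        _ = _ := by rw [hZW]; simp only [Matrix.mul_assoc]
    rw [hA, Matrix.trace_mul_comm, ← Matrix.mul_assoc, Matrix.nonsing_inv_mul W hW, Matrix.one_mul]
  have h2 : ε * (Z * OO * Q').trace = (Z * OO * Q).trace := by
    rw [← smul_eq_mul, ← Matrix.trace_smul]
    have h : ε • (Z * OO * Q') = D * (Z * OO * Q) * D' := by
      simp only [Q']
      calc ε • (Z * OO * (D * Q * D')) = (ε • (Z * (OO * D))) * Q * D' := by
            simp only [Matrix.smul_mul, Matrix.mul_assoc]
        _ = (ε • (Z * D)) * OO * Q * D' := by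
            rw [← hDO]; simp only [Matrix.smul_mul, Matrix.mul_assoc]
        _ = _ := by rw [← hDZ]; simp only [Matrix.mul_assoc]
    rw [h, Matrix.trace_mul_comm, ← Matrix.mul_assoc, hD'D, Matrix.one_mul]
  have h3 : (Z * OO * Q).trace = (S * O * P).trace := by
    simp only [Q]
    rw [← Matrix.mul_assoc, ← Matrix.mul_assoc, Matrix.trace_mul_comm, Matrix.mul_assoc Z OO iot,
      hOiot, ← Matrix.mul_assoc Z iot O, hZiot, Matrix.mul_assoc iot S O,
      Matrix.mul_assoc iot (S * O) P, ← Matrix.mul_assoc pro iot, hproiot,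
      Matrix.trace_mul_comm, Matrix.mul_assoc, hPP]
  rw [← h3]
  have h4 : (ε - 1) * (Z * OO * Q).trace = 0 := by
    rw [sub_mul, one_mul, sub_eq_zero]
    conv_lhs => rw [← h1]
    exact h2
  exact (mul_eq_zero.1 h4).resolve_left (sub_ne_zero.2 (hε.ne_one hp.one_lt))

end Cfsg.Agent.Block
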