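import Mathlib.GroupTheory.Perm.Cycle.Type
import Cfsg.Agent.Lib.Block.SchurIndicator
import Cfsg.Agent.Lib.Char.Induce
import Cfsg.Agent.Lib.Char.Kernel

/-!
# Strongly real constituents of a permutation character
-/

set_option autoImplicit false
set_option linter.style.haveILetI false

open Cfsg
open scoped ComplexConjugate

namespace Cfsg.Agent.Block.FS

universe u

variable {G : Type u} [Group G] [Fintype G]

open Cfsg.Agent.Char

theorem ind_indFun_one (H : Subgroup G) :
    ind (indFun H (fun _ : H => (1 : ℂ))) =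
      (Nat.card {g : G // g * g ∈ H} : ℂ) / (Nat.card H : ℂ) := by
  classical
  have hinner : ∀ x : G, ∑ g : G, extendByZero H (fun _ : H => (1 : ℂ)) (x⁻¹ * (g * g) * x) =
      (Nat.card {g : G // g * g ∈ H} : ℂ) := by
    intro x
    have e : ∀ g : G, extendByZero H (fun _ : H => (1 : ℂ)) (x⁻¹ * (g * g) * x) =
        if (x⁻¹ * g * x) * (x⁻¹ * g * x) ∈ H then 1 else 0 := by
      intro g
      rw [show x⁻¹ * (g * g) * x = (x⁻¹ * g * x) * (x⁻¹ * g * x) by group]
      split_ifs with h
      · rw [extendByZero_of_mem _ h]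
      · rw [extendByZero_not_mem _ h]
    rw [Finset.sum_congr rfl fun g _ => e g,
      Fintype.sum_equiv (MulAut.conj x⁻¹).toEquiv _ (fun g => if g * g ∈ H then (1 : ℂ) else 0)
        (fun g => by simp [mul_assoc]), Finset.sum_boole, Nat.card_eq_fintype_card,
      Fintype.card_subtype]
  simp only [ind, indFun, ← Finset.mul_sum]
  rw [Finset.sum_comm, Finset.sum_congr rfl fun x _ => hinner x, Finset.sum_const,
    Finset.card_univ, ← Nat.card_eq_fintype_card (α := G), nsmul_eq_mul]
  have hn : (Nat.card G : ℂ) ≠ 0 := Nat.cast_ne_zero.mpr Nat.card_pos.ne'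
  field_simp

theorem unique_strongly_real_iff (H : Subgroup G) :
    Nat.card {χ : IrrCharacter G // classInner (indFun H (fun _ : H => (1 : ℂ))) (χ : G → ℂ) ≠ 0 ∧
      (∀ g : G, conj ((χ : G → ℂ) g) = (χ : G → ℂ) g) ∧
      (Nat.card G : ℂ)⁻¹ * ∑ g : G, (χ : G → ℂ) (g * g) = 1} = 1 ↔ Odd H.normalCore.index := by
  classical
  haveI := Fintype.ofFinite H
  set π := indFun H (fun _ : H => (1 : ℂ)) with hπ
  have hπc : IsCharacter G π := isCharacter_indFun H IsChar.one
  have htriv : classInner π (fun _ => 1) = 1 := by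
    rw [hπ, classInner_indFun H _ (fun _ _ => rfl)]
    exact classInner_self_irr isIrr_one
  set S := {χ : IrrCharacter G // classInner π (χ : G → ℂ) ≠ 0 ∧
      (∀ g : G, conj ((χ : G → ℂ) g) = (χ : G → ℂ) g) ∧
      (Nat.card G : ℂ)⁻¹ * ∑ g : G, (χ : G → ℂ) (g * g) = 1}
  let one' : S := ⟨⟨fun _ => 1, isIrr_one⟩, by rw [htriv]; exact one_ne_zero,
    fun g => map_one _, ind_one (G := G)⟩
  haveI : Nonempty S := ⟨one'⟩
  set K := H.normalCore
  haveI : K.Normal := H.normalCore_normal
  constructor
  · intro h1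
    haveI : Subsingleton S := (Nat.card_eq_one_iff_unique.mp h1).1
    obtain ⟨a, ha, hd⟩ := IsChar.exists_decomp_inner hπc
    have hind : ind π = ∑ χ : IrrCharacter G, (a χ : ℂ) * ind (χ : G → ℂ) := by
      rw [← ind_sum]
      congr 1
      funext g
      conv_lhs => rw [hd]
      simp [Finset.sum_apply]
    have hle : (ind π).re ≤ 1 := by
      rw [hind, Complex.re_sum, ← Finset.add_sum_erase _ _ (Finset.mem_univ (one'.1))]
      have h0 : ∀ χ ∈ Finset.univ.erase one'.1, ((a χ : ℂ) * ind (χ : G → ℂ)).re ≤ 0 := by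
        intro χ hχ
        by_cases ha0 : a χ = 0
        · simp [ha0]
        rcases ind_eq χ with ⟨e, -⟩ | ⟨e | e, hr⟩
        · simp [e]
        · exfalso
          refine Finset.ne_of_mem_erase hχ ?_
          exact congrArg Subtype.val (Subsingleton.elim (⟨χ, by rw [ha]; exact_mod_cast ha0,
            hr, e⟩ : S) one')
        · simp [e]
      have h1' : ((a one'.1 : ℂ) * ind (one'.1 : G → ℂ)).re = 1 := by
        rw [← ha]
        show (classInner π (fun _ => 1) * ind (fun _ : G => (1 : ℂ))).re = 1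
        rw [htriv, ind_one]; simp
      linarith [Finset.sum_nonpos h0]
    rw [hπ, ind_indFun_one, ← Complex.ofReal_natCast, ← Complex.ofReal_natCast,
      ← Complex.ofReal_div, Complex.ofReal_re, div_le_one (by exact_mod_cast Nat.card_pos)] at hle
    have hle' : Nat.card {g : G // g * g ∈ H} ≤ Nat.card H := by exact_mod_cast hle
    have hroot : ∀ g : G, g * g ∈ H → g ∈ H := by
      let f : H → {g : G // g * g ∈ H} := fun h => ⟨h, H.mul_mem h.2 h.2⟩
      have hf : Function.Injective f := fun a b e =>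
        Subtype.ext (congrArg (fun x : {g : G // g * g ∈ H} => x.1) e :)
      have hbij : Function.Bijective f :=
        hf.bijective_of_nat_card_le hle'
      intro g hg
      obtain ⟨h, hh⟩ := hbij.2 ⟨g, hg⟩
      have e : (h : G) = g := congrArg Subtype.val hh
      exact e ▸ h.2
    by_contra hev
    rw [Nat.not_odd_iff_even, even_iff_two_dvd, Subgroup.index_eq_card] at hev
    obtain ⟨q, hq⟩ := exists_prime_orderOf_dvd_card' 2 hev
    induction q using QuotientGroup.induction_on with
    | H t =>
      have ht2 : t * t ∈ K := by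
        rw [← QuotientGroup.eq_one_iff, QuotientGroup.mk_mul, ← sq, ← hq, pow_orderOf_eq_one]
      have htK : t ∈ K := fun y => hroot _ <| by
        have := ht2 y
        rwa [show y * (t * t) * y⁻¹ = (y * t * y⁻¹) * (y * t * y⁻¹) by group] at this
      rw [← QuotientGroup.eq_one_iff] at htK
      rw [htK, orderOf_one] at hq
      exact absurd hq (by norm_num)
  · intro hodd
    refine Nat.card_eq_one_iff_unique.mpr ⟨⟨fun x y => ?_⟩, ⟨one'⟩⟩
    suffices h : ∀ x : S, (x.1 : G → ℂ) = fun _ => 1 by
      exact Subtype.ext (Subtype.ext ((h x).trans (h y).symm))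
    rintro ⟨χ, hc, hr, -⟩
    have hker : ∀ k ∈ K, (χ : G → ℂ) k = (χ : G → ℂ) 1 := fun k hk => by
      refine constituent_ker hπc χ.2 hc ?_
      simp only [hπ, indFun]
      congr 1
      refine Finset.sum_congr rfl fun x _ => ?_
      rw [extendByZero_of_mem _ (show x⁻¹ * k * x ∈ H from
          H.normalCore_le (by simpa using ‹K.Normal›.conj_mem k hk x⁻¹)),
        extendByZero_of_mem _ (show x⁻¹ * 1 * x ∈ H by simp [H.one_mem])]
    haveI : Fintype (G ⧸ K) := Fintype.ofFinite _
    obtain ⟨ψ, hψ, hψe⟩ := IsIrr.exists_factor_quotient χ.2 K hker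
    have h := eq_one_of_real_of_odd (G := G ⧸ K) (by rwa [← Subgroup.index_eq_card]) ⟨ψ, hψ⟩
      (fun q => by
        induction q using QuotientGroup.induction_on with
        | H g => show conj (ψ (g : G ⧸ K)) = ψ (g : G ⧸ K); rw [hψe]; exact hr g)
    funext g
    show (χ : G → ℂ) g = 1
    rw [← hψe g]
    exact congrFun h _

end Cfsg.Agent.Block.FS
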