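import Mathlib

/-!
# Self-dual modules in coprime characteristic
-/

set_option autoImplicit false
set_option linter.unusedSectionVars false

namespace Cfsg.Agent.Block.SelfDual

universe u v w

variable {F : Type u} [Field F] {G : Type v} [Group G]

section

variable {V : Type w} [AddCommGroup V] [Module F V] (ρ : Representation F G V)

/-- Invariance of a subspace. -/
def Inv (Y : Submodule F V) : Prop := ∀ g : G, ∀ y ∈ Y, ρ g y ∈ Y

/-- A minimal nonzero invariant subspace. -/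
def Irr (Y : Submodule F V) : Prop :=
  Inv ρ Y ∧ Y ≠ ⊥ ∧ ∀ Z, Inv ρ Z → Z ≤ Y → Z = ⊥ ∨ Z = Y

theorem inv_inf {Y Z : Submodule F V} (h : Inv ρ Y) (h' : Inv ρ Z) : Inv ρ (Y ⊓ Z) :=
  fun g y hy => ⟨h g y hy.1, h' g y hy.2⟩

theorem inv_sup {Y Z : Submodule F V} (h : Inv ρ Y) (h' : Inv ρ Z) : Inv ρ (Y ⊔ Z) := by
  intro g y hy
  obtain ⟨a, ha, b, hb, rfl⟩ := Submodule.mem_sup.mp hy
  rw [map_add]
  exact Submodule.add_mem_sup (h g a ha) (h' g b hb)

theorem apply_apply_inv (g : G) (x : V) : ρ g (ρ g⁻¹ x) = x := by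
  rw [← Module.End.mul_apply, ← map_mul, mul_inv_cancel, map_one, Module.End.one_apply]

theorem exists_irr [FiniteDimensional F V] {Y : Submodule F V} (hY : Inv ρ Y) (h0 : Y ≠ ⊥) :
    ∃ S, Irr ρ S ∧ S ≤ Y := by
  obtain ⟨S, ⟨hS1, hS2, hS3⟩, hmin⟩ := WellFounded.has_min (wellFounded_lt (α := Submodule F V))
    {Z | Inv ρ Z ∧ Z ≠ ⊥ ∧ Z ≤ Y} ⟨Y, hY, h0, le_rfl⟩
  refine ⟨S, ⟨hS1, hS2, fun Z hZ hle => ?_⟩, hS3⟩
  by_contra hc
  push Not at hc
  exact hmin Z ⟨hZ, hc.1, hle.trans hS3⟩ (lt_of_le_of_ne hle hc.2)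

/-- The projection along an invariant complement commutes with the action. -/
theorem proj_comm {Y Z : Submodule F V} (h : IsCompl Y Z) (hY : Inv ρ Y) (hZ : Inv ρ Z) (g : G)
    (x : V) : Y.projection Z h (ρ g x) = ρ g (Y.projection Z h x) := by
  obtain ⟨a, ha, b, hb, rfl⟩ : ∃ a ∈ Y, ∃ b ∈ Z, a + b = x :=
    Submodule.mem_sup.mp (h.sup_eq_top ▸ Submodule.mem_top)
  have e : ∀ {a b : V}, a ∈ Y → b ∈ Z → Y.projection Z h (a + b) = a := fun {a b} ha hb => by
    rw [map_add, ← Submodule.coe_projectionOnto_apply, ← Submodule.coe_projectionOnto_apply,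
      Submodule.projectionOnto_apply_of_mem_left h ha,
      (Submodule.projectionOnto_apply_eq_zero_iff h).mpr hb]
    simp
  rw [map_add (ρ g), e (hY g a ha) (hZ g b hb), e ha hb]

/-- Maschke's theorem. -/
theorem exists_compl [Finite G] (hcop : (Nat.card G : F) ≠ 0) {Y : Submodule F V} (hY : Inv ρ Y) :
    ∃ Z, IsCompl Y Z ∧ Inv ρ Z := by
  classical
  haveI := Fintype.ofFinite G
  obtain ⟨Z₀, hZ₀⟩ := Submodule.exists_isCompl Y
  let π : V →ₗ[F] V := (Nat.card G : F)⁻¹ •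
    ∑ g : G, (ρ g) ∘ₗ (Y.projection Z₀ hZ₀) ∘ₗ (ρ g⁻¹)
  have hmem : ∀ x, π x ∈ Y := fun x => by
    simp only [π, LinearMap.smul_apply, LinearMap.sum_apply, LinearMap.comp_apply]
    refine Y.smul_mem _ (Submodule.sum_mem _ fun g _ => hY g _ ?_)
    rw [← Submodule.coe_projectionOnto_apply]
    exact Submodule.coe_mem _
  have hid : ∀ y ∈ Y, π y = y := fun y hy => by
    simp only [π, LinearMap.smul_apply, LinearMap.sum_apply, LinearMap.comp_apply]
    have e : ∀ g : G, ρ g (Y.projection Z₀ hZ₀ (ρ g⁻¹ y)) = y := fun g => by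
      rw [← Submodule.coe_projectionOnto_apply,
        Submodule.projectionOnto_apply_of_mem_left hZ₀ (hY g⁻¹ y hy), apply_apply_inv]
    rw [Finset.sum_congr rfl fun g _ => e g, Finset.sum_const, Finset.card_univ,
      ← Nat.card_eq_fintype_card, ← Nat.cast_smul_eq_nsmul F, smul_smul, inv_mul_cancel₀ hcop,
      one_smul]
  have hcomm : ∀ h : G, ∀ x, π (ρ h x) = ρ h (π x) := fun h x => by
    simp only [π, LinearMap.smul_apply, LinearMap.sum_apply, LinearMap.comp_apply, map_smul,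
      map_sum]
    congr 1
    refine (Fintype.sum_equiv (Equiv.mulLeft h) _ _ fun g => ?_).symm
    simp only [Equiv.coe_mulLeft, map_mul, mul_inv_rev, Module.End.mul_apply]
    rw [show ρ h⁻¹ (ρ h x) = x by
      conv_lhs => rw [← Module.End.mul_apply, ← map_mul, inv_mul_cancel, map_one]
      rfl]
  refine ⟨LinearMap.ker π, ⟨disjoint_iff.mpr (le_antisymm (fun x hx => ?_) bot_le),
    codisjoint_iff.mpr (eq_top_iff.mpr fun x _ => ?_)⟩, fun g x hx => ?_⟩
  · rw [Submodule.mem_inf, LinearMap.mem_ker] at hx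
    rw [Submodule.mem_bot, ← hid x hx.1, hx.2]
  · refine Submodule.mem_sup.mpr ⟨π x, hmem x, x - π x, ?_, by abel⟩
    rw [LinearMap.mem_ker, map_sub, hid _ (hmem x), sub_self]
  · rw [LinearMap.mem_ker] at hx ⊢
    rw [hcomm, hx, map_zero]

/-- An irreducible subspace of `Y` outside a given invariant subspace. -/
theorem exists_irr_not_le [Finite G] [FiniteDimensional F V] (hcop : (Nat.card G : F) ≠ 0)
    {Y X : Submodule F V} (hY : Inv ρ Y) (hX : Inv ρ X) (h : ¬ Y ≤ X) :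
    ∃ T, Irr ρ T ∧ T ≤ Y ∧ ¬ T ≤ X := by
  obtain ⟨C, hC, hCi⟩ := exists_compl ρ hcop (inv_inf ρ hY hX)
  have hne : Y ⊓ C ≠ ⊥ := by
    intro e
    refine h fun y hy => ?_
    obtain ⟨a, ha, b, hb, rfl⟩ : ∃ a ∈ Y ⊓ X, ∃ b ∈ C, a + b = y :=
      Submodule.mem_sup.mp (hC.sup_eq_top ▸ Submodule.mem_top)
    have : b = 0 := (Submodule.mem_bot F).mp (e ▸ ⟨by simpa using Y.sub_mem hy ha.1, hb⟩)
    rw [this, add_zero]
    exact ha.2
  obtain ⟨T, hT, hTle⟩ := exists_irr ρ (inv_inf ρ hY hCi) hne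
  refine ⟨T, hT, hTle.trans inf_le_left, fun hTX => hT.2.1 ((Submodule.eq_bot_iff _).mpr ?_)⟩
  intro x hx
  exact (Submodule.mem_bot F).mp (hC.disjoint.eq_bot ▸ ⟨⟨(hTle hx).1, hTX hx⟩, (hTle hx).2⟩)

variable (B : LinearMap.BilinForm F V)

/-- Right annihilator of `Y`. -/
def rperp (Y : Submodule F V) : Submodule F V where
  carrier := {v | ∀ y ∈ Y, B y v = 0}
  zero_mem' := fun y _ => map_zero (B y)
  add_mem' := fun {a b} ha hb y hy => by simp [ha y hy, hb y hy]
  smul_mem' := fun c a ha y hy => by simp [ha y hy]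

/-- Left annihilator of `Y`. -/
def lperp (Y : Submodule F V) : Submodule F V where
  carrier := {v | ∀ y ∈ Y, B v y = 0}
  zero_mem' := fun y _ => by simp
  add_mem' := fun {a b} ha hb y hy => by simp [ha y hy, hb y hy]
  smul_mem' := fun c a ha y hy => by simp [ha y hy]

variable (hBinv : ∀ g : G, ∀ x y : V, B (ρ g x) (ρ g y) = B x y)

include hBinv

theorem inv_rperp {Y : Submodule F V} (hY : Inv ρ Y) : Inv ρ (rperp B Y) := fun g v hv y hy => by
  rw [← apply_apply_inv ρ g y, hBinv]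
  exact hv _ (hY g⁻¹ y hy)

theorem inv_lperp {Y : Submodule F V} (hY : Inv ρ Y) : Inv ρ (lperp B Y) := fun g v hv y hy => by
  rw [← apply_apply_inv ρ g y, hBinv]
  exact hv _ (hY g⁻¹ y hy)

/-- A form that is not zero on an irreducible subspace has trivial radical there. -/
theorem left_nondeg_of_irr {S T : Submodule F V} (hS : Irr ρ S) (hT : Inv ρ T)
    (h : ∃ x ∈ S, ∃ y ∈ T, B x y ≠ 0) {x : V} (hx : x ∈ S) (h0 : ∀ y ∈ T, B x y = 0) : x = 0 := by
  obtain ⟨a, ha, b, hb, hab⟩ := h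
  rcases hS.2.2 (S ⊓ lperp B T) (inv_inf ρ hS.1 (inv_lperp ρ B hBinv hT)) inf_le_left with h' | h'
  · exact (Submodule.mem_bot F).mp (h' ▸ ⟨hx, h0⟩)
  · exact absurd ((h'.symm ▸ ha : a ∈ S ⊓ lperp B T).2 b hb) hab

theorem right_nondeg_of_irr {S T : Submodule F V} (hS : Inv ρ S) (hT : Irr ρ T)
    (h : ∃ x ∈ S, ∃ y ∈ T, B x y ≠ 0) {y : V} (hy : y ∈ T) (h0 : ∀ x ∈ S, B x y = 0) : y = 0 := by
  obtain ⟨a, ha, b, hb, hab⟩ := h
  rcases hT.2.2 (T ⊓ rperp B S) (inv_inf ρ hT.1 (inv_rperp ρ B hBinv hS)) inf_le_left with h' | h'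
  · exact (Submodule.mem_bot F).mp (h' ▸ ⟨hy, h0⟩)
  · exact absurd ((h'.symm ▸ hb : b ∈ T ⊓ rperp B S).2 a ha) hab

end

/-- The decomposition asked for. -/
def Good (p : ℕ) {V : Type w} [AddCommGroup V] [Module F V] (ρ : Representation F G V) : Prop :=
  ∃ U W : Submodule F V, IsCompl U W ∧ (∀ g : G, ∀ u ∈ U, ρ g u ∈ U) ∧ (∀ g : G, ∀ w ∈ W, ρ g w ∈ W) ∧
    (∃ A : LinearMap.BilinForm F V, (∀ x : V, A x x = 0) ∧
      (∀ g : G, ∀ x ∈ U, ∀ y ∈ U, A (ρ g x) (ρ g y) = A x y) ∧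
      (∀ x ∈ U, (∀ y ∈ U, A x y = 0) → x = 0)) ∧
    (∃ S : LinearMap.BilinForm F V, (∀ x y : V, S x y = S y x) ∧
      (∀ g : G, ∀ x ∈ W, ∀ y ∈ W, S (ρ g x) (ρ g y) = S x y) ∧
      (∀ x ∈ W, (∀ y ∈ W, S x y = 0) → x = 0)) ∧
    (p = 2 → ∀ g : G, ∀ w ∈ W, ρ g w = w)

/-- What a first piece has to provide. -/
def Piece (p : ℕ) {V : Type w} [AddCommGroup V] [Module F V] (ρ : Representation F G V)
    (Y : Submodule F V) : Prop :=
  (∃ A : LinearMap.BilinForm F V, (∀ x ∈ Y, A x x = 0) ∧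
      (∀ g : G, ∀ x ∈ Y, ∀ y ∈ Y, A (ρ g x) (ρ g y) = A x y) ∧
      (∀ x ∈ Y, (∀ y ∈ Y, A x y = 0) → x = 0)) ∨
    ((∃ S : LinearMap.BilinForm F V, (∀ x ∈ Y, ∀ y ∈ Y, S x y = S y x) ∧
      (∀ g : G, ∀ x ∈ Y, ∀ y ∈ Y, S (ρ g x) (ρ g y) = S x y) ∧
      (∀ x ∈ Y, (∀ y ∈ Y, S x y = 0) → x = 0)) ∧ (p = 2 → ∀ g : G, ∀ y ∈ Y, ρ g y = y))

theorem exists_piece (p : ℕ) [hp : Fact p.Prime] [CharP F p] [Finite G]
    (hcop : (Nat.card G : F) ≠ 0) {V : Type w} [AddCommGroup V] [Module F V]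
    [FiniteDimensional F V] (ρ : Representation F G V) (B : LinearMap.BilinForm F V)
    (hl : ∀ x, (∀ y, B x y = 0) → x = 0) (hr : ∀ y, (∀ x, B x y = 0) → y = 0)
    (hBinv : ∀ g : G, ∀ x y : V, B (ρ g x) (ρ g y) = B x y) (hV : (⊤ : Submodule F V) ≠ ⊥) :
    ∃ Y : Submodule F V, Y ≠ ⊥ ∧ Inv ρ Y ∧ (∀ x ∈ Y, (∀ y ∈ Y, B x y = 0) → x = 0) ∧
      Piece p ρ Y := by
  classical
  by_cases hex : ∃ S, Irr ρ S ∧ ∃ x ∈ S, ∃ y ∈ S, B x y ≠ 0
  · obtain ⟨S, hS, hne⟩ := hex
    refine ⟨S, hS.2.1, hS.1, fun x hx h0 => left_nondeg_of_irr ρ B hBinv hS hS.1 hne hx h0, ?_⟩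
    have hC : ∀ g : G, ∀ x y : V, (B + B.flip) (ρ g x) (ρ g y) = (B + B.flip) x y := fun g x y => by
      simp [hBinv]
    by_cases hsym : ∃ x ∈ S, ∃ y ∈ S, (B + B.flip) x y ≠ 0
    · by_cases hp2 : p = 2
      · left
        subst hp2
        refine ⟨B + B.flip, fun x _ => ?_, fun g x _ y _ => hC g x y,
          fun x hx h0 => left_nondeg_of_irr ρ _ hC hS hS.1 hsym hx h0⟩
        simp [CharTwo.add_self_eq_zero]
      · right
        refine ⟨⟨B + B.flip, fun x _ y _ => by simp [add_comm], fun g x _ y _ => hC g x y,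
          fun x hx h0 => left_nondeg_of_irr ρ _ hC hS hS.1 hsym hx h0⟩, fun h => absurd h hp2⟩
    · push Not at hsym
      have hskew : ∀ x ∈ S, ∀ y ∈ S, B y x = - B x y := fun x hx y hy => by
        have := hsym x hx y hy
        simp only [LinearMap.add_apply, LinearMap.BilinForm.flip_apply] at this
        exact eq_neg_of_add_eq_zero_right this
      by_cases halt : ∀ x ∈ S, B x x = 0
      · exact Or.inl ⟨B, halt, fun g x _ y _ => hBinv g x y,
          fun x hx h0 => left_nondeg_of_irr ρ B hBinv hS hS.1 hne hx h0⟩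
      right
      push Not at halt
      obtain ⟨x₀, hx₀, hxx⟩ := halt
      have h2 : (2 : F) = 0 := by
        have := hskew x₀ hx₀ x₀ hx₀
        have h3 : (2 : F) * B x₀ x₀ = 0 := by linear_combination this
        exact (mul_eq_zero.mp h3).resolve_right hxx
      haveI : CharP F 2 := CharTwo.of_one_ne_zero_of_two_eq_zero one_ne_zero h2
      refine ⟨⟨B, fun x hx y hy => by rw [hskew x hx y hy, CharTwo.neg_eq],
        fun g x _ y _ => hBinv g x y,
        fun x hx h0 => left_nondeg_of_irr ρ B hBinv hS hS.1 hne hx h0⟩, fun _ g y hy => ?_⟩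
      -- the diagonal is additive, so its kernel is an invariant subspace
      have hadd : ∀ a ∈ S, ∀ b ∈ S, B (a + b) (a + b) = B a a + B b b := fun a ha b hb => by
        simp only [map_add, LinearMap.add_apply, hskew b hb a ha]
        ring
      let K : Submodule F V :=
        { carrier := {x | x ∈ S ∧ B x x = 0}
          zero_mem' := ⟨S.zero_mem, by simp⟩
          add_mem' := fun {a b} ha hb => ⟨S.add_mem ha.1 hb.1, by
            rw [hadd a ha.1 b hb.1, ha.2, hb.2, add_zero]⟩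
          smul_mem' := fun c a ha => ⟨S.smul_mem c ha.1, by simp [ha.2]⟩ }
      have hK : K = ⊥ := (hS.2.2 K (fun g x hx => ⟨hS.1 g x hx.1, by rw [hBinv]; exact hx.2⟩)
        (fun x hx => hx.1)).resolve_right fun h => hxx ((h.symm ▸ hx₀ : x₀ ∈ K)).2
      have hmem : ρ g y - y ∈ K := by
        refine ⟨S.sub_mem (hS.1 g y hy) hy, ?_⟩
        rw [sub_eq_add_neg, hadd _ (hS.1 g y hy) _ (S.neg_mem hy), hBinv]
        simp [CharTwo.add_self_eq_zero]
      rw [hK, Submodule.mem_bot, sub_eq_zero] at hmem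
      exact hmem
  push Not at hex
  obtain ⟨S, hS, -⟩ := exists_irr ρ (Y := ⊤) (fun _ _ _ => trivial) hV
  obtain ⟨T₁, hT₁c, hT₁⟩ := exists_compl ρ hcop (inv_rperp ρ B hBinv hS.1)
  obtain ⟨T₂, hT₂c, hT₂⟩ := exists_compl ρ hcop (inv_lperp ρ B hBinv hS.1)
  have hS1 : ∀ t ∈ T₁, (∀ s ∈ S, B s t = 0) → t = 0 := fun t ht h =>
    (Submodule.mem_bot F).mp (hT₁c.disjoint.eq_bot ▸ ⟨h, ht⟩)
  have hS2 : ∀ t ∈ T₂, (∀ s ∈ S, B t s = 0) → t = 0 := fun t ht h =>
    (Submodule.mem_bot F).mp (hT₂c.disjoint.eq_bot ▸ ⟨h, ht⟩)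
  have hs2' : ∀ s ∈ S, (∀ t ∈ T₂, B t s = 0) → s = 0 := fun s hs h => hr s fun x => by
    obtain ⟨a, ha, b, hb, rfl⟩ : ∃ a ∈ lperp B S, ∃ b ∈ T₂, a + b = x :=
      Submodule.mem_sup.mp (hT₂c.sup_eq_top ▸ Submodule.mem_top)
    simp [ha s hs, h b hb]
  have hs1' : ∀ s ∈ S, (∀ t ∈ T₁, B s t = 0) → s = 0 := fun s hs h => hl s fun x => by
    obtain ⟨a, ha, b, hb, rfl⟩ : ∃ a ∈ rperp B S, ∃ b ∈ T₁, a + b = x :=
      Submodule.mem_sup.mp (hT₁c.sup_eq_top ▸ Submodule.mem_top)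
    simp [ha s hs, h b hb]
  obtain ⟨s₀, hs₀, hs₀0⟩ := S.ne_bot_iff.mp hS.2.1
  -- an irreducible subspace pairing nontrivially with `S` on both sides
  have hboth : ∃ T, Irr ρ T ∧ (∃ s ∈ S, ∃ t ∈ T, B s t ≠ 0) ∧ (∃ t ∈ T, ∃ s ∈ S, B t s ≠ 0) := by
    by_cases hT₂l : ∀ s ∈ S, ∀ t ∈ T₂, B s t = 0
    swap
    · push Not at hT₂l
      obtain ⟨s, hs, t, ht, hst⟩ := hT₂l
      obtain ⟨T, hT, hTle, hTne⟩ := exists_irr_not_le ρ hcop hT₂ (inv_rperp ρ B hBinv hS.1)
        (fun hle => hst (hle ht s hs))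
      obtain ⟨a, ha, hane⟩ := SetLike.not_le_iff_exists.mp hTne
      refine ⟨T, hT, ?_, ?_⟩
      · by_contra hc
        push Not at hc
        exact hane fun s hs => hc s hs a ha
      · by_contra hc
        push Not at hc
        exact hane ((hS2 a (hTle ha) fun s hs => hc a ha s hs) ▸ zero_mem _)
    by_cases h1 : ∃ t ∈ T₁, (∀ s ∈ S, B t s = 0) ∧ t ≠ 0
    swap
    · push Not at h1
      obtain ⟨t, ht, htne⟩ : ∃ t ∈ T₁, B s₀ t ≠ 0 := by
        by_contra hc
        push Not at hc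
        exact hs₀0 (hs1' s₀ hs₀ hc)
      have ht0 : t ≠ 0 := fun e => htne (by rw [e, map_zero])
      obtain ⟨T, hT, hTle⟩ := exists_irr ρ hT₁ (fun e => ht0 ((Submodule.mem_bot F).mp (e ▸ ht)))
      obtain ⟨a, ha, ha0⟩ := T.ne_bot_iff.mp hT.2.1
      refine ⟨T, hT, ?_, ?_⟩
      · by_contra hc
        push Not at hc
        exact ha0 (hS1 a (hTle ha) fun s hs => hc s hs a ha)
      · by_contra hc
        push Not at hc
        exact ha0 (h1 a (hTle ha) fun s hs => hc a ha s hs)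
    obtain ⟨t₁, ht₁, ht₁l, ht₁0⟩ := h1
    -- the invariant subspace of matched pairs
    let T₃ : Submodule F V :=
      { carrier := {v | ∃ a ∈ T₁, ∃ b ∈ T₂, v = a + b ∧ (∀ s ∈ S, B a s = 0) ∧ ∀ s ∈ S, B b s = B s a}
        zero_mem' := ⟨0, T₁.zero_mem, 0, T₂.zero_mem, by simp, fun s _ => by simp, fun s _ => by simp⟩
        add_mem' := by
          rintro _ _ ⟨a, ha, b, hb, rfl, h1, h2⟩ ⟨a', ha', b', hb', rfl, h1', h2'⟩
          exact ⟨a + a', T₁.add_mem ha ha', b + b', T₂.add_mem hb hb', by abel,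
            fun s hs => by simp [h1 s hs, h1' s hs], fun s hs => by simp [h2 s hs, h2' s hs]⟩
        smul_mem' := by
          rintro c _ ⟨a, ha, b, hb, rfl, h1, h2⟩
          exact ⟨c • a, T₁.smul_mem c ha, c • b, T₂.smul_mem c hb, smul_add _ _ _,
            fun s hs => by simp [h1 s hs], fun s hs => by simp [h2 s hs]⟩ }
    have hT₃ : Inv ρ T₃ := by
      rintro g _ ⟨a, ha, b, hb, rfl, h1, h2⟩
      refine ⟨ρ g a, hT₁ g a ha, ρ g b, hT₂ g b hb, map_add _ _ _, fun s hs => ?_, fun s hs => ?_⟩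
      · rw [← apply_apply_inv ρ g s, hBinv]; exact h1 _ (hS.1 g⁻¹ s hs)
      · rw [← apply_apply_inv ρ g s, hBinv, hBinv]; exact h2 _ (hS.1 g⁻¹ s hs)
    -- the pairing of `T₂` with `S` is onto the dual
    obtain ⟨t₂, ht₂, ht₂e⟩ : ∃ t₂ ∈ T₂, ∀ s ∈ S, B t₂ s = B s t₁ := by
      let f : T₂ →ₗ[F] Module.Dual F S := (B.compl₂ S.subtype).comp T₂.subtype
      have hfinj : Function.Injective f := (injective_iff_map_eq_zero f).mpr fun t ht =>
        Subtype.ext (hS2 t t.2 fun s hs => LinearMap.congr_fun ht ⟨s, hs⟩)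
      let f' : S →ₗ[F] Module.Dual F T₂ := (B.flip.compl₂ T₂.subtype).comp S.subtype
      have hf'inj : Function.Injective f' := (injective_iff_map_eq_zero f').mpr fun s hs =>
        Subtype.ext (hs2' s s.2 fun t ht => LinearMap.congr_fun hs ⟨t, ht⟩)
      have hdim : Module.finrank F T₂ = Module.finrank F (Module.Dual F S) := by
        refine le_antisymm (LinearMap.finrank_le_finrank_of_injective hfinj) ?_
        rw [Subspace.dual_finrank_eq]
        exact (LinearMap.finrank_le_finrank_of_injective hf'inj).trans Subspace.dual_finrank_eq.le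
      obtain ⟨t, ht⟩ := (LinearMap.injective_iff_surjective_of_finrank_eq_finrank hdim).mp hfinj
        ((B.flip t₁).comp S.subtype)
      exact ⟨t, t.2, fun s hs => LinearMap.congr_fun ht ⟨s, hs⟩⟩
    have hne3 : T₃ ≠ ⊥ := by
      intro e
      have hm : t₁ + t₂ ∈ T₃ := ⟨t₁, ht₁, t₂, ht₂, rfl, ht₁l, ht₂e⟩
      rw [e, Submodule.mem_bot] at hm
      refine ht₁0 (hS1 t₁ ht₁ fun s hs => ?_)
      rw [← ht₂e s hs, show t₂ = -t₁ by linear_combination (norm := module) hm, map_neg,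
        LinearMap.neg_apply, ht₁l s hs, neg_zero]
    obtain ⟨T, hT, hTle⟩ := exists_irr ρ hT₃ hne3
    obtain ⟨v, hv, hv0⟩ := T.ne_bot_iff.mp hT.2.1
    obtain ⟨a, ha, b, hb, rfl, h1, h2⟩ := hTle hv
    have ha0 : a ≠ 0 := fun e => hv0 (by
      rw [e, zero_add]
      exact hS2 b hb fun s hs => by rw [h2 s hs, e, map_zero])
    obtain ⟨s, hs, hsa⟩ : ∃ s ∈ S, B s a ≠ 0 := by
      by_contra hc
      push Not at hc
      exact ha0 (hS1 a ha hc)
    refine ⟨T, hT, ?_, a + b, hv, s, hs, ?_⟩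
    · by_contra hc
      push Not at hc
      have : B s (a + b) = 0 := hc s hs (a + b) hv
      rw [map_add, hT₂l s hs b hb, add_zero] at this
      exact hsa this
    · simpa [h1 s hs, h2 s hs] using hsa
  obtain ⟨T, hT, hST, hTS⟩ := hboth
  have hBS : ∀ x ∈ S, ∀ y ∈ S, B x y = 0 := hex S hS
  have hBT : ∀ x ∈ T, ∀ y ∈ T, B x y = 0 := hex T hT
  have hdis : S ⊓ T = ⊥ := (hS.2.2 _ (inv_inf ρ hS.1 hT.1) inf_le_left).resolve_right fun h => by
    obtain ⟨s, hs, t, ht, hst⟩ := hST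
    have hle : S ≤ T := h ▸ inf_le_right
    exact hst (hBT s (hle hs) t ht)
  obtain ⟨R, hRc, hR⟩ := exists_compl ρ hcop (inv_sup ρ hS.1 hT.1)
  have hc1 : IsCompl S (T ⊔ R) := by
    refine ⟨disjoint_iff.mpr ?_, codisjoint_iff.mpr (by rw [← sup_assoc]; exact hRc.sup_eq_top)⟩
    rw [Submodule.eq_bot_iff]
    rintro x ⟨hx1, hx2⟩
    obtain ⟨t, ht, r, hr', rfl⟩ := Submodule.mem_sup.mp hx2
    have hr0 : r = 0 := (Submodule.mem_bot F).mp (hRc.disjoint.eq_bot ▸ ⟨(by
      have := Submodule.add_mem (S ⊔ T) (Submodule.mem_sup_left hx1)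
        (Submodule.neg_mem _ (Submodule.mem_sup_right ht))
      simpa using this), hr'⟩)
    rw [hr0, add_zero] at hx1 ⊢
    exact (Submodule.mem_bot F).mp (hdis ▸ ⟨hx1, ht⟩)
  have hc2 : IsCompl T (S ⊔ R) := by
    refine ⟨disjoint_iff.mpr ?_, codisjoint_iff.mpr (by
      rw [← sup_assoc, sup_comm T S]; exact hRc.sup_eq_top)⟩
    rw [Submodule.eq_bot_iff]
    rintro x ⟨hx1, hx2⟩
    obtain ⟨s, hs, r, hr', rfl⟩ := Submodule.mem_sup.mp hx2
    have hr0 : r = 0 := (Submodule.mem_bot F).mp (hRc.disjoint.eq_bot ▸ ⟨(by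
      have := Submodule.add_mem (S ⊔ T) (Submodule.mem_sup_right hx1)
        (Submodule.neg_mem _ (Submodule.mem_sup_left hs))
      simpa using this), hr'⟩)
    rw [hr0, add_zero] at hx1 ⊢
    exact (Submodule.mem_bot F).mp (hdis ▸ ⟨hs, hx1⟩)
  refine ⟨S ⊔ T, fun e => hS.2.1 (eq_bot_iff.mpr (e ▸ le_sup_left)), inv_sup ρ hS.1 hT.1, ?_,
    Or.inl ?_⟩
  · intro x hx h0
    obtain ⟨s, hs, t, ht, rfl⟩ := Submodule.mem_sup.mp hx
    have ht0 : t = 0 := left_nondeg_of_irr ρ B hBinv hT hS.1 hTS ht fun y hy => by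
      have := h0 y (Submodule.mem_sup_left hy)
      simpa [hBS s hs y hy] using this
    have hs0' : s = 0 := left_nondeg_of_irr ρ B hBinv hS hT.1 hST hs fun y hy => by
      have := h0 y (Submodule.mem_sup_right hy)
      simpa [ht0] using this
    rw [hs0', ht0, add_zero]
  set σ := S.projection (T ⊔ R) hc1
  set τ := T.projection (S ⊔ R) hc2
  let D : LinearMap.BilinForm F V := B.compl₁₂ σ τ
  have eσ : ∀ s ∈ S, ∀ t ∈ T, σ (s + t) = s ∧ τ (s + t) = t := fun s hs t ht => by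
    constructor
    · rw [map_add, ← Submodule.coe_projectionOnto_apply, ← Submodule.coe_projectionOnto_apply,
        Submodule.projectionOnto_apply_of_mem_left hc1 hs,
        (Submodule.projectionOnto_apply_eq_zero_iff hc1).mpr (Submodule.mem_sup_left ht)]
      simp
    · rw [map_add, ← Submodule.coe_projectionOnto_apply, ← Submodule.coe_projectionOnto_apply,
        (Submodule.projectionOnto_apply_eq_zero_iff hc2).mpr (Submodule.mem_sup_left hs),
        Submodule.projectionOnto_apply_of_mem_left hc2 ht]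
      simp
  refine ⟨D - D.flip, fun x _ => by simp, fun g x _ y _ => ?_, ?_⟩
  · have e1 := proj_comm ρ hc1 hS.1 (inv_sup ρ hT.1 hR) g
    have e2 := proj_comm ρ hc2 hT.1 (inv_sup ρ hS.1 hR) g
    simp [D, σ, τ, e1, e2, hBinv]
  · intro x hx h0
    obtain ⟨s, hs, t, ht, rfl⟩ := Submodule.mem_sup.mp hx
    have hs0' : s = 0 := left_nondeg_of_irr ρ B hBinv hS hT.1 hST hs fun y hy => by
      have h' := h0 y (Submodule.mem_sup_right hy)
      have e := eσ 0 S.zero_mem y hy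
      rw [zero_add] at e
      obtain ⟨es, es'⟩ := eσ s hs t ht
      simp only [D, LinearMap.sub_apply, LinearMap.BilinForm.flip_apply, LinearMap.compl₁₂_apply, es, es',
        e] at h'
      simpa using h'
    have ht0 : t = 0 := right_nondeg_of_irr ρ B hBinv hS.1 hT hST ht fun y hy => by
      have h' := h0 y (Submodule.mem_sup_left hy)
      have e := eσ y hy 0 T.zero_mem
      rw [add_zero] at e
      obtain ⟨es, es'⟩ := eσ s hs t ht
      simp only [D, LinearMap.sub_apply, LinearMap.BilinForm.flip_apply, LinearMap.compl₁₂_apply, es, es',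
        e] at h'
      simpa using h'
    rw [hs0', ht0, add_zero]

theorem good_all (p : ℕ) [hp : Fact p.Prime] [CharP F p] [Finite G] (hcop : (Nat.card G : F) ≠ 0) :
    ∀ (n : ℕ) {V : Type w} [AddCommGroup V] [Module F V] [FiniteDimensional F V]
      (ρ : Representation F G V) (B : LinearMap.BilinForm F V),
      Module.finrank F V = n → (∀ x, (∀ y, B x y = 0) → x = 0) →
      (∀ g : G, ∀ x y : V, B (ρ g x) (ρ g y) = B x y) → Good p ρ := by
  intro n
  induction n using Nat.strong_induction_on with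
  | _ n ih =>
    intro V _ _ _ ρ B hn hl hBinv
    classical
    have hr : ∀ y, (∀ x, B x y = 0) → y = 0 := fun y hy => by
      have hinj : Function.Injective B := (injective_iff_map_eq_zero B).mpr fun x hx =>
        hl x fun z => LinearMap.congr_fun hx z
      have hsur := (LinearMap.injective_iff_surjective_of_finrank_eq_finrank
        (Subspace.dual_finrank_eq (K := F) (V := V)).symm).mp hinj
      refine (Module.forall_dual_apply_eq_zero_iff F y).mp fun φ => ?_
      obtain ⟨x, rfl⟩ := hsur φ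
      exact hy x
    by_cases h0 : (⊤ : Submodule F V) = ⊥
    · refine ⟨⊥, ⊤, isCompl_bot_top, fun g u hu => ?_, fun g w _ => trivial, ⟨0, by simp, by simp,
        fun x hx _ => (Submodule.mem_bot F).mp hx⟩, ⟨0, by simp, by simp,
        fun x _ _ => (Submodule.mem_bot F).mp (h0 ▸ Submodule.mem_top)⟩,
        fun _ g w _ => ?_⟩
      · rw [(Submodule.mem_bot F).mp hu, map_zero]; exact zero_mem _
      · have e : ∀ x : V, x = 0 := fun x => (Submodule.mem_bot F).mp (h0 ▸ Submodule.mem_top)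
        rw [e (ρ g w), e w]
    obtain ⟨Y, hY0, hY, hYl, hpiece⟩ := exists_piece p hcop ρ B hl hr hBinv h0
    set Z := lperp B Y with hZdef
    have hZ : Inv ρ Z := inv_lperp ρ B hBinv hY
    have hdisj : Y ⊓ Z = ⊥ := (Submodule.eq_bot_iff _).mpr fun x hx => hYl x hx.1 hx.2
    have hcompl : IsCompl Y Z := by
      refine Submodule.isCompl_iff_disjoint _ _ ?_ |>.mpr (disjoint_iff.mpr hdisj)
      let f : V →ₗ[F] Module.Dual F Y := B.compl₂ Y.subtype
      have hker : LinearMap.ker f ≤ Z := fun x hx y hy =>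
        LinearMap.congr_fun (LinearMap.mem_ker.mp hx) ⟨y, hy⟩
      have h1 := f.finrank_range_add_finrank_ker
      have h2 := (LinearMap.range f).finrank_le
      rw [Subspace.dual_finrank_eq] at h2
      have h3 := Submodule.finrank_mono hker
      omega
    have hlt : Module.finrank F Z < n := by
      rw [← hn]
      refine Submodule.finrank_lt fun e => hY0 ?_
      rw [← hdisj, e, inf_top_eq]
    let ρZ : Representation F G Z :=
      { toFun := fun g => (ρ g).restrict (fun x hx => hZ g x hx)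
        map_one' := LinearMap.ext fun x => Subtype.ext (by
          rw [LinearMap.restrict_coe_apply, map_one]; rfl)
        map_mul' := fun g h => LinearMap.ext fun x => Subtype.ext (by
          rw [LinearMap.restrict_coe_apply, map_mul]; rfl) }
    let BZ : LinearMap.BilinForm F Z := B.compl₁₂ Z.subtype Z.subtype
    obtain ⟨U', W', hUW, hU', hW', ⟨A', hA1, hA2, hA3⟩, ⟨S', hS1, hS2, hS3⟩, htriv⟩ :=
      ih _ hlt ρZ BZ rfl (fun x hx => Subtype.ext (hl x fun v => by
        obtain ⟨a, ha, b, hb, rfl⟩ : ∃ a ∈ Y, ∃ b ∈ Z, a + b = v :=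
          Submodule.mem_sup.mp (hcompl.sup_eq_top ▸ Submodule.mem_top)
        rw [map_add, x.2 a ha, zero_add]
        exact hx ⟨b, hb⟩)) (fun g x y => hBinv g x y)
    set π := Y.projection Z hcompl with hπdef
    set π' := Z.projectionOnto Y hcompl.symm with hπ'def
    have hπc : ∀ g x, π (ρ g x) = ρ g (π x) := proj_comm ρ hcompl hY hZ
    have hπ'c : ∀ g x, π' (ρ g x) = ρZ g (π' x) := fun g x => Subtype.ext (by
      rw [Submodule.coe_projectionOnto_apply, proj_comm ρ hcompl.symm hZ hY]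
      show _ = ρ g ((π' x : Z) : V)
      rw [hπ'def, Submodule.coe_projectionOnto_apply])
    have hval : ∀ y ∈ Y, ∀ z : Z, π (y + z) = y ∧ π' (y + z) = z := fun y hy z => by
      constructor
      · rw [map_add, ← Submodule.coe_projectionOnto_apply, ← Submodule.coe_projectionOnto_apply,
          Submodule.projectionOnto_apply_of_mem_left hcompl hy,
          (Submodule.projectionOnto_apply_eq_zero_iff hcompl).mpr z.2]
        simp
      · rw [map_add, (Submodule.projectionOnto_apply_eq_zero_iff hcompl.symm).mpr hy,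
          Submodule.projectionOnto_apply_of_mem_left hcompl.symm z.2, zero_add]
    have hπmem : ∀ x, π x ∈ Y := fun x => by
      rw [hπdef, ← Submodule.coe_projectionOnto_apply]; exact Submodule.coe_mem _
    set U₀ := U'.map Z.subtype
    set W₀ := W'.map Z.subtype
    have hU₀ : Inv ρ U₀ := by
      rintro g _ ⟨u, hu, rfl⟩
      exact ⟨ρZ g u, hU' g u hu, rfl⟩
    have hW₀ : Inv ρ W₀ := by
      rintro g _ ⟨u, hu, rfl⟩
      exact ⟨ρZ g u, hW' g u hu, rfl⟩
    have hsup : U₀ ⊔ W₀ = Z := by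
      rw [← Submodule.map_sup, hUW.sup_eq_top, Submodule.map_subtype_top]
    have hinf : U₀ ⊓ W₀ = ⊥ := by
      rw [← Submodule.map_inf _ Z.injective_subtype, hUW.disjoint.eq_bot, Submodule.map_bot]
    have hcomp : ∀ P Q : Submodule F V, P ⊔ Q = Z → P ⊓ Q = ⊥ → IsCompl (Y ⊔ P) Q := by
      intro P Q h1 h2
      refine ⟨disjoint_iff.mpr ((Submodule.eq_bot_iff _).mpr ?_),
        codisjoint_iff.mpr (by rw [sup_assoc, h1]; exact hcompl.sup_eq_top)⟩
      rintro x ⟨hx1, hx2⟩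
      obtain ⟨y, hy, q, hq, rfl⟩ := Submodule.mem_sup.mp hx1
      have hPZ : P ≤ Z := h1 ▸ le_sup_left
      have hQZ : Q ≤ Z := h1 ▸ le_sup_right
      have hy0 : y = 0 := (Submodule.mem_bot F).mp (hdisj ▸ ⟨hy, by
        simpa using Z.sub_mem (hQZ hx2) (hPZ hq)⟩)
      rw [hy0, zero_add] at hx2 ⊢
      exact (Submodule.mem_bot F).mp (h2 ▸ ⟨hq, hx2⟩)
    have hz : ∀ z : Z, π z = 0 ∧ π' z = z := fun z => by
      simpa using hval 0 Y.zero_mem z
    rcases hpiece with ⟨A, hA, hAi, hAn⟩ | ⟨⟨S, hS, hSi, hSn⟩, hStriv⟩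
    · refine ⟨Y ⊔ U₀, W₀, hcomp _ _ hsup hinf, inv_sup ρ hY hU₀, hW₀,
        ⟨A.compl₁₂ π π + A'.compl₁₂ π' π', fun x => ?_, fun g x hx y hy => ?_, ?_⟩,
        ⟨S'.compl₁₂ π' π', fun x y => ?_, fun g x hx y hy => ?_, ?_⟩, fun h2 g w hw => ?_⟩
      · simp [hA _ (hπmem x), hA1]
      · obtain ⟨a, ha, _, ⟨u, hu, rfl⟩, rfl⟩ := Submodule.mem_sup.mp hx
        obtain ⟨b, hb, _, ⟨v, hv, rfl⟩, rfl⟩ := Submodule.mem_sup.mp hy
        simp only [LinearMap.add_apply, LinearMap.compl₁₂_apply, hπc, hπ'c]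
        rw [hAi g _ (hπmem _) _ (hπmem _), Submodule.coe_subtype, (hval a ha u).2, (hval b hb v).2,
          hA2 g u hu v hv]
      · intro x hx h0
        obtain ⟨a, ha, _, ⟨u, hu, rfl⟩, rfl⟩ := Submodule.mem_sup.mp hx
        rw [Submodule.coe_subtype] at h0 ⊢
        have h1 : a = 0 := hAn a ha fun y hy => by
          have := h0 y (Submodule.mem_sup_left hy)
          have e := hval y hy 0
          simp only [Submodule.coe_zero, add_zero] at e
          obtain ⟨ea, ea'⟩ := hval a ha u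
          simp only [LinearMap.add_apply, LinearMap.compl₁₂_apply, ea, ea', e] at this
          simpa using this
        have h2 : u = 0 := hA3 u hu fun v hv => by
          have := h0 v (Submodule.mem_sup_right ⟨v, hv, rfl⟩)
          obtain ⟨ea, ea'⟩ := hval a ha u
          simp only [LinearMap.add_apply, LinearMap.compl₁₂_apply, Submodule.coe_subtype, ea, ea', hz] at this
          simpa using this
        rw [h1, h2, Submodule.coe_zero, add_zero]
      · exact hS1 _ _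
      · obtain ⟨u, hu, rfl⟩ := hx
        obtain ⟨v, hv, rfl⟩ := hy
        simp only [LinearMap.compl₁₂_apply, hπ'c]
        rw [Submodule.coe_subtype, (hz u).2, (hz v).2, hS2 g u hu v hv]
      · intro x hx h0
        obtain ⟨u, hu, rfl⟩ := hx
        have : u = 0 := hS3 u hu fun v hv => by
          have := h0 v ⟨v, hv, rfl⟩
          simpa [hz] using this
        rw [this, map_zero]
      · obtain ⟨u, hu, rfl⟩ := hw
        exact congrArg Subtype.val (htriv h2 g u hu)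
    · refine ⟨U₀, Y ⊔ W₀, (hcomp _ _ (by rw [sup_comm, hsup]) (by rw [inf_comm, hinf])).symm, hU₀,
        inv_sup ρ hY hW₀, ⟨A'.compl₁₂ π' π', fun x => hA1 _, fun g x hx y hy => ?_, ?_⟩,
        ⟨S.compl₁₂ π π + S'.compl₁₂ π' π', fun x y => ?_, fun g x hx y hy => ?_, ?_⟩,
        fun h2 g w hw => ?_⟩
      · obtain ⟨u, hu, rfl⟩ := hx
        obtain ⟨v, hv, rfl⟩ := hy
        simp only [LinearMap.compl₁₂_apply, hπ'c]
        rw [Submodule.coe_subtype, (hz u).2, (hz v).2, hA2 g u hu v hv]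
      · intro x hx h0
        obtain ⟨u, hu, rfl⟩ := hx
        have : u = 0 := hA3 u hu fun v hv => by
          have := h0 v ⟨v, hv, rfl⟩
          simpa [hz] using this
        rw [this, map_zero]
      · simp only [LinearMap.add_apply, LinearMap.compl₁₂_apply]
        rw [hS _ (hπmem x) _ (hπmem y), hS1]
      · obtain ⟨a, ha, _, ⟨u, hu, rfl⟩, rfl⟩ := Submodule.mem_sup.mp hx
        obtain ⟨b, hb, _, ⟨v, hv, rfl⟩, rfl⟩ := Submodule.mem_sup.mp hy
        simp only [LinearMap.add_apply, LinearMap.compl₁₂_apply, hπc, hπ'c]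
        rw [hSi g _ (hπmem _) _ (hπmem _), Submodule.coe_subtype, (hval a ha u).2, (hval b hb v).2,
          hS2 g u hu v hv]
      · intro x hx h0
        obtain ⟨a, ha, _, ⟨u, hu, rfl⟩, rfl⟩ := Submodule.mem_sup.mp hx
        rw [Submodule.coe_subtype] at h0 ⊢
        have h1 : a = 0 := hSn a ha fun y hy => by
          have := h0 y (Submodule.mem_sup_left hy)
          have e := hval y hy 0
          simp only [Submodule.coe_zero, add_zero] at e
          obtain ⟨ea, ea'⟩ := hval a ha u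
          simp only [LinearMap.add_apply, LinearMap.compl₁₂_apply, ea, ea', e] at this
          simpa using this
        have h2 : u = 0 := hS3 u hu fun v hv => by
          have := h0 v (Submodule.mem_sup_right ⟨v, hv, rfl⟩)
          obtain ⟨ea, ea'⟩ := hval a ha u
          simp only [LinearMap.add_apply, LinearMap.compl₁₂_apply, Submodule.coe_subtype, ea, ea', hz] at this
          simpa using this
        rw [h1, h2, Submodule.coe_zero, add_zero]
      · obtain ⟨a, ha, _, ⟨u, hu, rfl⟩, rfl⟩ := Submodule.mem_sup.mp hw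
        rw [map_add, hStriv h2 g a ha, Submodule.coe_subtype]
        congr 1
        exact congrArg Subtype.val (htriv h2 g u hu)

end Cfsg.Agent.Block.SelfDual
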