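import Cfsg.Agent.Lib.Grp.LBalance
import Cfsg.Agent.Lib.Grp.ComponentMax
import Cfsg.Agent.Lib.Grp.CoprimeAbelian
import Cfsg.Agent.Lib.Grp.Components
import Cfsg.Agent.Lib.Grp.Cores

/-!
The normal closure of a standard subgroup moved non-trivially by an involution of its centraliser
is semisimple with centre of odd order.
-/

set_option autoImplicit false
set_option linter.style.haveILetI false
set_option linter.unusedSectionVars false

namespace Cfsg.Agent.Block.StandardSemisimple

open scoped commutatorElement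
open Subgroup Cfsg.Agent.Grp

universe u

variable {G : Type u} [Group G] [Finite G]

/-- Two commuting involutions in a subgroup with cyclic Sylow 2-subgroups are equal. -/
theorem eq_of_commute {C : Subgroup G} (hC : ∀ S : Sylow 2 ↥C, IsCyclic ↥(S : Subgroup ↥C))
    {x y : G} (hx : x ∈ C) (hy : y ∈ C) (hx2 : x * x = 1) (hy2 : y * y = 1) (hx1 : x ≠ 1) (hy1 : y ≠ 1)
    (hxy : x * y = y * x) : x = y := by
  classical
  haveI : Fact (Nat.Prime 2) := ⟨Nat.prime_two⟩
  set a : ↥C := ⟨x, hx⟩ with ha
  set b : ↥C := ⟨y, hy⟩ with hb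
  have haa : a * a = 1 := Subtype.ext hx2
  have hbb : b * b = 1 := Subtype.ext hy2
  have hab : a * b = b * a := Subtype.ext hxy
  let P : Subgroup ↥C :=
    { carrier := {z | z = 1 ∨ z = a ∨ z = b ∨ z = a * b}
      one_mem' := Or.inl rfl
      mul_mem' := by
        have h1 : a * (a * b) = b := by rw [← mul_assoc, haa, one_mul]
        have h2 : b * (a * b) = a := by rw [hab, ← mul_assoc, hbb, one_mul]
        have h3 : a * b * a = b := by rw [hab, mul_assoc, haa, mul_one]
        have h4 : a * b * b = a := by rw [mul_assoc, hbb, mul_one]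
        have h5 : a * b * (a * b) = 1 := by rw [mul_assoc, h2, haa]
        intro z w hz hw
        rcases hz with rfl | rfl | rfl | rfl <;> rcases hw with rfl | rfl | rfl | rfl <;>
          simp only [Set.mem_setOf_eq, one_mul, mul_one, haa, hbb, h1, h2, h3, h4, h5, ← hab, true_or,
            or_true, eq_self_iff_true]
      inv_mem' := by
        intro z hz
        rcases hz with rfl | rfl | rfl | rfl
        · simp
        · exact Or.inr (Or.inl (inv_eq_of_mul_eq_one_right haa))
        · exact Or.inr (Or.inr (Or.inl (inv_eq_of_mul_eq_one_right hbb)))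
        · refine Or.inr (Or.inr (Or.inr (inv_eq_of_mul_eq_one_right ?_)))
          calc a * b * (a * b) = a * (b * a) * b := by group
            _ = a * (a * b) * b := by rw [hab]
            _ = (a * a) * (b * b) := by group
            _ = 1 := by rw [haa, hbb, one_mul] }
  have hP : IsPGroup 2 ↥P := fun z => ⟨1, Subtype.ext (by
    show (z : ↥C) ^ (2 ^ 1) = 1
    rw [pow_one, pow_two]
    rcases z.2 with e | e | e | e <;> rw [e]
    · simp
    · exact haa
    · exact hbb
    · calc a * b * (a * b) = a * (b * a) * b := by group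
        _ = a * (a * b) * b := by rw [hab]
        _ = (a * a) * (b * b) := by group
        _ = 1 := by rw [haa, hbb, one_mul])⟩
  obtain ⟨S, hS⟩ := hP.exists_le_sylow
  haveI := hC S
  letI : Fintype ↥(S : Subgroup ↥C) := Fintype.ofFinite _
  have h2 := IsCyclic.card_pow_eq_one_le (α := ↥(S : Subgroup ↥C)) (n := 2) two_pos
  by_contra hne
  have haS : a ∈ (S : Subgroup ↥C) := hS (Or.inr (Or.inl rfl))
  have hbS : b ∈ (S : Subgroup ↥C) := hS (Or.inr (Or.inr (Or.inl rfl)))
  have hsub : ({1, ⟨a, haS⟩, ⟨b, hbS⟩} : Finset ↥(S : Subgroup ↥C)) ⊆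
      Finset.univ.filter fun z => z ^ 2 = 1 := by
    intro z hz
    simp only [Finset.mem_insert, Finset.mem_singleton] at hz
    refine Finset.mem_filter.2 ⟨Finset.mem_univ _, ?_⟩
    rcases hz with rfl | rfl | rfl
    · simp
    · exact Subtype.ext (by show a ^ 2 = 1; rw [pow_two, haa])
    · exact Subtype.ext (by show b ^ 2 = 1; rw [pow_two, hbb])
  have h3 := (Finset.card_le_card hsub).trans h2
  have hna : (1 : ↥(S : Subgroup ↥C)) ≠ ⟨a, haS⟩ := fun e => hx1 (congrArg Subtype.val (congrArg Subtype.val e)).symm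
  have hnb : (1 : ↥(S : Subgroup ↥C)) ≠ ⟨b, hbS⟩ := fun e => hy1 (congrArg Subtype.val (congrArg Subtype.val e)).symm
  have hnab : (⟨a, haS⟩ : ↥(S : Subgroup ↥C)) ≠ ⟨b, hbS⟩ := fun e => hne (congrArg Subtype.val (congrArg Subtype.val e))
  rw [Finset.card_insert_of_notMem (by simp [hna, hnb]), Finset.card_insert_of_notMem (by simp [hnab]),
    Finset.card_singleton] at h3
  omega

set_option maxHeartbeats 4000000 in
/-- The main statement. -/
theorem main {A : Subgroup G} (hA : Cfsg.IsStandardSubgroup A)
    (hcyc : ∀ S : Sylow 2 ↥(centralizer (A : Set G)), IsCyclic ↥(S : Subgroup ↥(centralizer (A : Set G))))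
    {t : G} (ht : orderOf t = 2) (htA : t ∈ centralizer (A : Set G))
    {R : Subgroup G} (hRX : R ≤ normalClosure (A : Set G))
    (hc1 : ⁅R, zpowers t⁆ ≠ ⊥) (hc2 : ⁅R, zpowers t⁆ ≤ A) :
    Cfsg.layer ↥(normalClosure (A : Set G)) = ⊤ ∧
      Odd (Nat.card ↥(Subgroup.center ↥(normalClosure (A : Set G)))) := by
  classical
  haveI : Fact (Nat.Prime 2) := ⟨Nat.prime_two⟩
  obtain ⟨hq, htight, -, hNC⟩ := hA
  set C := centralizer (A : Set G) with hCd
  set X := normalClosure (A : Set G) with hXd
  haveI hXn : X.Normal := normalClosure_normal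
  set W := Cfsg.pPrimeCore 2 G with hWd
  haveI hWn : W.Normal := pPrimeCore_isNormal
  have hWodd : ¬ 2 ∣ Nat.card ↥W := pPrimeCore_not_dvd
  have ht2 : t * t = 1 := by rw [← pow_two, ← ht, pow_orderOf_eq_one]
  have ht1 : t ≠ 1 := fun e => by rw [e, orderOf_one] at ht; omega
  have htc : ∀ a ∈ A, a * t = t * a := fun a ha => mem_centralizer_iff.1 htA a ha
  have hCt : centralizer ({t} : Set G) ≤ normalizer (A : Set G) := by
    intro g hg
    rw [hNC]
    by_contra h
    have h2 := htight.2 g h
    have hgt : g * t = t * g := mem_centralizer_singleton_iff.1 hg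
    have hm : t ∈ C ⊓ C.map (MulAut.conj g).toMonoidHom :=
      ⟨htA, t, htA, by
        show g * t * g⁻¹ = t
        rw [hgt, mul_inv_cancel_right]⟩
    have h3 := orderOf_dvd_natCard (⟨t, hm⟩ : ↥(C ⊓ C.map (MulAut.conj g).toMonoidHom))
    rw [Subgroup.orderOf_mk, ht] at h3
    exact Nat.not_even_iff_odd.2 h2 (even_iff_two_dvd.2 h3)
  have hAt : A ≤ centralizer ({t} : Set G) := fun a ha => mem_centralizer_singleton_iff.2 (htc a ha)
  haveI hAn : (A.subgroupOf (centralizer ({t} : Set G))).Normal :=
    (normal_subgroupOf_iff_le_normalizer hAt).2 hCt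
  have hcomp : Cfsg.IsComponent (A.subgroupOf (centralizer ({t} : Set G))) :=
    ⟨hAn.isSubnormal, (isQuasisimple_subgroupOf_iff hAt).2 hq⟩
  -- the commutators with `t`
  have ha : ∀ r ∈ R, r * t * r⁻¹ * t⁻¹ ∈ A := fun r hr => hc2 (commutator_mem_commutator hr (mem_zpowers t))
  have hti : t⁻¹ = t := inv_eq_of_mul_eq_one_right ht2
  have hinv : ∀ r ∈ R, (r * t * r⁻¹ * t⁻¹) * (r * t * r⁻¹ * t⁻¹) = 1 := fun r hr => by
    set a := r * t * r⁻¹ * t⁻¹ with had
    have h1 : a * t = r * t * r⁻¹ := by rw [had, inv_mul_cancel_right]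
    have h2 : (a * t) * (a * t) = 1 := by
      rw [h1]
      calc r * t * r⁻¹ * (r * t * r⁻¹) = r * (t * t) * r⁻¹ := by group
        _ = 1 := by rw [ht2, mul_one, mul_inv_cancel]
    calc a * a = a * a * (t * t) := by rw [ht2, mul_one]
      _ = a * (a * t) * t := by group
      _ = a * (t * a) * t := by rw [htc a (ha r hr)]
      _ = (a * t) * (a * t) := by group
      _ = 1 := h2
  obtain ⟨r₀, hr₀, hr₀1⟩ : ∃ r ∈ R, r * t * r⁻¹ * t⁻¹ ≠ 1 := by
    by_contra h
    push Not at h
    refine hc1 (commutator_eq_bot_iff_le_centralizer.2 fun r hr => ?_)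
    have h1 : r * t = t * r := by
      have := h r hr
      calc r * t = (r * t * r⁻¹ * t⁻¹) * (t * r) := by group
        _ = t * r := by rw [this, one_mul]
    refine mem_centralizer_iff.2 fun y hy => ?_
    obtain ⟨k, rfl⟩ := mem_zpowers_iff.1 hy
    exact ((Commute.symm (h1 : Commute r t)).zpow_left k).eq
  set a := r₀ * t * r₀⁻¹ * t⁻¹ with had
  have haA : a ∈ A := ha r₀ hr₀
  have hat : a * t = t * a := htc a haA
  have ha2 : a * a = 1 := hinv r₀ hr₀
  have heven : 2 ∣ Nat.card ↥A := by
    have h1 : orderOf a = 2 := orderOf_eq_prime (by rw [pow_two, ha2]) hr₀1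
    have h2 := orderOf_dvd_natCard (⟨a, haA⟩ : ↥A)
    rwa [Subgroup.orderOf_mk, h1] at h2
  -- `A` lies in the 2-layer
  have hcz : centralizer ((zpowers t : Subgroup G) : Set G) = centralizer ({t} : Set G) := by
    rw [zpowers_eq_closure, centralizer_closure]
  have hAL : A ≤ Cfsg.pLayer 2 G := by
    have hP : IsPGroup 2 ↥(zpowers t) := IsPGroup.of_card (n := 1) (by rw [Nat.card_zpowers, ht, pow_one])
    have h1 := lBalance hP
    rw [hcz] at h1
    refine le_trans ?_ h1
    intro x hx
    refine ⟨⟨x, hAt hx⟩, ComponentMax.component_le_pLayer hcomp ?_ hx, rfl⟩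
    rwa [Nat.card_congr (subgroupOfEquivOfLe hAt).toEquiv]
  -- `A` centralises the core
  have hAW : ∀ x ∈ A, ∀ w ∈ W, w * t = t * w → x * w = w * x := by
    rcases component_le_or_commute hcomp
      (inferInstance : (W.subgroupOf (centralizer ({t} : Set G))).Normal).isSubnormal with h | h
    · exfalso
      have h' : A ≤ W := fun x hx => mem_subgroupOf.1
        (h (show (⟨x, hAt hx⟩ : ↥(centralizer ({t} : Set G))) ∈
          A.subgroupOf (centralizer ({t} : Set G)) from hx))
      have h1 := card_dvd_of_le h'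
      exact hWodd (heven.trans h1)
    · intro x hx w hw hwt
      have h1 := (commutator_eq_bot_iff_le_centralizer.1 h)
        (show (⟨x, hAt hx⟩ : ↥(centralizer ({t} : Set G))) ∈ A.subgroupOf (centralizer ({t} : Set G)) from hx)
      exact (congrArg Subtype.val (mem_centralizer_iff.1 h1
        ⟨w, mem_centralizer_singleton_iff.2 hwt⟩ hw)).symm
  set t' := r₀ * t * r₀⁻¹ with ht'
  have hat' : a * t = t' := by rw [had, inv_mul_cancel_right]
  clear_value a t'
  -- same fixed points
  have hfix : ∀ w ∈ W, w * t' = t' * w → w * t = t * w := by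
    let P := W ⊓ centralizer ({t} : Set G)
    let Q := W ⊓ centralizer ({t'} : Set G)
    have hPQ : P ≤ Q := by
      intro w hw
      refine ⟨hw.1, mem_centralizer_singleton_iff.2 ?_⟩
      have hwt : w * t = t * w := mem_centralizer_singleton_iff.1 hw.2
      have h1 := hAW a haA w hw.1 hwt
      rw [← hat']
      calc w * (a * t) = (w * a) * t := (mul_assoc _ _ _).symm
        _ = a * w * t := by rw [h1]
        _ = a * (t * w) := by rw [mul_assoc, hwt]
        _ = a * t * w := (mul_assoc _ _ _).symm
    have hmap : P.map (MulAut.conj r₀).toMonoidHom = Q := by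
      refine le_antisymm ?_ ?_
      · rintro _ ⟨w, hw, rfl⟩
        refine ⟨hWn.conj_mem w hw.1 r₀, mem_centralizer_singleton_iff.2 ?_⟩
        have hwt : w * t = t * w := mem_centralizer_singleton_iff.1 hw.2
        show r₀ * w * r₀⁻¹ * t' = t' * (r₀ * w * r₀⁻¹)
        calc r₀ * w * r₀⁻¹ * t' = r₀ * (w * t) * r₀⁻¹ := by rw [ht']; group
          _ = r₀ * (t * w) * r₀⁻¹ := by rw [hwt]
          _ = t' * (r₀ * w * r₀⁻¹) := by rw [ht']; group
      · intro w hw
        have hwt : w * t' = t' * w := mem_centralizer_singleton_iff.1 hw.2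
        refine ⟨r₀⁻¹ * w * r₀, ⟨by simpa using hWn.conj_mem w hw.1 r₀⁻¹,
          mem_centralizer_singleton_iff.2 ?_⟩, by show r₀ * (r₀⁻¹ * w * r₀) * r₀⁻¹ = w; group⟩
        calc r₀⁻¹ * w * r₀ * t = r₀⁻¹ * (w * t') * r₀ := by rw [ht']; group
          _ = r₀⁻¹ * (t' * w) * r₀ := by rw [hwt]
          _ = t * (r₀⁻¹ * w * r₀) := by rw [ht']; group
    have heq : P = Q := eq_of_le_of_card_ge hPQ (le_of_eq (by
      rw [← hmap, card_map_of_injective (MulAut.conj r₀).injective]))
    intro w hw h
    exact mem_centralizer_singleton_iff.1 (heq.ge ⟨hw, mem_centralizer_singleton_iff.2 h⟩ : w ∈ P).2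
  have haW : ∀ w ∈ W, a * w = w * a := by
    let V : Subgroup G :=
      { carrier := {z | z = 1 ∨ z = a ∨ z = t ∨ z = a * t}
        one_mem' := Or.inl rfl
        mul_mem' := by
          have h1 : a * (a * t) = t := by rw [← mul_assoc, ha2, one_mul]
          have h2 : t * (a * t) = a := by rw [hat, ← mul_assoc, ht2, one_mul]
          have h3 : a * t * a = t := by rw [hat, mul_assoc, ha2, mul_one]
          have h4 : a * t * t = a := by rw [mul_assoc, ht2, mul_one]
          have h5 : a * t * (a * t) = 1 := by rw [mul_assoc, h2, ha2]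
          intro z w hz hw
          rcases hz with rfl | rfl | rfl | rfl <;> rcases hw with rfl | rfl | rfl | rfl <;>
            simp only [Set.mem_setOf_eq, one_mul, mul_one, ha2, ht2, h1, h2, h3, h4, h5, ← hat, true_or,
              or_true, eq_self_iff_true]
        inv_mem' := by
          intro z hz
          rcases hz with rfl | rfl | rfl | rfl
          · simp
          · exact Or.inr (Or.inl (inv_eq_of_mul_eq_one_right ha2))
          · exact Or.inr (Or.inr (Or.inl hti))
          · exact Or.inr (Or.inr (Or.inr (by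
              rw [mul_inv_rev, hti, inv_eq_of_mul_eq_one_right ha2, hat]))) }
    have hVm : ∀ v ∈ V, v = 1 ∨ v = a ∨ v = t ∨ v = a * t := fun v hv => hv
    haveI : IsMulCommutative ↥V := ⟨⟨fun x y => Subtype.ext (by
      show (x : G) * y = y * x
      have hc1 : a * (a * t) = a * t * a := by rw [mul_assoc, ← hat]
      have hc2 : t * (a * t) = a * t * t := by rw [← mul_assoc, ← hat]
      rcases hVm x x.2 with e | e | e | e <;> rcases hVm y y.2 with e' | e' | e' | e' <;> rw [e, e'] <;>
        first
          | rfl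
          | simp only [one_mul, mul_one]
          | exact hat
          | exact hat.symm
          | exact hc1
          | exact hc1.symm
          | exact hc2
          | exact hc2.symm)⟩⟩
    have hnc : ¬ IsCyclic ↥V := by
      intro hcy
      letI : Fintype ↥V := Fintype.ofFinite _
      have h2 := IsCyclic.card_pow_eq_one_le (α := ↥V) (n := 2) two_pos
      let ea : ↥V := ⟨a, Or.inr (Or.inl rfl)⟩
      let et : ↥V := ⟨t, Or.inr (Or.inr (Or.inl rfl))⟩
      have hsub : ({1, ea, et} : Finset ↥V) ⊆ Finset.univ.filter fun z => z ^ 2 = 1 := by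
        intro z hz
        simp only [Finset.mem_insert, Finset.mem_singleton] at hz
        refine Finset.mem_filter.2 ⟨Finset.mem_univ _, ?_⟩
        rcases hz with rfl | rfl | rfl
        · simp
        · exact Subtype.ext (by show a ^ 2 = 1; rw [pow_two, ha2])
        · exact Subtype.ext (by show t ^ 2 = 1; rw [pow_two, ht2])
      have h3 := (Finset.card_le_card hsub).trans h2
      have hna : (1 : ↥V) ≠ ea := fun e => hr₀1 (congrArg Subtype.val e).symm
      have hnb : (1 : ↥V) ≠ et := fun e => ht1 (congrArg Subtype.val e).symm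
      have hnab : ea ≠ et := fun e => by
        have e' : a = t := congrArg Subtype.val e
        have : t' = 1 := by rw [← hat', e', ht2]
        exact ht1 (by simpa [ht'] using this)
      rw [Finset.card_insert_of_notMem (by simp [hna, hnb]), Finset.card_insert_of_notMem (by simp [hnab]),
        Finset.card_singleton] at h3
      omega
    have hV2 : IsPGroup 2 ↥V := fun v => ⟨1, Subtype.ext (by
      show (v : G) ^ (2 ^ 1) = 1
      rw [pow_one, pow_two]
      rcases hVm v v.2 with e | e | e | e <;> rw [e]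
      · simp
      · exact ha2
      · exact ht2
      · rw [mul_assoc, ← mul_assoc t, ← hat, mul_assoc a t, ht2, mul_one, ha2])⟩
    have hcop : (Nat.card ↥V).Coprime (Nat.card ↥W) := by
      obtain ⟨n, hn⟩ := IsPGroup.iff_card.1 hV2
      rw [hn]
      exact Nat.Coprime.pow_left n (Nat.prime_two.coprime_iff_not_dvd.2 hWodd)
    have hgen := generated_by_centralizers V W hnc (le_top.trans (normalizer_eq_top (H := W)).ge) hcop
    intro w hw
    have hle : (⨆ v ∈ {v : G | v ∈ V ∧ v ≠ 1}, W ⊓ centralizer {v}) ≤ centralizer ({a} : Set G) := by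
      refine iSup₂_le fun v hv => ?_
      rintro x ⟨hxW, hxv⟩
      have hxv' : x * v = v * x := mem_centralizer_singleton_iff.1 hxv
      refine mem_centralizer_singleton_iff.2 ?_
      rcases hVm v hv.1 with rfl | rfl | rfl | rfl
      · exact absurd rfl hv.2
      · exact hxv'
      · exact (hAW a haA x hxW hxv').symm
      · exact (hAW a haA x hxW (hfix x hxW (hat' ▸ hxv'))).symm
    exact (mem_centralizer_singleton_iff.1 (hle (hgen.ge hw))).symm
  have hAcW : A ≤ centralizer (W : Set G) := by
    set K := centralizer (W : Set G) with hKd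
    haveI : K.Normal := Cfsg.Agent.Grp.centralizer_normal' W
    rcases IsQuasisimple.eq_top_or_le_center hq (K.subgroupOf A) with e | e
    · exact subgroupOf_eq_top.1 e
    · exfalso
      have haZ : (⟨a, haA⟩ : ↥A) ∈ center ↥A := e (mem_centralizer_iff.2 fun w hw => (haW w hw).symm)
      have haC : a ∈ C := mem_centralizer_iff.2 fun y hy =>
        congrArg Subtype.val (mem_center_iff.1 haZ ⟨y, hy⟩)
      have e1 : a = t := eq_of_commute hcyc haC htA ha2 ht2 hr₀1 ht1 hat
      have : t' = 1 := by rw [← hat', e1, ht2]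
      exact ht1 (by simpa [ht'] using this)
  have hXW : X ≤ centralizer (W : Set G) := by
    haveI : (centralizer (W : Set G)).Normal := Cfsg.Agent.Grp.centralizer_normal' W
    exact normalClosure_le_normal hAcW
  have hXL : X ≤ Cfsg.pLayer 2 G := by
    haveI := pLayer_normal (p := 2) (G := G)
    exact normalClosure_le_normal hAL
  have hAp : ⁅A, A⁆ = A := Subgroup.isPerfect_iff.mp hq.1
  have hXp : ⁅X, X⁆ = X := by
    refine le_antisymm (commutator_le_self X) ?_
    exact normalClosure_le_normal (hAp.ge.trans (commutator_mono le_normalClosure le_normalClosure))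
  -- the 2-components inside `X`
  set Y := ⨆ K ∈ {K : Subgroup G | Cfsg.IsPComponent 2 K ∧ K ≤ X}, K with hYd
  have hYX : Y ≤ X := iSup₂_le fun K hK => hK.2
  have hWX : ∀ x ∈ X, ∀ w ∈ W, w * x = x * w := fun x hx => mem_centralizer_iff.1 (hXW hx)
  have hYn : Y.Normal := by
    refine ⟨fun y hy g => ?_⟩
    have h1 : Y.map (MulAut.conj g).toMonoidHom ≤ Y := by
      rw [hYd, Subgroup.map_iSup]
      refine iSup_le fun K => ?_
      rw [Subgroup.map_iSup]
      refine iSup_le fun hK => le_iSup₂_of_le (K.map (MulAut.conj g).toMonoidHom) ?_ le_rfl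
      refine ⟨?_, ?_⟩
      · rw [map_conj_eq_smul]; exact IsPComponent.conj hK.1 g
      · rintro _ ⟨x, hx, rfl⟩
        exact hXn.conj_mem x (hK.2 hx) g
    exact h1 ⟨y, hy, rfl⟩
  have hXY : X = Y := by
    refine le_antisymm ?_ hYX
    set Z := Y ⊔ (X ⊓ W) with hZd
    haveI := hYn
    haveI : (X ⊓ W).Normal := Subgroup.normal_inf_normal X W
    have hXLZ : ⁅X, Cfsg.pLayer 2 G⁆ ≤ Z := by
      haveI : Z.Normal := Subgroup.sup_normal _ _
      rw [commutator_comm, commutator_le]
      intro l hl x hx
      have h2 : Cfsg.pLayer 2 G ≤ (centralizer ((X.map (QuotientGroup.mk' Z) : Subgroup (G ⧸ Z)) : Set (G ⧸ Z))).comap (QuotientGroup.mk' Z) := by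
        refine sSup_le fun K hK k hk => ?_
        rw [mem_comap, mem_centralizer_iff]
        rintro _ ⟨y, hy, rfl⟩
        rcases pComponent_le_or_commute hK X with h | h
        · have hkZ : (QuotientGroup.mk' Z) k = 1 := (QuotientGroup.eq_one_iff k).2
            (mem_sup_left ((le_iSup₂ (f := fun (K : Subgroup G) (_ : K ∈ {K : Subgroup G | Cfsg.IsPComponent 2 K ∧ K ≤ X}) => K) K ⟨hK, h⟩) hk))
          rw [hkZ, one_mul, mul_one]
        · have hm : ⁅k, y⁆ ∈ Z := mem_sup_right ⟨by
              rw [commutatorElement_def]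
              exact X.mul_mem (hXn.conj_mem y hy k) (X.inv_mem hy), h k hk y hy⟩
          have := (QuotientGroup.eq_one_iff ⁅k, y⁆).2 hm
          change (QuotientGroup.mk' Z) ⁅k, y⁆ = 1 at this
          rw [map_commutatorElement, commutatorElement_eq_one_iff_mul_comm] at this
          exact this.symm
      have h3 := mem_centralizer_iff.1 (h2 hl) _ (mem_map_of_mem _ hx)
      refine (QuotientGroup.eq_one_iff _).1 ?_
      show (QuotientGroup.mk' Z) ⁅l, x⁆ = 1
      rw [map_commutatorElement, commutatorElement_eq_one_iff_mul_comm]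
      exact h3.symm
    have hXZ : X ≤ Z := hXp.ge.trans ((commutator_mono le_rfl hXL).trans hXLZ)
    have h1 : ⁅Z, Z⁆ ≤ Y := by
      rw [commutator_le]
      intro u hu v hv
      obtain ⟨y, hy, z, hz, rfl⟩ := mem_sup_of_normal_right.1 hu
      obtain ⟨y', hy', z', hz', rfl⟩ := mem_sup_of_normal_right.1 hv
      have e1 : z * y' = y' * z := hWX y' (hYX hy') z hz.2
      have e2 : z' * y = y * z' := hWX y (hYX hy) z' hz'.2
      have e3 : z * z' = z' * z := hWX z' hz'.1 z hz.2
      have : ⁅y * z, y' * z'⁆ = ⁅y, y'⁆ := by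
        simp only [commutatorElement_def]
        calc y * z * (y' * z') * (y * z)⁻¹ * (y' * z')⁻¹
            = y * (z * y') * z' * z⁻¹ * y⁻¹ * z'⁻¹ * y'⁻¹ := by group
          _ = y * y' * (z * z') * z⁻¹ * y⁻¹ * z'⁻¹ * y'⁻¹ := by rw [e1]; group
          _ = y * y' * (z' * y⁻¹) * z'⁻¹ * y'⁻¹ := by rw [e3]; group
          _ = y * y' * (y⁻¹ * (y * z') * y⁻¹) * z'⁻¹ * y'⁻¹ := by group
          _ = y * y' * y⁻¹ * y'⁻¹ := by rw [← e2]; group
      rw [this, commutatorElement_def]
      exact Y.mul_mem (Y.mul_mem (Y.mul_mem hy hy') (Y.inv_mem hy)) (Y.inv_mem hy')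
    exact hXp.ge.trans ((commutator_mono hXZ hXZ).trans h1)
  refine ⟨?_, ?_⟩
  · rw [eq_top_iff]
    intro x _
    have hmain : X ≤ (Cfsg.layer ↥X).map X.subtype := by
      refine le_of_eq_of_le hXY (iSup₂_le fun K hK => ?_)
      obtain ⟨⟨hKs, hKc, hmin⟩, hKX⟩ := hK
      have hKq : Cfsg.IsQuasisimple ↥K := by
        haveI : Nontrivial ↥(K.map (QuotientGroup.mk' W)) :=
          (Subgroup.nontrivial_iff_ne_bot _).2 (IsComponent.ne_bot hKc)
        haveI : Nontrivial ↥K := (MonoidHom.subgroupMap_surjective (QuotientGroup.mk' W) K).nontrivial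
        have hperf : ⁅K, K⁆ = K := IsPComponent.perfect ⟨hKs, hKc, hmin⟩
        haveI : Group.IsPerfect ↥K := Subgroup.isPerfect_iff.2 hperf
        refine isQuasisimple_of inferInstance fun N hN => ?_
        set g := (QuotientGroup.mk' W).subgroupMap K with hg
        have hgs : Function.Surjective g := MonoidHom.subgroupMap_surjective _ K
        have hker : g.ker ≤ center ↥K := fun k hk => mem_center_iff.2 fun l => Subtype.ext (by
          have hkW : (k : G) ∈ W := (QuotientGroup.eq_one_iff (k : G)).1 (congrArg Subtype.val hk)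
          exact (hWX l (hKX l.2) k hkW).symm)
        haveI : (N.map g).Normal := hN.map g hgs
        rcases IsQuasisimple.eq_top_or_le_center hKc.2 (N.map g) with e | e
        · left
          have h1 : N ⊔ center ↥K = ⊤ := by
            rw [eq_top_iff]
            intro k _
            obtain ⟨n, hn, hnk⟩ := (e ▸ mem_top (g k) : g k ∈ N.map g)
            have h2 : n⁻¹ * k ∈ g.ker := by rw [MonoidHom.mem_ker, map_mul, map_inv, hnk, inv_mul_cancel]
            have h3 := (N ⊔ center ↥K).mul_mem (mem_sup_left hn) (mem_sup_right (hker h2))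
            rwa [mul_inv_cancel_left] at h3
          have h2 : commutator ↥K ≤ N := by
            refine commutator_le.2 fun u _ v _ => ?_
            obtain ⟨y, hy, z, hz, rfl⟩ := mem_sup_of_normal_right.1 (h1 ▸ mem_top u : u ∈ N ⊔ center ↥K)
            obtain ⟨y', hy', z', hz', rfl⟩ := mem_sup_of_normal_right.1 (h1 ▸ mem_top v : v ∈ N ⊔ center ↥K)
            have e1 := mem_center_iff.1 hz y'
            have e2 := mem_center_iff.1 hz' y
            have e3 := mem_center_iff.1 hz z'
            have : ⁅y * z, y' * z'⁆ = ⁅y, y'⁆ := by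
              simp only [commutatorElement_def]
              calc y * z * (y' * z') * (y * z)⁻¹ * (y' * z')⁻¹
                  = y * (z * y') * z' * z⁻¹ * y⁻¹ * z'⁻¹ * y'⁻¹ := by group
                _ = y * y' * (z * z') * z⁻¹ * y⁻¹ * z'⁻¹ * y'⁻¹ := by rw [← e1]; group
                _ = y * y' * (z' * y⁻¹) * z'⁻¹ * y'⁻¹ := by rw [← e3]; group
                _ = y * y' * (y⁻¹ * (y * z') * y⁻¹) * z'⁻¹ * y'⁻¹ := by group
                _ = y * y' * y⁻¹ * y'⁻¹ := by rw [e2]; group
            rw [this, commutatorElement_def]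
            exact N.mul_mem (N.mul_mem (N.mul_mem hy hy') (N.inv_mem hy)) (N.inv_mem hy')
          rw [eq_top_iff, ← Group.IsPerfect.commutator_eq_top (G := ↥K)]
          exact h2
        · right
          intro n hn
          have hc : ∀ k : ↥K, ⁅k, n⁆ ∈ center ↥K := fun k => hker (by
            rw [MonoidHom.mem_ker, map_commutatorElement, commutatorElement_eq_one_iff_mul_comm]
            exact mem_center_iff.1 (e (mem_map_of_mem g hn)) (g k))
          let φ : ↥K →* ↥(center ↥K) :=
            { toFun := fun k => ⟨⁅k, n⁆, hc k⟩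
              map_one' := Subtype.ext (by simp)
              map_mul' := fun k l => Subtype.ext (by
                have hl := mem_center_iff.1 (hc l)
                show ⁅k * l, n⁆ = ⁅k, n⁆ * ⁅l, n⁆
                calc ⁅k * l, n⁆ = k * ⁅l, n⁆ * k⁻¹ * ⁅k, n⁆ := by simp only [commutatorElement_def]; group
                  _ = ⁅l, n⁆ * ⁅k, n⁆ := by rw [hl k, mul_inv_cancel_right]
                  _ = ⁅k, n⁆ * ⁅l, n⁆ := (hl _).symm) }
          refine mem_center_iff.2 fun k => commutatorElement_eq_one_iff_mul_comm.1 ?_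
          have h1 : φ k = 1 := by
            have h2 : commutator ↥K ≤ φ.ker := commutator_le.2 fun u _ v _ => by
              rw [MonoidHom.mem_ker, map_commutatorElement, commutatorElement_eq_one_iff_mul_comm]
              exact Subtype.ext (mem_center_iff.1 (φ v).2 _)
            exact h2 (Group.IsPerfect.commutator_eq_top (G := ↥K) ▸ mem_top k)
          exact congrArg Subtype.val h1
      intro k hk
      exact ⟨⟨k, hKX hk⟩, IsComponent.le_layer
        (IsComponent.subgroupOf ⟨hKs, hKq⟩ hKX) hk, rfl⟩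
    obtain ⟨y, hy, hyx⟩ := hmain x.2
    rwa [← Subtype.ext hyx]
  · by_contra hodd
    rw [Nat.not_odd_iff_even, even_iff_two_dvd] at hodd
    obtain ⟨⟨⟨z, hzX⟩, hzc⟩, hzo⟩ := exists_prime_orderOf_dvd_card' 2 hodd
    have hzc' : ∀ x ∈ X, x * z = z * x := fun x hx => congrArg Subtype.val (mem_center_iff.1 hzc ⟨x, hx⟩)
    rw [Subgroup.orderOf_mk, Subgroup.orderOf_mk] at hzo
    have hz2 : z * z = 1 := by rw [← pow_two, ← hzo, pow_orderOf_eq_one]
    have hz1 : z ≠ 1 := fun e => by rw [e, orderOf_one] at hzo; omega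
    obtain ⟨z₀, hz₀X, hz₀c, hz₀2, hz₀1, hz₀t⟩ : ∃ z₀ ∈ X, (∀ x ∈ X, x * z₀ = z₀ * x) ∧ z₀ * z₀ = 1 ∧
        z₀ ≠ 1 ∧ z₀ * t = t * z₀ := by
      by_cases h : z * t = t * z
      · exact ⟨z, hzX, hzc', hz2, hz1, h⟩
      set z' := t * z * t⁻¹ with hz'
      have hz'X : z' ∈ X := hXn.conj_mem z hzX t
      have hz'c : ∀ x ∈ X, x * z' = z' * x := fun x hx => by
        have h1 := hzc' (t⁻¹ * x * t) (by simpa using hXn.conj_mem x hx t⁻¹)
        calc x * z' = t * ((t⁻¹ * x * t) * z) * t⁻¹ := by rw [hz']; group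
          _ = t * (z * (t⁻¹ * x * t)) * t⁻¹ := by rw [h1]
          _ = z' * x := by rw [hz']; group
      have hc : z * z' = z' * z := hz'c z hzX
      refine ⟨z * z', X.mul_mem hzX hz'X, fun x hx => ?_, ?_, fun e => h ?_, ?_⟩
      · calc x * (z * z') = x * z * z' := (mul_assoc _ _ _).symm
          _ = z * (x * z') := by rw [hzc' x hx, mul_assoc]
          _ = z * z' * x := by rw [hz'c x hx]; exact (mul_assoc _ _ _).symm
      · calc z * z' * (z * z') = z * (z' * z) * z' := by group
          _ = (z * z) * (z' * z') := by rw [← hc]; group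
          _ = 1 := by
            rw [hz2, one_mul, hz']
            calc t * z * t⁻¹ * (t * z * t⁻¹) = t * (z * z) * t⁻¹ := by group
              _ = 1 := by rw [hz2, mul_one, mul_inv_cancel]
      · have e' : z' = z := (inv_eq_of_mul_eq_one_right e).symm.trans (inv_eq_of_mul_eq_one_right hz2)
        conv_lhs => rw [← e']
        rw [hz', inv_mul_cancel_right]
      · have e1 : t * z' = z * t := by
          rw [hz', hti]
          calc t * (t * z * t) = (t * t) * z * t := by group
            _ = z * t := by rw [ht2, one_mul]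
        have e2 : t * z = z' * t := by rw [hz', inv_mul_cancel_right]
        calc z * z' * t = z * (t * z) := by rw [mul_assoc, ← e2]
          _ = t * z' * z := by rw [← mul_assoc, ← e1]
          _ = t * (z * z') := by rw [mul_assoc, ← hc]
    have hz₀C : z₀ ∈ C := mem_centralizer_iff.2 fun x hx => hz₀c x (subset_normalClosure hx)
    have e1 : z₀ = t := eq_of_commute hcyc hz₀C htA hz₀2 ht2 hz₀1 ht1 hz₀t
    refine hr₀1 ?_
    have h1 := hz₀c r₀ (hRX hr₀)
    rw [e1] at h1
    rw [had, ht', h1, mul_inv_cancel_right, mul_inv_cancel]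

end Cfsg.Agent.Block.StandardSemisimple
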