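import Cfsg.Agent.Lib.Block.SeparatedBlocks
import Cfsg.Agent.Lib.Block.Elementary
import Cfsg.Agent.Lib.Block.FirstMain

/-!
# The number of blocks with a Sylow subgroup as defect group
-/

set_option autoImplicit false
set_option linter.style.haveILetI false

open Cfsg

namespace Cfsg.Agent.Block

universe u

variable {G : Type u} [Group G] [Finite G] {p : ℕ} [Fact p.Prime] {M : Ideal AlgInt}

theorem le_of_isPGroup_normal_sylow {D : Subgroup G} [D.Normal] (hDp : IsPGroup p D)
    (hidx : ¬ p ∣ D.index) {Q : Subgroup G} (hQ : IsPGroup p Q) : Q ≤ D := by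
  let S : Sylow p G := hDp.toSylow hidx
  haveI : (S : Subgroup G).Normal := (inferInstance : D.Normal)
  haveI := S.unique_of_normal inferInstance
  obtain ⟨S', hS'⟩ := hQ.exists_le_sylow
  rw [Subsingleton.elim S' S] at hS'
  exact hS'

theorem card_blocks_normal_sylow (hM : IsPModular p M) {D : Subgroup G} [D.Normal]
    (hDp : IsPGroup p D) (hidx : ¬ p ∣ D.index) :
    Nat.card {B : Set (IrrCharacter G) // IsPBlock M B ∧ IsDefectGroup p M B D} =
      Nat.card {C : ConjClasses G // ∀ n : G, ConjClasses.mk n = C →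
        ¬ p ∣ orderOf n ∧ n ∈ Subgroup.centralizer (D : Set G)} := by
  classical
  have hp : p.Prime := Fact.out
  obtain ⟨a, ha⟩ := IsPGroup.iff_card.mp hDp
  have hle : ∀ Q : Subgroup G, IsPGroup p Q → Q ≤ D := fun Q hQ =>
    le_of_isPGroup_normal_sylow hDp hidx hQ
  have hstab : ∀ g h : G, IsConj g h → (¬ p ∣ orderOf g ∧ g ∈ Subgroup.centralizer (D : Set G)) →
      (¬ p ∣ orderOf h ∧ h ∈ Subgroup.centralizer (D : Set G)) := by
    rintro g h hc ⟨h1, h2⟩
    obtain ⟨t, rfl⟩ := isConj_iff.1 hc
    refine ⟨by rwa [← MulAut.conj_apply, MulEquiv.orderOf_eq], ?_⟩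
    exact (inferInstance : (Subgroup.centralizer (D : Set G)).Normal).conj_mem g h2 t
  have hcsyl : ∀ g ∈ Subgroup.centralizer (D : Set G),
      ∃ Q : Sylow p (Subgroup.centralizer ({g} : Set G)), csyl Q = D := fun g hg =>
    exists_csyl_eq hDp (le_centralizer_singleton hg) fun Q _ => hle _ (isPGroup_csyl Q)
  apply le_antisymm
  · -- upper bound
    let f : {B : Set (IrrCharacter G) // IsPBlock M B ∧ IsDefectGroup p M B D} →
        {B : Set (IrrCharacter G) // IsPBlock M B ∧ a ≤ blockDefect p B} := fun B =>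
      ⟨B.1, B.2.1, ((Nat.pow_right_injective hp.two_le)
        ((ha.symm.trans (card_defectGroup hM B.2.1 B.2.2)))).le⟩
    haveI : Finite {B : Set (IrrCharacter G) // IsPBlock M B ∧ a ≤ blockDefect p B} :=
      Subtype.finite
    have h1 := Nat.card_le_card_of_injective f fun B B' h => by
      have : B.1 = B'.1 := congrArg (fun x => x.1) h
      exact Subtype.ext this
    refine h1.trans ((card_blocks_le_classes hM a).trans ?_)
    let k : {C : ConjClasses G // ∃ g : G, ConjClasses.mk g = C ∧ IsPRegular p g ∧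
        a ≤ (Nat.card (Subgroup.centralizer ({g} : Set G))).factorization p} →
        {C : ConjClasses G // ∀ n : G, ConjClasses.mk n = C →
          ¬ p ∣ orderOf n ∧ n ∈ Subgroup.centralizer (D : Set G)} := fun C => ⟨C.1, by
      obtain ⟨C, g, rfl, hreg, hga⟩ := C
      intro n hn
      refine hstab g n (ConjClasses.mk_eq_mk_iff_isConj.1 hn.symm) ⟨hreg, ?_⟩
      let Q : Sylow p (Subgroup.centralizer ({g} : Set G)) := Classical.arbitrary _
      have hQ : csyl Q = D := by
        refine Subgroup.eq_of_le_of_card_ge (hle _ (isPGroup_csyl Q)) ?_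
        rw [card_csyl, ha]
        exact Nat.pow_le_pow_right hp.pos hga
      exact hQ ▸ mem_centralizer_csyl Q⟩
    exact Nat.card_le_card_of_injective k fun C C' h =>
      Subtype.ext (congrArg (fun x => x.1) h :)
  · -- lower bound
    let ι := {C : ConjClasses G // ∀ n : G, ConjClasses.mk n = C →
        ¬ p ∣ orderOf n ∧ n ∈ Subgroup.centralizer (D : Set G)}
    haveI : Finite ι := Subtype.finite
    cases nonempty_fintype ι
    let x : ι → G := fun C => C.1.out
    have hx : ∀ C : ι, ¬ p ∣ orderOf (x C) ∧ x C ∈ Subgroup.centralizer (D : Set G) := fun C =>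
      C.2 _ (Quotient.out_eq C.1)
    have hinj : ∀ C C' : ι, IsConj (x C) (x C') → C = C' := fun C C' h => Subtype.ext <| by
      have := ConjClasses.mk_eq_mk_iff_isConj.2 h
      exact ((Quotient.out_eq C.1).symm.trans this).trans (Quotient.out_eq C'.1)
    have hsep : ∀ i j g h, IsConj (x i) g → IsConj (x j) h →
        ∀ k : ℕ, 0 < k → orderOf (g * h⁻¹) ≠ p ^ k := by
      intro i j g h hg hh k hk hord
      obtain ⟨hg1, hg2⟩ := hstab _ g hg (hx i)
      obtain ⟨hh1, hh2⟩ := hstab _ h hh (hx j)
      have hu : g * h⁻¹ ∈ D := hle (Subgroup.zpowers (g * h⁻¹))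
        (IsPGroup.of_card (n := k) (by rw [Nat.card_zpowers, hord])) (Subgroup.mem_zpowers _)
      have hcomm : Commute (g * h⁻¹) h := Subgroup.mem_centralizer_iff.1 hh2 _ hu
      have hcop : Nat.Coprime (orderOf (g * h⁻¹)) (orderOf h) := by
        rw [hord]
        exact Nat.Coprime.pow_left _ ((Nat.Prime.coprime_iff_not_dvd hp).2 hh1)
      have := hcomm.orderOf_mul_eq_mul_orderOf_of_coprime hcop
      rw [inv_mul_cancel_right, hord] at this
      exact hg1 (this ▸ Dvd.dvd.mul_right (dvd_pow_self p hk.ne') _)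
    obtain ⟨B, hBinj, hB, -⟩ := exists_blocks_of_separated hM D x hinj
      (fun i => hcsyl _ (hx i).2) hsep
    haveI : Finite {B : Set (IrrCharacter G) // IsPBlock M B ∧ IsDefectGroup p M B D} :=
      Subtype.finite
    exact Nat.card_le_card_of_injective (fun i => (⟨B i, hB i⟩ :
      {B : Set (IrrCharacter G) // IsPBlock M B ∧ IsDefectGroup p M B D}))
      fun i j h => hBinj (congrArg (fun x => x.1) h :)

theorem card_blocks_sylow_defect (hM : IsPModular p M) (P : Sylow p G) :
    Nat.card {B : Set (IrrCharacter G) // IsPBlock M B ∧ IsDefectGroup p M B (P : Subgroup G)} =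
      Nat.card {C : ConjClasses (Subgroup.normalizer ((P : Subgroup G) : Set G)) //
        ∀ n : Subgroup.normalizer ((P : Subgroup G) : Set G), ConjClasses.mk n = C →
          ¬ p ∣ orderOf n ∧ (n : G) ∈ Subgroup.centralizer ((P : Subgroup G) : Set G)} := by
  classical
  set D : Subgroup G := (P : Subgroup G)
  set N := Subgroup.normalizer (D : Set G)
  haveI := normal_subgroupOf_normalizer D
  have hDN : D ≤ N := Subgroup.le_normalizer
  have hDp : IsPGroup p D := P.2
  have hDp' : IsPGroup p (D.subgroupOf N) :=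
    hDp.of_equiv (Subgroup.subgroupOfEquivOfLe hDN).symm
  have hidx : ¬ p ∣ (D.subgroupOf N).index := fun h =>
    P.not_dvd_index (h.trans (Subgroup.relIndex_dvd_index_of_le hDN))
  let F : {b : Set (IrrCharacter N) // IsPBlock M b ∧ IsDefectGroup p M b (D.subgroupOf N)} →
      {B : Set (IrrCharacter G) // IsPBlock M B ∧ IsDefectGroup p M B D} := fun b =>
    ⟨(normalizer_block_induces hM hDp b.2.1 b.2.2).choose,
      (normalizer_block_induces hM hDp b.2.1 b.2.2).choose_spec.1,
      (normalizer_block_induces hM hDp b.2.1 b.2.2).choose_spec.2.1⟩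
  have hF : ∀ b, IsInducedBlock M N b.1 (F b).1 := fun b =>
    (normalizer_block_induces hM hDp b.2.1 b.2.2).choose_spec.2.2
  have hbij : Function.Bijective F := by
    refine ⟨fun b b' h => Subtype.ext ?_, fun B => ?_⟩
    · obtain ⟨c, -, hc⟩ := exists_unique_inducing hM (F b).2.1 (F b).2.2
      exact (hc b.1 ⟨b.2.1, b.2.2, hF b⟩).trans
        (hc b'.1 ⟨b'.2.1, b'.2.2, h ▸ hF b'⟩).symm
    · obtain ⟨b, ⟨hb, hbD, hind⟩, -⟩ := exists_unique_inducing hM B.2.1 B.2.2
      exact ⟨⟨b, hb, hbD⟩, Subtype.ext (induced_unique hM (hF ⟨b, hb, hbD⟩) hind)⟩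
  rw [← Nat.card_congr (Equiv.ofBijective F hbij), card_blocks_normal_sylow hM hDp' hidx]
  refine Nat.card_congr (Equiv.subtypeEquivRight fun C =>
    forall_congr' fun n => imp_congr_right fun _ => and_congr_right fun _ => ?_)
  simp only [Subgroup.mem_centralizer_iff, SetLike.mem_coe, Subgroup.mem_subgroupOf]
  exact ⟨fun h u hu => congrArg Subtype.val (h ⟨u, hDN hu⟩ hu),
    fun h u hu => Subtype.ext (h u hu)⟩

end Cfsg.Agent.Block
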