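import Cfsg.Agent.Lib.Block.BrauerTen.Main
import Cfsg.Agent.Lib.Transfer.SylowNumber
import Cfsg.Agent.Lib.Grp.Coprime
import Cfsg.Agent.Lib.Grp.PSolvable
import Cfsg.Agent.Lib.Fus.ResidualSeries
import Cfsg.Agent.Lib.Fus.PSLTwo
import Cfsg.Agent.Lib.Classical.DicksonTorus
import Cfsg.Agent.S1950

/-!
Groups with fewer than `p ^ 2` Sylow `p`-subgroups: such a group is `p`-soluble exactly when the number is a
prime power (apart from Mersenne primes).
-/

set_option autoImplicit false
set_option linter.unusedSectionVars false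
set_option linter.style.haveILetI false

namespace Cfsg.Agent.Block.SylSmall

open Cfsg Cfsg.Agent
open scoped Pointwise

universe u

variable {G : Type u} [Group G] [Finite G] {p : ℕ} [hp : Fact p.Prime]

theorem rne (H K : Subgroup G) : H.relIndex K ≠ 0 := Subgroup.index_ne_zero_of_finite

theorem relIndex_sup_normal (H K : Subgroup G) [K.Normal] : H.relIndex (H ⊔ K) = H.relIndex K := by
  have h1 : (H ⊓ K).relIndex H = K.relIndex H := Subgroup.inf_relIndex_left H K
  have h2 : (H ⊓ K).relIndex K = H.relIndex K := Subgroup.inf_relIndex_right H K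
  have h3 : K.relIndex (H ⊔ K) = K.relIndex H := Subgroup.relIndex_sup_right H K
  have a1 := Subgroup.relIndex_mul_relIndex (H ⊓ K) K (H ⊔ K) inf_le_right le_sup_right
  have a2 := Subgroup.relIndex_mul_relIndex (H ⊓ K) H (H ⊔ K) inf_le_left le_sup_left
  rw [h2, h3] at a1
  rw [h1, ← a1, mul_comm (K.relIndex H)] at a2
  exact Nat.eq_of_mul_eq_mul_right (Nat.pos_of_ne_zero (rne _ _)) a2

/-- The Sylow number splits along a normal subgroup. -/
theorem card_split (P : Sylow p G) (K : Subgroup G) [K.Normal] :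
    Nat.card (Sylow p G) =
      Nat.card (Sylow p (G ⧸ K)) * (Subgroup.normalizer (P : Set G)).relIndex K := by
  set N := Subgroup.normalizer (P : Set G)
  set f := QuotientGroup.mk' K
  have hf : Function.Surjective f := QuotientGroup.mk'_surjective K
  set P' := P.mapSurjective hf
  set M := Subgroup.normalizer (P' : Set (G ⧸ K))
  have hle : M.comap f ≤ N ⊔ K := by
    intro g hg
    have hg' : f g ∈ M := hg
    replace hg' := (Subgroup.mem_normalizer_iff (H := (P' : Subgroup (G ⧸ K)))).1 hg'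
    change ∀ y, y ∈ (P : Subgroup G).map f ↔ f g * y * (f g)⁻¹ ∈ (P : Subgroup G).map f at hg'
    set L := (P : Subgroup G) ⊔ K
    haveI : (K.subgroupOf L).Normal := inferInstance
    have hL : (P : Subgroup G).map f = L.map f := by
      rw [Subgroup.map_sup, (Subgroup.map_eq_bot_iff K).2 (by rw [QuotientGroup.ker_mk']), sup_bot_eq]
    have hKL : f.ker ≤ L := by rw [QuotientGroup.ker_mk']; exact le_sup_right
    have hgP : (g • P : Sylow p G).toSubgroup ≤ L := by
      intro x hx
      rw [Sylow.coe_subgroup_smul] at hx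
      obtain ⟨y, hy, rfl⟩ := hx
      rw [← Subgroup.comap_map_eq_self hKL, ← hL, Subgroup.mem_comap]
      have h := (hg' (f y)).1 ⟨y, hy, rfl⟩
      simpa [MulAut.smul_def, map_mul, map_inv] using h
    obtain ⟨⟨l, hl⟩, hlP⟩ := MulAction.exists_smul_eq L (P.subtype (le_sup_left : _ ≤ L))
      ((g • P : Sylow p G).subtype hgP)
    have h1 : l • P = g • P := by
      have h := Sylow.smul_subtype (P := P) (le_sup_left : _ ≤ L) ⟨l, hl⟩
      rw [hlP] at h
      exact (Sylow.subtype_injective h).symm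
    have h2 : g⁻¹ * l ∈ N := by
      rw [← Sylow.smul_eq_iff_mem_normalizer, mul_smul, h1, inv_smul_smul]
    have h3 : L ≤ N ⊔ K := sup_le_sup_right (Subgroup.le_normalizer) K
    rw [show g = l * (g⁻¹ * l)⁻¹ by group]
    exact mul_mem (h3 hl) (inv_mem (Subgroup.mem_sup_left h2))
  have hge : N ⊔ K ≤ M.comap f := by
    refine sup_le (fun g hg => ?_) (fun k hk => ?_)
    · rw [Subgroup.mem_comap, ← Sylow.smul_eq_iff_mem_normalizer]
      have h := Sylow.smul_eq_iff_mem_normalizer.2 hg
      apply Sylow.ext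
      rw [Sylow.coe_subgroup_smul, Sylow.coe_mapSurjective]
      conv_rhs => rw [← h, Sylow.coe_subgroup_smul]
      ext x
      simp only [Subgroup.mem_map, Subgroup.mem_smul_pointwise_iff_exists, MulAut.smul_def,
        MulAut.conj_apply]
      constructor
      · rintro ⟨_, ⟨y, hy, rfl⟩, rfl⟩
        exact ⟨g * y * g⁻¹, ⟨y, hy, rfl⟩, by simp⟩
      · rintro ⟨_, ⟨y, hy, rfl⟩, rfl⟩
        exact ⟨f y, ⟨y, hy, rfl⟩, by simp⟩
    · rw [Subgroup.mem_comap, show f k = 1 from (QuotientGroup.eq_one_iff k).2 hk]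
      exact one_mem _
  rw [P.card_eq_index_normalizer, P'.card_eq_index_normalizer, ← relIndex_sup_normal N K,
    ← Subgroup.index_comap_of_surjective M hf, le_antisymm hle hge, mul_comm]
  exact (Subgroup.relIndex_mul_index le_sup_left).symm

theorem card_quot_dvd (K : Subgroup G) [K.Normal] :
    Nat.card (Sylow p (G ⧸ K)) ∣ Nat.card (Sylow p G) := by
  obtain ⟨P⟩ : Nonempty (Sylow p G) := Sylow.nonempty
  exact Dvd.intro _ (card_split P K).symm

theorem card_normal_dvd (K : Subgroup G) [K.Normal] :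
    Nat.card (Sylow p K) ∣ Nat.card (Sylow p G) := by
  obtain ⟨P⟩ : Nonempty (Sylow p G) := Sylow.nonempty
  refine dvd_trans ?_ (Dvd.intro_left _ (card_split P K).symm)
  have hidx : ¬ p ∣ ((P : Subgroup G).subgroupOf K).index := fun h =>
    P.not_dvd_index (h.trans (by
      show (P : Subgroup G).relIndex K ∣ _
      rw [← relIndex_sup_normal]
      exact Dvd.intro _ (Subgroup.relIndex_mul_index le_sup_left)))
  set R : Sylow p K := (P.isPGroup'.comap_subtype (K := K)).toSylow hidx
  have hR : (R : Subgroup K) = (P : Subgroup G).subgroupOf K := rfl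
  rw [R.card_eq_index_normalizer]
  refine Subgroup.index_dvd_of_le fun k hk => ?_
  rw [Subgroup.mem_subgroupOf] at hk
  replace hk := (Subgroup.mem_normalizer_iff (H := (P : Subgroup G))).1 hk
  refine (Subgroup.mem_normalizer_iff (H := (R : Subgroup K))).2 fun x => ?_
  rw [hR]
  exact hk x

/-- An orbit of an invariant subgroup on the Sylow subgroups has length congruent to one. -/
theorem relIndex_mod (P : Sylow p G) (T : Subgroup G)
    (hT : (P : Subgroup G) ≤ Subgroup.normalizer (T : Set G)) :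
    (Subgroup.normalizer (P : Set G)).relIndex T ≡ 1 [MOD p] := by
  classical
  set O : Set (Sylow p G) := MulAction.orbit T P
  have hinv : ∀ x ∈ (P : Subgroup G), ∀ Q ∈ O, x • Q ∈ O := by
    rintro x hx Q ⟨⟨t, ht⟩, rfl⟩
    refine ⟨⟨x * t * x⁻¹, (Subgroup.mem_normalizer_iff.1 (hT hx) t).1 ht⟩, ?_⟩
    show (x * t * x⁻¹) • P = x • t • P
    rw [mul_smul, mul_smul, Transfer.smul_sylow_self P (inv_mem hx)]
  letI : MulAction (P : Subgroup G) O :=
    { smul := fun x Q => ⟨(x : G) • (Q : Sylow p G), hinv x x.2 Q Q.2⟩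
      one_smul := fun Q => Subtype.ext (one_smul G (Q : Sylow p G))
      mul_smul := fun x y Q => Subtype.ext (mul_smul (x : G) (y : G) (Q : Sylow p G)) }
  have hfix : Nat.card (MulAction.fixedPoints (P : Subgroup G) O) = 1 := by
    refine Nat.card_eq_one_iff_exists.2 ⟨⟨⟨P, MulAction.mem_orbit_self P⟩, fun x =>
      Subtype.ext (Transfer.smul_sylow_self P x.2)⟩, fun Q => ?_⟩
    refine Subtype.ext (Subtype.ext (Sylow.ext ?_))
    have hle : (P : Subgroup G) ≤ ((Q.1.1 : Sylow p G) : Subgroup G) := fun x hx =>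
      Transfer.mem_sylow_of_smul_eq _ P.isPGroup' hx (congrArg Subtype.val (Q.2 ⟨x, hx⟩))
    exact P.3 (Q.1.1).isPGroup' hle
  have hO : Nat.card O = (Subgroup.normalizer (P : Set G)).relIndex T := by
    rw [Nat.card_coe_set_eq, ← MulAction.index_stabilizer, Subgroup.relIndex]
    congr 1
    ext x
    rw [MulAction.mem_stabilizer_iff, Subgroup.mem_subgroupOf]
    exact Sylow.smul_eq_iff_mem_normalizer
  have h := P.isPGroup'.card_modEq_card_fixedPoints O
  rwa [hfix, hO] at h

/-- The factor contributed by a normal subgroup of order prime to `p`. -/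
theorem core_part (P : Sylow p G) (K : Subgroup G) [K.Normal] (hK : ¬ p ∣ Nat.card K) (r : ℕ)
    [hr : Fact r.Prime] :
    r ^ ((Subgroup.normalizer (P : Set G)).relIndex K).factorization r ≡ 1 [MOD p] := by
  set N := Subgroup.normalizer (P : Set G)
  obtain ⟨S, hS⟩ := Grp.exists_isSylowIn r (N ⊓ K)
  have hPK : (P : Subgroup G) ⊓ K = ⊥ := by
    rw [← Subgroup.card_eq_one]
    obtain ⟨k, hk⟩ := (P.isPGroup'.to_le (inf_le_left : (P : Subgroup G) ⊓ K ≤ _)).exists_card_eq
    rw [hk]
    rcases Nat.eq_zero_or_pos k with rfl | hk0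
    · rfl
    · exact absurd ((dvd_pow_self p hk0.ne').trans (hk ▸ Subgroup.card_dvd_of_le inf_le_right)) hK
  have hPn : (P : Subgroup G) ≤ Subgroup.normalizer (K : Set G) :=
    Subgroup.normalizer_eq_top K ▸ le_top
  have hPS : (P : Subgroup G) ≤ Subgroup.normalizer (S : Set G) := by
    intro x hx
    rw [Subgroup.mem_normalizer_iff]
    have hc : ∀ y ∈ S, x * y * x⁻¹ = y := fun y hy => by
      have h := Subgroup.mem_centralizer_iff.1
        (Grp.mem_centralizer_of_normalizes hPn hPK (hS.1 hy).2 (hS.1 hy).1) x hx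
      rw [h, mul_inv_cancel_right]
    intro y
    refine ⟨fun hy => by rwa [hc y hy], fun hy => ?_⟩
    have h := hc _ hy
    have : x * y * x⁻¹ = y := mul_left_cancel (a := x) (mul_right_cancel (b := x⁻¹) h)
    rwa [this] at hy
  have hcop : (Nat.card (P : Subgroup G)).Coprime (Nat.card K) := by
    obtain ⟨k, hk⟩ := P.isPGroup'.exists_card_eq
    rw [hk]
    exact Nat.Coprime.pow_left _ (hp.out.coprime_iff_not_dvd.2 hK)
  haveI := P.isPGroup'.isNilpotent
  obtain ⟨T, hT, hTP, hST⟩ := Grp.exists_invariant_sylow_ge (P : Subgroup G) K hPn hcop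
    (.inl inferInstance) (hS.1.trans inf_le_right) hS.2.1 hPS
  have heq : S = N ⊓ T := hS.eq_of_le (le_inf (hS.1.trans inf_le_left) hST)
    (inf_le_inf_left N hT.1) (hT.2.1.to_le inf_le_right)
  have h1 : r ^ (N.relIndex K).factorization r = N.relIndex T := by
    have hc : Nat.card (N ⊓ T : Subgroup G) * N.relIndex T = Nat.card T := by
      rw [← Subgroup.inf_relIndex_right, ← Subgroup.relIndex_bot_left, ← Subgroup.relIndex_bot_left,
        Subgroup.relIndex_mul_relIndex _ _ _ bot_le inf_le_right]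
    have hd : Nat.card (N ⊓ K : Subgroup G) * N.relIndex K = Nat.card K := by
      rw [← Subgroup.inf_relIndex_right, ← Subgroup.relIndex_bot_left, ← Subgroup.relIndex_bot_left,
        Subgroup.relIndex_mul_relIndex _ _ _ bot_le inf_le_right]
    rw [← heq, hS.card, hT.card, ← hd, Nat.factorization_mul Nat.card_pos.ne' (rne _ _),
      Finsupp.add_apply, pow_add] at hc
    exact (Nat.eq_of_mul_eq_mul_left (pow_pos hr.out.pos _) hc).symm
  rw [h1]
  exact relIndex_mod P T hTP

/-- The prime-power parts of the Sylow number of a `p`-soluble group are congruent to one. -/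
theorem part_mod_aux : ∀ (k : ℕ) (G : Type u) [Group G] [Finite G], Nat.card G ≤ k →
    IsPSolvable p G → ∀ (r : ℕ) [Fact r.Prime],
    r ^ (Nat.card (Sylow p G)).factorization r ≡ 1 [MOD p] := by
  intro k
  induction k with
  | zero => exact fun G _ _ h => absurd h (by have := Nat.card_pos (α := G); omega)
  | succ k ih =>
    intro G _ _ hk hG r _
    have hlt : ∀ (K : Subgroup G) [K.Normal], K ≠ ⊥ → Nat.card (G ⧸ K) ≤ k := fun K _ hK => by
      have h1 := K.card_eq_card_quotient_mul_card_subgroup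
      have h2 : 2 ≤ Nat.card K := K.one_lt_card_iff_ne_bot.2 hK
      have h3 : 1 ≤ Nat.card (G ⧸ K) := Nat.card_pos
      nlinarith
    obtain ⟨P⟩ : Nonempty (Sylow p G) := Sylow.nonempty
    by_cases h1 : pPrimeCore p G = ⊥
    · by_cases h2 : pCore p G = ⊥
      · have htop := Grp.isPSolvable_eq_top_of_cores hG h2 h1
        have hsub : Subsingleton (Sylow p G) := ⟨fun A B => Sylow.ext (by
            haveI : Subsingleton (Subgroup G) := subsingleton_iff_bot_eq_top.1 htop.symm; exact Subsingleton.elim _ _)⟩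
        rw [Nat.card_eq_one_iff_unique.2 ⟨hsub, ⟨P⟩⟩]
        simp [Nat.ModEq.refl]
      · haveI : (pCore p G).Normal := inferInstance
        rw [← Transfer.card_sylow_quotient (pCore p G) fun Q =>
          (Grp.pCore_le_sylow Q).trans Subgroup.le_normalizer]
        exact ih (G ⧸ pCore p G) (hlt _ h2)
          (Grp.isPSolvable_map hG (QuotientGroup.mk' _) (QuotientGroup.mk'_surjective _)) r
    · haveI : (pPrimeCore p G).Normal := Grp.pPrimeCore_isNormal
      rw [card_split P (pPrimeCore p G), Nat.factorization_mul Nat.card_pos.ne' (rne _ _),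
        Finsupp.add_apply, pow_add]
      exact (ih (G ⧸ pPrimeCore p G) (hlt _ h1)
          (Grp.isPSolvable_map hG (QuotientGroup.mk' _) (QuotientGroup.mk'_surjective _)) r).mul
        (core_part P (pPrimeCore p G) Grp.pPrimeCore_not_dvd r)

theorem prime_pow_of_psolvable (hG : IsPSolvable p G) (hn : Nat.card (Sylow p G) < p ^ 2) :
    ∃ q k : ℕ, q.Prime ∧ Nat.card (Sylow p G) = q ^ k := by
  set n := Nat.card (Sylow p G)
  have hn0 : n ≠ 0 := Nat.card_pos.ne'
  have hbig : ∀ r : ℕ, r.Prime → r ∣ n → p < r ^ n.factorization r := by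
    intro r hr hd
    haveI := Fact.mk hr
    have h := part_mod_aux _ G le_rfl hG r
    have h0 : 1 < r ^ n.factorization r :=
      Nat.one_lt_pow (hr.factorization_pos_of_dvd hn0 hd).ne' hr.one_lt
    have := (Nat.modEq_iff_dvd' h0.le).1 h.symm
    have := Nat.le_of_dvd (by omega) this
    omega
  by_cases h1 : n = 1
  · exact ⟨2, 0, Nat.prime_two, by rw [h1, pow_zero]⟩
  have hr := Nat.minFac_prime h1
  set r := n.minFac
  refine ⟨r, n.factorization r, hr, ?_⟩
  by_contra hne
  set m := n / r ^ n.factorization r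
  have hm : r ^ n.factorization r * m = n := Nat.ordProj_mul_ordCompl_eq_self n r
  have hm1 : m ≠ 1 := fun h => hne (by rw [h, mul_one] at hm; exact hm.symm)
  have hs := Nat.minFac_prime hm1
  have hsr : m.minFac ≠ r := fun h =>
    Nat.not_dvd_ordCompl hr hn0 (h ▸ Nat.minFac_dvd m : r ∣ m)
  have hsn : m.minFac ∣ n := (Nat.minFac_dvd m).trans (Dvd.intro_left _ hm)
  have h2 := hbig r hr (Nat.minFac_dvd n)
  have h3 := hbig _ hs hsn
  have hd : r ^ n.factorization r * m.minFac ^ n.factorization m.minFac ∣ n :=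
    (Nat.Coprime.pow _ _ ((Nat.coprime_primes hr hs).2 hsr.symm)).mul_dvd_of_dvd_of_dvd
      (Nat.ordProj_dvd _ _) (Nat.ordProj_dvd _ _)
  have := Nat.le_of_dvd (Nat.pos_of_ne_zero hn0) hd
  have := Nat.mul_lt_mul'' h2 h3
  rw [pow_two] at hn
  omega

/-- Few Sylow subgroups and a trivial `p`-core force Sylow subgroups of order `p`. -/
theorem sylow_card (hcore : pCore p G = ⊥) (P : Sylow p G) (hP : (P : Subgroup G) ≠ ⊥)
    (hn : Nat.card (Sylow p G) < p ^ 2) : Nat.card (P : Subgroup G) = p := by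
  classical
  have hrel : ∀ R S : Sylow p G, S ≠ R →
      ((R : Subgroup G) ⊓ (S : Subgroup G)).relIndex (R : Subgroup G) = p := by
    intro R S hne
    obtain ⟨j, hj⟩ : ∃ j, ((R : Subgroup G) ⊓ (S : Subgroup G)).relIndex (R : Subgroup G) = p ^ j :=
      R.isPGroup'.index (((R : Subgroup G) ⊓ (S : Subgroup G)).subgroupOf (R : Subgroup G))
    have hle : p ^ j < p ^ 2 := by
      rw [← hj, ← Transfer.card_orbit_sylow]
      exact (Nat.card_le_card_of_injective _ Subtype.val_injective).trans_lt hn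
    have hj2 : j < 2 := (Nat.pow_lt_pow_iff_right hp.out.one_lt).1 hle
    rcases Nat.eq_zero_or_pos j with rfl | hj0
    · rw [pow_zero, Subgroup.relIndex_eq_one] at hj
      exact absurd (Sylow.ext (R.3 S.isPGroup' (hj.trans inf_le_right))) hne
    · rw [hj, show j = 1 by omega, pow_one]
  obtain ⟨Q, hQ⟩ : ∃ Q : Sylow p G, Q ≠ P := by
    by_contra h
    push Not at h
    refine hP (le_bot_iff.1 ?_)
    have hnor : (P : Subgroup G).Normal := by
      haveI : Subsingleton (Sylow p G) := ⟨fun a b => (h a).trans (h b).symm⟩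
      exact Sylow.normal_of_subsingleton P
    rw [← hcore]
    exact Grp.le_pCore hnor P.isPGroup'
  set D := (P : Subgroup G) ⊓ (Q : Subgroup G)
  by_cases hD : D = ⊥
  · have h := hrel P Q hQ
    rwa [show (P : Subgroup G) ⊓ (Q : Subgroup G) = ⊥ from hD, Subgroup.relIndex_bot_left] at h
  exfalso
  obtain ⟨R, hR⟩ : ∃ R : Sylow p G, ¬ D ≤ (R : Subgroup G) := by
    by_contra h
    push Not at h
    refine hD (le_bot_iff.1 ?_)
    rw [← hcore]
    have hN : (⨅ S : Sylow p G, (S : Subgroup G)).Normal := ⟨fun a ha g => by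
      rw [Subgroup.mem_iInf] at ha ⊢
      intro S
      have := ha (g⁻¹ • S)
      rw [Sylow.coe_subgroup_smul, Subgroup.mem_pointwise_smul_iff_inv_smul_mem] at this
      simpa [MulAut.smul_def, mul_assoc] using this⟩
    exact (le_iInf h).trans (Grp.le_pCore hN (P.isPGroup'.to_le (iInf_le _ P)))
  set B : Set (Sylow p G) := {S | D ≤ (S : Subgroup G)}
  have hB : p + 1 ≤ B.ncard := by
    have hsub : insert P (MulAction.orbit (P : Subgroup G) Q) ⊆ B := by
      rintro S (rfl | ⟨⟨x, hx⟩, rfl⟩)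
      · show D ≤ _
        exact inf_le_left
      · intro d hd
        show d ∈ ((x • Q : Sylow p G) : Subgroup G)
        rw [Sylow.coe_subgroup_smul, Subgroup.mem_pointwise_smul_iff_inv_smul_mem]
        have hnor : (D.subgroupOf (P : Subgroup G)).Normal :=
          Subgroup.normal_of_index_eq_minFac_card (by
            show D.relIndex (P : Subgroup G) = _
            rw [hrel P Q hQ]
            obtain ⟨k, hk⟩ := P.isPGroup'.exists_card_eq
            rw [hk, Nat.pow_minFac (fun h0 => hP (Subgroup.card_eq_one.1 (by rw [hk, h0, pow_zero]))),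
              hp.out.minFac_eq])
        have h := hnor.conj_mem ⟨d, (inf_le_left : D ≤ _) hd⟩ hd ⟨x⁻¹, inv_mem hx⟩
        have h' : x⁻¹ * d * x⁻¹⁻¹ ∈ D := h
        simpa [MulAut.smul_def] using (inf_le_right : D ≤ _) h'
    have hnot : P ∉ MulAction.orbit (P : Subgroup G) Q := by
      rintro ⟨⟨x, hx⟩, hxe⟩
      refine hQ ?_
      have h : x • Q = P := hxe
      rw [← inv_smul_smul x Q, h, Transfer.smul_sylow_self P (inv_mem hx)]
    have := Set.ncard_le_ncard hsub (Set.toFinite _)
    rw [Set.ncard_insert_of_notMem hnot (Set.toFinite _), ← Nat.card_coe_set_eq,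
      Transfer.card_orbit_sylow, hrel P Q hQ] at this
    exact this
  -- distinct members of `B` meet `R` in distinct subgroups
  have hne : ∀ S ∈ B, S ≠ R := fun S hS e => hR (e ▸ hS)
  set φ : Sylow p G → Subgroup G := fun S => (R : Subgroup G) ⊓ (S : Subgroup G)
  have hcard : ∀ S ∈ B, ∀ S' ∈ B, S ≠ S' → φ S ≠ φ S' := by
    intro S hS S' hS' hne' e
    apply hR
    have hsize : ∀ U V : Sylow p G, V ≠ U →
        Nat.card ((U : Subgroup G) ⊓ (V : Subgroup G) : Subgroup G) * p = Nat.card (P : Subgroup G) := by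
      intro U V hUV
      have h := Subgroup.relIndex_mul_relIndex _ _ _ (bot_le (a := (U : Subgroup G) ⊓ (V : Subgroup G)))
        (inf_le_left (b := (V : Subgroup G)) (a := (U : Subgroup G)))
      rw [Subgroup.relIndex_bot_left, Subgroup.relIndex_bot_left, hrel U V hUV] at h
      exact h.trans (U.card_eq_multiplicity.trans P.card_eq_multiplicity.symm)
    have e1 : D = (S : Subgroup G) ⊓ (S' : Subgroup G) :=
      Subgroup.eq_of_le_of_card_ge (le_inf hS hS') (Nat.le_of_mul_le_mul_right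
        ((hsize S S' hne'.symm).trans (hsize P Q hQ).symm).le hp.out.pos)
    have e2 : φ S = (S : Subgroup G) ⊓ (S' : Subgroup G) :=
      Subgroup.eq_of_le_of_card_ge (le_inf inf_le_right (e ▸ inf_le_right)) (Nat.le_of_mul_le_mul_right
        ((hsize S S' hne'.symm).trans (hsize R S (hne S hS)).symm).le hp.out.pos)
    rw [e1, ← e2]
    exact inf_le_left
  -- each fibre is a union of `R`-orbits of length `p`
  set F : Set (Sylow p G) := ⋃ S ∈ B, MulAction.orbit (R : Subgroup G) S
  have hconst : ∀ S ∈ B, ∀ S' ∈ MulAction.orbit (R : Subgroup G) S, φ S' = φ S := by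
    rintro S hS _ ⟨⟨x, hx⟩, rfl⟩
    have hnor : ((φ S).subgroupOf (R : Subgroup G)).Normal :=
      Subgroup.normal_of_index_eq_minFac_card (by
        show (φ S).relIndex (R : Subgroup G) = _
        rw [hrel R S (hne S hS)]
        obtain ⟨k, hk⟩ := R.isPGroup'.exists_card_eq
        have hk0 : k ≠ 0 := fun h0 => by
          have h1 : (R : Subgroup G) = ⊥ := Subgroup.card_eq_one.1 (by rw [hk, h0, pow_zero])
          exact hR (by
            have := Subgroup.card_eq_one.1 ((R.card_eq_multiplicity.trans P.card_eq_multiplicity.symm).symm.trans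
              (Subgroup.card_eq_one.2 h1))
            exact absurd this hP)
        rw [hk, Nat.pow_minFac hk0, hp.out.minFac_eq])
    show (R : Subgroup G) ⊓ ((x • S : Sylow p G) : Subgroup G) = (R : Subgroup G) ⊓ (S : Subgroup G)
    replace hx : x ∈ (R : Subgroup G) := hx
    ext y
    simp only [Subgroup.mem_inf, Sylow.coe_subgroup_smul, Subgroup.mem_pointwise_smul_iff_inv_smul_mem,
      MulAut.smul_def, ← map_inv, MulAut.conj_apply, inv_inv]
    constructor
    · rintro ⟨hy, hy'⟩
      have hz : x⁻¹ * y * x ∈ (R : Subgroup G) :=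
        (R : Subgroup G).mul_mem ((R : Subgroup G).mul_mem ((R : Subgroup G).inv_mem hx) hy) hx
      have h := hnor.conj_mem ⟨x⁻¹ * y * x, hz⟩ ⟨hz, hy'⟩ ⟨x, hx⟩
      have h' : x * (x⁻¹ * y * x) * x⁻¹ ∈ φ S := h
      simpa [φ, mul_assoc] using h'
    · rintro ⟨hy, hy'⟩
      have h := hnor.conj_mem ⟨y, hy⟩ ⟨hy, hy'⟩ ⟨x⁻¹, (R : Subgroup G).inv_mem hx⟩
      have h' : x⁻¹ * y * x⁻¹⁻¹ ∈ φ S := h
      rw [inv_inv] at h'
      exact ⟨hy, h'.2⟩
  have hdisj : B.PairwiseDisjoint fun S => MulAction.orbit (R : Subgroup G) S := by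
    intro S hS S' hS' hne'
    exact Set.disjoint_left.2 fun T hT hT' =>
      hcard S hS S' hS' hne' ((hconst S hS T hT).symm.trans (hconst S' hS' T hT'))
  have hF : F.ncard = B.ncard * p := by
    rw [Set.Finite.ncard_biUnion (Set.toFinite _) (fun _ _ => Set.toFinite _) hdisj,
      finsum_mem_eq_finite_toFinset_sum _ (Set.toFinite B), Finset.sum_congr rfl fun S hS => ?_,
      Finset.sum_const, smul_eq_mul, ← Set.ncard_eq_toFinset_card B]
    rw [← Nat.card_coe_set_eq, Transfer.card_orbit_sylow, hrel R S (hne S (by simpa using hS))]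
  have h := Set.ncard_le_ncard (Set.subset_univ F) (Set.toFinite _)
  rw [hF, Set.ncard_univ] at h
  have := Nat.mul_le_mul_right p hB
  rw [pow_two] at hn
  nlinarith

/-- The arithmetic of Brauer's shape below `p ^ 2`. -/
theorem shape_not_pp' {m : ℕ} (hs : B10.Shape p m) (hlt : 1 + m * p < p ^ 2) {r k : ℕ} (hr : r.Prime)
    (hk : 1 + m * p = r ^ k) : False := by
  obtain ⟨h, u, hh, hu, he⟩ := hs
  have hp2 := hp.out.two_le
  have hm : m < p := by
    by_contra hc
    push Not at hc
    have h2 := Nat.mul_le_mul_right p hc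
    rw [pow_two] at hlt
    omega
  have hm' : m * (u + 1) ≤ (p - 1) * (u + 1) := Nat.mul_le_mul_right _ (by omega)
  obtain ⟨q, rfl⟩ : ∃ q, p = q + 1 := ⟨p - 1, by omega⟩
  rw [Nat.add_sub_cancel] at hm'
  have h1 : h = 1 := by
    by_contra hne
    have e1 : 2 * (u * (q + 1)) ≤ h * u * (q + 1) := by
      rw [mul_assoc h]; exact Nat.mul_le_mul_right _ (by omega)
    have e2 : q * 1 ≤ q * u := Nat.mul_le_mul_left q hu
    have e3 : q * (u + 1) = q * u + q * 1 := Nat.mul_add q u 1
    have e4 : u * (q + 1) = q * u + u := by ring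
    omega
  subst h1
  have hprod : r ^ k * (u + 1) = (q + u + 2) * (u * (q + 1) + 1) := by
    rw [← hk]; linear_combination (q + 1) * he
  have hcop : Nat.Coprime (u + 1) (q + u + 2) := by
    rw [show q + u + 2 = (q + 1) + (u + 1) by ring, Nat.coprime_add_self_right]
    refine (hp.out.coprime_iff_not_dvd.2 fun hd => ?_).symm
    have h2 : q + 1 ∣ 1 * u * (q + 1) + u * (u + 1) := dvd_add (dvd_mul_left _ _) (hd.mul_left u)
    have h3 : q + 1 ∣ m * (u + 1) := hd.mul_left m
    rw [he, show 1 * u * (q + 1) + u ^ 2 + u + 1 = 1 * u * (q + 1) + u * (u + 1) + 1 by ring] at h3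
    exact hp.out.not_dvd_one ((Nat.dvd_add_right h2).1 h3)
  obtain ⟨c, hc⟩ : u + 1 ∣ u * (q + 1) + 1 := hcop.dvd_of_dvd_mul_left (Dvd.intro_left _ hprod)
  rw [hc] at hprod
  have hN : r ^ k = (q + u + 2) * c := Nat.eq_of_mul_eq_mul_right (by omega : 0 < u + 1)
    (by rw [hprod]; ring)
  have hcq : c < q + 1 := by
    by_contra hge
    have e1 := Nat.mul_le_mul_left (u + 1) (Nat.le_of_not_lt hge)
    have e2 : (u + 1) * (q + 1) = u * (q + 1) + (q + 1) := by ring
    omega
  obtain ⟨d, hd⟩ : ∃ d, c + d = q + 1 := ⟨q + 1 - c, by omega⟩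
  have hq : q = d * (u + 1) := by
    have e1 : (u + 1) * (c + d) = (u + 1) * c + d * (u + 1) := by ring
    rw [hd, ← hc] at e1
    have e2 : (u + 1) * (q + 1) = u * (q + 1) + (q + 1) := by ring
    omega
  obtain ⟨i, -, hi⟩ := (Nat.dvd_prime_pow hr).1 (show c ∣ r ^ k from hN ▸ dvd_mul_left _ _)
  obtain ⟨j, -, hj⟩ := (Nat.dvd_prime_pow hr).1 (show q + u + 2 ∣ r ^ k from hN ▸ dvd_mul_right _ _)
  have hij : i ≤ j := by
    by_contra hji
    have := Nat.pow_le_pow_right hr.pos (Nat.le_of_not_le hji)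
    omega
  have hdvd : c ∣ q + u + 2 := by rw [hi, hj]; exact pow_dvd_pow r hij
  have hc' : c = d * u + 1 := by
    have e1 : d * (u + 1) = d * u + d := by ring
    omega
  have hdvd2 : c ∣ d + u + 1 := by
    have : q + u + 2 = c + (d + u + 1) := by omega
    rw [this] at hdvd
    exact (Nat.dvd_add_right dvd_rfl).1 hdvd
  have hle : d * u + 1 ≤ d + u + 1 := hc' ▸ Nat.le_of_dvd (by omega) hdvd2
  have hd0 : 0 < d := by omega
  rcases Nat.lt_or_ge d 2 with hd2 | hd2
  · obtain rfl : d = 1 := by omega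
    have hcu : c = u + 1 := by omega
    rw [hcu, show 1 + u + 1 = (u + 1) + 1 by ring] at hdvd2
    have := Nat.le_of_dvd one_pos ((Nat.dvd_add_right dvd_rfl).1 hdvd2)
    omega
  rcases Nat.lt_or_ge u 2 with hu2 | hu2
  · obtain rfl : u = 1 := by omega
    rw [show c = d + 1 by omega, show d + 1 + 1 = (d + 1) + 1 by ring] at hdvd2
    have := Nat.le_of_dvd one_pos ((Nat.dvd_add_right dvd_rfl).1 hdvd2)
    omega
  have hd3 : d = 2 := by
    by_contra hne
    have e1 : 3 * u ≤ d * u := Nat.mul_le_mul_right u (by omega)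
    have e2 : d * 2 ≤ d * u := Nat.mul_le_mul_left d hu2
    omega
  have hu3 : u = 2 := by subst hd3; omega
  subst hd3; subst hu3
  rw [show q = 6 by omega] at hj
  have h5 : c = 5 := by omega
  rw [h5] at hi
  have h2 : 2 ∣ r ^ j := hj ▸ (by norm_num)
  have h2r := (Nat.prime_dvd_prime_iff_eq Nat.prime_two hr).1 (Nat.prime_two.dvd_of_dvd_pow h2)
  have h5' : 5 ∣ r ^ i := hi ▸ (by norm_num)
  have := (Nat.prime_dvd_prime_iff_eq (by norm_num) hr).1 ((by norm_num : Nat.Prime 5).dvd_of_dvd_pow h5')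
  omega

/-- The simple case. -/
theorem simple_case [IsSimpleGroup G] (hnp : ¬ IsPSolvable p G)
    (hm : ¬ (3 < p ∧ ∃ k : ℕ, p + 1 = 2 ^ k)) (hn : Nat.card (Sylow p G) < p ^ 2) {r k : ℕ}
    (hr : r.Prime) (hk : Nat.card (Sylow p G) = r ^ k) : False := by
  have hP1 : p.Prime := hp.out
  have hperf : commutator G = ⊤ := by
    rcases IsSimpleGroup.eq_bot_or_eq_top_of_normal (commutator G) inferInstance with h | h
    · exfalso
      letI : CommGroup G :=
        { mul_comm := fun a b => (((Subgroup.commutator_eq_bot_iff_le_centralizer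
            (H₁ := (⊤ : Subgroup G)) (H₂ := ⊤)).1 h) (Subgroup.mem_top a) b (Subgroup.mem_top b)).symm }
      have hpr : (Nat.card G).Prime := IsSimpleGroup.prime_card
      apply hnp
      refine S1950.isPSolvable_of_card G ?_
      by_cases hpe : Nat.card G = p
      · exact .inl ⟨1, by rw [pow_one, hpe]⟩
      · exact .inr ((Nat.coprime_primes hpr hP1).2 hpe)
    · exact h
  have hcore : pCore p G = ⊥ := by
    refine (IsSimpleGroup.eq_bot_or_eq_top_of_normal _ inferInstance).resolve_right fun h => ?_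
    refine hnp (S1950.isPSolvable_of_card G (.inl ?_))
    have := (Grp.pCore_isPGroup (p := p) (G := G)).exists_card_eq
    rwa [h, Subgroup.card_top] at this
  obtain ⟨P⟩ : Nonempty (Sylow p G) := Sylow.nonempty
  have hdvd : p ∣ Nat.card G := by
    by_contra h
    exact hnp (S1950.isPSolvable_of_card G (.inr (hP1.coprime_iff_not_dvd.2 h).symm))
  have hP : (P : Subgroup G) ≠ ⊥ := fun h => by
    have := P.dvd_card_of_dvd_card hdvd
    rw [h, Subgroup.card_bot] at this
    exact hP1.not_dvd_one this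
  have hPp := sylow_card hcore P hP hn
  obtain ⟨m, hmn⟩ : ∃ m, Nat.card (Sylow p G) = 1 + m * p := by
    refine ⟨Nat.card (Sylow p G) / p, ?_⟩
    have h1 : Nat.card (Sylow p G) % p = 1 :=
      Eq.trans (card_sylow_modEq_one p _) (Nat.one_mod_eq_one.2 hP1.ne_one)
    have := Nat.div_add_mod (Nat.card (Sylow p G)) p
    rw [mul_comm]
    omega
  by_cases hs : B10.Shape p m
  · exact shape_not_pp' hs (hmn ▸ hn) hr (hmn ▸ hk)
  have hm0 : 0 < m := by
    refine Nat.pos_of_ne_zero fun h0 => ?_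
    rw [h0, zero_mul, add_zero] at hmn
    haveI := (Nat.card_eq_one_iff_unique.1 hmn).1
    exact Cube.no_normal_sylow hperf P hPp (Sylow.normal_of_subsingleton P)
  haveI : (pPrimeCore p G).Normal := Grp.pPrimeCore_isNormal
  have hH : pPrimeCore p G = ⊥ := by
    refine (IsSimpleGroup.eq_bot_or_eq_top_of_normal _ inferInstance).resolve_right fun h => ?_
    have := Grp.pPrimeCore_not_dvd (p := p) (G := G)
    rw [h, Subgroup.card_top] at this
    exact this hdvd
  have hcardq : Nat.card (G ⧸ pPrimeCore p G) = Nat.card G := by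
    rw [← Subgroup.index_eq_card, hH, Subgroup.index_bot]
  have hNd : p * (1 + m * p) ∣ Nat.card G := by
    rw [← hmn, P.card_eq_index_normalizer, ← Subgroup.card_mul_index (P : Subgroup G), hPp]
    exact mul_dvd_mul_left p (Subgroup.index_dvd_of_le Subgroup.le_normalizer)
  rcases B10.main hperf P hPp hmn hs with ⟨F, _, _, hF, hp3, ⟨e⟩⟩ | ⟨a, F, _, _, hF, hpa, hp3, ⟨e⟩⟩
  · have hodd : p % 2 = 1 := by
      rcases hP1.eq_two_or_odd with h | h <;> omega
    have hc : Nat.card G * 2 = p * ((p - 1) * (p + 1)) := by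
      rw [← hcardq, Nat.card_congr e.toEquiv]
      have h := Dickson.card_psl (F := F)
      rcases Dickson.del_cases F with ⟨-, he⟩ | ⟨hd, -⟩
      · rw [hF, Nat.even_iff] at he; omega
      · rwa [hd, hF] at h
    obtain ⟨c, hc'⟩ := hNd
    rw [hc', show p * (1 + m * p) * c * 2 = p * (2 * c * (1 + m * p)) by ring] at hc
    have h2 := Nat.eq_of_mul_eq_mul_left hP1.pos hc
    obtain ⟨q, rfl⟩ : ∃ q, p = q + 1 := ⟨p - 1, by omega⟩
    rw [Nat.add_sub_cancel] at h2
    have h3 : q + 1 ∣ 2 * c + 1 := by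
      refine (Nat.dvd_add_left (show q + 1 ∣ 2 * c * m * (q + 1) from dvd_mul_left _ _)).1 ?_
      exact ⟨q + 1, by linear_combination h2⟩
    have h4 := Nat.le_of_dvd (by omega) h3
    have hm1 : m = 1 := by
      by_contra hne
      have := Nat.mul_le_mul (show q ≤ 2 * c by omega)
        (show 1 + 2 * (q + 1) ≤ 1 + m * (q + 1) by
          have := Nat.mul_le_mul_right (q + 1) (show 2 ≤ m by omega); omega)
      nlinarith
    rw [hm1, one_mul] at hmn
    have h5 : 2 ∣ r ^ k := by rw [← hk, hmn]; omega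
    obtain rfl := (Nat.prime_dvd_prime_iff_eq Nat.prime_two hr).1 (Nat.prime_two.dvd_of_dvd_pow h5)
    exact hm ⟨hp3, k, by omega⟩
  · have hc : Nat.card G = 2 ^ a * ((2 ^ a) ^ 2 - 1) := by
      rw [← hcardq, Nat.card_congr e.toEquiv, Fus.PSLTwo.natCard_SL_two, hF, show (2 ^ a) ^ 2 - 1 = (2 ^ a) ^ 2 - 1 ^ 2 by rw [one_pow], Nat.sq_sub_sq, mul_comm (2 ^ a + 1)]
    obtain ⟨c, hc'⟩ := hNd
    obtain ⟨q, hq⟩ : ∃ q, 2 ^ a = q + 1 := ⟨2 ^ a - 1, by have := Nat.two_pow_pos a; omega⟩
    rw [hq, show (q + 1) ^ 2 - 1 = q * (q + 2) by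
      rw [show (q + 1) ^ 2 = q * (q + 2) + 1 by ring, Nat.add_sub_cancel]] at hc
    have hpq : p = q + 2 := by omega
    subst hpq
    rw [hc', show (q + 2) * (1 + m * (q + 2)) * c = (q + 2) * ((1 + m * (q + 2)) * c) by ring,
      show (q + 1) * (q * (q + 2)) = (q + 2) * ((q + 1) * q) by ring] at hc
    have h2 := Nat.eq_of_mul_eq_mul_left hP1.pos hc
    have hc2 : c = 2 := by
      have hlt : c < q + 2 := by
        by_contra hge
        nlinarith [Nat.mul_le_mul (show 1 + (q + 2) ≤ 1 + m * (q + 2) by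
          have := Nat.le_mul_of_pos_left (q + 2) hm0; omega) (Nat.le_of_not_lt hge)]
      obtain ⟨b, rfl⟩ : ∃ b, q = b + 1 := ⟨q - 1, by omega⟩
      have h3 : (2 : ℤ) - c = (b + 3) * (m * c - b) := by
        have : ((1 : ℤ) + m * (b + 3)) * c = (b + 2) * (b + 1) := by exact_mod_cast h2
        linear_combination -this
      have h4 : ((b : ℤ) + 3) ∣ (2 : ℤ) - c := ⟨_, h3⟩
      have h5 := Int.eq_zero_of_abs_lt_dvd h4 (by rw [abs_lt]; omega)
      omega
    subst hc2
    rw [← hmn, hk] at h2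
    have ha2 : 2 ≤ a := by
      by_contra hlt
      interval_cases a <;> omega
    have h6 : 2 ∣ r ^ k := by
      have h4 : 4 ∣ q + 1 := hq ▸ pow_dvd_pow 2 ha2
      obtain ⟨w, hw⟩ := h4
      rw [hw] at h2
      exact ⟨w * q, by linarith⟩
    obtain rfl := (Nat.prime_dvd_prime_iff_eq Nat.prime_two hr).1 (Nat.prime_two.dvd_of_dvd_pow h6)
    have h7 : q ∣ 2 ^ (k + 1) := ⟨q + 1, by rw [pow_succ, h2]; ring⟩
    obtain ⟨i, -, hi⟩ := (Nat.dvd_prime_pow Nat.prime_two).1 h7
    rcases Nat.eq_zero_or_pos i with rfl | hi0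
    · rw [pow_zero] at hi; omega
    · have : 2 ∣ q := hi ▸ dvd_pow_self 2 hi0.ne'
      have : 2 ∣ q + 1 := hq ▸ dvd_pow_self 2 (by omega)
      omega

theorem psolvable_aux (hm : ¬ (3 < p ∧ ∃ k : ℕ, p + 1 = 2 ^ k)) :
    ∀ (k : ℕ) (G : Type u) [Group G] [Finite G], Nat.card G ≤ k → Nat.card (Sylow p G) < p ^ 2 →
      (∃ q j : ℕ, q.Prime ∧ Nat.card (Sylow p G) = q ^ j) → IsPSolvable p G := by
  intro k
  induction k with
  | zero => exact fun G _ _ h => absurd h (by have := Nat.card_pos (α := G); omega)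
  | succ k ih =>
    intro G _ _ hk hn hpp
    obtain ⟨q, j, hq, hj⟩ := hpp
    by_contra hnp
    have hnt : Nontrivial G := by
      by_contra h
      rw [not_nontrivial_iff_subsingleton] at h
      exact hnp (S1950.isPSolvable_of_card G (.inl ⟨0, by rw [pow_zero]; exact Nat.card_unique⟩))
    by_cases hs : ∃ N : Subgroup G, N.Normal ∧ N ≠ ⊥ ∧ N ≠ ⊤
    · obtain ⟨N, _, hN1, hN2⟩ := hs
      have hdiv : ∀ d, d ∣ Nat.card (Sylow p G) → d < p ^ 2 ∧ ∃ q j : ℕ, q.Prime ∧ d = q ^ j :=
        fun d hd => ⟨(Nat.le_of_dvd Nat.card_pos hd).trans_lt hn, by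
          obtain ⟨i, -, hi⟩ := (Nat.dvd_prime_pow hq).1 (hj ▸ hd)
          exact ⟨q, i, hq, hi⟩⟩
      refine hnp (Fus.ResSeries.isPSolvable_extension _ G le_rfl N ?_ ?_)
      · refine ih N ?_ (hdiv _ (card_normal_dvd N)).1 (hdiv _ (card_normal_dvd N)).2
        have : Nat.card N < Nat.card G :=
          lt_of_le_of_ne (Subgroup.card_le_card_group N) fun he => hN2 (Subgroup.eq_top_of_card_eq N he)
        omega
      · refine ih (G ⧸ N) ?_ (hdiv _ (card_quot_dvd N)).1 (hdiv _ (card_quot_dvd N)).2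
        have h1 := N.card_eq_card_quotient_mul_card_subgroup
        have h2 : 2 ≤ Nat.card N := N.one_lt_card_iff_ne_bot.2 hN1
        have h3 : 1 ≤ Nat.card (G ⧸ N) := Nat.card_pos
        nlinarith
    · push Not at hs
      haveI : IsSimpleGroup G :=
        { toNontrivial := hnt, eq_bot_or_eq_top_of_normal := fun H hH => (or_iff_not_imp_left.2 (hs H hH)) }
      exact simple_case hnp hm hn hq hj

end Cfsg.Agent.Block.SylSmall
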