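import Cfsg.Agent.Lib.Classical.MaxTensorGram
import Cfsg.Agent.Lib.Classical.OrthSimilitudeDerange
import Cfsg.Agent.Lib.Classical.LinearDecompDerange
import Mathlib.FieldTheory.Finite.Extension

/-! Elements of prime order and stabilisers of tensor decompositions: eigenvalue products and ranks. -/

set_option autoImplicit false
set_option linter.unusedSectionVars false

namespace Cfsg.Agent.Block.TensorDerange

open Matrix Module Polynomial
open scoped Kronecker

section Combinatorics

variable {K : Type*} [Field K] {a b : ℕ}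

/-- Products of two families whose values other than `1` are all different. -/
theorem eig_bound (α : Fin a → K) (β : Fin b → K) (ha : 2 ≤ a) (hb : 2 ≤ b) {u : K[X]} (hu : u.Monic)
    (hsep : u.Separable) (h1 : u.eval 1 ≠ 0) (hd : 1 ≤ u.natDegree) {f : ℕ}
    (he : ∏ p : Fin a × Fin b, (X - Polynomial.C (α p.1 * β p.2)) = u * (X - Polynomial.C 1) ^ f) :
    Function.Injective α ∧ a * b ≤ u.natDegree + a ∧ a * b ≤ u.natDegree + b := by
  classical
  set v : Fin a × Fin b → K := fun p => α p.1 * β p.2 with hv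
  have hne : u * (X - Polynomial.C (1 : K)) ^ f ≠ 0 := mul_ne_zero hu.ne_zero (pow_ne_zero _ (X_sub_C_ne_zero 1))
  have hroots : Finset.univ.val.map v = u.roots + f • ({1} : Multiset K) := by
    have h := congrArg Polynomial.roots he
    rw [Polynomial.roots_mul hne, roots_pow, roots_X_sub_C] at h
    rw [← h, ← roots_multiset_prod_X_sub_C (Finset.univ.val.map v), Multiset.map_map]
    rfl
  have hcount : ∀ c, (Finset.univ.filter fun p => c = v p).card = u.roots.count c + (f • ({1} : Multiset K)).count c :=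
    fun c => by rw [← Multiset.count_add, ← hroots, Multiset.count_map]; rfl
  have hdup : ∀ p p', p ≠ p' → v p = v p' → v p = 1 := by
    intro p p' hne' hpp
    by_contra h
    have h2 : 2 ≤ (Finset.univ.filter fun z => v p = v z).card := by
      refine Finset.one_lt_card.2 ⟨p, ?_, p', ?_, hne'⟩ <;> simp [hpp]
    rw [hcount, Multiset.count_nsmul, Multiset.count_singleton, if_neg h, mul_zero, add_zero] at h2
    have := Multiset.nodup_iff_count_le_one.1 (nodup_roots hsep) (v p)
    omega
  have hfix : (Finset.univ.filter fun p => 1 = v p).card = f := by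
    rw [hcount, Multiset.count_eq_zero.2 (fun hm => h1 (isRoot_of_mem_roots hm)), Multiset.count_nsmul,
      Multiset.count_singleton_self, mul_one, zero_add]
  have hdeg : a * b = u.natDegree + f := by
    have h := congrArg natDegree he
    rw [natDegree_prod _ _ (fun p _ => X_sub_C_ne_zero _), hu.natDegree_mul ((monic_X_sub_C 1).pow f),
      natDegree_pow, natDegree_X_sub_C, mul_one] at h
    have hdl : ∀ x : Fin a × Fin b, (X - Polynomial.C (α x.1 * β x.2)).natDegree = 1 := fun x => natDegree_X_sub_C _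
    simp only [hdl, Finset.sum_const, Finset.card_univ, Fintype.card_prod, Fintype.card_fin, smul_eq_mul, mul_one] at h
    exact h
  have hnot : ¬ ∀ p, v p = 1 := fun h => by
    have : f = a * b := by
      rw [← hfix, Finset.filter_true_of_mem fun p _ => (h p).symm]
      simp
    omega
  have hα : Function.Injective α := by
    intro i i' hii
    by_contra hne'
    have h := fun j => hdup (i, j) (i', j) (fun h => hne' (congrArg Prod.fst h))
      (show α i * β j = α i' * β j by rw [hii])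
    have hβ : ∀ j j', β j = β j' := fun j j' => by
      have h' : α i * β j = α i * β j' := (h j).trans (h j').symm
      exact mul_left_cancel₀ (fun h0 => by simpa [hv, h0] using h j) h'
    refine hnot fun p => ?_
    obtain ⟨j', hj'⟩ : ∃ j', j' ≠ p.2 := Fintype.exists_ne_of_one_lt_card (by rw [Fintype.card_fin]; omega) p.2
    exact hdup p (p.1, j') (fun h => hj' (congrArg Prod.snd h).symm) (show α p.1 * β p.2 = α p.1 * β j' by rw [hβ])
  have hβ : Function.Injective β := by
    intro j j' hjj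
    by_contra hne'
    have h := fun i => hdup (i, j) (i, j') (fun h => hne' (congrArg Prod.snd h))
      (show α i * β j = α i * β j' by rw [hjj])
    have hα' : ∀ i i', α i = α i' := fun i i' => by
      have h' : α i * β j = α i' * β j := (h i).trans (h i').symm
      exact mul_right_cancel₀ (fun h0 => by simpa [hv, h0] using h i) h'
    have := hα (hα' ⟨0, by omega⟩ ⟨1, by omega⟩)
    simp at this
  refine ⟨hα, ?_, ?_⟩
  · have : f ≤ a := by
      rw [← hfix]
      calc (Finset.univ.filter fun p => 1 = v p).card ≤ (Finset.univ : Finset (Fin a)).card :=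
            Finset.card_le_card_of_injOn Prod.fst (fun _ _ => Finset.mem_univ _) (fun p hp p' hp' h => by
              simp only [Finset.coe_filter, Finset.mem_univ, true_and, Set.mem_ofPred_eq] at hp hp'
              refine Prod.ext h (hβ ?_)
              have h0 : α p.1 ≠ 0 := fun h0 => by simp [hv, h0] at hp
              refine mul_left_cancel₀ h0 ?_
              rw [show α p.1 * β p.2 = 1 from hp.symm, show p.1 = p'.1 from h]
              exact hp')
        _ = a := by simp
    omega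
  · have : f ≤ b := by
      rw [← hfix]
      calc (Finset.univ.filter fun p => 1 = v p).card ≤ (Finset.univ : Finset (Fin b)).card :=
            Finset.card_le_card_of_injOn Prod.snd (fun _ _ => Finset.mem_univ _) (fun p hp p' hp' h => by
              simp only [Finset.coe_filter, Finset.mem_univ, true_and, Set.mem_ofPred_eq] at hp hp'
              refine Prod.ext (hα ?_) h
              have h0 : β p.2 ≠ 0 := fun h0 => by simp [hv, h0] at hp
              refine mul_right_cancel₀ h0 ?_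
              rw [show α p.1 * β p.2 = 1 from hp.symm, show p.2 = p'.2 from h]
              exact hp')
        _ = b := by simp
    omega

end Combinatorics

section Rank

variable {F : Type*} [Field F] {α β : Type} [Fintype α] [DecidableEq α] [Fintype β] [DecidableEq β]

/-- A tensor product close to a scalar is that scalar. -/
theorem rank_kron_sub {A : Matrix α α F} {B : Matrix β β F} (c : F) (hA : IsUnit A.det) (hB : IsUnit B.det)
    (h1 : (A ⊗ₖ B - c • 1).rank < Fintype.card α) (h2 : (A ⊗ₖ B - c • 1).rank < Fintype.card β) :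
    A ⊗ₖ B = c • 1 := by
  classical
  have hAd : ∀ i i', i ≠ i' → A i i' = 0 := by
    intro i i' hne
    by_contra h
    have hs : (A ⊗ₖ B - c • 1).submatrix (fun j => (i, j)) (fun j => (i', j)) = A i i' • B := by
      ext j j'
      simp [Matrix.one_apply, hne]
    have h3 := Matrix.rank_submatrix_le (A ⊗ₖ B - c • 1) (fun j : β => (i, j)) (fun j : β => (i', j))
    rw [hs, Matrix.rank_of_isUnit] at h3
    · omega
    · rw [Matrix.isUnit_iff_isUnit_det, Matrix.det_smul]
      exact ((isUnit_iff_ne_zero.2 h).pow _).mul hB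
  have hBd : ∀ j j', j ≠ j' → B j j' = 0 := by
    intro j j' hne
    by_contra h
    have hs : (A ⊗ₖ B - c • 1).submatrix (fun i => (i, j)) (fun i => (i, j')) = B j j' • A := by
      ext i i'
      simp [Matrix.one_apply, hne, mul_comm]
    have h3 := Matrix.rank_submatrix_le (A ⊗ₖ B - c • 1) (fun i : α => (i, j)) (fun i : α => (i, j'))
    rw [hs, Matrix.rank_of_isUnit] at h3
    · omega
    · rw [Matrix.isUnit_iff_isUnit_det, Matrix.det_smul]
      exact ((isUnit_iff_ne_zero.2 h).pow _).mul hA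
  have hA' : A = Matrix.diagonal A.diag := by
    ext i i'
    rcases eq_or_ne i i' with rfl | h
    · simp
    · simp [h, hAd i i' h]
  have hB' : B = Matrix.diagonal B.diag := by
    ext i i'
    rcases eq_or_ne i i' with rfl | h
    · simp
    · simp [h, hBd i i' h]
  have hd : A ⊗ₖ B - c • 1 = Matrix.diagonal fun p : α × β => A p.1 p.1 * B p.2 p.2 - c := by
    conv_lhs => rw [hA', hB', Matrix.diagonal_kronecker_diagonal, Matrix.smul_one_eq_diagonal, Matrix.diagonal_sub]
    simp
  rw [hd, Matrix.rank_diagonal] at h1 h2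
  have hBne : ∀ j, B j j ≠ 0 := fun j hj => hB.ne_zero (by
    rw [hB', Matrix.det_diagonal]; exact Finset.prod_eq_zero (Finset.mem_univ j) hj)
  have hconst : ∀ i i', A i i = A i' i' := by
    intro i i'
    by_contra h
    refine h2.not_ge ?_
    have hc : ∀ j, ∃ p : {p : α × β // A p.1 p.1 * B p.2 p.2 - c ≠ 0}, p.1.2 = j := fun j => by
      by_cases hj : A i i * B j j - c = 0
      · exact ⟨⟨(i', j), fun h' => h (mul_right_cancel₀ (hBne j) (by linear_combination hj - h'))⟩, rfl⟩
      · exact ⟨⟨(i, j), hj⟩, rfl⟩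
    choose p hp using hc
    exact Fintype.card_le_of_injective p fun j j' hjj => by rw [← hp j, ← hp j', hjj]
  rw [← sub_eq_zero, hd, Matrix.diagonal_eq_zero]
  funext p
  by_contra h
  refine h1.not_ge ?_
  exact Fintype.card_le_of_injective
    (fun i => (⟨(i, p.2), by show A i i * B p.2 p.2 - c ≠ 0; rw [hconst i p.1]; exact h⟩ :
      {p : α × β // A p.1 p.1 * B p.2 p.2 - c ≠ 0}))
    fun i i' hii => congrArg (fun z => z.1.1) hii

end Rank

section Finite

variable {F : Type*} [Field F] [Fintype F] {a b : ℕ}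

/-- The characteristic polynomial of a tensor product of diagonalisable matrices. -/
theorem charpoly_kron {A : Matrix (Fin a) (Fin a) F} {B : Matrix (Fin b) (Fin b) F} (hA : A ^ Fintype.card F = A)
    (hB : B ^ Fintype.card F = B) : ∃ (α : Fin a → F) (β : Fin b → F),
      (A ⊗ₖ B).charpoly = ∏ p : Fin a × Fin b, (X - Polynomial.C (α p.1 * β p.2)) ∧
        ∀ c : F, A = c • 1 → ∀ i, α i = c := by
  classical
  have key : ∀ {n : ℕ} (M : Matrix (Fin n) (Fin n) F), M ^ Fintype.card F = M →
      ∃ (lam : Fin n → F) (U : GL (Fin n) F), M * (U : Matrix (Fin n) (Fin n) F) = (U : Matrix (Fin n) (Fin n) F) * Matrix.diagonal lam := by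
    intro n M hM
    obtain ⟨lam, P, hP⟩ := OrthSimilitudeDerange.exists_eigencoords M hM
    have hu : IsUnit (LinearMap.toMatrix' (P : (Fin n → F) →ₗ[F] (Fin n → F))) := by
      rw [Matrix.isUnit_iff_isUnit_det, LinearMap.det_toMatrix']
      exact LinearEquiv.isUnit_det' P
    refine ⟨lam, hu.unit, Matrix.ext_iff_mulVec.2 fun v => ?_⟩
    rw [← Matrix.mulVec_mulVec, ← Matrix.mulVec_mulVec, IsUnit.unit_spec, ← Matrix.toLin'_apply (LinearMap.toMatrix' _),
      ← Matrix.toLin'_apply (LinearMap.toMatrix' _), Matrix.toLin'_toMatrix']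
    exact hP v
  obtain ⟨α, U, hU⟩ := key A hA
  obtain ⟨β, V, hV⟩ := key B hB
  refine ⟨α, β, ?_, fun c hc i => ?_⟩
  · set S : Matrix (Fin a × Fin b) (Fin a × Fin b) F := (U : Matrix (Fin a) (Fin a) F) ⊗ₖ (V : Matrix (Fin b) (Fin b) F)
    have hS : IsUnit S := by
      rw [Matrix.isUnit_iff_isUnit_det, Matrix.det_kronecker]
      exact ((Matrix.isUnit_iff_isUnit_det _).1 U.isUnit).pow _ |>.mul (((Matrix.isUnit_iff_isUnit_det _).1 V.isUnit).pow _)
    obtain ⟨S', hS'⟩ := hS
    have h : (A ⊗ₖ B) * S = S * Matrix.diagonal fun p : Fin a × Fin b => α p.1 * β p.2 := by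
      rw [← Matrix.diagonal_kronecker_diagonal, ← Matrix.mul_kronecker_mul, ← Matrix.mul_kronecker_mul, hU, hV]
    rw [← hS'] at h
    rw [← Matrix.charpoly_units_conj' S' (A ⊗ₖ B), ← Matrix.charpoly_diagonal]
    congr 1
    rw [mul_assoc, h, ← mul_assoc, ← Matrix.coe_units_inv, Units.inv_mul, one_mul]
  · rw [hc, Matrix.smul_mul, Matrix.one_mul] at hU
    have h := congrArg (fun M => ((U⁻¹ : GL (Fin a) F) : Matrix (Fin a) (Fin a) F) * M) hU
    simp only [Matrix.mul_smul, ← mul_assoc, Units.inv_mul, one_mul] at h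
    have h' := congrFun (congrFun h i) i
    simpa using h'.symm

/-- Scalars among tensor products. -/
theorem left_scalar {A : Matrix (Fin a) (Fin a) F} {B : Matrix (Fin b) (Fin b) F} (ha : 0 < a) (hb : 0 < b)
    (h : A ⊗ₖ B = 1) : ∃ μ : F, μ ≠ 0 ∧ A = μ • 1 := by
  have hval : ∀ i i' j j', A i i' * B j j' = if i = i' ∧ j = j' then 1 else 0 := fun i i' j j' => by
    have := congrFun (congrFun h (i, j)) (i', j')
    simpa [Matrix.one_apply] using this
  have h0 := hval ⟨0, ha⟩ ⟨0, ha⟩ ⟨0, hb⟩ ⟨0, hb⟩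
  rw [if_pos ⟨rfl, rfl⟩] at h0
  refine ⟨(B ⟨0, hb⟩ ⟨0, hb⟩)⁻¹, inv_ne_zero (right_ne_zero_of_mul_eq_one h0), ?_⟩
  ext i i'
  have h1 := hval i i' ⟨0, hb⟩ ⟨0, hb⟩
  rw [Matrix.smul_apply, Matrix.one_apply, smul_eq_mul, mul_ite, mul_one, mul_zero]
  simp only [and_true] at h1
  split_ifs with hii
  · rw [if_pos hii] at h1; exact eq_inv_of_mul_eq_one_left h1
  · rw [if_neg hii] at h1; exact (mul_eq_zero.1 h1).resolve_right (right_ne_zero_of_mul_eq_one h0)

theorem right_scalar {A : Matrix (Fin a) (Fin a) F} {B : Matrix (Fin b) (Fin b) F} (ha : 0 < a) (hb : 0 < b)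
    (h : A ⊗ₖ B = 1) : ∃ μ : F, μ ≠ 0 ∧ B = μ • 1 := by
  refine left_scalar hb ha (A := B) (B := A) ?_
  ext ⟨j, i⟩ ⟨j', i'⟩
  have := congrFun (congrFun h (i, j)) (i', j')
  simp only [Matrix.kroneckerMap_apply, Matrix.one_apply, Prod.mk.injEq] at this ⊢
  rw [mul_comm, this]
  exact if_congr and_comm rfl rfl

/-- The eigenvalue bound for a tensor product of order prime to the characteristic. -/
theorem bound {p : ℕ} [Fact p.Prime] [CharP F p] {r : ℕ} (hr : r.Prime) (hrp : r ≠ p)
    {A : Matrix (Fin a) (Fin a) F} {B : Matrix (Fin b) (Fin b) F} (ha : 2 ≤ a) (hb : 2 ≤ b)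
    (hpow : (A ⊗ₖ B) ^ r = 1) {u : F[X]} (hu : u.Monic) (hsep : u.Separable) (h1 : u.eval 1 ≠ 0)
    (hd : 1 ≤ u.natDegree) {f : ℕ} (hch : (A ⊗ₖ B).charpoly = u * (X - Polynomial.C 1) ^ f) :
    (∀ c : F, A ≠ c • 1) ∧ a * b ≤ u.natDegree + a ∧ a * b ≤ u.natDegree + b := by
  classical
  set q := Fintype.card F
  have hq : 2 ≤ q := Fintype.one_lt_card
  have hpow' : (A ^ r) ⊗ₖ (B ^ r) = 1 := by
    rw [← hpow]
    clear hpow hch hrp hr
    induction r with
    | zero => simp
    | succ r ih => rw [pow_succ, pow_succ, pow_succ, Matrix.mul_kronecker_mul, ih]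
  obtain ⟨μ, hμ, hAr⟩ := left_scalar (by omega) (by omega) hpow'
  obtain ⟨ν, hν, hBr⟩ := right_scalar (by omega) (by omega) hpow'
  set M := r * (q - 1)
  have hAM : A ^ M = 1 := by
    rw [pow_mul, hAr, _root_.smul_pow, one_pow, FiniteField.pow_card_sub_one_eq_one μ hμ, one_smul]
  have hBM : B ^ M = 1 := by
    rw [pow_mul, hBr, _root_.smul_pow, one_pow, FiniteField.pow_card_sub_one_eq_one ν hν, one_smul]
  obtain ⟨l, -, hql⟩ := FiniteField.card F p
  have hqp : ∀ {m : ℕ}, ¬ p ∣ m → m.Coprime q := fun {m} hm => by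
    rw [show q = p ^ (l : ℕ) from hql]
    exact ((Nat.Prime.coprime_iff_not_dvd (Fact.out : p.Prime)).2 hm).symm.pow_right _
  have hcop : q.Coprime M := by
    refine Nat.Coprime.mul_right (hqp fun h => hrp ((Nat.prime_dvd_prime_iff_eq (Fact.out : p.Prime) hr).1 h).symm).symm ?_
    exact (Nat.coprime_self_sub_right (by omega : 1 ≤ q)).2 (Nat.coprime_one_right q)
  set N := M.totient with hN
  have hM0 : 0 < M := Nat.mul_pos hr.pos (by omega)
  haveI : NeZero N := ⟨(Nat.totient_pos.2 hM0).ne'⟩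
  let L := FiniteField.Extension F p N
  haveI : Fintype L := Fintype.ofFinite L
  set φ := algebraMap F L
  have hL : ∃ w, Fintype.card L = M * w + 1 := by
    have h1 : q ^ N ≡ 1 [MOD M] := Nat.ModEq.pow_totient hcop
    obtain ⟨w, hw⟩ := (Nat.modEq_iff_dvd' (Nat.one_le_pow _ _ (by omega))).1 h1.symm
    refine ⟨w, ?_⟩
    rw [← Nat.card_eq_fintype_card, FiniteField.natCard_extension, Nat.card_eq_fintype_card]
    show q ^ N = M * w + 1
    have := Nat.one_le_pow N q (by omega)
    omega
  have hfix : ∀ {n : ℕ} (X' : Matrix (Fin n) (Fin n) F), X' ^ M = 1 → (X'.map φ) ^ Fintype.card L = X'.map φ := by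
    intro n X' hX
    obtain ⟨w, hw⟩ := hL
    rw [hw, pow_succ, pow_mul, ← RingHom.mapMatrix_apply, ← map_pow, hX, map_one, one_pow, one_mul]
  obtain ⟨α, β, hab, hscal⟩ := charpoly_kron (hfix A hAM) (hfix B hBM)
  have hmap : (A.map φ) ⊗ₖ (B.map φ) = (A ⊗ₖ B).map φ := by ext; simp
  rw [hmap, Matrix.charpoly_map, hch, Polynomial.map_mul, Polynomial.map_pow, Polynomial.map_sub, map_X,
    Polynomial.map_C, map_one] at hab
  have h1' : (u.map φ).eval 1 ≠ 0 := by
    rw [Polynomial.eval_map, ← map_one φ, Polynomial.eval₂_at_apply]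
    exact (map_ne_zero φ).2 h1
  obtain ⟨hinj, h2, h3⟩ := eig_bound α β ha hb (hu.map φ) (Polynomial.Separable.map hsep) h1'
    (by rw [hu.natDegree_map]; exact hd) hab.symm
  rw [hu.natDegree_map] at h2 h3
  refine ⟨fun c hc => ?_, h2, h3⟩
  have h := hscal (φ c) (by rw [hc]; ext i j; simp [Matrix.one_apply, apply_ite φ])
  have := hinj ((h ⟨0, by omega⟩).trans (h ⟨1, by omega⟩).symm)
  simp at this

/-- A prime order of a tensor product divides the order of one of the factors' general linear groups. -/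
theorem exists_le {q r : ℕ} (hq : Fintype.card F = q) (hr : r.Prime) (hrq : ¬ r ∣ q) (A : GL (Fin a) F) (B : GL (Fin b) F)
    (hpow : ((A : Matrix (Fin a) (Fin a) F) ⊗ₖ (B : Matrix (Fin b) (Fin b) F)) ^ r = 1)
    (hne : (A : Matrix (Fin a) (Fin a) F) ⊗ₖ (B : Matrix (Fin b) (Fin b) F) ≠ 1) :
    orderOf (q : ZMod r) ≤ max a b := by
  set k := Nat.card (GL (Fin a) F) * Nat.card (GL (Fin b) F)
  have hk : ∀ n : ℕ, ((A : Matrix (Fin a) (Fin a) F) ⊗ₖ (B : Matrix (Fin b) (Fin b) F)) ^ n =
      ((A ^ n : GL (Fin a) F) : Matrix (Fin a) (Fin a) F) ⊗ₖ ((B ^ n : GL (Fin b) F) : Matrix (Fin b) (Fin b) F) := by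
    intro n
    induction n with
    | zero => simp
    | succ n ih => rw [pow_succ, ih, ← Matrix.mul_kronecker_mul, ← Units.val_mul, ← Units.val_mul, ← pow_succ, ← pow_succ]
  have h1 : ((A : Matrix (Fin a) (Fin a) F) ⊗ₖ (B : Matrix (Fin b) (Fin b) F)) ^ k = 1 := by
    rw [hk, show A ^ k = 1 by rw [pow_mul, pow_card_eq_one', one_pow],
      show B ^ k = 1 by rw [pow_mul', pow_card_eq_one', one_pow]]
    simp
  have h : r ∣ k := by
    by_contra h
    refine hne ?_
    have := pow_gcd_eq_one.2 ⟨hpow, h1⟩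
    rwa [(hr.coprime_iff_not_dvd.2 h).gcd_eq_one, pow_one] at this
  rcases hr.dvd_mul.1 h with h | h
  · exact (LinearDecompDerange.le_of_dvd hq hr hrq h).trans (le_max_left _ _)
  · exact (LinearDecompDerange.le_of_dvd hq hr hrq h).trans (le_max_right _ _)

end Finite

section Membership

variable {F : Type*} [Field F] {ι : Type} [Fintype ι] [DecidableEq ι] {a b : ℕ}

theorem mem_tensor {e : ι ≃ Fin a × Fin b} {P x g : GL ι F}
    (h : g⁻¹ * x * g ∈ Geo.tensorProductSubgroup a b e P) :
    ∃ (A : GL (Fin a) F) (B : GL (Fin b) F) (k : GL (Fin a × Fin b) F) (w : GL ι F),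
      (k : Matrix _ _ F) = (A : Matrix (Fin a) (Fin a) F) ⊗ₖ (B : Matrix (Fin b) (Fin b) F) ∧
        x = w * Geo.glReindex e.symm k * w⁻¹ := by
  obtain ⟨y, ⟨k, ⟨A, B, hk⟩, rfl⟩, hy⟩ := h
  refine ⟨A, B, k, g * P, hk, ?_⟩
  have : g⁻¹ * x * g = P * Geo.glReindex e.symm k * P⁻¹ := hy.symm
  calc x = g * (g⁻¹ * x * g) * g⁻¹ := by group
    _ = _ := by rw [this]; group

variable {e : ι ≃ Fin a × Fin b} {x : GL ι F} {k : GL (Fin a × Fin b) F} {w : GL ι F}

theorem val_eq (h : x = w * Geo.glReindex e.symm k * w⁻¹) :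
    (x : Matrix ι ι F) = (w : Matrix ι ι F) * Matrix.reindexAlgEquiv F F e.symm (k : Matrix _ _ F) *
      ((w⁻¹ : GL ι F) : Matrix ι ι F) := by
  rw [h]; rfl

theorem charpoly_eq (h : x = w * Geo.glReindex e.symm k * w⁻¹) :
    (x : Matrix ι ι F).charpoly = (k : Matrix (Fin a × Fin b) (Fin a × Fin b) F).charpoly := by
  rw [val_eq h, Matrix.coe_units_inv, Matrix.charpoly_units_conj, Matrix.coe_reindexAlgEquiv, Matrix.charpoly_reindex]

theorem pow_eq_one (h : x = w * Geo.glReindex e.symm k * w⁻¹) {r : ℕ} (hx : x ^ r = 1) :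
    (k : Matrix (Fin a × Fin b) (Fin a × Fin b) F) ^ r = 1 := by
  have h1 : Geo.glReindex e.symm (k ^ r) = 1 := by
    rw [map_pow]
    rw [h, conj_pow, conj_eq_one_iff] at hx
    exact hx
  rw [← Units.val_pow_eq_pow_val, (Geo.glReindex e.symm).injective (h1.trans (map_one _).symm), Units.val_one]

theorem rank_eq (h : x = w * Geo.glReindex e.symm k * w⁻¹) (c : F) :
    ((x : Matrix ι ι F) - c • 1).rank = ((k : Matrix (Fin a × Fin b) (Fin a × Fin b) F) - c • 1).rank := by
  have h1 : (x : Matrix ι ι F) - c • 1 = (w : Matrix ι ι F) *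
      Matrix.reindexAlgEquiv F F e.symm ((k : Matrix (Fin a × Fin b) (Fin a × Fin b) F) - c • 1) *
      ((w⁻¹ : GL ι F) : Matrix ι ι F) := by
    rw [val_eq h, map_sub, map_smul, map_one, Matrix.mul_sub, Matrix.sub_mul, Matrix.mul_smul, Matrix.smul_mul,
      Matrix.mul_one, Units.mul_inv]
  rw [h1, Matrix.rank_mul_eq_left_of_isUnit_det _ _ ((Matrix.isUnit_iff_isUnit_det _).1 (w⁻¹).isUnit),
    Matrix.rank_mul_eq_right_of_isUnit_det _ _ ((Matrix.isUnit_iff_isUnit_det _).1 w.isUnit),
    Matrix.coe_reindexAlgEquiv, Matrix.rank_reindex]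

theorem eq_scalar (h : x = w * Geo.glReindex e.symm k * w⁻¹) {c : F}
    (hk : (k : Matrix (Fin a × Fin b) (Fin a × Fin b) F) = c • 1) : (x : Matrix ι ι F) = c • 1 := by
  rw [val_eq h, hk, map_smul, map_one, Matrix.mul_smul, Matrix.smul_mul, Matrix.mul_one, Units.mul_inv]

/-- Conjugates of elements close to a scalar avoid the stabiliser. -/
theorem not_mem_of_rank {P g : GL ι F} (c : F) (hx : (x : Matrix ι ι F) ≠ c • 1)
    (ha : ((x : Matrix ι ι F) - c • 1).rank < a) (hb : ((x : Matrix ι ι F) - c • 1).rank < b) :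
    g⁻¹ * x * g ∉ Geo.tensorProductSubgroup a b e P := by
  intro h
  obtain ⟨A, B, k, w, hk, hw⟩ := mem_tensor h
  rw [rank_eq hw, hk] at ha hb
  refine hx (eq_scalar hw (hk.trans (rank_kron_sub c ((Matrix.isUnit_iff_isUnit_det _).1 A.isUnit)
    ((Matrix.isUnit_iff_isUnit_det _).1 B.isUnit) (by rwa [Fintype.card_fin]) (by rwa [Fintype.card_fin]))))

/-- The element of the stabiliser attached to a pair of matrices. -/
theorem exists_mem [Fintype F] (e : ι ≃ Fin a × Fin b) (P : GL ι F) (A : GL (Fin a) F) (B : GL (Fin b) F) :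
    ∃ y ∈ Geo.tensorProductSubgroup a b e P, ∀ t : Fin a × Fin b → F,
      (y : Matrix ι ι F) *ᵥ Classical.TensorMax.coordEquiv e P t = Classical.TensorMax.coordEquiv e P
        (((A : Matrix (Fin a) (Fin a) F) ⊗ₖ (B : Matrix (Fin b) (Fin b) F)) *ᵥ t) := by
  classical
  have hu : IsUnit ((A : Matrix (Fin a) (Fin a) F) ⊗ₖ (B : Matrix (Fin b) (Fin b) F)) := by
    rw [Matrix.isUnit_iff_isUnit_det, Matrix.det_kronecker]
    exact (((Matrix.isUnit_iff_isUnit_det _).1 A.isUnit).pow _).mul (((Matrix.isUnit_iff_isUnit_det _).1 B.isUnit).pow _)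
  obtain ⟨k, hk⟩ := hu
  refine ⟨((Geo.glReindex e.symm).trans (MulAut.conj P)) k, ⟨_, ⟨k, ⟨A, B, hk⟩, rfl⟩, rfl⟩, fun t => ?_⟩
  rw [Classical.TensorMax.coord_compat, hk]

theorem charpoly_of_mem [Fintype F] (e : ι ≃ Fin a × Fin b) (P y : GL ι F) (K : Matrix (Fin a × Fin b) (Fin a × Fin b) F)
    (hy : ∀ t, (y : Matrix ι ι F) *ᵥ Classical.TensorMax.coordEquiv e P t =
      Classical.TensorMax.coordEquiv e P (K *ᵥ t)) : (y : Matrix ι ι F).charpoly = K.charpoly := by
  classical
  have h : Matrix.toLin' (y : Matrix ι ι F) = (Classical.TensorMax.coordEquiv e P).conj (Matrix.toLin' K) := by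
    refine LinearMap.ext fun v => ?_
    obtain ⟨t, rfl⟩ := (Classical.TensorMax.coordEquiv e P).surjective v
    simp [hy]
  rw [← Matrix.charpoly_toLin', h, LinearEquiv.charpoly_conj, Matrix.charpoly_toLin']

end Membership

end Cfsg.Agent.Block.TensorDerange
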