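import Cfsg.Agent.S3360
import Cfsg.Agent.Lib.Recog.HuppertSmall
import Cfsg.Agent.Lib.Grp.Solvable

/-!
Solvable linear groups in characteristic `q`, transitive on the non-zero vectors, whose vector
stabilisers are `q`-groups: the derived subgroup has order prime to `q`.
-/

set_option autoImplicit false
set_option linter.unusedSectionVars false

namespace Cfsg.Agent.Block.TransLin

open Cfsg Cfsg.Agent Cfsg.Agent.Recog.HuppertCases
open scoped commutatorElement

universe u v

variable {q : ℕ} [Fact q.Prime] {V : Type v} [AddCommGroup V] [Module (ZMod q) V] [Finite V]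
  {G : Type u} [Group G] [Finite G] {ρ : G →* (V ≃ₗ[ZMod q] V)}

theorem two_unit : ∀ c : ZMod 2, c ^ 2 = 1 → c = 1 := by decide

theorem three_sign : ∀ c : ZMod 3, c ≠ 0 → c = 1 ∨ c = -1 := by decide

/-- A normal `q'`-subgroup with abelian quotient. -/
theorem of_normal (K : Subgroup G) (hK : ¬ q ∣ Nat.card K) (hab : ∀ g h : G, ⁅g, h⁆ ∈ K) :
    ¬ q ∣ Nat.card (commutator G) := fun hd => hK (hd.trans (Subgroup.card_dvd_of_le (by
      rw [commutator_def, Subgroup.commutator_le]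
      exact fun g _ h _ => hab g h)))

theorem semi_case (hρ : Function.Injective ρ) [Nontrivial V] (h : Semi ρ) :
    ¬ q ∣ Nat.card (commutator G) := by
  classical
  obtain ⟨F, _, _, e, he⟩ := h
  choose a σ hg using he
  have hne : ∀ g, a g ≠ 0 := by
    intro g h0
    obtain ⟨v, hv⟩ := exists_ne (0 : V)
    refine hv ((ρ g).injective (e.injective ?_))
    rw [hg, h0, zero_mul, map_zero, map_zero]
  have huniq : ∀ (g : G) (a' : F) (σ' : F ≃+* F), (∀ v, e (ρ g v) = a' * σ' (e v)) →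
      a' = a g ∧ σ' = σ g := by
    intro g a' σ' h'
    have h1 : a' = a g := by
      have := (h' (e.symm 1)).symm.trans (hg g _)
      simpa using this
    refine ⟨h1, RingEquiv.ext fun x => ?_⟩
    have := (h' (e.symm x)).symm.trans (hg g _)
    rw [h1, e.apply_symm_apply] at this
    exact mul_left_cancel₀ (hne g) this
  have hmul : ∀ g h, a (g * h) = a g * σ g (a h) ∧ σ (g * h) = (σ h).trans (σ g) := by
    intro g h
    obtain ⟨h1, h2⟩ := huniq (g * h) (a g * σ g (a h)) ((σ h).trans (σ g)) fun v => by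
      rw [rho_mul, hg, hg, map_mul, mul_assoc]
      rfl
    exact ⟨h1.symm, h2.symm⟩
  let θ : G →* RingAut F := MonoidHom.mk' σ fun g h => (hmul g h).2
  have hcomm : ∀ s t : RingAut F, s * t = t * s := by
    intro s t
    obtain ⟨x, hx⟩ := IsCyclic.exists_generator (α := Fˣ)
    refine RingEquiv.ext fun y => ?_
    show s (t y) = t (s y)
    rcases eq_or_ne y 0 with rfl | hy
    · simp
    obtain ⟨i, hi⟩ := Subgroup.mem_zpowers_iff.1 (hx (Units.map (s : F →+* F).toMonoidHom x))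
    obtain ⟨j, hj⟩ := Subgroup.mem_zpowers_iff.1 (hx (Units.map (t : F →+* F).toMonoidHom x))
    obtain ⟨m, hm⟩ := Subgroup.mem_zpowers_iff.1 (hx (Units.mk0 y hy))
    have hs : s (x : F) = (x : F) ^ i := by
      rw [← Units.val_zpow_eq_zpow_val, hi]; rfl
    have ht : t (x : F) = (x : F) ^ j := by
      rw [← Units.val_zpow_eq_zpow_val, hj]; rfl
    have hy' : y = (x : F) ^ m := by rw [← Units.val_zpow_eq_zpow_val, hm]; rfl
    rw [hy']
    simp only [map_zpow₀, hs, ht, ← zpow_mul]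
    ring_nf
  have hK : ¬ q ∣ Nat.card θ.ker := by
    let f : θ.ker →* Fˣ :=
      MonoidHom.mk' (fun k => Units.mk0 (a k) (hne k)) fun k l => Units.ext (by
        show a (k * l : G) = a k * a l
        rw [(hmul _ _).1, show σ (k : G) = 1 from k.2]
        rfl)
    have hf : Function.Injective f := by
      intro k l hkl
      refine Subtype.ext (hρ (LinearEquiv.ext fun v => e.injective ?_))
      rw [hg, hg, show a (k : G) = a l from congrArg (fun z : Fˣ => (z : F)) hkl,
        show σ (k : G) = 1 from k.2, show σ (l : G) = 1 from l.2]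
    have hdvd := Subgroup.card_dvd_of_injective f hf
    intro hd
    have h1 := hd.trans hdvd
    rw [Nat.card_units] at h1
    have hF : Nat.card F = q ^ Module.finrank (ZMod q) V := by
      rw [← Nat.card_congr e.toEquiv]; exact card_V
    have h2 : q ∣ Nat.card F := hF ▸ dvd_pow_self q Module.finrank_pos.ne'
    have h3 : 1 ≤ Nat.card F := Nat.card_pos
    have := Nat.dvd_sub h2 h1
    rw [show Nat.card F - (Nat.card F - 1) = 1 by omega] at this
    exact (Fact.out : q.Prime).one_lt.ne' (Nat.dvd_one.1 this)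
  refine of_normal θ.ker hK fun g h => ?_
  rw [MonoidHom.mem_ker, map_commutatorElement, commutatorElement_eq_one_iff_mul_comm]
  exact hcomm _ _

/-- Every stabiliser of a non-zero vector is a `q`-group. -/
def StabPGroup (ρ : G →* (V ≃ₗ[ZMod q] V)) : Prop :=
  ∀ g : G, ∀ v : V, v ≠ 0 → ρ g v = v → ∃ k : ℕ, g ^ q ^ k = 1

theorem fixes_of_order (hρ : Function.Injective ρ) [Nontrivial V] {u : G} (hu : orderOf u = q) :
    ∃ v : V, v ≠ 0 ∧ ρ u v = v ∧ ∃ w, ρ u w ≠ w := by
  classical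
  letI : MulAction (Subgroup.zpowers u) V := MulAction.compHom V (ρ.comp (Subgroup.zpowers u).subtype)
  have hp : IsPGroup q (Subgroup.zpowers u) :=
    IsPGroup.of_card (n := 1) (by rw [Nat.card_zpowers, hu, pow_one])
  obtain ⟨v, hv, hv0⟩ := hp.exists_fixed_point_of_prime_dvd_card_of_fixed_point V
    (by rw [card_V (q := q)]; exact dvd_pow_self q Module.finrank_pos.ne')
    (show (0 : V) ∈ MulAction.fixedPoints (Subgroup.zpowers u) V from fun p => map_zero (ρ (p : G)))
  refine ⟨v, Ne.symm hv0, hv ⟨u, Subgroup.mem_zpowers u⟩, ?_⟩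
  by_contra hno
  push Not at hno
  rw [eq_one_of_fix hρ hno, orderOf_one] at hu
  exact (Fact.out : q.Prime).one_lt.ne hu

set_option maxHeartbeats 1000000 in
theorem dim_two [Nontrivial V] [Group.IsSolvable G] (hρ : Function.Injective ρ) (ht : Trans ρ)
    (hst : StabPGroup ρ) (h2 : Module.finrank (ZMod q) V = 2) :
    ¬ q ∣ Nat.card (commutator G) := by
  classical
  have hq := (Fact.out : q.Prime)
  by_cases hir : ∃ A : Subgroup G, A.Normal ∧ (∀ a ∈ A, ∀ b ∈ A, Commute a b) ∧ Irred ρ A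
  · obtain ⟨A, hA, hab, hirr⟩ := hir
    exact semi_case hρ (semilinear hA hab hirr)
  push Not at hir
  have hscal : ∀ A : Subgroup G, A.Normal → (∀ a ∈ A, ∀ b ∈ A, Commute a b) → ∀ a ∈ A, Sc ρ a := by
    intro A hA hab
    obtain ⟨d, hd0, hdn, -, -, hd1⟩ := reducible hρ ht hA hab (hir A hA hab)
    exact hd1 (by omega)
  by_cases hqG : q ∣ Nat.card G
  swap
  · exact fun hd => hqG (hd.trans (Subgroup.card_subgroup_dvd_card _))
  obtain ⟨u, hu⟩ := exists_prime_orderOf_dvd_card' q hqG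
  obtain ⟨v₀, hv₀, huv, w, huw⟩ := fixes_of_order hρ hu
  have hw : w ∉ Submodule.span (ZMod q) {v₀} := fun h => by
    obtain ⟨c, rfl⟩ := Submodule.mem_span_singleton.1 h
    exact huw (by rw [map_smul, huv])
  have hind : ∀ x y : ZMod q, x • v₀ + y • w = 0 → x = 0 ∧ y = 0 := by
    intro x y hxy
    have hy : y = 0 := by
      by_contra hy
      refine hw (Submodule.mem_span_singleton.2 ⟨-(y⁻¹ * x), ?_⟩)
      rw [eq_neg_of_add_eq_zero_left hxy |> fun h => (show -(y⁻¹ * x) • v₀ = y⁻¹ • -(x • v₀) by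
        rw [smul_neg, smul_smul, neg_smul]), ← eq_neg_of_add_eq_zero_right hxy, smul_smul,
        inv_mul_cancel₀ hy, one_smul]
    refine ⟨?_, hy⟩
    rw [hy, zero_smul, add_zero, smul_eq_zero] at hxy
    exact hxy.resolve_right hv₀
  have hspan : ∀ z : V, ∃ x y : ZMod q, z = x • v₀ + y • w := by
    have hl : LinearIndependent (ZMod q) ![v₀, w] :=
      LinearIndependent.pair_iff.2 fun x y h => hind x y h
    intro z
    have htop := hl.span_eq_top_of_card_eq_finrank (by rw [Fintype.card_fin, h2])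
    have hz : z ∈ Submodule.span (ZMod q) (Set.range ![v₀, w]) := htop ▸ Submodule.mem_top
    rw [Matrix.range_cons, Matrix.range_cons, Matrix.range_empty, Set.union_empty,
      Set.singleton_union, Submodule.mem_span_pair] at hz
    obtain ⟨x, y, h⟩ := hz
    exact ⟨x, y, h.symm⟩
  -- elements fixing `v₀` are transvections
  have htv : ∀ g : G, ρ g v₀ = v₀ → ∃ t : ZMod q, ρ g w = t • v₀ + w := by
    intro g hgv
    obtain ⟨x, y, hxy⟩ := hspan (ρ g w)
    have hit : ∀ m : ℕ, ∃ x' : ZMod q, ρ (g ^ m) w = x' • v₀ + y ^ m • w := by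
      intro m
      induction m with
      | zero => exact ⟨0, by simp⟩
      | succ m ih =>
        obtain ⟨x', hx'⟩ := ih
        refine ⟨x' + y ^ m * x, ?_⟩
        rw [pow_succ' g, rho_mul, hx', map_add, map_smul, map_smul, hgv, hxy, smul_add, smul_smul,
          smul_smul, add_smul, pow_succ]
        abel
    obtain ⟨k, hk⟩ := hst g v₀ hv₀ hgv
    obtain ⟨x', hx'⟩ := hit (q ^ k)
    rw [hk, map_one, ZMod.pow_card_pow] at hx'
    have h1 : x' • v₀ + (y - 1) • w = 0 := by
      have hw' : (1 : V ≃ₗ[ZMod q] V) w = w := rfl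
      rw [hw'] at hx'
      rw [sub_smul, one_smul, ← add_sub_assoc, ← hx', sub_self]
    exact ⟨x, by rw [hxy, sub_eq_zero.1 (hind _ _ h1).2, one_smul]⟩
  obtain ⟨t, htu⟩ := htv u huv
  have ht0 : t ≠ 0 := fun h => huw (by rw [htu, h, zero_smul, zero_add])
  -- the scalars
  let Z : Subgroup G :=
    { carrier := {g | Sc ρ g}
      one_mem' := ⟨1, fun v => by simp⟩
      mul_mem' := fun {g h} hg hh => by
        obtain ⟨c, hc⟩ := hg
        obtain ⟨d, hd⟩ := hh
        exact ⟨c * d, fun v => by rw [rho_mul, hd, hc, smul_smul]⟩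
      inv_mem' := fun {g} hg => by
        obtain ⟨c, hc⟩ := hg
        refine ⟨c⁻¹, fun v => (ρ g).injective ?_⟩
        rw [rho_inv, map_smul, hc, smul_smul, inv_mul_cancel₀ ?_, one_smul]
        exact fun h => hv₀ ((ρ g).injective (by rw [hc, h, zero_smul, map_zero])) }
  have hex : ∃ n, derivedSeries G n ≤ Z := by
    obtain ⟨n, hn⟩ := (Group.isSolvable_def G).1 inferInstance
    exact ⟨n, hn ▸ bot_le⟩
  obtain ⟨m, hm⟩ : ∃ m, Nat.find hex = m + 1 := by
    refine Nat.exists_eq_succ_of_ne_zero fun h => huw ?_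
    have h1 := Nat.find_spec hex
    rw [h] at h1
    obtain ⟨c, hc⟩ := h1 (show u ∈ derivedSeries G 0 by simp)
    have h3 := hc v₀
    rw [huv] at h3
    have h4 : (1 - c) • v₀ = 0 := by rw [sub_smul, one_smul, ← h3, sub_self]
    rw [hc, ← sub_eq_zero.1 ((smul_eq_zero.1 h4).resolve_right hv₀), one_smul]
  set A := derivedSeries G m with hAdef
  haveI hAn : A.Normal := derivedSeries_normal G m
  have hAZ : ¬ A ≤ Z := Nat.find_min hex (by omega)
  have hA2 : ⁅A, A⁆ ≤ Z := by
    have := Nat.find_spec hex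
    rwa [hm, derivedSeries_succ] at this
  -- scalar commutators
  have hc : ∀ a ∈ A, ∀ b ∈ A, ∃ c : ZMod q, c ^ 2 = 1 ∧ ∀ v, ρ a (ρ b v) = c • ρ b (ρ a v) := by
    intro a ha b hb
    obtain ⟨c, hc⟩ := hA2 (Subgroup.commutator_mem_commutator ha hb)
    refine ⟨c, ?_, fun v => ?_⟩
    · have h1 : LinearMap.det (toEnd ρ ⁅a, b⁆) = 1 := by
        have key : ∀ g : G, LinearMap.det (toEnd ρ g) * LinearMap.det (toEnd ρ g⁻¹) = 1 := fun g => by
          rw [← map_mul, ← map_mul, mul_inv_cancel, map_one, map_one]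
        simp only [commutatorElement_def, map_mul]
        calc _ = (LinearMap.det (toEnd ρ a) * LinearMap.det (toEnd ρ a⁻¹)) *
              (LinearMap.det (toEnd ρ b) * LinearMap.det (toEnd ρ b⁻¹)) := by ring
          _ = 1 := by rw [key, key, one_mul]
      rw [show toEnd ρ ⁅a, b⁆ = c • (1 : Module.End (ZMod q) V) from LinearMap.ext fun v => by
        show ρ _ v = _
        rw [hc v]; simp, LinearMap.det_smul, map_one, mul_one, h2] at h1
      exact h1
    · rw [← rho_mul, ← rho_mul, show a * b = ⁅a, b⁆ * (b * a) by rw [commutatorElement_def]; group,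
        rho_mul, hc]
  have hq2 : q ≠ 2 := by
    rintro rfl
    refine hAZ fun a ha => hscal A hAn (fun x hx y hy => hρ (LinearEquiv.ext fun v => ?_)) a ha
    obtain ⟨c, hc2, hc'⟩ := hc x hx y hy
    rw [rho_mul, rho_mul, hc', show c = 1 from two_unit c hc2,
      one_smul]
  -- squares are scalar
  have hsq : ∀ a ∈ A, ∃ s : ZMod q, s ≠ 0 ∧ ∀ v, ρ a (ρ a v) = s • v := by
    intro a ha
    have hmem : a * a ∈ A ⊓ Subgroup.centralizer (A : Set G) := by
      refine Subgroup.mem_inf.2 ⟨A.mul_mem ha ha, Subgroup.mem_centralizer_iff.2 fun b hb => ?_⟩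
      obtain ⟨c, hc2, hc'⟩ := hc a ha b hb
      refine hρ (LinearEquiv.ext fun v => ?_)
      simp only [rho_mul]
      rw [hc', map_smul, hc', smul_smul, ← pow_two, hc2, one_smul]
    obtain ⟨s, hs⟩ := hscal (A ⊓ Subgroup.centralizer (A : Set G)) inferInstance
      (fun x hx y hy => (Subgroup.mem_centralizer_iff.1 hy.2 x hx.1)) _ hmem
    refine ⟨s, fun h => hv₀ ((ρ (a * a)).injective ?_), fun v => by rw [← rho_mul, hs]⟩
    rw [hs, h, zero_smul, map_zero]
  -- transitive on lines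
  obtain ⟨b₀, hb₀, x₀, y₀, hy₀, hb₀v⟩ : ∃ b ∈ A, ∃ x y : ZMod q, y ≠ 0 ∧ ρ b v₀ = x • v₀ + y • w := by
    by_contra hno
    push Not at hno
    refine hAZ fun a ha => eigen_scalar (T := toEnd ρ a) fun v => ?_
    rcases eq_or_ne v 0 with rfl | hv
    · exact ⟨0, by simp⟩
    obtain ⟨g, rfl⟩ := ht v₀ v hv₀ hv
    obtain ⟨x, y, hxy⟩ := hspan (ρ (g⁻¹ * a * g) v₀)
    have hy : y = 0 := by_contra fun hy => hno _ (by simpa using hAn.conj_mem a ha g⁻¹) x y hy hxy
    refine ⟨x, ?_⟩
    show ρ a (ρ g v₀) = x • ρ g v₀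
    rw [← rho_mul, show a * g = g * (g⁻¹ * a * g) by group, rho_mul, hxy, hy, zero_smul, add_zero,
      map_smul]
  have hline₀ : ∀ z : V, z ≠ 0 → ∃ b ∈ A, ∃ c : ZMod q, c ≠ 0 ∧ ρ b v₀ = c • z := by
    intro z hz
    obtain ⟨α, β, rfl⟩ := hspan z
    by_cases hβ : β = 0
    · subst hβ
      have hα : α ≠ 0 := fun h => hz (by rw [h]; simp)
      exact ⟨1, A.one_mem, α⁻¹, inv_ne_zero hα, by
        rw [zero_smul, add_zero, smul_smul, inv_mul_cancel₀ hα, one_smul, map_one]; rfl⟩
    set i := ((α * y₀ / β - x₀) / (y₀ * t)).val with hi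
    have hpow : ∀ j : ℕ, ρ (u ^ j) w = ((j : ZMod q) * t) • v₀ + w ∧ ρ (u ^ j) v₀ = v₀ := by
      intro j
      induction j with
      | zero => simp
      | succ j ih =>
        refine ⟨?_, by rw [pow_succ', rho_mul, ih.2, huv]⟩
        rw [pow_succ', rho_mul, ih.1, map_add, map_smul, huv, htu, ← add_assoc, ← add_smul,
          Nat.cast_succ, add_mul, one_mul]
    refine ⟨u ^ i * b₀ * (u ^ i)⁻¹, hAn.conj_mem b₀ hb₀ _, y₀ / β, div_ne_zero hy₀ hβ, ?_⟩
    have hfix : ρ ((u ^ i)⁻¹) v₀ = v₀ := by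
      conv_lhs => rw [← (hpow i).2]
      rw [rho_inv']
    rw [rho_mul, rho_mul, hfix, hb₀v, map_add, map_smul, map_smul, (hpow i).2, (hpow i).1, smul_add,
      smul_add, smul_smul, smul_smul, smul_smul, ← add_assoc, ← add_smul]
    congr 2
    · rw [hi, ZMod.natCast_zmod_val]
      field_simp
      ring
    · field_simp
  have hline : ∀ v z : V, v ≠ 0 → z ≠ 0 → ∃ b ∈ A, ∃ c : ZMod q, c ≠ 0 ∧ ρ b v = c • z := by
    intro v z hv hz
    obtain ⟨b₁, hb₁, c₁, hc₁, h₁⟩ := hline₀ v hv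
    obtain ⟨b₂, hb₂, c₂, hc₂, h₂⟩ := hline₀ z hz
    refine ⟨b₂ * b₁⁻¹, A.mul_mem hb₂ (A.inv_mem hb₁), c₁⁻¹ * c₂, mul_ne_zero (inv_ne_zero hc₁) hc₂, ?_⟩
    have h3 : ρ b₁⁻¹ v = c₁⁻¹ • v₀ := (ρ b₁).injective (by
      rw [rho_inv, map_smul, h₁, smul_smul, inv_mul_cancel₀ hc₁, one_smul])
    rw [rho_mul, h3, map_smul, h₂, smul_smul]
  have noeig : ∀ a ∈ A, a ∉ Z → ∀ v : V, v ≠ 0 → ∀ l : ZMod q, ρ a v ≠ l • v := by
    intro a ha haZ v hv l hl
    refine haZ (eigen_scalar (T := toEnd ρ a) fun z => ?_)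
    rcases eq_or_ne z 0 with rfl | hz
    · exact ⟨0, by simp⟩
    obtain ⟨b, hb, c, hc0, hbv⟩ := hline v z hv hz
    obtain ⟨s, -, hs⟩ := hc a ha b hb
    refine ⟨s * l, ?_⟩
    have := hs v
    rw [hbv, map_smul, hl, map_smul, hbv, smul_smul, smul_smul] at this
    show ρ a z = _
    have h5 := congrArg (fun z => c⁻¹ • z) this
    simp only [smul_smul, inv_mul_cancel₀ hc0, one_smul] at h5
    rw [h5]
    congr 1
    field_simp
  -- commuting elements
  have hcomm2 : ∀ a ∈ A, a ∉ Z → ∀ b ∈ A, (∀ v, ρ a (ρ b v) = ρ b (ρ a v)) →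
      ∃ k : ZMod q, ρ b v₀ = k • v₀ ∨ ρ b v₀ = k • ρ a v₀ := by
    intro a ha haZ b hb hab
    have hav := noeig a ha haZ v₀ hv₀
    obtain ⟨x, y, hxy⟩ := hspan (ρ a v₀)
    have hy : y ≠ 0 := fun h => hav x (by rw [hxy, h, zero_smul, add_zero])
    obtain ⟨p₁, p₂, hp⟩ := hspan (ρ b v₀)
    set k₂ := p₂ / y with hk₂
    set k₁ := p₁ - k₂ * x with hk₁
    have hb1 : ρ b v₀ = k₁ • v₀ + k₂ • ρ a v₀ := by
      rw [hp, hxy, smul_add, smul_smul, smul_smul, ← add_assoc, ← add_smul, hk₁, sub_add_cancel,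
        hk₂, div_mul_cancel₀ _ hy]
    obtain ⟨s, -, hs⟩ := hsq a ha
    obtain ⟨s', -, hs'⟩ := hsq b hb
    have h3 := hs' v₀
    rw [hb1, map_add, map_smul, map_smul, ← hab, hb1, map_add, map_smul, map_smul, hs, smul_add,
      smul_add, smul_smul, smul_smul, smul_smul, smul_smul, smul_smul] at h3
    have h4 : (2 * k₁ * k₂) • ρ a v₀ = (s' - k₁ * k₁ - k₂ * k₂ * s) • v₀ := by
      rw [sub_smul, sub_smul, ← h3, two_mul, add_mul, add_smul, mul_comm k₂ k₁]
      abel
    have h5 : 2 * k₁ * k₂ = 0 := by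
      by_contra h5
      refine hav ((2 * k₁ * k₂)⁻¹ * (s' - k₁ * k₁ - k₂ * k₂ * s)) ?_
      rw [mul_smul, ← h4, smul_smul, inv_mul_cancel₀ h5, one_smul]
    have h20 : (2 : ZMod q) ≠ 0 := by
      intro h
      have : q ∣ 2 := (ZMod.natCast_eq_zero_iff 2 q).1 (by exact_mod_cast h)
      exact hq2 ((Nat.prime_dvd_prime_iff_eq hq Nat.prime_two).1 this)
    rcases mul_eq_zero.1 h5 with h6 | h6
    · exact ⟨k₂, Or.inr (by rw [hb1, (mul_eq_zero.1 h6).resolve_left h20, zero_smul, zero_add])⟩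
    · exact ⟨k₁, Or.inl (by rw [hb1, h6, zero_smul, add_zero])⟩
  obtain ⟨a, ha, haZ⟩ := SetLike.not_le_iff_exists.1 hAZ
  have hav := noeig a ha haZ v₀ hv₀
  have hind2 : ∀ x y : ZMod q, x • v₀ + y • ρ a v₀ = 0 → x = 0 ∧ y = 0 := by
    intro x y hxy
    have hy : y = 0 := by
      by_contra hy
      refine hav (-(y⁻¹ * x)) ?_
      rw [neg_smul, mul_smul, ← smul_neg, ← eq_neg_of_add_eq_zero_right hxy, smul_smul,
        inv_mul_cancel₀ hy, one_smul]
    refine ⟨?_, hy⟩
    rw [hy, zero_smul, add_zero, smul_eq_zero] at hxy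
    exact hxy.resolve_right hv₀
  obtain ⟨b, hb, hab⟩ : ∃ b ∈ A, ∀ v, ρ a (ρ b v) = -ρ b (ρ a v) := by
    by_contra hno
    push Not at hno
    have hall : ∀ b ∈ A, ∀ v, ρ a (ρ b v) = ρ b (ρ a v) := fun b hb v => by
      obtain ⟨c, hc2, hc'⟩ := hc a ha b hb
      rcases sq_eq_one_iff.1 hc2 with rfl | rfl
      · rw [hc', one_smul]
      · obtain ⟨v', hv'⟩ := hno b hb
        exact absurd (by rw [hc', neg_smul, one_smul]) hv'
    have hz : v₀ + ρ a v₀ ≠ 0 := fun h => one_ne_zero (hind2 1 1 (by rw [one_smul, one_smul, h])).1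
    obtain ⟨b, hb, c, hc0, hbz⟩ := hline₀ _ hz
    obtain ⟨k, hk | hk⟩ := hcomm2 a ha haZ b hb (hall b hb)
    · exact hc0 (hind2 (c - k) c (by rw [sub_smul, ← hk, hbz, smul_add]; abel)).2
    · exact hc0 (hind2 c (c - k) (by rw [sub_smul, ← hk, hbz, smul_add]; abel)).1
  have hne2 : ∀ v : V, v ≠ 0 → v ≠ -v := fun v hv h => by
    have h3 : (2 : ZMod q) • v = 0 := by rw [two_smul]; exact eq_neg_iff_add_eq_zero.1 h
    rcases smul_eq_zero.1 h3 with h4 | h4
    · have : q ∣ 2 := (ZMod.natCast_eq_zero_iff 2 q).1 (by exact_mod_cast h4)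
      exact hq2 ((Nat.prime_dvd_prime_iff_eq hq Nat.prime_two).1 this)
    · exact hv h4
  have hbZ : b ∉ Z := fun ⟨k, hk⟩ => by
    have h1 := hab v₀
    rw [hk, hk, map_smul] at h1
    refine hne2 (k • ρ a v₀) (fun h => ?_) h1
    rw [← hk, LinearEquiv.map_eq_zero_iff, LinearEquiv.map_eq_zero_iff] at h
    exact hv₀ h
  have habZ : a * b ∉ Z := fun ⟨k, hk⟩ => by
    have h1 := hk (ρ a v₀)
    rw [rho_mul] at h1
    have h2' := hk v₀
    rw [rho_mul] at h2'
    have h3 := hab (ρ a v₀)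
    have h4 := congrArg (ρ a) h2'
    rw [hab, map_neg, map_smul] at h4
    rw [h1] at h4
    refine hne2 (k • ρ a v₀) (fun h => ?_) h4.symm
    rw [← h1, LinearEquiv.map_eq_zero_iff, LinearEquiv.map_eq_zero_iff,
      LinearEquiv.map_eq_zero_iff] at h
    exact hv₀ h
  -- at most four lines
  have hfour : ∀ x ∈ A, ∃ k : ZMod q, ρ x v₀ = k • v₀ ∨ ρ x v₀ = k • ρ a v₀ ∨
      ρ x v₀ = k • ρ b v₀ ∨ ρ x v₀ = k • ρ (a * b) v₀ := by
    intro x hx
    obtain ⟨c, hc2, hc'⟩ := hc a ha x hx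
    obtain ⟨d, hd2, hd'⟩ := hc b hb x hx
    rcases sq_eq_one_iff.1 hc2 with rfl | rfl
    · obtain ⟨k, hk⟩ := hcomm2 a ha haZ x hx fun v => by rw [hc', one_smul]
      exact ⟨k, hk.imp id Or.inl⟩
    rcases sq_eq_one_iff.1 hd2 with rfl | rfl
    · obtain ⟨k, hk⟩ := hcomm2 b hb hbZ x hx fun v => by rw [hd', one_smul]
      exact ⟨k, hk.imp id (fun h => Or.inr (Or.inl h))⟩
    · obtain ⟨k, hk⟩ := hcomm2 (a * b) (A.mul_mem ha hb) habZ x hx fun v => by
        rw [rho_mul, rho_mul, hd', map_smul, hc', smul_smul, neg_mul_neg, one_mul, one_smul]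
      exact ⟨k, hk.imp id (fun h => Or.inr (Or.inr h))⟩
  have hq3 : q = 3 := by
    let z : ZMod q → V := fun r => v₀ + r • ρ a v₀
    have hz0 : ∀ r, z r ≠ 0 := fun r h => one_ne_zero (hind2 1 r (by rw [one_smul]; exact h)).1
    have hpick : ∀ r : {r : ZMod q // r ≠ 0}, ∃ i : Bool, ∃ k : ZMod q,
        z r.1 = k • (if i then ρ b v₀ else ρ (a * b) v₀) := by
      intro r
      obtain ⟨x, hx, c, hc0, hxz⟩ := hline₀ _ (hz0 r.1)
      have hzx : z r.1 = c⁻¹ • ρ x v₀ := by rw [hxz, smul_smul, inv_mul_cancel₀ hc0, one_smul]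
      obtain ⟨k, hk | hk | hk | hk⟩ := hfour x hx
      · exfalso
        rw [hk, smul_smul] at hzx
        refine r.2 (hind2 (1 - c⁻¹ * k) r.1 ?_).2
        rw [sub_smul, one_smul, ← hzx]; simp [z]
      · exfalso
        rw [hk, smul_smul] at hzx
        refine one_ne_zero (hind2 1 (r.1 - c⁻¹ * k) ?_).1
        rw [sub_smul, one_smul, ← hzx]; simp [z]
      · exact ⟨true, c⁻¹ * k, by rw [hzx, hk, smul_smul]; rfl⟩
      · exact ⟨false, c⁻¹ * k, by rw [hzx, hk, smul_smul]; rfl⟩
    choose f k hfk using hpick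
    have hf : Function.Injective f := by
      intro r r' hrr
      have h1 := hfk r
      have h2' := hfk r'
      rw [← hrr] at h2'
      have h3 : k r' • z r.1 = k r • z r'.1 := by rw [h1, h2', smul_comm]
      obtain ⟨e1, e2⟩ := hind2 (k r' - k r) (k r' * r.1 - k r * r'.1) (by
        simp only [z, smul_add, smul_smul] at h3
        rw [sub_smul, sub_smul, sub_add_sub_comm, h3, sub_self])
      rw [sub_eq_zero] at e1
      rw [e1, ← mul_sub, mul_eq_zero, sub_eq_zero] at e2
      refine Subtype.ext (e2.resolve_left fun h0 => hz0 r.1 ?_)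
      rw [hfk r, h0, zero_smul]
    have := Nat.card_le_card_of_injective f hf
    rw [Nat.card_eq_fintype_card, Nat.card_eq_fintype_card, Fintype.card_bool,
      Fintype.card_subtype_compl, ZMod.card, Fintype.card_subtype_eq] at this
    have := hq.two_le
    omega
  subst hq3
  have hsgn := three_sign
  refine of_normal (q := 3) A ?_ ?_
  · intro hd
    obtain ⟨x, hx⟩ := exists_prime_orderOf_dvd_card' (G := A) 3 hd
    obtain ⟨s, hs0, hs⟩ := hsq x x.2
    have h4 : ((x : G)) ^ 4 = 1 := eq_one_of_fix hρ fun v => by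
      rw [show (x : G) ^ 4 = x * (x * (x * x)) by simp [pow_succ, mul_assoc], rho_mul, rho_mul, rho_mul, hs, hs, smul_smul]
      rcases hsgn s hs0 with rfl | rfl <;> simp
    have h5 := orderOf_dvd_of_pow_eq_one h4
    rw [Subgroup.orderOf_coe, hx] at h5
    omega
  -- `A` is transitive on vectors
  have hneg : ⁅a, b⁆ ∈ A ∧ ∀ v, ρ ⁅a, b⁆ v = -v := by
    refine ⟨?_, fun v => ?_⟩
    · rw [commutatorElement_def]
      exact A.mul_mem (A.mul_mem (A.mul_mem ha hb) (A.inv_mem ha)) (A.inv_mem hb)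
    · have h1 := hab (ρ a⁻¹ (ρ b⁻¹ v))
      rw [rho_inv, rho_inv] at h1
      rw [commutatorElement_def, rho_mul, rho_mul, rho_mul, h1]
  have hdec : ∀ g : G, ∃ x ∈ A, ρ (x⁻¹ * g) v₀ = v₀ := by
    intro g
    obtain ⟨x, hx, c, hc0, hxg⟩ := hline₀ (ρ g v₀)
      (fun h => hv₀ ((LinearEquiv.map_eq_zero_iff (ρ g)).1 h))
    have key : ∀ y : G, ρ y v₀ = ρ g v₀ → ρ (y⁻¹ * g) v₀ = v₀ := fun y hy => by
      rw [rho_mul, ← hy, rho_inv']
    rcases hsgn c hc0 with rfl | rfl
    · exact ⟨x, hx, key x (by rw [hxg, one_smul])⟩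
    · exact ⟨⁅a, b⁆ * x, A.mul_mem hneg.1 hx, key _ (by rw [rho_mul, hxg, hneg.2, neg_smul, one_smul, neg_neg])⟩
  intro g h
  obtain ⟨x, hx, hxg⟩ := hdec g
  obtain ⟨y, hy, hyh⟩ := hdec h
  set g' := x⁻¹ * g
  set h' := y⁻¹ * h
  obtain ⟨t₁, ht₁⟩ := htv g' hxg
  obtain ⟨t₂, ht₂⟩ := htv h' hyh
  have hcm : g' * h' = h' * g' := hρ (LinearEquiv.ext fun z => by
    obtain ⟨α, β, rfl⟩ := hspan z
    simp only [rho_mul, map_add, map_smul, hxg, hyh, ht₁, ht₂]
    module)
  let π := QuotientGroup.mk' A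
  have h1 : π g = π g' := by
    simp only [g', map_mul, map_inv]
    rw [show π x = 1 from (QuotientGroup.eq_one_iff x).2 hx, inv_one, one_mul]
  have h2' : π h = π h' := by
    simp only [h', map_mul, map_inv]
    rw [show π y = 1 from (QuotientGroup.eq_one_iff y).2 hy, inv_one, one_mul]
  rw [← QuotientGroup.eq_one_iff]
  show π ⁅g, h⁆ = 1
  rw [map_commutatorElement, h1, h2', commutatorElement_eq_one_iff_mul_comm, ← map_mul, ← map_mul,
    hcm]

end Cfsg.Agent.Block.TransLin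

namespace Cfsg.Agent.Block.TransLin

open Cfsg Cfsg.Agent Cfsg.Agent.Recog.HuppertCases
open scoped commutatorElement

universe u v

variable {q : ℕ} [Fact q.Prime] {V : Type v} [AddCommGroup V] [Module (ZMod q) V] [Finite V]
  {G : Type u} [Group G] [Finite G] {ρ : G →* (V ≃ₗ[ZMod q] V)}

theorem dim_four [Nontrivial V] [Group.IsSolvable G] (hρ : Function.Injective ρ) (ht : Trans ρ)
    (hst : StabPGroup ρ) (hq : q = 3) (h4 : Module.finrank (ZMod q) V = 4) :
    ¬ q ∣ Nat.card (commutator G) := by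
  classical
  subst hq
  haveI := Fact.mk (by norm_num : Nat.Prime 5)
  obtain ⟨b, hb⟩ : ∃ b, Nat.card G = 80 * 3 ^ b := by
    letI : MulAction G V := MulAction.compHom V ρ
    obtain ⟨v₀, hv₀⟩ := exists_ne (0 : V)
    have horb : MulAction.orbit G v₀ = {w : V | w ≠ 0} := by
      ext w
      refine ⟨fun ⟨g, hg⟩ h0 => hv₀ ((ρ g).injective ?_), fun hw => ht v₀ w hv₀ hw⟩
      rw [map_zero]; exact (show ρ g v₀ = w from hg).trans h0
    have hS : IsPGroup 3 (MulAction.stabilizer G v₀) := by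
      rintro ⟨g, hg⟩
      obtain ⟨k, hk⟩ := hst g v₀ hv₀ hg
      exact ⟨k, Subtype.ext hk⟩
    obtain ⟨b, hb⟩ := hS.exists_card_eq
    refine ⟨b, ?_⟩
    rw [← Subgroup.card_mul_index (MulAction.stabilizer G v₀), hb, MulAction.index_stabilizer, horb,
      show {w : V | w ≠ 0} = {(0 : V)}ᶜ from rfl, Set.ncard_compl, Set.ncard_singleton,
      card_V (q := 3), h4, mul_comm]
    norm_num
  by_cases h5 : pCore 5 G = ⊥
  swap
  · set R := pCore 5 G
    haveI hRn : R.Normal := Grp.pCore_isNormal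
    have hRp : IsPGroup 5 R := Grp.pCore_isPGroup
    haveI : Nontrivial R := (Subgroup.nontrivial_iff_ne_bot _).2 h5
    haveI := hRp.center_nontrivial
    set A := (Subgroup.center R).map R.subtype
    have hab : ∀ x ∈ A, ∀ y ∈ A, Commute x y :=
      Recog.HuppertSmall.comm_map fun x hx y _ => (Subgroup.mem_center_iff.mp hx y).symm
    refine semi_case hρ (semilinear (A := A) inferInstance hab ?_)
    by_contra hred
    obtain ⟨d, hd0, hdn, -, hd, -⟩ := reducible hρ ht (A := A) inferInstance hab hred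
    obtain ⟨k, hk⟩ := (hRp.to_subgroup (Subgroup.center R)).exists_card_eq
    have h1 : 1 < Nat.card (Subgroup.center R) := Finite.one_lt_card
    rw [Subgroup.card_map_of_injective R.subtype_injective] at hd
    have h2 : 5 ∣ 3 ^ d - 1 := dvd_trans (hk ▸ dvd_pow_self 5 (fun h => by
      rw [hk, h, pow_zero] at h1; omega)) hd
    rw [h4] at hdn
    interval_cases d <;> norm_num at h2
  exfalso
  set R := pCore 2 G
  haveI hRn : R.Normal := Grp.pCore_isNormal
  have hR2 : IsPGroup 2 R := Grp.pCore_isPGroup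
  have hcore : ∀ r : ℕ, r.Prime → r ≠ 2 → pCore r G = ⊥ := by
    intro r hr hr2
    haveI := Fact.mk hr
    by_cases h3 : r = 3
    · subst h3; exact pCore_q_eq_bot hρ ht
    by_cases h55 : r = 5
    · subst h55; exact h5
    by_contra hne
    obtain ⟨n, hn⟩ := (Grp.pCore_isPGroup (p := r) (G := G)).exists_card_eq
    have hn0 : n ≠ 0 := by rintro rfl; exact hne (Subgroup.card_eq_one.1 (by simpa using hn))
    have hd : r ∣ 80 * 3 ^ b := hb ▸ (hn ▸ dvd_pow_self r hn0).trans (Subgroup.card_subgroup_dvd_card _)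
    rw [show 80 = 2 ^ 4 * 5 by norm_num] at hd
    rcases hr.dvd_mul.1 hd with h | h
    · rcases hr.dvd_mul.1 h with h' | h'
      · exact hr2 ((Nat.prime_dvd_prime_iff_eq hr Nat.prime_two).1 (hr.dvd_of_dvd_pow h'))
      · exact h55 ((Nat.prime_dvd_prime_iff_eq hr (by norm_num)).1 h')
    · exact h3 ((Nat.prime_dvd_prime_iff_eq hr Nat.prime_three).1 (hr.dvd_of_dvd_pow h))
  have hF : fittingSubgroup G ≤ R := by
    rw [Grp.fittingSubgroup_eq_iSup_pCore]
    refine iSup_le fun r => ?_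
    by_cases hr : (r : ℕ) = 2
    · rw [hr]
    · rw [hcore r r.2 hr]; exact bot_le
  obtain ⟨a, ha⟩ := exists_prime_orderOf_dvd_card' (G := G) 5 (hb ▸ Dvd.dvd.mul_right (by norm_num) _)
  have haR : a ∉ R := fun h => by
    obtain ⟨k, hk⟩ := hR2 ⟨a, h⟩
    have := orderOf_dvd_of_pow_eq_one (congrArg (fun z : R => (z : G)) hk : a ^ 2 ^ k = 1)
    rw [ha] at this
    exact absurd (Nat.Prime.dvd_of_dvd_pow (by norm_num) this) (by norm_num)
  set C := R ⊓ Subgroup.centralizer ({a} : Set G)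
  have hCR : C ≠ R := fun h => by
    refine haR (hF (Grp.centralizer_fittingSubgroup_le (Subgroup.mem_centralizer_iff.2 fun t ht' => ?_)))
    have h1 : t ∈ C := h.symm ▸ hF ht'
    exact Subgroup.mem_centralizer_singleton_iff.1 h1.2
  have hcount : ∀ S : Subgroup G, S.Normal → S ≤ R →
      Nat.card S ≡ Nat.card ↥(S ⊓ Subgroup.centralizer ({a} : Set G)) [MOD 5] := by
    intro S hS hSR
    haveI := hS
    have hp : IsPGroup 5 (Subgroup.zpowers a) :=
      IsPGroup.of_card (n := 1) (by rw [Nat.card_zpowers, ha, pow_one])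
    letI : MulAction (Subgroup.zpowers a) S :=
      MulAction.compHom S ((MulAut.conjNormal (H := S)).comp (Subgroup.zpowers a).subtype)
    have h := hp.card_modEq_card_fixedPoints (α := S)
    refine h.trans (congrArg (· % 5) ?_)
    refine Nat.card_congr
      { toFun := fun x => ⟨(x.1 : G), Subgroup.mem_inf.2 ⟨x.1.2,
          Subgroup.mem_centralizer_singleton_iff.2 ?_⟩⟩
        invFun := fun y => ⟨⟨(y : G), (Subgroup.mem_inf.1 y.2).1⟩, ?_⟩
        left_inv := fun x => rfl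
        right_inv := fun y => rfl }
    · have h1 := congrArg (fun z : S => (z : G)) (x.2 ⟨a, Subgroup.mem_zpowers a⟩)
      simp only [MulAction.compHom_smul_def, MonoidHom.comp_apply, Subgroup.coe_subtype,
        MulAut.smul_def, MulAut.conjNormal_apply] at h1
      exact (mul_inv_eq_iff_eq_mul.1 h1).symm
    · rintro ⟨g, hg⟩
      have hc : Commute (y : G) a := Subgroup.mem_centralizer_singleton_iff.1 (Subgroup.mem_inf.1 y.2).2
      refine Subtype.ext ?_
      show g * (y : G) * g⁻¹ = y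
      obtain ⟨i, rfl⟩ := Subgroup.mem_zpowers_iff.1 hg
      rw [(hc.zpow_right i).symm.eq, mul_inv_cancel_right]
  have hpow : ∀ S : Subgroup G, S ≤ R → ∃ k, k ≤ 4 ∧ Nat.card S = 2 ^ k := by
    intro S hSR
    obtain ⟨k, hk⟩ := (hR2.to_le hSR).exists_card_eq
    refine ⟨k, ?_, hk⟩
    have hd : 2 ^ k ∣ 2 ^ 4 * (5 * 3 ^ b) := by
      rw [← hk, show 2 ^ 4 * (5 * 3 ^ b) = 80 * 3 ^ b by ring, ← hb]
      exact Subgroup.card_subgroup_dvd_card S
    exact Nat.pow_dvd_pow_iff_le_right (by norm_num : 1 < 2) |>.1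
      ((Nat.Coprime.pow_left k (Nat.Coprime.mul_right (by norm_num)
        (Nat.Coprime.pow_right b (by norm_num)))).dvd_of_dvd_mul_right hd)
  obtain ⟨kR, hkR, hcR⟩ := hpow R le_rfl
  obtain ⟨kC, hkC, hcC⟩ := hpow C inf_le_left
  have hlt : 2 ^ kC < 2 ^ kR := by
    rw [← hcC, ← hcR]
    exact lt_of_le_of_ne (Nat.le_of_dvd Nat.card_pos (Subgroup.card_dvd_of_le inf_le_left))
      fun h => hCR (Subgroup.eq_of_le_of_card_ge inf_le_left h.ge)
  have hmod : 2 ^ kR ≡ 2 ^ kC [MOD 5] := hcR ▸ hcC ▸ hcount R hRn le_rfl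
  have hk : kR = 4 ∧ kC = 0 := by
    unfold Nat.ModEq at hmod
    interval_cases kR <;> interval_cases kC <;> omega
  have hC1 : C = ⊥ := Subgroup.card_eq_one.1 (by rw [hcC, hk.2, pow_zero])
  have hall : ∀ S : Subgroup G, S.Normal → S ≤ R → S ≠ ⊥ → S = R := by
    intro S hS hSR hne
    have hSC : S ⊓ Subgroup.centralizer ({a} : Set G) = ⊥ :=
      eq_bot_iff.2 ((inf_le_inf_right _ hSR).trans hC1.le)
    obtain ⟨kS, hkS, hcS⟩ := hpow S hSR
    have h := hcount S hS hSR
    rw [hcS, hSC, Subgroup.card_bot] at h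
    have hk0 : kS ≠ 0 := by rintro rfl; exact hne (Subgroup.card_eq_one.1 (by rw [hcS, pow_zero]))
    refine Subgroup.eq_of_le_of_card_ge hSR ?_
    rw [hcR, hcS, hk.1]
    unfold Nat.ModEq at h
    interval_cases kS <;> omega
  haveI : Nontrivial R := (Subgroup.nontrivial_iff_ne_bot _).2 fun h => by
    rw [h, Subgroup.card_bot, hk.1] at hcR
    norm_num at hcR
  haveI := hR2.center_nontrivial
  have hab : ∀ x ∈ R, ∀ y ∈ R, Commute x y := by
    have h := hall ((Subgroup.center R).map R.subtype) inferInstance (Subgroup.map_subtype_le _)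
      fun h => by
        have h1 := congrArg (fun S : Subgroup G => Nat.card S) h
        simp only [Subgroup.card_map_of_injective R.subtype_injective, Subgroup.card_bot] at h1
        exact (Finite.one_lt_card (α := Subgroup.center R)).ne' h1
    intro x hx y hy
    exact Recog.HuppertSmall.comm_map (H := Subgroup.center R)
      (fun x hx y _ => (Subgroup.mem_center_iff.mp hx y).symm) x (h.symm ▸ hx) y (h.symm ▸ hy)
  let O : Subgroup G :=
    { carrier := {x | x ∈ R ∧ x * x = 1}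
      one_mem' := ⟨R.one_mem, one_mul 1⟩
      mul_mem' := fun {x y} hx hy => ⟨R.mul_mem hx.1 hy.1, by
        rw [(hab y hy.1 x hx.1).mul_mul_mul_comm, hx.2, hy.2, one_mul]⟩
      inv_mem' := fun {x} hx => ⟨R.inv_mem hx.1, by rw [← mul_inv_rev, hx.2, inv_one]⟩ }
  have hO : ∀ x ∈ R, x * x = 1 := by
    have hOn : O.Normal := ⟨fun x hx g => ⟨hRn.conj_mem x hx.1 g, by
      rw [conj_mul, hx.2, mul_one, mul_inv_cancel]⟩⟩
    have h := hall O hOn (fun x hx => hx.1) fun h => by
      obtain ⟨x, hx⟩ := exists_prime_orderOf_dvd_card' (G := R) 2 (hcR ▸ hk.1 ▸ by norm_num)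
      have hm : (x : G) ∈ O := ⟨x.2, by
        rw [← Subgroup.coe_mul, ← pow_two, ← hx, pow_orderOf_eq_one, Subgroup.coe_one]⟩
      rw [h, Subgroup.mem_bot] at hm
      have hx1 : x = 1 := Subtype.ext hm
      rw [hx1, orderOf_one] at hx
      omega
    exact fun x hx => (h.symm ▸ hx : x ∈ O).2
  -- a common eigenvector
  haveI := Fintype.ofFinite G
  have hcommon : ∀ l : Finset G, (∀ x ∈ l, x ∈ R) → ∃ v : V, v ≠ 0 ∧ ∀ x ∈ l, ρ x v = v ∨ ρ x v = -v := by
    intro l
    induction l using Finset.induction_on with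
    | empty => exact fun _ => (exists_ne (0 : V)).imp fun v hv => ⟨hv, by simp⟩
    | @insert r l hr ih =>
      intro hl
      obtain ⟨v, hv, hvl⟩ := ih fun x hx => hl x (Finset.mem_insert_of_mem hx)
      have hrR := hl r (Finset.mem_insert_self r l)
      by_cases hz : v + ρ r v = 0
      · refine ⟨v, hv, fun x hx => ?_⟩
        rcases Finset.mem_insert.1 hx with rfl | hx
        · exact Or.inr (eq_neg_of_add_eq_zero_right hz)
        · exact hvl x hx
      · refine ⟨v + ρ r v, hz, fun x hx => ?_⟩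
        rcases Finset.mem_insert.1 hx with rfl | hx
        · left
          rw [map_add, ← rho_mul, hO x hrR, map_one]
          exact add_comm _ _
        · have hxr : ρ x (ρ r v) = ρ r (ρ x v) := by
            rw [← rho_mul, ← rho_mul, (hab x (hl x (Finset.mem_insert_of_mem hx)) r hrR).eq]
          rcases hvl x hx with e | e
          · left; rw [map_add, hxr, e]
          · right; rw [map_add, hxr, e, map_neg, neg_add]
  obtain ⟨v, hv, hvR⟩ := hcommon (Finset.univ.filter (· ∈ R)) fun x hx => (Finset.mem_filter.1 hx).2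
  have hscalar : ∀ x ∈ R, ∀ z : V, z ≠ 0 → ρ x z = z ∨ ρ x z = -z := by
    intro x hx z hz
    obtain ⟨g, rfl⟩ := ht v z hv hz
    have hm : g⁻¹ * x * g ∈ R := by simpa using hRn.conj_mem x hx g⁻¹
    rw [← rho_mul, show x * g = g * (g⁻¹ * x * g) by group, rho_mul]
    rcases hvR _ (Finset.mem_filter.2 ⟨Finset.mem_univ _, hm⟩) with e | e
    · left; rw [e]
    · right; rw [e, map_neg]
  have hinj : Function.Injective fun x : R => decide (ρ (x : G) v = v) := by
    intro x y hxy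
    have hsc : ∀ z : R, ∃ c : ZMod 3, ∀ w : V, ρ (z : G) w = c • w := fun z =>
      eigen_scalar (T := toEnd ρ (z : G)) fun w => by
        rcases eq_or_ne w 0 with rfl | hw
        · exact ⟨0, by simp⟩
        · rcases hscalar z z.2 w hw with e | e
          · exact ⟨1, by rw [one_smul]; exact e⟩
          · exact ⟨-1, by rw [neg_one_smul]; exact e⟩
    obtain ⟨c, hc⟩ := hsc x
    obtain ⟨d, hd⟩ := hsc y
    have hcd : ρ (x : G) v = ρ (y : G) v := by
      simp only [decide_eq_decide] at hxy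
      rcases hscalar x x.2 v hv with e | e <;> rcases hscalar y y.2 v hv with e' | e'
      · rw [e, e']
      · rw [e, hxy.1 e]
      · rw [hxy.2 e', e']
      · rw [e, e']
    rw [hc, hd] at hcd
    refine Subtype.ext (hρ (LinearEquiv.ext fun w => ?_))
    have h0 : (c - d) • v = 0 := by rw [sub_smul, hcd, sub_self]
    rw [hc, hd, sub_eq_zero.1 ((smul_eq_zero.1 h0).resolve_right hv)]
  have := Nat.card_le_card_of_injective _ hinj
  rw [hcR, hk.1] at this
  simp at this

/-- The derived subgroup of a solvable transitive linear group with `q`-groups as point stabilisers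
has order prime to `q`. -/
theorem main [Nontrivial V] [Group.IsSolvable G] (hρ : Function.Injective ρ) (ht : Trans ρ)
    (hst : StabPGroup ρ) : ¬ q ∣ Nat.card (commutator G) := by
  have hq := (Fact.out : q.Prime)
  rcases Cfsg.Agent.S3360.result q inferInstance ρ hρ ht with h | h
  · exact semi_case hρ h
  have hn : 0 < Module.finrank (ZMod q) V := Module.finrank_pos
  rw [card_V (q := q)] at h
  by_cases h2 : Module.finrank (ZMod q) V = 2
  · exact dim_two hρ ht hst h2
  simp only [Set.mem_insert_iff, Set.mem_singleton_iff] at h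
  have key : ∀ r : ℕ, r.Prime → ∀ m : ℕ, q ^ Module.finrank (ZMod q) V = r ^ m →
      q = r ∧ Module.finrank (ZMod q) V = m := by
    intro r hr m hm
    have hqr : q = r := (Nat.prime_dvd_prime_iff_eq hq hr).1
      (hq.dvd_of_dvd_pow (hm ▸ dvd_pow_self q hn.ne'))
    exact ⟨hqr, Nat.pow_right_injective hr.two_le (hqr ▸ hm)⟩
  rcases h with h | h | h | h | h | h
  · exact absurd (key 3 Nat.prime_three 2 h).2 h2
  · exact absurd (key 5 (by norm_num) 2 h).2 h2
  · exact absurd (key 7 (by norm_num) 2 h).2 h2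
  · exact absurd (key 11 (by norm_num) 2 h).2 h2
  · exact absurd (key 23 (by norm_num) 2 h).2 h2
  · exact dim_four hρ ht hst (key 3 Nat.prime_three 4 h).1 (key 3 Nat.prime_three 4 h).2

end Cfsg.Agent.Block.TransLin
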