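import Cfsg.Prelude.Def_Transfer
import Cfsg.Agent.Lib.Block.TransLinear
import Cfsg.Agent.Lib.Block.TwoClass
import Cfsg.Agent.Lib.Block.TwoClassLocal
import Cfsg.Agent.Lib.Grp.Cores

/-!
Solvable groups with a character that is nonzero on exactly two classes: modulo the `p`-core there is
a normal `p`-complement and the Sylow `p`-subgroups are abelian.
-/

set_option autoImplicit false
set_option linter.unusedSectionVars false
set_option linter.style.haveILetI false

namespace Cfsg.Agent.Block.TwoClassSolv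

open Cfsg Cfsg.Agent
open scoped commutatorElement

universe u

theorem complement_of_commutator {p : ℕ} [hp : Fact p.Prime] {H : Type u} [Group H] [Finite H]
    (h : ¬ p ∣ Nat.card (commutator H)) :
    HasNormalPComplement p H ∧ ∀ Q : Sylow p H, IsMulCommutative (Q : Subgroup H) := by
  classical
  refine ⟨?_, fun Q => ⟨⟨fun a b => ?_⟩⟩⟩
  · set m := ordCompl[p] (Nat.card (Abelianization H)) with hm
    let f : H →* Abelianization H := (powMonoidHom m).comp Abelianization.of
    have hK : ¬ p ∣ Nat.card f.ker := by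
      intro hd
      obtain ⟨x, hx⟩ := exists_prime_orderOf_dvd_card' (G := f.ker) p hd
      have h1 : Abelianization.of (x : H) ^ m = 1 := x.2
      have h2 : Abelianization.of (x : H) ^ p = 1 := by
        rw [← map_pow, ← Subgroup.coe_pow, ← hx, pow_orderOf_eq_one, Subgroup.coe_one, map_one]
      have hcop : Nat.Coprime m p :=
        ((hp.out.coprime_iff_not_dvd).2 (Nat.not_dvd_ordCompl hp.out Nat.card_pos.ne')).symm
      have h3 : (x : H) ∈ commutator H := (QuotientGroup.eq_one_iff (N := commutator H) (x : H)).1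
        (orderOf_eq_one_iff.1 (Nat.eq_one_of_dvd_coprimes hcop (orderOf_dvd_of_pow_eq_one h1)
          (orderOf_dvd_of_pow_eq_one h2)))
      have h4 := Subgroup.orderOf_dvd_natCard _ h3
      rw [Subgroup.orderOf_coe, hx] at h4
      exact h h4
    have hr : IsPGroup p f.range := by
      rintro ⟨_, y, rfl⟩
      refine ⟨(Nat.card (Abelianization H)).factorization p, Subtype.ext ?_⟩
      show (Abelianization.of y ^ m) ^ _ = 1
      rw [← pow_mul, hm, mul_comm, Nat.ordProj_mul_ordCompl_eq_self, pow_card_eq_one']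
    obtain ⟨j, hj⟩ := hr.exists_card_eq
    obtain ⟨P⟩ := (inferInstance : Nonempty (Sylow p H))
    have hmul : Nat.card f.ker * p ^ j = Nat.card H := by
      rw [← hj, ← Subgroup.index_ker, Subgroup.card_mul_index]
    have hP : Nat.card P = p ^ j := by
      rw [P.card_eq_multiplicity, ← hmul, Nat.factorization_mul Nat.card_pos.ne'
        (pow_ne_zero _ hp.out.ne_zero), Finsupp.add_apply, Nat.factorization_eq_zero_of_not_dvd hK,
        Nat.factorization_pow_self hp.out, zero_add]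
    refine ⟨P, f.ker, inferInstance, Subgroup.isComplement'_of_coprime ?_ ?_⟩
    · rw [show Nat.card (P : Subgroup H) = p ^ j from hP, hmul]
    · rw [show Nat.card (P : Subgroup H) = p ^ j from hP]
      exact Nat.Coprime.pow_right j ((hp.out.coprime_iff_not_dvd).2 hK).symm
  · refine commutatorElement_eq_one_iff_mul_comm.1 (Subtype.ext ?_)
    obtain ⟨k, hk⟩ := Q.isPGroup' ⁅a, b⁆
    have h1 : orderOf ((⁅a, b⁆ : (Q : Subgroup H)) : H) ∣ p ^ k := by
      rw [Subgroup.orderOf_coe]; exact orderOf_dvd_of_pow_eq_one hk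
    have h2 : orderOf ((⁅a, b⁆ : (Q : Subgroup H)) : H) ∣ Nat.card (commutator H) :=
      Subgroup.orderOf_dvd_natCard _ (Subgroup.commutator_mem_commutator (Subgroup.mem_top (a : H))
        (Subgroup.mem_top (b : H)))
    exact orderOf_eq_one_iff.1 (Nat.eq_one_of_dvd_coprimes
      (Nat.Coprime.pow_left k ((hp.out.coprime_iff_not_dvd).2 h)) h1 h2)

/-- The linear group lemma for an action given by additive automorphisms. -/
theorem abstract_add {p : ℕ} [Fact p.Prime] {G : Type u} [Group G] [Finite G] [Group.IsSolvable G]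
    {A : Type u} [AddCommGroup A] [Module (ZMod p) A] [Finite A] [Nontrivial A]
    (ψ : G → (A ≃+ A)) (hψ : ∀ g h x, ψ (g * h) x = ψ g (ψ h x))
    (K : Subgroup G) [K.Normal] (hK : ∀ g, g ∈ K ↔ ∀ x, ψ g x = x)
    (htr : ∀ x y : A, x ≠ 0 → y ≠ 0 → ∃ g : G, ψ g x = y)
    (hst : ∀ (g : G) (x : A), x ≠ 0 → ψ g x = x → ∃ k : ℕ, g ^ p ^ k = 1) :
    ¬ p ∣ Nat.card (commutator (G ⧸ K)) := by
  let ρ₀ : G →* (A ≃ₗ[ZMod p] A) :=
    MonoidHom.mk' (fun g => (ψ g).toLinearEquiv fun c x => ZMod.map_smul (ψ g) c x)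
      fun g h => LinearEquiv.ext fun x => hψ g h x
  have hρ₀ : ∀ g x, ρ₀ g x = ψ g x := fun _ _ => rfl
  have hle : K ≤ ρ₀.ker := fun g hg => MonoidHom.mem_ker.2 (LinearEquiv.ext fun x =>
    (hρ₀ g x).trans ((hK g).1 hg x))
  let ρ := QuotientGroup.lift K ρ₀ hle
  have hρ : ∀ (g : G) (x : A), ρ (g : G ⧸ K) x = ψ g x := hρ₀
  have hinj : Function.Injective ρ := by
    refine (injective_iff_map_eq_one ρ).2 fun gq hgq => ?_
    obtain ⟨g, rfl⟩ := QuotientGroup.mk_surjective gq
    exact (QuotientGroup.eq_one_iff g).2 ((hK g).2 fun x =>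
      (hρ g x).symm.trans (LinearEquiv.congr_fun hgq x))
  refine Block.TransLin.main (ρ := ρ) hinj ?_ ?_
  · intro v w hv hw
    obtain ⟨g, hg⟩ := htr v w hv hw
    exact ⟨(g : G ⧸ K), (hρ g v).trans hg⟩
  · intro gq v hv hfix
    obtain ⟨g, rfl⟩ := QuotientGroup.mk_surjective gq
    obtain ⟨k, hk⟩ := hst g v hv ((hρ g v).symm.trans hfix)
    exact ⟨k, by rw [← QuotientGroup.mk_pow, hk, QuotientGroup.mk_one]⟩

/-- Transport of the linear group lemma to an elementary abelian group written multiplicatively. -/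
theorem abstract {p : ℕ} [hp : Fact p.Prime] {G : Type u} [Group G] [Finite G] [Group.IsSolvable G]
    {M : Type u} [Group M] [Finite M] [Nontrivial M] (hab : IsMulCommutative M) (φ : G →* MulAut M)
    (hexp : ∀ x : M, x ^ p = 1) (htr : ∀ x y : M, x ≠ 1 → y ≠ 1 → ∃ g : G, φ g x = y)
    (hst : ∀ (g : G) (x : M), x ≠ 1 → φ g x = x → ∃ k : ℕ, g ^ p ^ k = 1) :
    ¬ p ∣ Nat.card (commutator (G ⧸ φ.ker)) := by
  letI : CommGroup M := { (inferInstance : Group M) with mul_comm := hab.1.comm }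
  haveI : Finite (Additive M) := Finite.of_equiv M Additive.ofMul
  haveI : Nontrivial (Additive M) := Additive.ofMul.injective.nontrivial
  refine @abstract_add p _ G _ _ _ (Additive M) _
    (AddCommGroup.zmodModule fun x => Additive.toMul.injective (hexp x.toMul)) _ _
    (fun g => MulEquiv.toAdditive (φ g)) (fun g h x => ?_) φ.ker inferInstance (fun g => ?_)
    (fun x y hx hy => ?_) (fun g x hx he => ?_)
  · exact congrArg Additive.ofMul ((DFunLike.congr_fun (map_mul φ g h) x.toMul).trans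
      (MulAut.mul_apply M (φ g) (φ h) x.toMul))
  · refine ⟨fun h x => Additive.toMul.injective (DFunLike.congr_fun h x.toMul), fun h => ?_⟩
    exact MonoidHom.mem_ker.2 (MulEquiv.ext fun x => congrArg Additive.toMul (h (Additive.ofMul x)))
  · obtain ⟨g, hg⟩ := htr x.toMul y.toMul (fun e => hx (Additive.toMul.injective e))
      (fun e => hy (Additive.toMul.injective e))
    exact ⟨g, Additive.toMul.injective hg⟩
  · exact hst g x.toMul (fun e => hx (Additive.toMul.injective e)) (congrArg Additive.toMul he)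

theorem main {G : Type u} [Group G] [Finite G] [Group.IsSolvable G] (hG : 2 < Nat.card G)
    (χ : IrrCharacter G)
    (hχ : Nat.card {C : ConjClasses G // ∃ g ∈ C.carrier, (χ : G → ℂ) g ≠ 0} = 2) :
    ∃ p : ℕ, p.Prime ∧ (∀ q : ℕ, q.Prime → (pCore q G ≠ ⊥ ↔ q = p)) ∧
      HasNormalPComplement p (G ⧸ pCore p G) ∧
      ∀ Q : Sylow p (G ⧸ pCore p G), IsMulCommutative (Q : Subgroup (G ⧸ pCore p G)) := by
  classical
  obtain ⟨N, hNn, hN1, hmin, ⟨p, hp, hab, hexp⟩, hsupp, hconj⟩ :=
    Block.TwoClass.minimal_normal hG χ hχ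
  haveI := hNn
  haveI := Fact.mk hp
  have hNp : IsPGroup p N := fun x => ⟨1, Subtype.ext (by simpa using hexp x x.2)⟩
  have huniq : ∀ q : ℕ, q.Prime → (pCore q G ≠ ⊥ ↔ q = p) := by
    intro q hq
    haveI := Fact.mk hq
    refine ⟨fun hne => ?_, ?_⟩
    · by_contra hqp
      have hle : N ≤ pCore q G := hmin _ Grp.pCore_isNormal hne
      obtain ⟨x, hx, hx1⟩ := (Subgroup.bot_or_exists_ne_one N).resolve_left hN1
      obtain ⟨i, hi⟩ := hNp ⟨x, hx⟩
      obtain ⟨k, hk⟩ := Grp.pCore_isPGroup (p := q) (G := G) ⟨x, hle hx⟩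
      refine hx1 (orderOf_eq_one_iff.1 (Nat.eq_one_of_dvd_coprimes
        (Nat.Coprime.pow i k ((Nat.coprime_primes hp hq).2 (Ne.symm hqp)))
        (orderOf_dvd_of_pow_eq_one (congrArg (fun z : N => (z : G)) hi))
        (orderOf_dvd_of_pow_eq_one (congrArg (fun z : pCore q G => (z : G)) hk))))
    · rintro rfl h
      exact hN1 (eq_bot_iff.2 (h ▸ Grp.le_pCore hNn hNp))
  refine ⟨p, hp, huniq, complement_of_commutator ?_⟩
  -- the linear group
  obtain ⟨x₀, hx₀, hx₀1⟩ := (Subgroup.bot_or_exists_ne_one N).resolve_left hN1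
  haveI : Nontrivial N := (Subgroup.nontrivial_iff_ne_bot N).2 hN1
  let φ₀ : G →* MulAut N := MulAut.conjNormal
  have hφ₀ : ∀ (g : G) (x : N), ((φ₀ g x : N) : G) = g * (x : G) * g⁻¹ := MulAut.conjNormal_apply
  have hstab : ∀ (g : G) (x : N), x ≠ 1 → φ₀ g x = x → ∃ k, g ^ p ^ k = 1 := by
    intro g x hx1 he
    obtain ⟨P, hP⟩ := Block.TwoClassLocal.exists_sylow_centralizer hG χ hχ N
      (fun g => (hsupp g).symm) hNp x.2 (fun e => hx1 (Subtype.ext e))
    have he' : g * (x : G) * g⁻¹ = x := (hφ₀ g x).symm.trans (congrArg (fun z : N => (z : G)) he)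
    have hg : g ∈ (P : Subgroup G) :=
      hP ▸ Subgroup.mem_centralizer_singleton_iff.2 (mul_inv_eq_iff_eq_mul.1 he')
    obtain ⟨k, hk⟩ := P.isPGroup' ⟨g, hg⟩
    exact ⟨k, congrArg (fun z : (P : Subgroup G) => (z : G)) hk⟩
  have hker : φ₀.ker ≤ pCore p G := by
    refine Grp.le_pCore inferInstance fun g => ?_
    obtain ⟨k, hk⟩ := hstab g ⟨x₀, hx₀⟩ (fun e => hx₀1 (congrArg (fun z : N => (z : G)) e))
      (DFunLike.congr_fun g.2 _)
    exact ⟨k, Subtype.ext hk⟩
  have hmain : ¬ p ∣ Nat.card (commutator (G ⧸ φ₀.ker)) := by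
    refine abstract hab φ₀ (fun x => Subtype.ext (hexp x x.2)) (fun x y hx hy => ?_) hstab
    obtain ⟨g, hg⟩ := hconj _ x.2 _ y.2 (fun e => hx (Subtype.ext e)) (fun e => hy (Subtype.ext e))
    exact ⟨g, Subtype.ext ((hφ₀ g x).trans hg)⟩
  let π := QuotientGroup.mk' (pCore p G)
  have hπker : φ₀.ker ≤ π.ker := by rw [QuotientGroup.ker_mk']; exact hker
  let ξ : G ⧸ φ₀.ker →* G ⧸ pCore p G := QuotientGroup.lift φ₀.ker π hπker
  have hξ : Function.Surjective ξ :=
    QuotientGroup.lift_surjective_of_surjective _ _ (QuotientGroup.mk'_surjective _) hπker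
  have hdvd : Nat.card ↥(commutator (G ⧸ pCore p G)) ∣ Nat.card ↥(commutator (G ⧸ φ₀.ker)) := by
    have hmap : (commutator (G ⧸ φ₀.ker)).map ξ = commutator (G ⧸ pCore p G) := by
      rw [commutator_def, Subgroup.map_commutator, Subgroup.map_top_of_surjective ξ hξ,
        ← commutator_def]
    rw [← hmap]
    exact Subgroup.card_map_dvd _ _
  intro hd
  exact hmain (Nat.dvd_trans hd hdvd)

end Cfsg.Agent.Block.TwoClassSolv
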